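import Groth.Agent.AlgSpEN.AmitsurQC
import Groth.Agent.AlgSpQC.Push
import Groth.Agent.AlgSpQC.StalkNbhd

/-!
# Vanishing of higher cohomology of quasi-coherent modules on affine objects and along affine morphisms
-/

set_option autoImplicit false
universe u

open CategoryTheory CategoryTheory.Limits AlgebraicGeometry Opposite

set_option backward.isDefEq.respectTransparency false
set_option backward.isDefEq.respectTransparency.types false

noncomputable section

namespace Groth.Agent.AlgSpEN.Amitsur

open _root_.AlgSp

variable {S : Scheme.{u}}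

/-- A map surjective on affine sections has epimorphic direct image along affine morphisms. -/
theorem epi_push_of_affine {X Y : AlgSp.Space S} {f : X.obj ⟶ Y.obj} (hf : Representable f) (haff : IsAffineMor f)
    {G H : AbEt X.obj} (g : G ⟶ H)
    (hg : ∀ E : EtOver X.obj, IsAffine E.obj.left.left → Function.Surjective (g.hom.app (op E)).hom) :
    Epi ((pushEt hf AddCommGrpCat.{u + 1}).map g) := by
  suffices Sheaf.IsLocallySurjective ((pushEt hf AddCommGrpCat.{u + 1}).map g) from inferInstance
  constructor
  intro V t
  refine (AlgSpD.mem_etTop_iff _).2 fun v => ?_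
  obtain ⟨E, e, hE, -, hv⟩ := AlgSpQC.exists_affine_subObj (X := Y) (E := V) isOpen_univ (Set.mem_univ v)
  obtain ⟨r, hr⟩ := hg _ (AlgSpQC.isAffine_bcO_and_map (hf := hf) haff E) ((H.obj.map ((EtOver.bc hf).map e).op).hom t)
  exact ⟨E, e, ⟨r, hr⟩, hv⟩

end Groth.Agent.AlgSpEN.Amitsur
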