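import Groth.Agent.EtaleSite.PushIntegral
import Groth.Agent.EtaleSite.Flasque
import Groth.Agent.AlgSpD.EtSite
import Groth.Agent.AlgSpD.StalkExact
import Groth.Agent.AlgSpCov.AffineFamily
import Groth.Prelude.Def_AlgSpOX2

/-!
# Direct image along an integral morphism of algebraic spaces is exact
-/

set_option autoImplicit false
universe u

open CategoryTheory CategoryTheory.Limits AlgebraicGeometry Opposite

set_option backward.isDefEq.respectTransparency false
set_option backward.isDefEq.respectTransparency.types false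

namespace Groth.Agent.AlgSpEN.PushIntegral

open _root_.AlgSp

variable {S : Scheme.{u}} {X Y : Sp S}

/-- The open piece of an object of the small étale site. -/
noncomputable def piece (E : EtOver X) (W : E.obj.left.left.Opens) : EtOver X :=
  EtOver.mk (U := Over.mk (W.ι ≫ E.obj.left.hom))
    ((yon S).map (Over.homMk W.ι rfl) ≫ E.obj.hom)
    ((RepWith _).comp_mem _ _ ((repWith_yon_map_iff _ _).2 (inferInstanceAs (Etale W.ι))) E.property)

/-- The inclusion of an open piece. -/
noncomputable def pieceHom (E : EtOver X) (W : E.obj.left.left.Opens) : piece E W ⟶ E :=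
  EtOver.homMk (Over.homMk W.ι rfl) rfl

theorem isSheaf_forget (F : AbEt X) :
    Presieve.IsSheaf (etTop X) (F.obj ⋙ forget AddCommGrpCat.{u + 1}) :=
  (isSheaf_iff_isSheaf_of_type _ _).1 (Presheaf.isSheaf_comp_of_isSheaf _ _ _ F.property)

theorem sect_subsingleton_of_isEmpty (F : AbEt X) (E : EtOver X) [IsEmpty E.obj.left.left] :
    Subsingleton (F.obj.obj (op E)) := by
  refine ⟨fun s t => F.property.isSeparated _ (⊥ : Sieve E) ?_ s t fun V g hg => hg.elim⟩
  exact (AlgSpD.mem_etTop_iff _).2 fun x => isEmptyElim x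

theorem exists_glue_disjoint (F : AbEt X) {E : EtOver X} {μ : Type*} (W : μ → E.obj.left.left.Opens)
    (hd : ∀ a b, a ≠ b → Disjoint (W a) (W b)) (hc : ∀ x : E.obj.left.left, ∃ a, x ∈ W a)
    (s : ∀ a, F.obj.obj (op (piece E (W a)))) :
    ∃ t : F.obj.obj (op E), ∀ a, F.obj.map (pieceHom E (W a)).op t = s a := by
  let P := F.obj ⋙ forget AddCommGrpCat.{u + 1}
  have hP : (Presieve.ofArrows (fun a => piece E (W a)) fun a => pieceHom E (W a)).IsSheafFor P := by
    rw [Presieve.isSheafFor_iff_generate]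
    refine isSheaf_forget F _ ((AlgSpD.mem_etTop_iff _).2 fun u => ?_)
    obtain ⟨a, ha⟩ := hc u
    exact ⟨piece E (W a), pieceHom E (W a), Sieve.le_generate _ _ _ (Presieve.ofArrows.mk a),
      (⟨u, ha⟩ : W a), rfl⟩
  rw [Presieve.isSheafFor_arrows_iff] at hP
  obtain ⟨t, ht, -⟩ := hP s fun a b Z ga gb h => by
    by_cases hab : a = b
    · subst hab
      have : ga = gb := by
        apply EtOver.hom_ext
        apply Over.OverMorphism.ext
        refine (cancel_mono (W a).ι).1 ?_
        exact congrArg (fun k => k.hom.left.left) h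
      rw [this]
    · have : IsEmpty Z.obj.left.left := ⟨fun z => by
        have e : (W a).ι (ga.hom.left.left z) = (W b).ι (gb.hom.left.left z) :=
          congrArg (fun k => k.hom.left.left z) h
        have h2 := (gb.hom.left.left z).2
        exact ((hd a b hab).le_bot
          (show (W a).ι (ga.hom.left.left z) ∈ W a ⊓ W b from ⟨(ga.hom.left.left z).2, e ▸ h2⟩) : False)⟩
      exact (sect_subsingleton_of_isEmpty F Z).elim _ _
  exact ⟨t, ht⟩

theorem eq_of_pieces (F : AbEt X) {E : EtOver X} {μ : Type*} (W : μ → E.obj.left.left.Opens)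
    (hc : ∀ x : E.obj.left.left, ∃ a, x ∈ W a) (s t : F.obj.obj (op E))
    (h : ∀ a, F.obj.map (pieceHom E (W a)).op s = F.obj.map (pieceHom E (W a)).op t) : s = t := by
  have hS : Presheaf.equalizerSieve (F := F.obj) s t ∈ etTop X E := by
    refine (AlgSpD.mem_etTop_iff _).2 fun u => ?_
    obtain ⟨a, ha⟩ := hc u
    exact ⟨piece E (W a), pieceHom E (W a), h a, (⟨u, ha⟩ : W a), rfl⟩
  exact F.property.isSeparated _ _ hS s t fun V g hg => hg

variable {f : X ⟶ Y} (hf : Representable f)

/-- Coverings of a base change along an integral morphism are dominated, near each point, by a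
disjoint decomposition of the base change of an étale neighbourhood. -/
theorem exists_nbhd_pieces (hint : RepWith @IsIntegralHom f) (V : EtOver Y) {ι : Type u} (Z : ι → EtOver X)
    (g : ∀ i, Z i ⟶ (EtOver.bc hf).obj V)
    (hg : ∀ x : ((EtOver.bc hf).obj V).obj.left.left, ∃ i, x ∈ Set.range (g i).hom.left.left)
    (v : V.obj.left.left) :
    ∃ (V' : EtOver Y) (e : V' ⟶ V), v ∈ Set.range e.hom.left.left ∧
      ∃ W : ι → ((EtOver.bc hf).obj V').obj.left.left.Opens,
        (∀ a b, a ≠ b → Disjoint (W a) (W b)) ∧ (∀ x, ∃ a, x ∈ W a) ∧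
        ∀ a, ∃ k : piece ((EtOver.bc hf).obj V') (W a) ⟶ Z a,
          k ≫ g a = pieceHom _ (W a) ≫ (EtOver.bc hf).map e := by
  have hp : IsIntegralHom (hf.snd V.obj.hom).left := hint.2 _ _ _ (hf.isPullback V.obj.hom)
  let p : (hf.pullback V.obj.hom).left ⟶ V.obj.left.left := (hf.snd V.obj.hom).left
  let g' : ∀ i, (Z i).obj.left.left ⟶ (hf.pullback V.obj.hom).left := fun i => (g i).hom.left.left
  have : ∀ i, Etale (g' i) := fun i => EtOver.etale_left (g i)
  let G : (∐ fun i => (Z i).obj.left.left) ⟶ (hf.pullback V.obj.hom).left := Sigma.desc g'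
  have : Etale G := EtaleSite.etale_sigmaDesc _
  have : IsIntegralHom p := hp
  obtain ⟨V'', ⟨w, hw⟩, h, hh⟩ := EtaleSite.exists_nbhd_factor p G v fun x _ => by
    obtain ⟨i, z, hz⟩ := hg x
    exact ⟨Sigma.ι (fun i => (Z i).obj.left.left) i z, by
      rw [← Scheme.Hom.comp_apply]
      exact (congrArg (fun q : (Z i).obj.left.left ⟶ (hf.pullback V.obj.hom).left => q z)
        (Sigma.ι_desc _ i)).trans hz⟩
  let V' : EtOver Y := (EtOver.ofChart V.obj.hom V.property).obj V''
  let e : V' ⟶ V := EtOver.homMk (EtOver.homOfEtale V'') rfl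
  let m : ((EtOver.bc hf).obj V').obj.left.left ⟶ pullback V''.hom p :=
    pullback.lift (hf.snd V'.obj.hom).left (EtOver.bcMap hf e).hom.left.left
      (congrArg CommaMorphism.left (EtOver.bcMap_snd hf e)).symm
  have hm : m ≫ h ≫ G = (EtOver.bcMap hf e).hom.left.left := by
    rw [hh]; exact pullback.lift_snd _ _ _
  obtain ⟨W, hd, hc, hk⟩ := EtaleSite.exists_pieces (m ≫ h)
  refine ⟨V', e, ⟨w, hw⟩, W, hd, hc, fun a => ?_⟩
  obtain ⟨k, hk⟩ := hk a
  have hkg : k ≫ (g a).hom.left.left = (W a).ι ≫ (EtOver.bcMap hf e).hom.left.left := by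
    refine ((congrArg (k ≫ ·) (Sigma.ι_desc g' a)).symm.trans ?_).trans
      (congrArg ((W a).ι ≫ ·) hm)
    exact (Category.assoc _ _ _).symm.trans ((congrArg (· ≫ G) hk).trans
      ((Category.assoc _ _ _).trans (congrArg ((W a).ι ≫ ·) (Category.assoc _ _ _))))
  let E' := (EtOver.bc hf).obj V'
  let k' : (piece E' (W a)).obj.left ⟶ (Z a).obj.left := Over.homMk k (by
    change k ≫ (Z a).obj.left.hom = (W a).ι ≫ E'.obj.left.hom
    rw [← Over.w (g a).hom.left, ← Category.assoc, hkg, Category.assoc]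
    exact congrArg ((W a).ι ≫ ·) (Over.w (EtOver.bcMap hf e).hom.left))
  have hk' : k' ≫ (g a).hom.left = (pieceHom E' (W a)).hom.left ≫ (EtOver.bcMap hf e).hom.left :=
    Over.OverMorphism.ext hkg
  refine ⟨EtOver.homMk k' ?_, EtOver.hom_ext _ _ hk'⟩
  rw [← EtOver.w (g a), ← EtOver.w (pieceHom E' (W a) ≫ (EtOver.bc hf).map e), ← Category.assoc,
    ← Functor.map_comp, hk']
  rfl

/-- Direct image along an integral morphism preserves epimorphisms. -/
theorem epi_push_map (hint : RepWith @IsIntegralHom f) {F G : AbEt X} (a : F ⟶ G) [Epi a] :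
    Epi ((pushEt hf AddCommGrpCat.{u + 1}).map a) := by
  have ha : Sheaf.IsLocallySurjective a := (Sheaf.isLocallySurjective_iff_epi' AddCommGrpCat.{u + 1} a).2 ‹_›
  suffices Sheaf.IsLocallySurjective ((pushEt hf AddCommGrpCat.{u + 1}).map a) from inferInstance
  constructor
  intro V t
  refine (AlgSpD.mem_etTop_iff _).2 fun v => ?_
  have hcov := (AlgSpD.mem_etTop_iff _).1 (Presheaf.imageSieve_mem (etTop X) a.hom
    (U := op ((EtOver.bc hf).obj V)) t)
  choose Z g hs hz using hcov
  obtain ⟨V', e, hv', W, hd, hc, hk⟩ := exists_nbhd_pieces hf hint V Z g (fun x => ⟨x, hz x⟩) v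
  choose k hk using hk
  choose s hs using hs
  obtain ⟨r, hr⟩ := exists_glue_disjoint F W hd hc fun x => F.obj.map (k x).op (s x)
  refine ⟨V', e, ⟨r, ?_⟩, hv'⟩
  refine eq_of_pieces G W hc _ _ fun x => ?_
  show G.obj.map _ (a.hom.app _ r) = G.obj.map _ (G.obj.map ((EtOver.bc hf).map e).op t)
  rw [← NatTrans.naturality_apply, hr, NatTrans.naturality_apply, hs, ← ConcreteCategory.comp_apply,
    ← Functor.map_comp, ← ConcreteCategory.comp_apply, ← Functor.map_comp, ← op_comp, ← op_comp, hk]

/-- Direct image along an integral morphism is right exact. -/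
theorem preservesFiniteColimits_push (hint : RepWith @IsIntegralHom f) :
    PreservesFiniteColimits (pushEt hf AddCommGrpCat.{u + 1}) :=
  let R := pushEt hf AddCommGrpCat.{u + 1}
  have : PreservesFiniteLimits R :=
    have : PreservesLimitsOfSize.{0, 0} R :=
      (pullPushAdjEt hf AddCommGrpCat.{u + 1}).rightAdjoint_preservesLimits
    PreservesLimitsOfSize.preservesFiniteLimits _
  (((R.exact_tfae.out 0 3 rfl rfl).1 fun C hC =>
    have h := R.preservesFiniteLimits_iff_forall_exact_map_and_mono.1 inferInstance C hC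
    have := hC.epi_g
    { exact := h.1, mono_f := h.2, epi_g := epi_push_map hf hint C.g }) :
      PreservesFiniteLimits R ∧ PreservesFiniteColimits R).2

end Groth.Agent.AlgSpEN.PushIntegral
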