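import Groth.Agent.AlgSpEN.FamBound

/-!
# Section-lifting bounds relative to a base object of the small etale site
-/

set_option autoImplicit false
universe u

open CategoryTheory CategoryTheory.Limits AlgebraicGeometry Opposite

set_option backward.isDefEq.respectTransparency false
set_option backward.isDefEq.respectTransparency.types false

noncomputable section

namespace Groth.Agent.AlgSpEN.Bound

open _root_.AlgSp

variable {S : Scheme.{u}} {X : AlgSp.Space S}

/-- Families of sections over a set of points, indexed by the sections of a presheaf of sets. -/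
def RelFam (A : Set (Points X.obj)) (Φ : (EtOver X.obj)ᵒᵖ ⥤ Type u) (F : AbEt X.obj)
    (s : ∀ E, Φ.obj (op E) → Lies A E → F.obj.obj (op E)) : Prop :=
  ∀ ⦃E E' : EtOver X.obj⦄ (g : E' ⟶ E) (x : Φ.obj (op E)) (hE : Lies A E) (hE' : Lies A E'),
    (F.obj.map g.op).hom (s E x hE) = s E' (Φ.map g.op x) hE'

/-- Lifting of families indexed by a presheaf of sets from some degree on. -/
def RelBound (n : ℕ) (A : Set (Points X.obj)) (Φ : (EtOver X.obj)ᵒᵖ ⥤ Type u) (F : AbEt X.obj) : Prop :=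
  ∀ k, n ≤ k → ∀ t, RelFam A Φ (seq k F).X₃ t →
    ∃ s, RelFam A Φ (seq k F).X₂ s ∧ ∀ E x h, ((seq k F).g.hom.app (op E)).hom (s E x h) = t E x h

theorem isEmpty_of_lies_empty {E : EtOver X.obj} (h : Lies (∅ : Set (Points X.obj)) E) : IsEmpty E.obj.left.left :=
  ⟨fun z => h ⟨z, rfl⟩⟩

theorem relBound_empty (Φ : (EtOver X.obj)ᵒᵖ ⥤ Type u) (F : AbEt X.obj) :
    RelBound 0 (∅ : Set (Points X.obj)) Φ F := by
  intro k _ t ht
  refine ⟨fun E _ _ => 0, fun E E' g _ _ _ => map_zero _, fun E x h => ?_⟩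
  have := isEmpty_of_lies_empty h
  exact @Subsingleton.elim _ (PushIntegral.sect_subsingleton_of_isEmpty (seq k F).X₃ E) _ _

theorem relBound_mono {n m : ℕ} (h : n ≤ m) {A : Set (Points X.obj)} {Φ : (EtOver X.obj)ᵒᵖ ⥤ Type u}
    {F : AbEt X.obj} (hb : RelBound n A Φ F) : RelBound m A Φ F :=
  fun k hk => hb k (h.trans hk)

/-- Maps agreeing at all points outside `A` pull back a compatible value equally. -/
theorem map_eq_map' {A : Set (Points X.obj)} (hA : IsOpen A) (F : AbEt X.obj) {P Z : EtOver X.obj}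
    (b : F.obj.obj (op P)) (u v : Z ⟶ P)
    (hab : ∀ (W : EtOver X.obj) (g : W ⟶ Z), Lies A W →
      (F.obj.map (g ≫ u).op).hom b = (F.obj.map (g ≫ v).op).hom b)
    (huv : ∀ (T : Over S) (a : T ⟶ Z.obj.left), (∀ o, Points.ofPt ((yon S).map a ≫ Z.obj.hom) o ∉ A) →
      a ≫ u.hom.left = a ≫ v.hom.left) :
    (F.obj.map u.op).hom b = (F.obj.map v.op).hom b := by
  have hcov : ∀ z : Z.obj.left.left, ∃ (Z' : EtOver X.obj) (g : Z' ⟶ Z),
      (F.obj.map g.op).hom ((F.obj.map u.op).hom b) = (F.obj.map g.op).hom ((F.obj.map v.op).hom b) ∧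
      z ∈ Set.range g.hom.left.left := by
    intro z
    by_cases hz : Points.ofPt Z.obj.hom z ∈ A
    · obtain ⟨W, j, -, hW, hr, -⟩ := exists_piece_lift hA Z
      refine ⟨W, j, ?_, hr ▸ hz⟩
      rw [← ConcreteCategory.comp_apply, ← Functor.map_comp, ← ConcreteCategory.comp_apply, ← Functor.map_comp,
        ← op_comp, ← op_comp, hab W j hW]
    · let Q := EtOver.prodObj P P
      let m : Z ⟶ Q := (EtOver.prodIsLimit P P).lift (BinaryFan.mk u v)
      let δ : P ⟶ Q := (EtOver.prodIsLimit P P).lift (BinaryFan.mk (𝟙 P) (𝟙 P))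
      have hm1 : m ≫ EtOver.prodFst P P = u :=
        (EtOver.prodIsLimit P P).fac (BinaryFan.mk u v) ⟨WalkingPair.left⟩
      have hm2 : m ≫ EtOver.prodSnd P P = v :=
        (EtOver.prodIsLimit P P).fac (BinaryFan.mk u v) ⟨WalkingPair.right⟩
      have hd1 : δ ≫ EtOver.prodFst P P = 𝟙 P :=
        (EtOver.prodIsLimit P P).fac (BinaryFan.mk (𝟙 P) (𝟙 P)) ⟨WalkingPair.left⟩
      have hd2 : δ ≫ EtOver.prodSnd P P = 𝟙 P :=
        (EtOver.prodIsLimit P P).fac (BinaryFan.mk (𝟙 P) (𝟙 P)) ⟨WalkingPair.right⟩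
      obtain ⟨q, hq, l, hl, hqz⟩ := AlgSpD.exists_geometric_lift X Z z
      have hc : l.1 ≫ u.hom.left = l.1 ≫ v.hom.left :=
        huv q.pt l.1 fun o => by
          rw [l.2, Points.ofPt_toHom, hqz]
          exact hz
      have hpt : l.1 ≫ m.hom.left = (l.1 ≫ u.hom.left) ≫ δ.hom.left := by
        refine Functor.relativelyRepresentable.hom_ext' _ ?_ ?_
        · change (l.1 ≫ m.hom.left) ≫ (EtOver.prodSnd P P).hom.left =
            ((l.1 ≫ u.hom.left) ≫ δ.hom.left) ≫ (EtOver.prodSnd P P).hom.left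
          have e1 : m.hom.left ≫ (EtOver.prodSnd P P).hom.left = v.hom.left := congrArg (fun k => k.hom.left) hm2
          have e2 : δ.hom.left ≫ (EtOver.prodSnd P P).hom.left = 𝟙 _ := congrArg (fun k => k.hom.left) hd2
          rw [Category.assoc, e1, Category.assoc, e2, Category.comp_id, hc]
        · change (l.1 ≫ m.hom.left) ≫ (EtOver.prodFst P P).hom.left =
            ((l.1 ≫ u.hom.left) ≫ δ.hom.left) ≫ (EtOver.prodFst P P).hom.left
          have e1 : m.hom.left ≫ (EtOver.prodFst P P).hom.left = u.hom.left := congrArg (fun k => k.hom.left) hm1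
          have e2 : δ.hom.left ≫ (EtOver.prodFst P P).hom.left = 𝟙 _ := congrArg (fun k => k.hom.left) hd1
          rw [Category.assoc, e1, Category.assoc, e2, Category.comp_id]
      have sq := EtOver.isPullback m δ
      obtain ⟨y, hy, -⟩ := Scheme.exists_preimage_of_isPullback (sq.map (EtOver.toScheme X.obj)) z
        ((l.1 ≫ u.hom.left).left (IsLocalRing.closedPoint q.K)) (by
          rw [← hl]
          exact congrArg (fun k : q.pt ⟶ Q.obj.left => k.left (IsLocalRing.closedPoint q.K)) hpt)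
      refine ⟨_, EtOver.pullbackFst m δ, ?_, y, hy⟩
      rw [← ConcreteCategory.comp_apply, ← Functor.map_comp, ← ConcreteCategory.comp_apply, ← Functor.map_comp,
        ← op_comp, ← op_comp]
      have e : EtOver.pullbackFst m δ ≫ u = EtOver.pullbackFst m δ ≫ v := by
        rw [← hm1, ← hm2, ← Category.assoc, ← Category.assoc, sq.w, Category.assoc, Category.assoc, hd1, hd2]
      rw [e]
  refine F.property.isSeparated _ (Presheaf.equalizerSieve ((F.obj.map u.op).hom b) ((F.obj.map v.op).hom b))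
    ((AlgSpD.mem_etTop_iff _).2 fun z => ?_) _ _ fun Z' g hg => hg
  obtain ⟨Z', g, hg, hr⟩ := hcov z
  exact ⟨Z', g, hg, hr⟩

/-- Adjoining an affine piece which is injective outside `A` to a bound relative to `Φ`. -/
theorem relBound_step {A B : Set (Points X.obj)} (hA : IsOpen A) (hAB : A ⊆ B)
    (Φ : (EtOver X.obj)ᵒᵖ ⥤ Type u) (P : EtOver X.obj) [IsAffine P.obj.left.left] (π : Φ.obj (op P))
    (hPB : Lies B P)
    (hinj : ∀ (Z : EtOver X.obj) (u v : Z ⟶ P), Φ.map u.op π = Φ.map v.op π →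
      ∀ (T : Over S) (a : T ⟶ Z.obj.left), (∀ o, Points.ofPt ((yon S).map a ≫ Z.obj.hom) o ∉ A) →
        a ≫ u.hom.left = a ≫ v.hom.left)
    (hcov : ∀ (E' : EtOver X.obj) (x : Φ.obj (op E')) (z : E'.obj.left.left),
      Points.ofPt E'.obj.hom z ∈ B → Points.ofPt E'.obj.hom z ∉ A →
      ∃ (Z : EtOver X.obj) (q : Z ⟶ E') (v : Z ⟶ P),
        z ∈ Set.range q.hom.left.left ∧ Φ.map v.op π = Φ.map q.op x)
    {F : AbEt X.obj} (hF : Amitsur.Cech F) {W : EtOver X.obj} (j : W ⟶ P) [Mono j]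
    (hW : Lies A W) (hfac : ∀ (Z : EtOver X.obj) (g : Z ⟶ P), Lies A Z → ∃ l, l ≫ j = g) {N : ℕ}
    (ha : RelBound N A Φ F) (hext : ∀ k, N ≤ k → Function.Surjective ((cz k F).obj.map j.op).hom) :
    RelBound N B Φ F := by
  intro k hk t ht
  let C := seq k F
  have hC := seq_shortExact k F
  have hAB' : ∀ {Z : EtOver X.obj}, Lies A Z → Lies B Z := fun h => h.trans hAB
  obtain ⟨a, hafam, ha⟩ := ha k hk (fun Z x h => t Z x (hAB' h)) fun Z Z' g x h h' => ht g x _ _
  obtain ⟨b, hb⟩ := objBound_affine hF P k (Nat.zero_le _) (t P π hPB)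
  obtain ⟨d, hd⟩ := Amitsur.sections_exact C hC W (a W (Φ.map j.op π) hW - (C.X₂.obj.map j.op).hom b) (by
    rw [map_sub, sub_eq_zero]
    refine (ha W _ hW).trans (Eq.symm ?_)
    exact (NatTrans.naturality_apply C.g.hom j.op b).trans ((congrArg _ hb).trans (ht j π hPB (hAB' hW))))
  obtain ⟨d', rfl⟩ := hext k hk d
  let b' := b + (C.f.hom.app (op P)).hom d'
  have hbt : (C.g.hom.app (op P)).hom b' = t P π hPB := by
    rw [map_add, Amitsur.sections_zero C hC, add_zero, hb]
  have hba : (C.X₂.obj.map j.op).hom b' = a W (Φ.map j.op π) hW := by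
    have h : (C.X₂.obj.map j.op).hom ((C.f.hom.app (op P)).hom d') =
        a W (Φ.map j.op π) hW - (C.X₂.obj.map j.op).hom b :=
      (NatTrans.naturality_apply C.f.hom j.op d').symm.trans hd
    rw [map_add, h, add_sub_cancel]
  have hab : ∀ (Z : EtOver X.obj) (g : Z ⟶ P) (h : Lies A Z),
      (C.X₂.obj.map g.op).hom b' = a Z (Φ.map g.op π) h := by
    intro Z g h
    obtain ⟨l, rfl⟩ := hfac Z g h
    rw [op_comp, Functor.map_comp, ConcreteCategory.comp_apply]
    refine ((congrArg _ hba).trans (hafam l _ hW h)).trans ?_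
    congr 1
    simp
  -- local values
  classical
  let Ok : ∀ Z : EtOver X.obj, Φ.obj (op Z) → Prop := fun Z x =>
    Lies A Z ∨ ∃ v : Z ⟶ P, Φ.map v.op π = x
  have hOk : ∀ {Z Z' : EtOver X.obj} (g : Z' ⟶ Z) {x : Φ.obj (op Z)}, Ok Z x → Ok Z' (Φ.map g.op x) :=
    fun g x h => h.imp (lies_of_hom g) fun ⟨v, hv⟩ => ⟨g ≫ v, by rw [← hv]; simp⟩
  let R : ∀ E' : EtOver X.obj, Φ.obj (op E') → Sieve E' := fun E' x =>
    { arrows := fun Z q => Ok Z (Φ.map q.op x)
      downward_closed := fun {_ _} q h g => by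
        have := hOk g h
        simpa using this }
  let val : ∀ (Z : EtOver X.obj) (x : Φ.obj (op Z)), Ok Z x → C.X₂.obj.obj (op Z) := fun Z x h =>
    if hZ : Lies A Z then a Z x hZ else (C.X₂.obj.map (h.resolve_left hZ).choose.op).hom b'
  have hval : ∀ (Z : EtOver X.obj) (v : Z ⟶ P) (x) (h : Ok Z x), Φ.map v.op π = x →
      val Z x h = (C.X₂.obj.map v.op).hom b' := by
    intro Z v x h hv
    subst hv
    by_cases hZ : Lies A Z
    · simp only [val, dif_pos hZ, hab Z v hZ]
    · simp only [val, dif_neg hZ]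
      refine map_eq_map' hA C.X₂ b' _ v (fun W' g hW' => ?_) (hinj _ _ _ (h.resolve_left hZ).choose_spec)
      rw [hab W' _ hW', hab W' _ hW']
      congr 1
      rw [op_comp, op_comp, Functor.map_comp, Functor.map_comp]
      exact congrArg (Φ.map g.op) (h.resolve_left hZ).choose_spec
  have hvalA : ∀ (Z : EtOver X.obj) (x) (hZ : Lies A Z) (h : Ok Z x), val Z x h = a Z x hZ :=
    fun Z x hZ h => dif_pos hZ
  have hnat : ∀ (Z Z' : EtOver X.obj) (g : Z' ⟶ Z) (x) (h : Ok Z x) (x') (h' : Ok Z' x'), Φ.map g.op x = x' →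
      (C.X₂.obj.map g.op).hom (val Z x h) = val Z' x' h' := by
    intro Z Z' g x h x' h' hx
    subst hx
    rcases h with hZ | ⟨v, hv⟩
    · rw [hvalA Z x hZ (Or.inl hZ), hvalA Z' _ (lies_of_hom g hZ) h']
      exact hafam g x _ _
    · rw [hval Z v x (Or.inr ⟨v, hv⟩) hv, hval Z' (g ≫ v) _ h' (by rw [← hv]; simp),
        ← ConcreteCategory.comp_apply, ← Functor.map_comp, ← op_comp]
  have hR : ∀ E' x, Lies B E' → R E' x ∈ etTop X.obj E' := by
    intro E' x hE'
    refine (AlgSpD.mem_etTop_iff _).2 fun z => ?_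
    by_cases hz : Points.ofPt E'.obj.hom z ∈ A
    · obtain ⟨W', j', -, hW', hr, -⟩ := exists_piece_lift hA E'
      exact ⟨W', j', Or.inl hW', hr ▸ hz⟩
    · obtain ⟨Z, q, v, hq, hv⟩ := hcov E' x z (hE' ⟨z, rfl⟩) hz
      exact ⟨Z, q, Or.inr ⟨v, hv⟩, hq⟩
  have key : ∀ (E' : EtOver X.obj) (x : Φ.obj (op E')) (_ : Lies B E'), ∃ s : C.X₂.obj.obj (op E'),
      ∀ (Z : EtOver X.obj) (g : Z ⟶ E') (h : (R E' x).arrows g),
        (C.X₂.obj.map g.op).hom s = val Z (Φ.map g.op x) h := by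
    intro E' x hE'
    obtain ⟨s, hs, -⟩ := PushIntegral.isSheaf_forget C.X₂ (R E' x) (hR E' x hE') (fun Z g h => val Z _ h)
      fun Z₁ Z₂ Z g₁ g₂ f₁ f₂ h₁ h₂ hc =>
        (hnat Z₁ Z g₁ _ h₁ (Φ.map (g₁ ≫ f₁).op x) ((R E' x).downward_closed h₁ g₁) (by simp)).trans
          (hnat Z₂ Z g₂ _ h₂ (Φ.map (g₁ ≫ f₁).op x) ((R E' x).downward_closed h₁ g₁) (by rw [hc]; simp)).symm
    exact ⟨s, fun Z g h => hs g h⟩
  choose s hs using key
  refine ⟨s, fun E' E'' g x h h' => ?_, fun E' x h => ?_⟩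
  · refine C.X₂.property.isSeparated _ (R E'' (Φ.map g.op x)) (hR E'' _ h') _ _ fun Z q hq => ?_
    rw [← ConcreteCategory.comp_apply, ← Functor.map_comp, ← op_comp]
    have hqg : (R E' x).arrows (q ≫ g) := by
      change Ok Z _
      have : Ok Z (Φ.map q.op (Φ.map g.op x)) := hq
      simpa using this
    refine (hs E' x h Z (q ≫ g) hqg).trans ((hs E'' _ h' Z q hq).trans ?_).symm
    congr 1
    simp
  · refine C.X₃.property.isSeparated _ (R E' x) (hR E' x h) _ _ fun Z q hq => ?_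
    refine (NatTrans.naturality_apply C.g.hom q.op (s E' x h)).symm.trans
      ((congrArg _ (hs E' x h Z q hq)).trans ?_)
    have hZB : Lies B Z := lies_of_hom q h
    refine Eq.trans ?_ (ht q x h hZB).symm
    rcases hq with hZ | ⟨v, hv⟩
    · rw [hvalA Z _ hZ (Or.inl hZ)]
      exact ha Z _ hZ
    · rw [hval Z v _ (Or.inr ⟨v, hv⟩) hv]
      refine (NatTrans.naturality_apply C.g.hom v.op b').trans ((congrArg _ hbt).trans ((ht v π hPB hZB).trans ?_))
      rw [hv]

/-- The constant presheaf of sets with one section. -/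
abbrev point (X : AlgSp.Space S) : (EtOver X.obj)ᵒᵖ ⥤ Type u :=
  (Functor.const (EtOver X.obj)ᵒᵖ).obj PUnit.{u+1}

/-- Every point of the image of an etale chart is covered by the product with it. -/
theorem exists_prod_cover (M : EtOver X.obj) (E' : EtOver X.obj) (z : E'.obj.left.left)
    (hz : Points.ofPt E'.obj.hom z ∈ Set.range (Points.ofPt M.obj.hom)) :
    z ∈ Set.range (EtOver.prodFst E' M).hom.left.left := by
  obtain ⟨e, he⟩ := hz
  obtain ⟨q, hq, l, hl, hqz⟩ := AlgSpD.exists_geometric_lift X E' z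
  obtain ⟨c, hc, -⟩ := AlgSpB.exists_lift_geometric M.property q hq e (he.trans hqz.symm)
  exact ⟨(M.property.1.lift' c l.1 (hc.trans l.2.symm)).left (IsLocalRing.closedPoint q.K),
    (congrArg (fun k : q.pt ⟶ E'.obj.left => k.left (IsLocalRing.closedPoint q.K))
      (Functor.relativelyRepresentable.lift'_snd _ c l.1 (hc.trans l.2.symm))).trans hl⟩

theorem relBound_step_point {A : Set (Points X.obj)} (hA : IsOpen A) (M : EtOver X.obj)
    [IsAffine M.obj.left.left] (hinj : InjOutside M.obj.hom A) {F : AbEt X.obj} (hF : Amitsur.Cech F)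
    {W : EtOver X.obj} (j : W ⟶ M) [Mono j] (hW : Lies A W)
    (hfac : ∀ (Z : EtOver X.obj) (g : Z ⟶ M), Lies A Z → ∃ l, l ≫ j = g) {N : ℕ}
    (ha : RelBound N A (point X) F) (hext : ∀ k, N ≤ k → Function.Surjective ((cz k F).obj.map j.op).hom) :
    RelBound N (A ∪ Set.range (Points.ofPt M.obj.hom)) (point X) F :=
  relBound_step hA Set.subset_union_left (point X) M PUnit.unit Set.subset_union_right
    (fun Z u v _ T a ho => by
      have h : ∀ g : Z ⟶ M, (yon S).map (a ≫ g.hom.left) ≫ M.obj.hom = (yon S).map a ≫ Z.obj.hom := fun g => by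
        rw [Functor.map_comp, Category.assoc, EtOver.w g]
      exact hinj T _ _ ((h u).trans (h v).symm) fun o => by rw [h u]; exact ho o)
    (fun E' _ z hz hz' => ⟨EtOver.prodObj E' M, EtOver.prodFst E' M, EtOver.prodSnd E' M,
      exists_prod_cover M E' z (hz.resolve_left hz'), rfl⟩)
    hF j hW hfac ha hext

theorem relBound_step_yoneda {A : Set (Points X.obj)} (hA : IsOpen A) (M E₀ : EtOver X.obj)
    [IsAffine (EtOver.prodObj M E₀).obj.left.left] (hinj : InjOutside M.obj.hom A) {F : AbEt X.obj}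
    (hF : Amitsur.Cech F) {W : EtOver X.obj} (j : W ⟶ EtOver.prodObj M E₀) [Mono j] (hW : Lies A W)
    (hfac : ∀ (Z : EtOver X.obj) (g : Z ⟶ EtOver.prodObj M E₀), Lies A Z → ∃ l, l ≫ j = g) {N : ℕ}
    (ha : RelBound N A (yoneda.obj E₀) F)
    (hext : ∀ k, N ≤ k → Function.Surjective ((cz k F).obj.map j.op).hom) :
    RelBound N (A ∪ Set.range (Points.ofPt M.obj.hom)) (yoneda.obj E₀) F :=
  relBound_step hA Set.subset_union_left (yoneda.obj E₀) (EtOver.prodObj M E₀) (EtOver.prodSnd M E₀)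
    ((lies_of_hom (EtOver.prodFst M E₀) (le_refl _ : Lies (Set.range (Points.ofPt M.obj.hom)) M)).trans
      Set.subset_union_right)
    (fun Z u v huv T a ho => by
      refine Functor.relativelyRepresentable.hom_ext' _ ?_ ?_
      · change (a ≫ u.hom.left) ≫ (EtOver.prodSnd M E₀).hom.left = (a ≫ v.hom.left) ≫ (EtOver.prodSnd M E₀).hom.left
        rw [Category.assoc, Category.assoc]
        exact congrArg (a ≫ ·) (congrArg (fun k : Z ⟶ E₀ => k.hom.left) huv)
      · change (a ≫ u.hom.left) ≫ (EtOver.prodFst M E₀).hom.left = (a ≫ v.hom.left) ≫ (EtOver.prodFst M E₀).hom.left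
        have h : ∀ g : Z ⟶ EtOver.prodObj M E₀, (yon S).map ((a ≫ g.hom.left) ≫ (EtOver.prodFst M E₀).hom.left) ≫
            M.obj.hom = (yon S).map a ≫ Z.obj.hom := fun g => by
          rw [Functor.map_comp, Functor.map_comp, Category.assoc, Category.assoc, EtOver.w, EtOver.w g]
        exact hinj T _ _ ((h u).trans (h v).symm) fun o => by rw [h u]; exact ho o)
    (fun E' x z hz hz' => ⟨EtOver.prodObj E' M, EtOver.prodFst E' M,
      (EtOver.prodIsLimit M E₀).lift (BinaryFan.mk (EtOver.prodSnd E' M) (EtOver.prodFst E' M ≫ x)),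
      exists_prod_cover M E' z (hz.resolve_left hz'),
      (EtOver.prodIsLimit M E₀).fac (BinaryFan.mk (EtOver.prodSnd E' M) (EtOver.prodFst E' M ≫ x)) ⟨WalkingPair.right⟩⟩)
    hF j hW hfac ha hext

/-- The bound relative to an object bounds its open piece. -/
theorem objBound_of_relBound {A : Set (Points X.obj)} {E₀ W : EtOver X.obj} (j : W ⟶ E₀) [Mono j]
    (hW : Lies A W) (hfac : ∀ (Z : EtOver X.obj) (g : Z ⟶ E₀), Lies A Z → ∃ l, l ≫ j = g) {n : ℕ}
    {F : AbEt X.obj} (h : RelBound n A (yoneda.obj E₀) F) : ObjBound n W F := by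
  intro k hk t
  obtain ⟨s, -, hs⟩ := h k hk (fun Z x hZ => ((seq k F).X₃.obj.map (hfac Z x hZ).choose.op).hom t)
    fun Z Z' g x hZ hZ' => by
      have e : g ≫ (hfac Z x hZ).choose = (hfac Z' (g ≫ x) hZ').choose := by
        rw [← cancel_mono j, Category.assoc, (hfac Z x hZ).choose_spec, (hfac Z' (g ≫ x) hZ').choose_spec]
      rw [← ConcreteCategory.comp_apply, ← Functor.map_comp, ← op_comp, e]
  refine ⟨s W j hW, (hs W j hW).trans ?_⟩
  have e : (hfac W j hW).choose = 𝟙 W := by rw [← cancel_mono j, (hfac W j hW).choose_spec, Category.id_comp]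
  rw [e]
  simp

/-- A bound relative to the point is a bound on families. -/
theorem famBound_of_relBound {n : ℕ} {A : Set (Points X.obj)} {F : AbEt X.obj}
    (h : RelBound n A (point X) F) : FamBound n A F := by
  intro k hk t ht
  obtain ⟨s, hs, hst⟩ := h k hk (fun E _ hE => t E hE) fun E E' g _ hE hE' => ht g hE hE'
  exact ⟨fun E hE => s E PUnit.unit hE, fun E E' g hE hE' => hs g _ hE hE', fun E hE => hst E _ hE⟩

end Groth.Agent.AlgSpEN.Bound
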