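import Groth.Agent.AlgSpEN.PushInj
import Groth.Agent.AlgSpEN.AffVanish
import Groth.Agent.AlgSpEN.PushIntegral
import Groth.Agent.AlgSpEN.RelBound

/-!
# Direct images from affine schemes along affine morphisms are acyclic
-/

set_option autoImplicit false
universe u

open CategoryTheory CategoryTheory.Limits AlgebraicGeometry Opposite CategoryTheory.Abelian

set_option backward.isDefEq.respectTransparency false
set_option backward.isDefEq.respectTransparency.types false

noncomputable section

namespace Groth.Agent.AlgSpEN.PushVanish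

open _root_.AlgSp Groth.Agent.AlgSpQC Groth.Agent.AlgSpEN.Bound

variable {S : Scheme.{u}} {X Y : Space S} {f : X.obj ⟶ Y.obj} (hf : Representable f)

theorem surjective_bcM {E E' : EtOver Y.obj} (g : E ⟶ E') (h : Function.Surjective g.hom.left.left) :
    Function.Surjective (bcM hf g).hom.left.left := by
  have : Surjective g.hom.left.left := ⟨h⟩
  exact (MorphismProperty.of_isPullback (P := @Surjective) (EtOver.isPullback_bcMap_left hf g).flip this).surj

/-- A compatible family on the base changes of charts comes from the affine source. -/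
theorem exists_glue (G : AbEt X.obj) (E₀ : EtOver X.obj) [IsIso E₀.obj.hom] (U : EtOver Y.obj)
    (hU : ∀ y : Points Y.obj, y ∈ Set.range (Points.ofPt U.obj.hom)) (hUs : RepWith @Surjective U.obj.hom)
    (η : ∀ V : EtOver Y.obj, G.obj.obj (op (bcO hf V)))
    (hη : ∀ (V V' : EtOver Y.obj) (m : V' ⟶ V), (G.obj.map (bcM hf m).op).hom (η V) = η V')
    (p : ∀ V : EtOver Y.obj, bcO hf V ⟶ E₀) :
    ∃ c : G.obj.obj (op E₀), ∀ V, (G.obj.map (p V).op).hom c = η V := by
  have huniq : ∀ {E : EtOver X.obj} (a b : E ⟶ E₀), a = b := fun a b =>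
    EtOver.hom_ext _ _ ((yon S).map_injective ((cancel_mono E₀.obj.hom).1 ((EtOver.w a).trans (EtOver.w b).symm)))
  have hl : Function.Surjective (p U).hom.left.left := by
    have h1 : RepWith @Surjective (bcO hf U).obj.hom :=
      MorphismProperty.of_isPullback (hf.isPullback U.obj.hom).flip hUs
    rw [← EtOver.w (p U), MorphismProperty.cancel_right_of_respectsIso (RepWith @Surjective)] at h1
    exact ((repWith_yon_map_iff _ _).1 h1).surj
  have hP : (Presieve.ofArrows (fun _ : PUnit.{u + 1} => bcO hf U) fun _ => p U).IsSheafFor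
      (G.obj ⋙ forget AddCommGrpCat.{u + 1}) := by
    rw [Presieve.isSheafFor_iff_generate]
    refine PushIntegral.isSheaf_forget G _ ?_
    exact AlgSp.ofArrows_mem_etTop _ _ fun x => ⟨PUnit.unit, hl x⟩
  rw [Presieve.isSheafFor_arrows_iff] at hP
  obtain ⟨c, hc, -⟩ := hP (fun _ => η U) fun _ _ Z ga gb _ => by
    obtain ⟨g, hg1, hg2⟩ := PushInj.exists_prod_lift hf ga gb
    change (G.obj.map ga.op).hom (η U) = (G.obj.map gb.op).hom (η U)
    rw [← hg1, ← hg2, op_comp, op_comp, Functor.map_comp, Functor.map_comp, ConcreteCategory.comp_apply,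
      ConcreteCategory.comp_apply, hη, hη]
  refine ⟨c, fun V => ?_⟩
  have hcov : Function.Surjective (bcM hf (EtOver.prodFst V U)).hom.left.left :=
    surjective_bcM hf _ fun z => exists_prod_cover U V z (hU _)
  refine G.property.isSeparated _ _ (AlgSp.ofArrows_mem_etTop (fun _ : PUnit.{u + 1} => _)
    (fun _ => bcM hf (EtOver.prodFst V U)) fun x => ⟨PUnit.unit, hcov x⟩) _ _ fun Z g hg => ?_
  obtain ⟨-, a, rfl⟩ := Sieve.mem_ofArrows_iff .. |>.1 hg
  rw [op_comp, Functor.map_comp, ConcreteCategory.comp_apply, ConcreteCategory.comp_apply, hη]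
  refine congrArg _ ?_
  rw [← hη U (EtOver.prodObj V U) (EtOver.prodSnd V U)]
  change _ = (G.obj.map _).hom (η U)
  rw [← hc PUnit.unit]
  change (G.obj.map _).hom ((G.obj.map _).hom c) = (G.obj.map _).hom ((G.obj.map _).hom c)
  rw [← ConcreteCategory.comp_apply, ← ConcreteCategory.comp_apply, ← Functor.map_comp, ← Functor.map_comp,
    ← op_comp, ← op_comp, huniq (bcM hf (EtOver.prodFst V U) ≫ p V) (bcM hf (EtOver.prodSnd V U) ≫ p U)]

theorem cech_cz {F : AbEt X.obj} (hF : Amitsur.Cech F) : ∀ k, Amitsur.Cech (cz k F)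
  | 0 => hF
  | k + 1 => Amitsur.cech_X₃ (seq k F) (seq_shortExact k F) (cech_cz hF k)

/-- The direct image of an acyclic sheaf on an affine scheme is acyclic. -/
theorem subsingleton_HEt_push (haff : IsAffineMor f) (E₀ : EtOver X.obj) [IsIso E₀.obj.hom]
    [IsAffine E₀.obj.left.left] (U : EtOver Y.obj) (hU : ∀ y : Points Y.obj, y ∈ Set.range (Points.ofPt U.obj.hom))
    (hUs : RepWith @Surjective U.obj.hom) {F : AbEt X.obj} (hF : Amitsur.Cech F) (q : ℕ) :
    Subsingleton (HEt Y.obj ((pushEt hf AddCommGrpCat.{u + 1}).obj F) (q + 1)) := by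
  let R := pushEt hf AddCommGrpCat.{u + 1}
  have : PreservesFiniteLimits R :=
    have : PreservesLimitsOfSize.{0, 0} R :=
      (AlgSp.pullPushAdjEt hf AddCommGrpCat.{u + 1}).rightAdjoint_preservesLimits
    PreservesLimitsOfSize.preservesFiniteLimits _
  have hS : ∀ k, ((seq k F).map R).ShortExact := fun k => by
    have hm : Mono (seq k F).f := (seq_shortExact k F).mono_f
    have he : Epi (R.map (seq k F).g) := Amitsur.epi_push_of_affine hf haff _ fun E hE =>
      Amitsur.sections_surjective (seq k F) (seq_shortExact k F) (cech_cz hF k) E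
    exact { exact := (seq_shortExact k F).exact.map_of_mono_of_preservesKernel R hm inferInstance
            mono_f := R.map_mono _
            epi_g := he }
  have hI : ∀ k, Injective ((seq k F).map R).X₂ := fun k => PushInj.injective_push hf (seq k F).X₂
  let Z := (constantSheaf (etTop Y.obj) AddCommGrpCat.{u + 1}).obj (AddCommGrpCat.of (ULift.{u + 1} ℤ))
  have hlift : ∀ k, ∀ g : Z ⟶ ((seq k F).map R).X₃, ∃ a : Z ⟶ ((seq k F).map R).X₂,
      a ≫ ((seq k F).map R).g = g := by
    intro k g
    let P := (Functor.const (EtOver Y.obj)ᵒᵖ).obj (AddCommGrpCat.of (ULift.{u + 1} ℤ))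
    let adj := sheafificationAdjunction (etTop Y.obj) AddCommGrpCat.{u + 1}
    let η : P ⟶ (R.obj (seq k F).X₃).obj := (adj.homEquiv P (R.obj (seq k F).X₃)) g
    let p : ∀ V : EtOver Y.obj, bcO hf V ⟶ E₀ := fun V =>
      EtOver.homMk ((yon S).preimage ((bcO hf V).obj.hom ≫ inv E₀.obj.hom)) (by
        rw [Functor.map_preimage, Category.assoc, IsIso.inv_hom_id, Category.comp_id])
    obtain ⟨c, hc⟩ := exists_glue hf (seq k F).X₃ E₀ U hU hUs (fun V => (η.app (op V)).hom ⟨1⟩)
      (fun V V' m => (NatTrans.naturality_apply η m.op (ULift.up 1)).symm) p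
    obtain ⟨a, ha⟩ := objBound_affine hF E₀ k (Nat.zero_le k) c
    let θ : P ⟶ (R.obj (seq k F).X₂).obj :=
      { app := fun V => AddCommGrpCat.ofHom
          ((zmultiplesHom _ (((seq k F).X₂.obj.map (p V.unop).op).hom a)).comp AddEquiv.ulift.toAddMonoidHom)
        naturality := fun V V' m => AddCommGrpCat.hom_ext (DFunLike.ext _ _ fun z => by
          change z.down • ((seq k F).X₂.obj.map (p V'.unop).op).hom a =
            ((seq k F).X₂.obj.map (bcM hf m.unop).op).hom (z.down • ((seq k F).X₂.obj.map (p V.unop).op).hom a)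
          rw [map_zsmul, ← ConcreteCategory.comp_apply, ← Functor.map_comp, ← op_comp]
          refine congrArg (fun q : bcO hf V'.unop ⟶ E₀ => z.down • ((seq k F).X₂.obj.map q.op).hom a) ?_
          exact EtOver.hom_ext _ _ ((yon S).map_injective
            ((cancel_mono E₀.obj.hom).1 ((EtOver.w _).trans (EtOver.w _).symm)))) }
    refine ⟨(adj.homEquiv P (R.obj (seq k F).X₂)).symm θ, ?_⟩
    apply (adj.homEquiv P (R.obj (seq k F).X₃)).injective
    change adj.homEquiv P _ ((adj.homEquiv P (R.obj (seq k F).X₂)).symm θ ≫ R.map (seq k F).g) = _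
    rw [adj.homEquiv_naturality_right, Equiv.apply_symm_apply]
    ext V z
    change ((seq k F).g.hom.app (op (bcO hf V.unop))).hom
      (z.down • ((seq k F).X₂.obj.map (p V.unop).op).hom a) = (η.app V).hom z
    rw [map_zsmul]
    refine (congrArg (z.down • ·) (((NatTrans.naturality_apply (seq k F).g.hom (p V.unop).op a).trans
      (congrArg ((seq k F).X₃.obj.map (p V.unop).op).hom ha)).trans (hc V.unop))).trans ?_
    refine (map_zsmul (η.app V).hom z.down ⟨1⟩).symm.trans (congrArg _ ?_)
    refine ULift.ext _ _ ?_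
    change z.down • (1 : ℤ) = z.down
    simp
  have key : ∀ p k, Subsingleton (Ext Z (R.obj (cz k F)) (p + 1)) := by
    intro p
    induction p with
    | zero =>
      intro k
      have := hI k
      exact SiteCoh.DimShift.subsingleton_one (hS k) (hlift k)
    | succ p ih =>
      intro k
      have := hI k
      exact SiteCoh.DimShift.subsingleton_succ (hS k) p (ih (k + 1))
  exact key q 0

end Groth.Agent.AlgSpEN.PushVanish
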