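import Groth.Agent.AlgSpEN.Strata
import Groth.Agent.AlgSpB.Open
import Groth.Agent.AlgSpB.RedInduced

/-!
# The filtration of an algebraic space attached to an affine chart
-/

universe u

open CategoryTheory CategoryTheory.Limits AlgebraicGeometry

set_option backward.isDefEq.respectTransparency false
set_option backward.isDefEq.respectTransparency.types false
set_option autoImplicit false

namespace Groth.Agent.AlgSpEN

open _root_.AlgSp
open Groth.Agent.AlgSpB

variable {S : Scheme.{u}}

/-- A lift of a map through a monomorphism is its base change. -/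
theorem isPullback_of_mono_lift {A F G : Sp S} (f : A ⟶ F) (j : F ⟶ G) [Mono j] (m : A ⟶ G) (h : f ≫ j = m) :
    IsPullback (𝟙 A) f m j :=
  ⟨⟨by rw [Category.id_comp, h]⟩, ⟨PullbackCone.IsLimit.mk _ (fun c => c.fst) (fun c => Category.comp_id _)
    (fun c => (cancel_mono j).1 (by rw [Category.assoc, h, c.condition]))
    (fun c l h1 _ => by rw [← h1, Category.comp_id])⟩⟩

/-- A map into an open subspace with the same image as a chart is an etale surjective chart. -/
theorem repWith_lift_openImmersion {X W : Space S} (j : W ⟶ X) (hj : RepWith @IsOpenImmersion j.hom) {M : Over S}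
    (m : (yon S).obj M ⟶ X.obj) (hm : RepWith @Etale m)
    (hr : Set.range (Points.ofPt m) = Set.range (Points.map j.hom)) :
    ∃ f : (yon S).obj M ⟶ W.obj, f ≫ j.hom = m ∧ RepWith @Etale f ∧ RepWith @Surjective f := by
  have : Mono j.hom := mono_of_isOpenImmersion hj
  obtain ⟨f, hf⟩ := exists_lift_yon_of_isOpenImmersion hj m hr.le
  have he : RepWith @Etale f := MorphismProperty.of_isPullback (isPullback_of_mono_lift f j.hom m hf) hm
  refine ⟨f, hf, he, repWith_surjective_of_surjective_ofPt he.1 fun x => ?_⟩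
  obtain ⟨y, hy⟩ : Points.map j.hom x ∈ Set.range (Points.ofPt m) := hr.ge ⟨x, rfl⟩
  exact ⟨y, injective_map_of_mono j.hom (by rw [Points.map_ofPt, hf, hy])⟩

/-- An open subspace with all points is everything. -/
theorem isIso_of_range_eq_univ {X W : Space S} (j : W ⟶ X) (hj : RepWith @IsOpenImmersion j.hom)
    (hr : Set.range (Points.map j.hom) = Set.univ) : IsIso j := by
  have : Mono j.hom := mono_of_isOpenImmersion hj
  have : IsIso j.hom := isIso_of_forall_yon _ fun T x => by
    obtain ⟨y, hy⟩ := exists_lift_yon_of_isOpenImmersion hj x (hr ▸ Set.subset_univ _)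
    exact ⟨y, hy, fun y' hy' => (cancel_mono j.hom).1 (hy'.trans hy.symm)⟩
  exact ⟨ObjectProperty.homMk (inv j.hom), ObjectProperty.hom_ext _ (IsIso.hom_inv_id j.hom),
    ObjectProperty.hom_ext _ (IsIso.inv_hom_id j.hom)⟩

/-- An etale map which is injective on points with values in schemes over a closed set in its image is an
isomorphism over a closed subspace on that set. -/
theorem isIso_fst_of_injOn {W T P : Sp S} {V : Over S} (f : (yon S).obj V ⟶ W) (hf : RepWith @Etale f)
    (i : T ⟶ W) (hsub : Set.range (Points.map i) ⊆ Set.range (Points.ofPt f))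
    (hinj : ∀ (A : Over S) (a b : A ⟶ V), (yon S).map a ≫ f = (yon S).map b ≫ f →
      (∀ t, Points.ofPt ((yon S).map a ≫ f) t ∈ Set.range (Points.map i)) → a = b)
    (fst : P ⟶ T) (snd : P ⟶ (yon S).obj V) (sq : IsPullback fst snd i f) : IsIso fst := by
  have hfst : RepWith @Etale fst := MorphismProperty.of_isPullback sq.flip hf
  refine isIso_of_forall_yon _ fun A x => ?_
  obtain ⟨Q, l, g, sqQ⟩ := hfst.1 x
  have sq' := sqQ.paste_horiz sq.flip
  have : Etale l.left := hfst.2 _ _ _ sqQ
  obtain ⟨r, hr⟩ := (yon S).map_surjective (g ≫ snd)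
  rw [← hr] at sq'
  have : Mono l := ⟨fun {B} a b hab => by
    have h1 : a ≫ r = b ≫ r := by
      refine hinj B _ _ ?_ fun t => ?_
      · rw [Functor.map_comp, Functor.map_comp, Category.assoc, Category.assoc, sq'.w, ← Category.assoc,
          ← Category.assoc, ← Category.assoc, ← Category.assoc, ← Functor.map_comp, ← Functor.map_comp, hab]
      · rw [Functor.map_comp, Category.assoc, sq'.w, ← Category.assoc, ← Category.assoc, ← Points.map_ofPt]
        exact ⟨_, rfl⟩
    exact (yon S).map_injective (sq'.hom_ext (by rw [← Functor.map_comp, ← Functor.map_comp, h1])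
      (by rw [← Functor.map_comp, ← Functor.map_comp, hab]))⟩
  have : Mono l.left := inferInstanceAs (Mono ((Over.forget S).map l))
  have : IsOpenImmersion l.left := IsOpenImmersion.of_flat_of_mono _
  have : Surjective l.left := ⟨fun t => by
    obtain ⟨v, hv⟩ := hsub ⟨Points.ofPt x t, rfl⟩
    rw [Points.map_ofPt] at hv
    obtain ⟨w, -, hw⟩ := (ofPt_eq_ofPt_iff sq' v t).1 hv
    exact ⟨w, hw⟩⟩
  have : IsIso l.left := by
    rw [isIso_iff_isOpenImmersion_and_epi_base]
    exact ⟨inferInstance, (TopCat.epi_iff_surjective _).2 l.left.surjective⟩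
  have : IsIso ((Over.forget S).map l) := (inferInstance : IsIso l.left)
  have : IsIso l := isIso_of_reflects_iso l (Over.forget S)
  refine ⟨(yon S).map (inv l) ≫ g, ?_, fun y hy => ?_⟩
  · change ((yon S).map (inv l) ≫ g) ≫ fst = x
    rw [Category.assoc, sqQ.w, ← Category.assoc, ← Functor.map_comp, IsIso.inv_hom_id,
      CategoryTheory.Functor.map_id, Category.id_comp]
  · obtain ⟨z, hz1, hz2⟩ := sqQ.exists_lift y (𝟙 _) (by rw [Category.id_comp]; exact hy)
    have : z = (yon S).map (inv l) := by
      rw [← cancel_mono ((yon S).map l), hz2, ← Functor.map_comp, IsIso.inv_hom_id,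
        CategoryTheory.Functor.map_id]
    rw [← hz1, this]

/-- The filtration of an algebraic space by the loci of tuples of an affine chart. -/
theorem exists_filtration {X : Space S} {U : Over S} [IsAffine U.left] (p : (yon S).obj U ⟶ X.obj)
    (hp : RepWith @Etale p) (hs : RepWith @Surjective p) :
    ∃ (Uo : ℕ → Space S) (j : ∀ n, Uo n ⟶ X) (k : ∀ n, Uo (n + 1) ⟶ Uo n) (T : ℕ → Space S)
      (i : ∀ n, T n ⟶ Uo n),
      (∀ n, RepWith @IsOpenImmersion (j n).hom) ∧ (∀ n, k n ≫ j n = j (n + 1)) ∧
      (∀ n, Set.range (Points.map (j n).hom) = tupleLocus p n) ∧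
      (∀ n, IsRedInduced (Set.range (Points.map (k n).hom))ᶜ (i n).hom) ∧
      (∀ n, 1 ≤ n → ∃ (V : Over S) (f : (yon S).obj V ⟶ (Uo n).obj), V.left.IsSeparated ∧
        (RepWith @QuasiCompact p → CompactSpace V.left) ∧ RepWith @Etale f ∧ RepWith @Surjective f ∧
        ∀ (P : Sp S) (fst : P ⟶ (T n).obj) (snd : P ⟶ (yon S).obj V),
          IsPullback fst snd (i n).hom f → IsIso fst) := by
  have hopen : ∀ n, IsOpen (tupleLocus p n) := fun n => by
    obtain _ | n := n
    · rw [tupleLocus_zero hs]; exact isOpen_univ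
    · obtain ⟨M, m, hm, -, hr, -, -⟩ := exists_stratum_chart X.property hp n
      rw [← hr, ← Set.image_univ]
      exact isOpenMap_ofPt hm _ isOpen_univ
  choose Uo j hj hjr using fun n => exists_openSubspace X (hopen n)
  have hk : ∀ n, ∃ k : Uo (n + 1) ⟶ Uo n, k ≫ j n = j (n + 1) := fun n => by
    obtain ⟨k, hk⟩ := (exists_factor_isOpenImmersion_iff (hj n) (g := (j (n + 1)).hom)).2
      ((hjr (n + 1)).le.trans ((tupleLocus_succ_subset p n).trans (hjr n).ge))
    exact ⟨ObjectProperty.homMk k, ObjectProperty.hom_ext _ hk⟩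
  choose k hk using hk
  have hkopen : ∀ n, IsClosed (Set.range (Points.map (k n).hom))ᶜ := fun n => by
    have : Set.range (Points.map (k n).hom) = Points.map (j n).hom ⁻¹' tupleLocus p (n + 1) := by
      have := mono_of_isOpenImmersion (hj n)
      rw [← hjr (n + 1), ← hk n]
      ext x
      constructor
      · rintro ⟨y, rfl⟩
        exact ⟨y, Points.map_comp (k n).hom (j n).hom y⟩
      · rintro ⟨y, hy⟩
        exact ⟨y, injective_map_of_mono (j n).hom ((Points.map_comp (k n).hom (j n).hom y).symm.trans hy)⟩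
    rw [isClosed_compl_iff, this]
    exact (hopen _).preimage (Points.continuous_map _)
  choose Z i hZ hi using fun n => exists_redInduced (Uo n).property _ (hkopen n)
  refine ⟨Uo, j, k, fun n => ⟨Z n, hZ n⟩, fun n => ObjectProperty.homMk (i n), hj, hk, hjr, hi, fun n hn => ?_⟩
  obtain ⟨n, rfl⟩ : ∃ n', n = n' + 1 := ⟨n - 1, by omega⟩
  obtain ⟨M, m, hm, hsep, hr, hcpt, hinj⟩ := exists_stratum_chart X.property hp n
  obtain ⟨f, hf, hfe, hfs⟩ := repWith_lift_openImmersion (j (n + 1)) (hj _) m hm (hr.trans (hjr _).symm)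
  refine ⟨M, f, hsep, hcpt.1, hfe, hfs, fun P fst snd sq => ?_⟩
  refine isIso_fst_of_injOn f hfe (i (n + 1)) (fun x _ => surjective_ofPt hfs x) (fun A a b hab hout => ?_) fst snd sq
  refine hinj A a b (by rw [← hf, ← Category.assoc, hab, Category.assoc]) fun t ht => ?_
  have h1 := hout t
  rw [(hi (n + 1)).2.1] at h1
  apply h1
  rw [← hjr, ← hf, ← Category.assoc, ← Points.map_ofPt] at ht
  obtain ⟨y, hy⟩ := ht
  have := mono_of_isOpenImmersion (hj (n + 1))
  refine ⟨y, injective_map_of_mono (j (n + 1)).hom ?_⟩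
  rw [← hy, ← hk (n + 1)]
  exact (Points.map_comp (k (n + 1)).hom (j (n + 1)).hom y).symm

/-- An algebraic space with a quasi-compact structure has an affine etale cover. -/
theorem exists_affine_atlas (X : Space S) (hX : IsQuasiCompactSp X.obj) :
    ∃ (U : Over S) (p : (yon S).obj U ⟶ X.obj), IsAffine U.left ∧ RepWith @Etale p ∧ RepWith @Surjective p := by
  obtain ⟨U, p, hp, hs⟩ := X.property.atlas
  have := compactSpace_points_of_isQuasiCompactSp hX
  obtain ⟨V, g, hV, he, hsur⟩ := exists_affine_chart_of_compactSpace hp hs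
  exact ⟨V, _, hV, he, hsur⟩

end Groth.Agent.AlgSpEN
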