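import Groth.Agent.AlgSpEN.SerreGen
import Groth.Agent.AlgSp.IdealEtLib
import Groth.Agent.AlgSpQC.SupportIdeal
import Groth.Agent.S10079
import Groth.Agent.S10201
import Groth.Agent.S10350
import Groth.Agent.S10356
import Groth.Agent.S9991
import Groth.Agent.AlgSpB.RedInduced

/-!
# Quasi-coherent modules without invariant sections vanish
-/

set_option autoImplicit false
universe u

open CategoryTheory CategoryTheory.Limits AlgebraicGeometry Opposite TensorProduct

set_option backward.isDefEq.respectTransparency false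
set_option backward.isDefEq.respectTransparency.types false

noncomputable section

namespace Groth.Agent.AlgSpEN.SerreC

open _root_.AlgSp Groth.Agent.AlgSpQC

variable {S : Scheme.{u}} {X : AlgSp.Space S} {U : EtOver X.obj}

theorem exists_finiteType_sub [QuasiSeparatedSpace ↥S] (hqc : IsQuasiCompactSp X.obj)
    (hqs : IsQuasiSeparatedSp X.obj) [IsAffine U.obj.left.left] (hU : Covers U) {Q : ModEt X.obj}
    [Q.IsQuasicoherent] {q : sectModEt Q U} (hq : q ≠ 0) :
    ∃ (G : ModEt X.obj) (ι : G ⟶ Q), Mono ι ∧ G.IsQuasicoherent ∧ G.IsFiniteType ∧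
      ∃ y : sectModEt G U, y ≠ 0 := by
  let P : ObjectProperty (Subobject Q) := fun N =>
    (Subobject.underlying.obj N).IsQuasicoherent ∧ (Subobject.underlying.obj N).IsFiniteType
  let ι : P.ι ⋙ Subobject.underlying ⟶ (Functor.const P.FullSubcategory).obj Q :=
    { app := fun N => N.obj.arrow
      naturality := fun N N' f => (Subobject.underlying_arrow _).trans (Category.comp_id _).symm }
  obtain ⟨-, ⟨hc⟩⟩ := S10079.result X hqc hqs Q P rfl ι fun N => rfl
  by_contra! h
  apply hq
  have hid : 𝟙 Q = 0 := hc.hom_ext fun N => by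
    have := N.property.1
    have hz : N.obj.arrow = 0 := by
      ext E y
      change hs N.obj.arrow E.unop y = 0
      rw [sect_eq_zero hU (h _ N.obj.arrow inferInstance N.property.1 N.property.2) E.unop y]
      exact map_zero _
    change N.obj.arrow ≫ 𝟙 Q = N.obj.arrow ≫ 0
    rw [hz, zero_comp, zero_comp]
  exact congrArg (fun k : Q ⟶ Q => hs k U q) hid

theorem exists_kernel_hs_of_cokernel {K M : ModEt X.obj} (ι : K ⟶ M) [Mono ι] {E : EtOver X.obj}
    (m : sectModEt M E) (h : hs (cokernel.π ι) E m = 0) : ∃ y, hs ι E y = m := by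
  have hι' : IsLimit (KernelFork.ofι ι (cokernel.condition ι)) :=
    ((ShortComplex.exact_and_mono_f_iff_f_is_kernel (ShortComplex.mk ι (cokernel.π ι) (cokernel.condition ι))).1
      ⟨ShortComplex.exact_of_g_is_cokernel _ (cokernelIsCokernel ι), ‹Mono ι›⟩).some
  obtain ⟨y', hy'⟩ := exists_hs_kernel_ι (cokernel.π ι) m h
  exact ⟨hs (hι'.lift (KernelFork.ofι (kernel.ι (cokernel.π ι)) (kernel.condition _))) E y',
    (congrArg (fun k : kernel (cokernel.π ι) ⟶ M => hs k E y') (Fork.IsLimit.lift_ι' hι' _ _)).trans hy'⟩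

theorem tmul_eq_zero_of_flat {A B N : Type*} [CommRing A] [CommRing B] [Algebra A B] [AddCommGroup N] [Module A N]
    [Module.Flat A B] (n : N) {t : B} (h : t ⊗ₜ[A] n = 0) :
    t ∈ Ideal.map (algebraMap A B) (LinearMap.ker (LinearMap.toSpanSingleton A N n)) := by
  let f := LinearMap.toSpanSingleton A N n
  let I : Ideal A := LinearMap.ker f
  have hex : Function.Exact (LinearMap.lTensor B I.subtype) (LinearMap.lTensor B f) :=
    Module.Flat.lTensor_exact B (LinearMap.exact_subtype_ker_map f)
  obtain ⟨x, hx⟩ := (hex (t ⊗ₜ[A] (1 : A))).1 (by rw [LinearMap.lTensor_tmul]; simpa [f] using h)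
  have key : ∀ x : B ⊗[A] I, TensorProduct.rid A B (LinearMap.lTensor B I.subtype x) ∈
      Ideal.map (algebraMap A B) I := fun x => by
    induction x using TensorProduct.induction_on with
    | zero => simp
    | add a b ha hb => rw [map_add, map_add]; exact Ideal.add_mem _ ha hb
    | tmul b i =>
      rw [LinearMap.lTensor_tmul, TensorProduct.rid_tmul, Algebra.smul_def]
      exact Ideal.mul_mem_right _ _ (Ideal.mem_map_of_mem _ i.2)
  have := key x
  rwa [hx, TensorProduct.rid_tmul, one_smul] at this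

/-- Support membership transfers between two pullbacks. -/
theorem ann_le_of_pullback {G : ModEt X.obj} [G.IsQuasicoherent] [IsAffine U.obj.left.left]
    [Module.Finite (gr U) (sectModEt G U)] {V : EtOver X.obj} [IsAffine V.obj.left.left] (a c : V ⟶ U)
    (r : V.obj.left.left)
    (h : Module.annihilator (gr U) (sectModEt G U) ≤ primeAtPt U.obj.left.left (a.hom.left.left r)) :
    Module.annihilator (gr U) (sectModEt G U) ≤ primeAtPt U.obj.left.left (c.hom.left.left r) := by
  have hV : Module.annihilator (gr V) (sectModEt G V) ≤ primeAtPt V.obj.left.left r := by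
    intro t ht
    obtain ⟨s, hs⟩ := Module.Finite.fg_top (R := gr U) (M := sectModEt G U)
    have hann : Module.annihilator (gr U) (sectModEt G U) =
        s.inf fun n => LinearMap.ker (LinearMap.toSpanSingleton (gr U) (sectModEt G U) n) := by
      ext x
      rw [Module.mem_annihilator, Submodule.mem_finsetInf]
      refine ⟨fun hx n _ => hx n, fun hx m => ?_⟩
      have hm : m ∈ Submodule.span (gr U) (s : Set (sectModEt G U)) := hs ▸ Submodule.mem_top
      induction hm using Submodule.span_induction with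
      | mem y hy => exact hx y hy
      | zero => exact smul_zero x
      | add y z _ _ hy hz => rw [smul_add, hy, hz, add_zero]
      | smul b y _ hy => rw [smul_comm, hy, smul_zero]
    rw [hann] at h
    obtain ⟨n, -, hn⟩ := (Ideal.IsPrime.inf_le' (isPrime_primeAtPt _ _)).1 h
    let _ := (gm a).toAlgebra
    have : Module.Flat (gr U) (gr V) := flat_gm a
    have hbc := (isBC_iff (A := gr U) (rs G a) (rs_smul a)).1 (bc_of_isQuasicoherent a)
    have h0 : t ⊗ₜ[gr U] n = (0 : gr V ⊗[gr U] sectModEt G U) := hbc.1 (by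
      rw [map_zero, bc_tmul]
      exact Module.mem_annihilator.1 ht _)
    have hmem := tmul_eq_zero_of_flat n h0
    refine (Ideal.map_le_iff_le_comap.2 ?_) hmem
    intro y hy'
    have := hn hy'
    rw [← primeAtPt_comap] at this
    exact this
  intro g hg
  rw [← primeAtPt_comap]
  refine hV (Module.mem_annihilator.2 fun m => ?_)
  have hm := rs_mem_span_range c m
  induction hm using Submodule.span_induction with
  | mem y hy =>
    obtain ⟨e, rfl⟩ := hy
    rw [← rs_smul, Module.mem_annihilator.1 hg e, map_zero]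
  | zero => exact smul_zero _
  | add y z _ _ hy hz => rw [smul_add, hy, hz, add_zero]
  | smul b y _ hy => rw [smul_comm, hy, smul_zero]

/-- Points of the atlas with the same image are simultaneously in the support. -/
theorem ann_le_of_ofPt_eq {G : ModEt X.obj} [G.IsQuasicoherent] [IsAffine U.obj.left.left]
    [Module.Finite (gr U) (sectModEt G U)] {p v : U.obj.left.left}
    (h : Module.annihilator (gr U) (sectModEt G U) ≤ primeAtPt U.obj.left.left p)
    (e : Points.ofPt U.obj.hom v = Points.ofPt U.obj.hom p) :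
    Module.annihilator (gr U) (sectModEt G U) ≤ primeAtPt U.obj.left.left v := by
  let R := EtOver.prodObj U U
  have sq : IsPullback ((yon S).map (U.property.1.fst' U.obj.hom)) ((yon S).map (U.property.1.snd U.obj.hom))
      U.obj.hom U.obj.hom := by
    rw [Functor.relativelyRepresentable.map_fst']
    exact U.property.1.isPullback U.obj.hom
  obtain ⟨r, hr₁, hr₂⟩ := (AlgSpB.ofPt_eq_ofPt_iff sq v p).1 e
  obtain ⟨O, hO, hrO, -⟩ := exists_isAffineOpen_mem_and_subset (U := (⊤ : R.obj.left.left.Opens)) (x := r) trivial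
  have : IsAffine (PushIntegral.piece R O).obj.left.left := hO
  have e1 : (PushIntegral.pieceHom R O ≫ EtOver.prodFst U U).hom.left.left ⟨r, hrO⟩ = p := hr₂
  have e2 : (PushIntegral.pieceHom R O ≫ EtOver.prodSnd U U).hom.left.left ⟨r, hrO⟩ = v := hr₁
  rw [← e1] at h
  rw [← e2]
  exact ann_le_of_pullback _ _ _ h

/-- The submodule of multiples by an ideal family. -/
def idealSub (I : IdealEt X.obj) (M : ModEt X.obj) (E : EtOver X.obj) : Submodule (gr E) (sectModEt M E) where
  carrier := {m | ∀ (V : EtOver X.obj) (a : V ⟶ E) (hV : IsAffine V.obj.left.left),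
    rs M a m ∈ I.ideal V hV • (⊤ : Submodule (gr V) (sectModEt M V))}
  add_mem' h h' V a hV := by rw [map_add]; exact Submodule.add_mem _ (h V a hV) (h' V a hV)
  zero_mem' V a hV := by rw [map_zero]; exact Submodule.zero_mem _
  smul_mem' r m h V a hV := by rw [rs_smul]; exact Submodule.smul_mem _ _ (h V a hV)

theorem rs_mem_smul_top (I : IdealEt X.obj) {M : ModEt X.obj} {E V : EtOver X.obj} (hE : IsAffine E.obj.left.left)
    (hV : IsAffine V.obj.left.left) (a : V ⟶ E) {m : sectModEt M E}
    (h : m ∈ I.ideal E hE • (⊤ : Submodule (gr E) (sectModEt M E))) :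
    rs M a m ∈ I.ideal V hV • (⊤ : Submodule (gr V) (sectModEt M V)) := by
  refine Submodule.smul_induction_on h (fun r hr n _ => ?_) fun x y hx hy => ?_
  · rw [rs_smul]
    exact Submodule.smul_mem_smul (I.map_le a hE hV (Ideal.mem_map_of_mem _ hr)) trivial
  · rw [map_add]; exact Submodule.add_mem _ hx hy

theorem idealSub_affine {I : IdealEt X.obj} {M : ModEt X.obj} {E : EtOver X.obj}
    (hE : IsAffine E.obj.left.left) {m : sectModEt M E} :
    m ∈ idealSub I M E ↔ m ∈ I.ideal E hE • (⊤ : Submodule (gr E) (sectModEt M E)) := by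
  refine ⟨fun h => ?_, fun h V a hV => rs_mem_smul_top I hE hV a h⟩
  have := h E (𝟙 E) hE
  rwa [rs_id] at this

theorem smul_top_le_span {I : IdealEt X.obj} (hI : I.IsQCoh) {M : ModEt X.obj} [M.IsQuasicoherent]
    {E W : EtOver X.obj} (hE : IsAffine E.obj.left.left) (hW : IsAffine W.obj.left.left) (g : W ⟶ E) :
    I.ideal W hW • (⊤ : Submodule (gr W) (sectModEt M W)) ≤
      Submodule.span (gr W) (rs M g '' (I.ideal E hE • (⊤ : Submodule (gr E) (sectModEt M E)) :
        Submodule (gr E) (sectModEt M E))) := by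
  refine Submodule.smul_le.2 fun r hr n htn => ?_
  clear htn
  have hn := rs_mem_span_range g n
  induction hn using Submodule.span_induction with
  | mem y hy =>
    obtain ⟨e, rfl⟩ := hy
    have hr' := hI g hE hW hr
    rw [Ideal.map] at hr'
    clear hr
    induction hr' using Submodule.span_induction with
    | mem b hb =>
      obtain ⟨b, hb, rfl⟩ := hb
      exact Submodule.subset_span ⟨b • e, Submodule.smul_mem_smul hb trivial, rs_smul g b e⟩
    | zero => rw [zero_smul]; exact Submodule.zero_mem _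
    | add b b' _ _ hb hb' => rw [add_smul]; exact Submodule.add_mem _ hb hb'
    | smul b b' _ hb => rw [smul_eq_mul, mul_smul]; exact Submodule.smul_mem _ _ hb
  | zero => rw [smul_zero]; exact Submodule.zero_mem _
  | add y z _ _ hy hz => rw [smul_add]; exact Submodule.add_mem _ hy hz
  | smul b y _ hy => rw [smul_comm]; exact Submodule.smul_mem _ _ hy

theorem idealSub_local {I : IdealEt X.obj} (hI : I.IsQCoh) {M : ModEt X.obj} [M.IsQuasicoherent]
    (E : EtOver X.obj) (T : Sieve E) (hT : T ∈ etTop X.obj E) (m : sectModEt M E)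
    (h : ∀ (V : EtOver X.obj) (f : V ⟶ E), T f → rs M f m ∈ idealSub I M V) : m ∈ idealSub I M E := by
  intro V a hV
  have := hV
  obtain ⟨κ, _, W, f, hW, hTf, hf⟩ := exists_affine_family ((etTop X.obj).pullback_stable a hT)
  refine mem_of_local _ (AlgSp.ofArrows_mem_etTop W f hf) fun Z g hg => ?_
  obtain ⟨k, α, rfl⟩ := Sieve.mem_ofArrows_iff .. |>.1 hg
  have := hW k
  have hk : rs M (f k) (rs M a m) ∈ I.ideal (W k) (hW k) • (⊤ : Submodule (gr (W k)) (sectModEt M (W k))) := by
    have := h (W k) (f k ≫ a) (hTf k) (W k) (𝟙 _) (hW k)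
    rwa [rs_id, rs_comp] at this
  rw [rs_comp]
  have h' := smul_top_le_span hI hV (hW k) (f k) hk
  generalize rs M (f k) (rs M a m) = y at h'
  induction h' using Submodule.span_induction with
  | mem y hy =>
    obtain ⟨e, he, rfl⟩ := hy
    exact Submodule.subset_span ⟨e, he, rs_comp _ _ e⟩
  | zero => rw [map_zero]; exact Submodule.zero_mem _
  | add y z _ _ hy hz => rw [map_add]; exact Submodule.add_mem _ hy hz
  | smul b y _ hy => rw [rs_smul]; exact Submodule.smul_mem _ _ hy

/-- A quotient by an ideal family. -/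
theorem exists_quot {I : IdealEt X.obj} (hI : I.IsQCoh) (M : ModEt X.obj) [M.IsQuasicoherent] :
    ∃ (P : ModEt X.obj) (π : M ⟶ P), P.IsQuasicoherent ∧ Epi π ∧
      ∀ (E : EtOver X.obj) (hE : IsAffine E.obj.left.left) (m : sectModEt M E),
        hs π E m = 0 ↔ m ∈ I.ideal E hE • (⊤ : Submodule (gr E) (sectModEt M E)) := by
  obtain ⟨K, ι, hι, hK⟩ := exists_subSheaf (M := M) (fun E => idealSub I M E)
    (fun g m hm V a hV => by rw [← rs_comp]; exact hm V (a ≫ g) hV) (idealSub_local hI)
  have := hι
  have : K.IsQuasicoherent := isQuasicoherent_sub ι fun E W g hE hW m => by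
    refine ⟨⊤, (etTop X.obj).top_mem W, fun V f _ => ?_⟩
    have h := smul_top_le_span hI hE hW g ((idealSub_affine hW).1 ((hK W _).1 ⟨m, rfl⟩))
    have key : m ∈ Submodule.span (gr W) (Set.range (rs K g)) := by
      rw [← Submodule.apply_mem_span_image_iff_mem_span (hs_injective ι W)]
      refine Submodule.span_mono ?_ h
      rintro _ ⟨e, he, rfl⟩
      obtain ⟨e', rfl⟩ := (hK E e).2 ((idealSub_affine hE).2 he)
      exact ⟨rs K g e', ⟨e', rfl⟩, hs_rs ι g e'⟩
    clear h
    induction key using Submodule.span_induction with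
    | mem x hx =>
      obtain ⟨e, rfl⟩ := hx
      exact Submodule.subset_span ⟨e, rs_comp g f e⟩
    | zero => rw [map_zero]; exact Submodule.zero_mem _
    | add x y _ _ hx hy => rw [map_add]; exact Submodule.add_mem _ hx hy
    | smul r x _ hx => rw [rs_smul]; exact Submodule.smul_mem _ _ hx
  refine ⟨cokernel ι, cokernel.π ι, isQuasicoherent_cokernel ι, inferInstance, fun E hE m => ?_⟩
  rw [← idealSub_affine hE, ← hK E m]
  refine ⟨fun h => ?_, ?_⟩
  · obtain ⟨y, hy⟩ := exists_kernel_hs_of_cokernel ι m h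
    exact ⟨y, hy⟩
  · rintro ⟨y, rfl⟩
    rw [← hs_comp, cokernel.condition]
    rfl

/-- Quasi-coherent modules without invariant sections vanish on the atlas. -/
theorem faithful [QuasiSeparatedSpace ↥S] (hqc : IsQuasiCompactSp X.obj) (hqs : IsQuasiSeparatedSp X.obj)
    [IsAffine U.obj.left.left] (hU : Covers U) (hL : Lifts U) : Faithful U := by
  intro Q hQ hz q
  by_contra hq
  obtain ⟨G, ι, hι, hGq, hGf, y, hy⟩ := exists_finiteType_sub hqc hqs hU hq
  have := finite_sections (M := G) U
  -- a closed point below the support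
  obtain ⟨p, hp⟩ : ∃ p, Module.annihilator (gr U) (sectModEt G U) ≤ primeAtPt U.obj.left.left p := by
    have hne : Module.annihilator (gr U) (sectModEt G U) ≠ ⊤ := fun h =>
      hy (by simpa using Module.mem_annihilator.1 ((Ideal.eq_top_iff_one _).1 h) y)
    obtain ⟨m, hm, hle⟩ := Ideal.exists_le_maximal _ hne
    obtain ⟨p, hp⟩ := exists_primeAtPt_eq (U := U.obj.left.left) m (hp := hm.isPrime)
    exact ⟨p, hp.symm ▸ hle⟩
  have : SpectralSpace (Points X.obj) := S10201.result X hqc hqs
  obtain ⟨x, hx, hxc⟩ := (isClosed_closure (s := {Points.ofPt U.obj.hom p})).exists_closed_singleton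
    (closure_nonempty_iff.2 (Set.singleton_nonempty _))
  obtain ⟨u, hu⟩ := hU x
  have hu' : Module.annihilator (gr U) (sectModEt G U) ≤ primeAtPt U.obj.left.left u := by
    intro t ht
    by_contra htu
    let O : U.obj.left.left.Opens := U.obj.left.left.basicOpen t
    have hmem : ∀ w, w ∈ O ↔ t ∉ primeAtPt U.obj.left.left w := fun w => by
      rw [primeAtPt, Ideal.mem_comap, IsLocalRing.mem_maximalIdeal, mem_nonunits_iff, not_not]
      exact Scheme.mem_basicOpen _ t w trivial
    have hop : IsOpen (Points.ofPt U.obj.hom '' (O : Set U.obj.left.left)) :=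
      AlgSpB.isOpenMap_ofPt U.property _ O.2
    obtain ⟨_, ⟨v, hv, hve⟩, hvp⟩ := mem_closure_iff.1 hx _ hop ⟨u, (hmem u).2 htu, hu⟩
    rw [Set.mem_singleton_iff] at hvp
    exact (hmem v).1 hv (ann_le_of_ofPt_eq hp (hve.trans hvp) ht)
  -- the reduced closed point
  obtain ⟨Z, i, hZ, hi, hir, hZred⟩ := AlgSpB.exists_redInduced X.property {x} hxc
  let Z' : AlgSp.Space S := ⟨Z, hZ⟩
  let i' : Z' ⟶ X := ObjectProperty.homMk i
  let I := idealOfRep hi.1
  have hI : I.IsQCoh := Groth.Agent.AlgSp.IdealEtLib.isQCoh_idealOfRep hi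
  have hcut : IsCutOutBy I i'.hom := ⟨hi, rfl⟩
  have : Subsingleton (Points Z) := by
    have := AlgSpB.mono_of_isClosedImmersion hi
    refine ⟨fun a b => AlgSpB.injective_map_of_mono i ?_⟩
    have ha : Points.map i a ∈ ({x} : Set (Points X.obj)) := hir ▸ ⟨a, rfl⟩
    have hb : Points.map i b ∈ ({x} : Set (Points X.obj)) := hir ▸ ⟨b, rfl⟩
    exact ha.trans hb.symm
  have : Nonempty (Points Z) := by
    obtain ⟨a, -⟩ : x ∈ Set.range (Points.map i) := hir ▸ Set.mem_singleton x
    exact ⟨a⟩
  obtain ⟨k, _, str, ⟨e⟩⟩ := S10356.result Z'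
    (AlgSpD.isDecent_of_representable i hi.1 (S10350.result X hqs)) hZred
  -- the quotient
  obtain ⟨P, π, hPq, hπ, hπker⟩ := exists_quot hI G
  have hP0 : ∀ n : sectModEt P U, Inv P n → n = 0 := fun n hn => by
    obtain ⟨m, hm, rfl⟩ := hL hGq hPq π n hn (hs_surjective π U n)
    have : m = 0 := hs_injective ι U (by rw [hz _ (inv_hs ι hm), map_zero])
    rw [this, map_zero]
  obtain ⟨-, hess⟩ := S9991.result i' hi I hcut
  obtain ⟨G', hG', ⟨φ⟩⟩ := hess P hPq fun E hE s a ha => by
    obtain ⟨m, rfl⟩ := hs_surjective π E s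
    rw [annSect_eq]
    exact Submodule.mem_colon_singleton.2 ((Submodule.mem_bot _).2
      ((map_smul (hs π E) a m).symm.trans ((hπker E hE _).2 (Submodule.smul_mem_smul ha trivial))))
  -- the final object of the point
  have hT : IsAffine (Over.mk str : Over S).left := inferInstanceAs (IsAffine (Spec _))
  let E₀ : EtOver Z := EtOver.mk e.hom (MorphismProperty.of_isIso _ e.hom)
  have : IsAffine E₀.obj.left.left := hT
  have hto : ∀ W : EtOver Z, Nonempty (W ⟶ E₀) := fun W => by
    obtain ⟨w, hw⟩ := (yon S).map_surjective (W.obj.hom ≫ e.inv)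
    exact ⟨EtOver.homMk w (by change (yon S).map w ≫ e.hom = _; rw [hw, Category.assoc, e.inv_hom_id, Category.comp_id])⟩
  have huniq : ∀ (W : EtOver Z) (f g : W ⟶ E₀), f = g := fun W f g => EtOver.hom_ext _ _ ((yon S).map_injective
    ((cancel_mono e.hom).1 ((EtOver.w f).trans (EtOver.w g).symm)))
  obtain ⟨v⟩ := hto (bcO hi.1 U)
  have hB : IsAffine (bcO hi.1 U).obj.left.left := by
    have hc : IsClosedImmersion (EtOver.bcπ hi.1 U).left := hi.2 _ _ _ (hi.1.isPullback U.obj.hom)
    exact isAffine_of_isAffineHom (EtOver.bcπ hi.1 U).left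
  have hvz : ∀ τ : sectModEt G' E₀, hs φ.hom U ((pushSect hi.1 G' U).symm (rs G' v τ)) = 0 := fun τ => by
    refine hP0 _ (inv_hs φ.hom fun W a b => ?_)
    refine (pushSect hi.1 G' W).injective ?_
    rw [pushSect_rs, pushSect_rs, AddEquiv.apply_symm_apply, ← rs_comp, ← rs_comp,
      huniq _ (bcM hi.1 a ≫ v) (bcM hi.1 b ≫ v)]
  have hPz : ∀ n : sectModEt P U, n = 0 := fun n => by
    have h0 : ∀ τ, rs G' v τ = 0 := fun τ => by
      have := hs_injective φ.hom U ((hvz τ).trans (map_zero (hs φ.hom U)).symm)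
      exact (AddEquiv.apply_symm_apply (pushSect hi.1 G' U) _).symm.trans
        ((congrArg (pushSect hi.1 G' U) this).trans (map_zero _))
    have hall : ∀ w : sectModEt G' (bcO hi.1 U), w = 0 := fun w => by
      have hw := rs_mem_span_range v w
      rw [show Set.range (rs G' v) = {0} from Set.eq_singleton_iff_unique_mem.2
        ⟨⟨0, map_zero _⟩, by rintro _ ⟨τ, rfl⟩; exact h0 τ⟩, Submodule.span_singleton_eq_bot.2 rfl] at hw
      exact (Submodule.mem_bot _).1 hw
    have hn : hs φ.inv U n = 0 := (pushSect hi.1 G' U).injective ((hall _).trans (map_zero _).symm)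
    have := congrArg (hs φ.hom U) hn
    rwa [← hs_comp, φ.inv_hom_id, map_zero] at this
  have htop : I.ideal U ‹_› • (⊤ : Submodule (gr U) (sectModEt G U)) = ⊤ :=
    eq_top_iff.2 fun m _ => (hπker U ‹_› m).1 (hPz _)
  obtain ⟨r, hr1, hr0⟩ := Submodule.exists_sub_one_mem_and_smul_eq_zero_of_fg_of_le_smul (I.ideal U ‹_›) ⊤
    (Module.Finite.fg_top) htop.ge
  have hru : r ∈ primeAtPt U.obj.left.left u :=
    hu' (Module.mem_annihilator.2 fun m => hr0 m Submodule.mem_top)
  have hIu : I.ideal U ‹_› ≤ primeAtPt U.obj.left.left u :=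
    (mem_range_iff_le_primeAtPt i' I hcut U ‹_› u).1 (hu ▸ (hir.symm ▸ Set.mem_singleton x))
  exact (isPrime_primeAtPt U.obj.left.left u).ne_top ((Ideal.eq_top_iff_one _).2
    (by simpa using Ideal.sub_mem _ hru (hIu hr1)))

end Groth.Agent.AlgSpEN.SerreC
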