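import Groth.Agent.AlgSpEN.SerreAffine
import Groth.Agent.AlgSpEN.SerreFaithful
import Groth.Agent.AlgSpEN.StrataSq
import Groth.Agent.AlgSpQC.Abelian
import Groth.Agent.AlgSpQC.Coherent

/-!
# The criterion of affineness by vanishing of `H^1`
-/

set_option autoImplicit false
universe u

open CategoryTheory CategoryTheory.Limits AlgebraicGeometry Opposite

set_option backward.isDefEq.respectTransparency false
set_option backward.isDefEq.respectTransparency.types false

noncomputable section

namespace Groth.Agent.AlgSpEN.SerreC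

open _root_.AlgSp Groth.Agent.AlgSpQC

variable {S : Scheme.{u}} {X : AlgSp.Space S}

theorem isQuasicoherent_kernel_factor {M N : ModEt X.obj} [M.IsQuasicoherent] [N.IsQuasicoherent] (π : M ⟶ N) :
    (kernel (factorThruImage π)).IsQuasicoherent := by
  have e : kernel π ≅ kernel (factorThruImage π) :=
    kernelIsoOfEq (image.fac π).symm ≪≫ kernelCompMono _ _
  have := isQuasicoherent_kernel π
  exact (SheafOfModules.isQuasicoherent (R := OEtRing X.obj)).prop_of_iso e this

/-- Lifting of an invariant section in an image. -/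
theorem exists_inv_lift {U : EtOver X.obj} (hU : Covers U) {M N : ModEt X.obj} (π : M ⟶ N)
    (h : Subsingleton (HModEt X.obj (kernel (factorThruImage π)) 1)) {n : sectModEt N U} (hn : Inv N n)
    (m₀ : sectModEt M U) (hm : hs π U m₀ = n) : ∃ m, Inv M m ∧ hs π U m = n := by
  have hπ : ∀ m, hs (image.ι π) U (hs (factorThruImage π) U m) = hs π U m := fun m => by
    rw [← hs_comp, image.fac]
  have hi : Inv (image π) (hs (factorThruImage π) U m₀) :=
    inv_of_mono (image.ι π) (by rw [hπ, hm]; exact hn)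
  obtain ⟨m, hmi, hme⟩ := exists_lift_of_h1 hU (factorThruImage π) h hi
  exact ⟨m, hmi, by rw [← hπ, hme, hπ, hm]⟩

/-- An affine atlas. -/
theorem exists_atlas (hqc : IsQuasiCompactSp X.obj) :
    ∃ U : EtOver X.obj, IsAffine U.obj.left.left ∧ Covers U ∧ RepWith @Surjective U.obj.hom := by
  obtain ⟨U, p, hU, hp, hs⟩ := exists_affine_atlas X hqc
  exact ⟨EtOver.mk p hp, hU, fun x => AlgSpB.surjective_ofPt hs x, hs⟩

theorem lifts_of_h1 {U : EtOver X.obj} (hU : Covers U)
    (h1 : ∀ M : ModEt X.obj, M.IsQuasicoherent → Subsingleton (HModEt X.obj M 1)) : Lifts U :=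
  fun M N hM hN π n hn ⟨m, hm⟩ => exists_inv_lift hU π (h1 _ (isQuasicoherent_kernel_factor π)) hn m hm

theorem lifts_of_h1_coherent [QuasiSeparatedSpace ↥S] (hqs : IsQuasiSeparatedSp X.obj) (hN : IsLocNoethSp X.obj)
    {U : EtOver X.obj} [IsAffine U.obj.left.left] (hU : Covers U)
    (h1 : ∀ M : ModEt X.obj, M.IsFinitePresentation → Subsingleton (HModEt X.obj M 1)) : Lifts U := by
  intro M N hM hN' π n hn ⟨m, hm⟩
  obtain ⟨P, hP, hmP⟩ := exists_fg_mem_unionSub (E₀ := U) hqs (W := U) m
  obtain ⟨G, ι, hι, hG, hGm⟩ := exists_coherent_sub hqs hN (fun x => hU x) P hP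
  obtain ⟨g, hg⟩ := (hGm U m).2 hmP
  have := isQuasicoherent_kernel_factor (ι ≫ π)
  have hfp := isFinitePresentation_of_mono hN (kernel.ι (factorThruImage (ι ≫ π)))
  obtain ⟨g', hgi, hge⟩ := exists_inv_lift hU (ι ≫ π) (h1 _ hfp) hn g (by rw [hs_comp, hg, hm])
  exact ⟨hs ι U g', inv_hs ι hgi, by rw [← hs_comp, hge]⟩

theorem exists_iso_affine_of_lifts [QuasiSeparatedSpace ↥S] (hqc : IsQuasiCompactSp X.obj)
    (hqs : IsQuasiSeparatedSp X.obj) (U : EtOver X.obj) [IsAffine U.obj.left.left] (hU : Covers U)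
    (hs : RepWith @Surjective U.obj.hom) (hL : Lifts U) :
    ∃ T : Over S, IsAffine T.left ∧ Nonempty ((yon S).obj T ≅ X.obj) :=
  exists_iso_affine hqs U hU hs (faithful hqc hqs hU hL) hL

end Groth.Agent.AlgSpEN.SerreC
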