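import Groth.Agent.AlgSpEN.HomInv
import Groth.Agent.AlgSpEN.PushVanish
import Groth.Agent.AlgSpEN.SerreCriterion
import Groth.Agent.S10742
import Groth.Agent.S10743
import Groth.Agent.S10747

/-!
# Finite images of affine schemes are affine
-/

set_option autoImplicit false
universe u

open CategoryTheory CategoryTheory.Limits AlgebraicGeometry Opposite CategoryTheory.Abelian

set_option backward.isDefEq.respectTransparency false
set_option backward.isDefEq.respectTransparency.types false

noncomputable section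

namespace Groth.Agent.AlgSpEN.Chev

open _root_.AlgSp Groth.Agent.AlgSpQC

variable {S : Scheme.{u}} {X : Space S}

theorem shortExact_toAb {T : ShortComplex (ModEt X.obj)} (hT : T.ShortExact) :
    (T.map (toAbEt X.obj)).ShortExact := by
  have := hT.mono_f
  have := hT.epi_g
  let G := toAbEt X.obj
  have : G.PreservesZeroMorphisms := inferInstance
  have hm : Mono (G.map T.f) := inferInstance
  have he : Epi (G.map T.g) := by
    suffices Sheaf.IsLocallySurjective (G.map T.g) from inferInstance
    constructor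
    intro E y
    obtain ⟨R, hR, hy⟩ := exists_local_lift T.g (E := E) y
    exact (etTop X.obj).superset_covering (fun Z g hg => hy Z g hg) hR
  exact { exact := hT.exact.map_of_mono_of_preservesKernel G inferInstance inferInstance, mono_f := hm, epi_g := he }

theorem subsingleton_X₂ {T : ShortComplex (ModEt X.obj)} (hT : T.ShortExact) {i : ℕ}
    (h₁ : Subsingleton (HModEt X.obj T.X₁ i)) (h₃ : Subsingleton (HModEt X.obj T.X₃ i)) :
    Subsingleton (HModEt X.obj T.X₂ i) := subsingleton_of_forall_eq 0 fun x => by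
  obtain ⟨y, hy⟩ := Ext.covariant_sequence_exact₂ ((constantSheaf (etTop X.obj) AddCommGrpCat.{u + 1}).obj (AddCommGrpCat.of (ULift.{u + 1} ℤ)))
    (shortExact_toAb hT) x (h₃.elim _ _)
  rw [← hy, h₁.elim y 0, Ext.zero_comp]

theorem subsingleton_X₃ {T : ShortComplex (ModEt X.obj)} (hT : T.ShortExact) {i : ℕ}
    (h₁ : Subsingleton (HModEt X.obj T.X₁ (i + 1))) (h₂ : Subsingleton (HModEt X.obj T.X₂ i)) :
    Subsingleton (HModEt X.obj T.X₃ i) := subsingleton_of_forall_eq 0 fun x => by
  obtain ⟨y, hy⟩ := Ext.covariant_sequence_exact₃ ((constantSheaf (etTop X.obj) AddCommGrpCat.{u + 1}).obj (AddCommGrpCat.of (ULift.{u + 1} ℤ)))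
    (shortExact_toAb hT) x rfl (h₁.elim _ _)
  rw [← hy, h₂.elim y 0, Ext.zero_comp]

theorem subsingleton_of_isZero {M : ModEt X.obj} (h : IsZero M) (i : ℕ) : Subsingleton (HModEt X.obj M i) :=
  subsingleton_of_forall_eq 0 fun x => by
    have hz : 𝟙 ((toAbEt X.obj).obj M) = 0 := ((toAbEt X.obj).map_isZero h).eq_of_src _ _
    rw [← x.comp_mk₀_id, hz, Ext.mk₀_zero, Ext.comp_zero]

/-- The preimage of a subobject of a quotient is an extension. -/
theorem exists_preimage_ses {C : Type*} [Category C] [Abelian C] {N M I : C} (ι : N ⟶ M) [Mono ι]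
    (j : I ⟶ cokernel ι) [Mono j] :
    ∃ (P : C) (p : P ⟶ M) (k : N ⟶ P) (s : P ⟶ I) (hk : k ≫ s = 0), Mono p ∧ k ≫ p = ι ∧
      (ShortComplex.mk k s hk).ShortExact ∧ ((∃ l : P ⟶ N, l ≫ ι = p) → j = 0) := by
  let P := pullback (cokernel.π ι) j
  let k : N ⟶ P := pullback.lift ι 0 (by rw [cokernel.condition, zero_comp])
  have hkf : k ≫ pullback.fst (cokernel.π ι) j = ι := pullback.lift_fst _ _ _
  have hk : k ≫ pullback.snd (cokernel.π ι) j = 0 := pullback.lift_snd _ _ _
  have : Mono k := mono_of_mono_fac hkf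
  have hT : (ShortComplex.mk k (pullback.snd (cokernel.π ι) j) hk).ShortExact :=
    { exact := ShortComplex.exact_of_f_is_kernel _ (KernelFork.IsLimit.ofι' k hk fun {A} g hg =>
        ⟨(Abelian.monoIsKernelOfCokernel _ (cokernelIsCokernel ι)).lift
          (KernelFork.ofι (g ≫ pullback.fst (cokernel.π ι) j) (by
            change (g ≫ pullback.fst (cokernel.π ι) j) ≫ cokernel.π ι = 0
            rw [Category.assoc, pullback.condition, reassoc_of% hg, zero_comp])), by
          apply pullback.hom_ext
          · rw [Category.assoc, hkf]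
            exact (Abelian.monoIsKernelOfCokernel _ (cokernelIsCokernel ι)).fac _ WalkingParallelPair.zero
          · rw [Category.assoc, hk, comp_zero, hg]⟩)
      mono_f := ‹Mono k›
      epi_g := inferInstanceAs (Epi (pullback.snd (cokernel.π ι) j)) }
  refine ⟨P, pullback.fst _ _, k, _, hk, inferInstance, hkf, hT, fun ⟨l, hl⟩ => ?_⟩
  have h0 : pullback.snd (cokernel.π ι) j ≫ j = 0 := by
    rw [← pullback.condition, ← hl, Category.assoc, cokernel.condition, comp_zero]
  rwa [← comp_zero (f := pullback.snd (cokernel.π ι) j), cancel_epi] at h0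

set_option maxHeartbeats 1600000 in
/-- A bigger subobject from a nonzero map to the quotient. -/
theorem exists_bigger (hN : IsLocNoethSp X.obj) (i : ℕ)
    (hi : ∀ M : ModEt X.obj, M.IsFinitePresentation → Subsingleton (HModEt X.obj M (i + 1))) {G : ModEt X.obj}
    [G.IsFinitePresentation] (hG : Subsingleton (HModEt X.obj G i)) {M N : ModEt X.obj} [M.IsFinitePresentation]
    [N.IsFinitePresentation] (ι : N ⟶ M) [Mono ι] (hιi : Subsingleton (HModEt X.obj N i))
    (φ : G ⟶ cokernel ι) (hφ : φ ≠ 0) :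
    ∃ (P : ModEt X.obj) (p : P ⟶ M), Mono p ∧ P.IsFinitePresentation ∧ Subsingleton (HModEt X.obj P i) ∧
      (∃ k : N ⟶ P, k ≫ p = ι) ∧ ¬ ∃ k : P ⟶ N, k ≫ ι = p := by
  have := (Groth.Agent.S10742.result X hN ι).2
  have := (Groth.Agent.S10742.result X hN φ).2
  have hI := (Groth.Agent.S10742.result X hN (cokernel.π φ)).1
  have hK := (Groth.Agent.S10742.result X hN φ).1
  have hIi : Subsingleton (HModEt X.obj (Abelian.image φ) i) :=
    subsingleton_X₃ (T := ShortComplex.mk (kernel.ι φ) (Abelian.factorThruImage φ)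
      ((cancel_mono (Abelian.image.ι φ)).mp (by simp)))
      { exact := ShortComplex.exact_of_f_is_kernel _
          (isKernelOfComp _ _ (kernelIsKernel φ) _ (Abelian.image.fac φ)) }
      (hi _ hK) hG
  have : Mono (Abelian.image.ι φ) := inferInstance
  obtain ⟨P, p, k, t, hk, hp, hkp, hT, hno⟩ := exists_preimage_ses ι (Abelian.image.ι φ)
  have : (ShortComplex.mk k t hk).X₁.IsFinitePresentation := ‹N.IsFinitePresentation›
  have : (ShortComplex.mk k t hk).X₃.IsFinitePresentation := hI
  refine ⟨P, p, hp, Groth.Agent.S10743.result X hN _ hT, subsingleton_X₂ hT hιi hIi, ⟨k, hkp⟩, fun hl => hφ ?_⟩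
  rw [← Abelian.image.fac φ, hno hl, comp_zero]

theorem isZero_of_sect {M : ModEt X.obj} [M.IsQuasicoherent] {U : EtOver X.obj} [IsAffine U.obj.left.left]
    (hU : SerreC.Covers U) (h : ∀ m : sectModEt M U, m = 0) : IsZero M := by
  rw [IsZero.iff_id_eq_zero]
  apply SheafOfModules.hom_ext
  apply PresheafOfModules.hom_ext
  intro E
  refine ModuleCat.hom_ext (LinearMap.ext fun m => ?_)
  exact SerreC.sect_eq_zero hU h E.unop m

set_option maxHeartbeats 1600000 in
/-- Coherent modules on a finite image of an affine scheme have no higher cohomology. -/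
theorem subsingleton_HModEt_of_finite_surjective [QuasiSeparatedSpace ↥S] (hqc : IsQuasiCompactSp X.obj)
    (hqs : IsQuasiSeparatedSp X.obj) (hN : IsLocNoethSp X.obj) {T : Over S} (hT : IsAffine T.left)
    (f : (yon S).obj T ⟶ X.obj) (hfin : IsFiniteMor f) (hsurj : IsSurjectiveMor f) (i : ℕ) (hi : 0 < i)
    (M : ModEt X.obj) [M.IsFinitePresentation] : Subsingleton (HModEt X.obj M i) := by
  obtain ⟨U, hUa, hU, hUs⟩ := SerreC.exists_atlas hqc
  let Z : Space S := (ofScheme S).obj T
  let f' : Z.obj ⟶ X.obj := f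
  have hf : Representable f' := X.property.representable_from_yon f
  let E₀ : EtOver Z.obj := EtOver.mk (𝟙 ((yon S).obj T)) ((repWith_isMultiplicative (S := S) @Etale).id_mem _)
  have : IsIso E₀.obj.hom := inferInstanceAs (IsIso (𝟙 ((yon S).obj T)))
  have : IsAffine E₀.obj.left.left := hT
  have hG := HomC.isFinitePresentation_pushO hf hfin hN
  have : (unitModEt Z.obj).IsQuasicoherent := Groth.Agent.AlgSpD.QCExtension.isQuasicoherent_unit Z.obj
  have hGv : ∀ q, Subsingleton (HModEt X.obj (HomC.pushO hf) (q + 1)) := fun q =>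
    PushVanish.subsingleton_HEt_push hf (isAffineMor_of_isFiniteMor hfin) E₀ U hU hUs
      (F := (toAbEt Z.obj).obj (unitModEt Z.obj)) (Amitsur.cech_qc (unitModEt Z.obj)) q
  obtain ⟨n, hn⟩ := Bound.exists_famBound_univ hqc hqs
  suffices H : ∀ d i, 0 < i → n < i + d → ∀ M : ModEt X.obj, M.IsFinitePresentation →
      Subsingleton (HModEt X.obj M i) from H (n + 1) i hi (by omega) M inferInstance
  intro d
  induction d with
  | zero =>
    intro i hi hni M hM
    exact Bound.subsingleton_HEt (hn _ (Amitsur.cech_qc M)) i (by omega)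
  | succ d ih =>
    intro i hi hni M hM
    obtain ⟨q, rfl⟩ : ∃ q, i = q + 1 := ⟨i - 1, by omega⟩
    have hnext : ∀ N : ModEt X.obj, N.IsFinitePresentation → Subsingleton (HModEt X.obj N (q + 1 + 1)) :=
      ih _ (by omega) (by omega)
    by_contra hne
    let St := {N : Subobject M // (N : ModEt X.obj).IsFinitePresentation ∧
      Subsingleton (HModEt X.obj (N : ModEt X.obj) (q + 1))}
    have hstep : ∀ N : St, ∃ N' : St, N.1 < N'.1 := fun ⟨N, hNf, hNi⟩ => by
      have := (Groth.Agent.S10742.result X hN N.arrow).2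
      obtain ⟨m, hm⟩ : ∃ m : sectModEt (cokernel N.arrow) U, m ≠ 0 := by
        by_contra! h0
        have hz := isZero_of_sect hU h0
        have : Epi N.arrow := Abelian.epi_of_cokernel_π_eq_zero _ (hz.eq_of_tgt _ _)
        have := isIso_of_mono_of_epi N.arrow
        refine hne (subsingleton_of_forall_eq 0 fun x => ?_)
        have e : 𝟙 ((toAbEt X.obj).obj M) = (toAbEt X.obj).map (inv N.arrow) ≫ (toAbEt X.obj).map N.arrow := by
          rw [← Functor.map_comp, IsIso.inv_hom_id, CategoryTheory.Functor.map_id]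
        rw [← x.comp_mk₀_id, e, ← Ext.mk₀_comp_mk₀, ← Ext.comp_assoc_of_third_deg_zero,
          hNi.elim (x.comp _ _) 0, Ext.zero_comp]
      obtain ⟨φ, hφ⟩ := HomC.exists_hom_ne_zero (hf := hf) hfin hsurj hN E₀ U hU (cokernel N.arrow) m hm
      obtain ⟨P, p, hp, hPf, hPi, ⟨k, hk⟩, hnk⟩ := exists_bigger hN (q + 1) hnext (hGv q) N.arrow hNi φ hφ
      let e : (Subobject.mk p : ModEt X.obj) ≅ P := Subobject.underlyingIso p
      refine ⟨⟨Subobject.mk p, ?_, ?_⟩, ?_⟩
      · exact (SheafOfModules.isFinitePresentation (R := OEtRing X.obj)).prop_of_iso e.symm hPf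
      · refine subsingleton_of_forall_eq 0 fun x => ?_
        have e' : 𝟙 ((toAbEt X.obj).obj (Subobject.mk p : ModEt X.obj)) =
            (toAbEt X.obj).map e.hom ≫ (toAbEt X.obj).map e.inv := by
          rw [← Functor.map_comp, Iso.hom_inv_id, CategoryTheory.Functor.map_id]
        rw [← x.comp_mk₀_id, e', ← Ext.mk₀_comp_mk₀, ← Ext.comp_assoc_of_third_deg_zero,
          hPi.elim (x.comp _ _) 0, Ext.zero_comp]
      · refine lt_of_le_of_ne (Subobject.le_mk_of_comm k hk) fun heq => hnk ?_
        refine ⟨e.inv ≫ Subobject.ofLE _ _ heq.ge, ?_⟩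
        rw [Category.assoc, Subobject.ofLE_arrow]
        exact Subobject.underlyingIso_arrow p
    have hbot : ∃ N : St, True := by
      let z : cokernel (𝟙 M) ⟶ M := 0
      have hz : IsZero (cokernel (𝟙 M)) := (IsZero.iff_id_eq_zero _).2 (coequalizer.hom_ext (by
        change cokernel.π (𝟙 M) ≫ 𝟙 _ = cokernel.π (𝟙 M) ≫ 0
        rw [Category.comp_id, comp_zero]
        exact (Category.id_comp _).symm.trans (cokernel.condition (𝟙 M))))
      have : Mono z := ⟨fun a b _ => hz.eq_of_tgt a b⟩
      have hfp : (cokernel (𝟙 M)).IsFinitePresentation := (Groth.Agent.S10742.result X hN (𝟙 M)).2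
      have e : (Subobject.mk z : ModEt X.obj) ≅ cokernel (𝟙 M) := Subobject.underlyingIso z
      exact ⟨⟨Subobject.mk z, (SheafOfModules.isFinitePresentation (R := OEtRing X.obj)).prop_of_iso e.symm hfp,
        subsingleton_of_isZero (hz.of_iso e) _⟩, trivial⟩
    obtain ⟨N₀, -⟩ := hbot
    choose next hnextlt using hstep
    let seqN : ℕ → St := fun k => Nat.rec N₀ (fun _ N => next N) k
    have hmono : StrictMono fun k => (seqN k).1 := strictMono_nat_of_lt_succ fun k => hnextlt (seqN k)
    obtain ⟨k, hk⟩ := Groth.Agent.S10747.result X hqc hqs hN M ⟨fun k => (seqN k).1, hmono.monotone⟩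
      fun k => by
        have h1 := (seqN k).2.1
        change SheafOfModules.IsQuasicoherent (Subobject.underlying.obj (seqN k).1)
        infer_instance
    exact (hmono (Nat.lt_succ_self k)).ne (hk (k + 1) (Nat.le_succ k)).symm

end Groth.Agent.AlgSpEN.Chev
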