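import Groth.Agent.AlgSpEN.RelBound
import Groth.Agent.AlgSpQC.UnionCoherent
import Groth.Agent.AlgSpQC.Largest
import Groth.Agent.AlgSpD.QCExtension

/-!
# Invariant sections over an atlas and the lifting property from vanishing of `H^1`
-/

set_option autoImplicit false
universe u

open CategoryTheory CategoryTheory.Limits AlgebraicGeometry Opposite CategoryTheory.Abelian

set_option backward.isDefEq.respectTransparency false
set_option backward.isDefEq.respectTransparency.types false

noncomputable section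

namespace Groth.Agent.AlgSpEN.SerreC

open _root_.AlgSp Groth.Agent.AlgSpQC

variable {S : Scheme.{u}} {X : AlgSp.Space S} {U : EtOver X.obj}

/-- A section over the atlas all whose pullbacks agree. -/
def Inv (M : ModEt X.obj) {U : EtOver X.obj} (m : sectModEt M U) : Prop :=
  ∀ (Z : EtOver X.obj) (a b : Z ⟶ U), rs M a m = rs M b m

/-- The atlas covers all points. -/
def Covers (U : EtOver X.obj) : Prop := ∀ x : Points X.obj, x ∈ Set.range (Points.ofPt U.obj.hom)

variable {M N : ModEt X.obj}

theorem inv_hs (φ : M ⟶ N) {m : sectModEt M U} (h : Inv M m) : Inv N (hs φ U m) := fun Z a b => by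
  rw [← hs_rs, ← hs_rs, h Z a b]

theorem inv_of_mono (φ : M ⟶ N) [Mono φ] {m : sectModEt M U} (h : Inv N (hs φ U m)) : Inv M m := fun Z a b =>
  hs_injective φ Z (by rw [hs_rs, hs_rs]; exact h Z a b)

theorem inv_add {m m' : sectModEt M U} (h : Inv M m) (h' : Inv M m') : Inv M (m + m') := fun Z a b => by
  rw [map_add, map_add, h Z a b, h' Z a b]

theorem inv_zero : Inv M (0 : sectModEt M U) := fun Z a b => by rw [map_zero, map_zero]

/-- The invariant functions. -/
def invRing (U : EtOver X.obj) : Subring (gr U) where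
  carrier := {c | ∀ (Z : EtOver X.obj) (a b : Z ⟶ U), gm a c = gm b c}
  mul_mem' h h' Z a b := by rw [map_mul, map_mul, h Z a b, h' Z a b]
  one_mem' Z a b := by rw [map_one, map_one]
  add_mem' h h' Z a b := by rw [map_add, map_add, h Z a b, h' Z a b]
  zero_mem' Z a b := by rw [map_zero, map_zero]
  neg_mem' h Z a b := by rw [map_neg, map_neg, h Z a b]

theorem inv_smul {c : gr U} (hc : c ∈ invRing U) {m : sectModEt M U} (h : Inv M m) : Inv M (c • m) :=
  fun Z a b => by rw [rs_smul, rs_smul, hc Z a b, h Z a b]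

theorem inv_sum {ι : Type*} (s : Finset ι) {m : ι → sectModEt M U} (h : ∀ i ∈ s, Inv M (m i)) :
    Inv M (∑ i ∈ s, m i) := fun Z a b => by
  rw [map_sum, map_sum]
  exact Finset.sum_congr rfl fun i hi => h i hi Z a b

/-- The sieve of objects mapping to the atlas. -/
def atlasSieve (U E : EtOver X.obj) : Sieve E where
  arrows := fun Z _ => Nonempty (Z ⟶ U)
  downward_closed := fun {_ _} _ h g => ⟨g ≫ h.some⟩

theorem atlasSieve_mem (hU : Covers U) (E : EtOver X.obj) : atlasSieve U E ∈ etTop X.obj E :=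
  (AlgSpD.mem_etTop_iff _).2 fun z => ⟨EtOver.prodObj E U, EtOver.prodFst E U, ⟨EtOver.prodSnd E U⟩,
    Bound.exists_prod_cover U E z (hU _)⟩

/-- An invariant section is a global section. -/
theorem exists_sections (hU : Covers U) {m : sectModEt M U} (hm : Inv M m) :
    ∃ σ : M.sections, sec σ U = m := by
  classical
  have hP : Presieve.IsSheaf (etTop X.obj) (M.val.presheaf ⋙ CategoryTheory.forget AddCommGrpCat) :=
    (isSheaf_iff_isSheaf_of_type _ _).1
      (Presheaf.isSheaf_comp_of_isSheaf (etTop X.obj) M.val.presheaf (CategoryTheory.forget AddCommGrpCat) M.isSheaf)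
  let x : ∀ E : EtOver X.obj, Presieve.FamilyOfElements (M.val.presheaf ⋙ CategoryTheory.forget AddCommGrpCat)
      (atlasSieve U E).arrows := fun E Z g h => rs M (Classical.choice h) m
  have hx : ∀ E, (x E).Compatible := fun E Y₁ Y₂ Z g₁ g₂ f₁ f₂ h₁ h₂ e => by
    change rs M g₁ (rs M (Classical.choice h₁) m) = rs M g₂ (rs M (Classical.choice h₂) m)
    rw [← rs_comp, ← rs_comp]
    exact hm Z _ _
  let s : ∀ E : EtOver X.obj, sectModEt M E := fun E => (hP _ (atlasSieve_mem hU E)).amalgamate (x E) (hx E)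
  have hs' : ∀ (E Z : EtOver X.obj) (g : Z ⟶ E) (h : Z ⟶ U), rs M g (s E) = rs M h m := fun E Z g h =>
    ((hP _ (atlasSieve_mem hU E)).valid_glue (hx E) g (⟨h⟩ : (atlasSieve U E).arrows g)).trans (hm Z _ _)
  refine ⟨PresheafOfModules.sectionsMk (fun E => s E.unop) fun E E' f => ?_, ?_⟩
  · refine eq_of_sieve (atlasSieve_mem hU E'.unop) fun Z g hg => ?_
    obtain ⟨h⟩ := hg
    change rs M g (rs M f.unop (s E.unop)) = rs M g (s E'.unop)
    rw [← rs_comp, hs' _ _ _ h, hs' _ _ _ h]
  · refine eq_of_sieve (atlasSieve_mem hU U) fun Z g _ => ?_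
    exact hs' U Z g g

theorem inv_sec (σ : M.sections) : Inv M (sec σ U) := fun Z a b => (res_sec σ a).trans (res_sec σ b).symm

/-- A module whose sections over the atlas vanish is zero. -/
theorem sect_eq_zero (hU : Covers U) (h : ∀ m : sectModEt M U, m = 0) [M.IsQuasicoherent]
    [IsAffine U.obj.left.left] (E : EtOver X.obj) (m : sectModEt M E) : m = 0 := by
  refine eq_of_sieve (atlasSieve_mem hU E) fun Z g hg => ?_
  obtain ⟨v⟩ := hg
  rw [map_zero]
  obtain ⟨κ, V, w, hV, hw⟩ : ∃ (κ : Type u) (V : κ → EtOver X.obj) (w : ∀ k, V k ⟶ Z),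
      (∀ k, IsAffine (V k).obj.left.left) ∧ ∀ z, ∃ k, z ∈ Set.range (w k).hom.left.left := by
    have h : ∀ z : Z.obj.left.left, ∃ O : Z.obj.left.left.Opens, IsAffineOpen O ∧ z ∈ O := fun z => by
      obtain ⟨O, hO, hz, -⟩ := exists_isAffineOpen_mem_and_subset (U := (⊤ : Z.obj.left.left.Opens)) (x := z) trivial
      exact ⟨O, hO, hz⟩
    choose O hO hzO using h
    exact ⟨Z.obj.left.left, fun z => PushIntegral.piece Z (O z), fun z => PushIntegral.pieceHom Z (O z),
      fun z => hO z, fun z => ⟨z, ⟨z, hzO z⟩, rfl⟩⟩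
  refine eq_of_family w hw fun k => ?_
  have := hV k
  rw [map_zero, ← rs_comp]
  have hmem := rs_mem_span_range (w k ≫ v) (rs M (w k ≫ g) m)
  rw [show Set.range (rs M (w k ≫ v)) = {0} from Set.eq_singleton_iff_unique_mem.2
    ⟨⟨0, map_zero _⟩, by rintro _ ⟨y, rfl⟩; rw [h y, map_zero]⟩, Submodule.span_singleton_eq_bot.2 rfl] at hmem
  exact (Submodule.mem_bot _).1 hmem

/-- A map of quasi-coherent modules surjective on the atlas is an epimorphism. -/
theorem epi_of_surjective (hU : Covers U) [IsAffine U.obj.left.left] [M.IsQuasicoherent] [N.IsQuasicoherent]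
    (φ : M ⟶ N) (h : Function.Surjective (hs φ U)) : Epi φ := by
  refine Preadditive.epi_of_isZero_cokernel φ ?_
  have := isQuasicoherent_cokernel φ
  have hz : ∀ m : sectModEt (cokernel φ) U, m = 0 := fun m => by
    obtain ⟨n, rfl⟩ := hs_surjective (cokernel.π φ) U m
    obtain ⟨x, rfl⟩ := h n
    rw [← hs_comp, cokernel.condition]
    rfl
  rw [IsZero.iff_id_eq_zero]
  ext E x
  exact sect_eq_zero hU hz E.unop x

/-- The lifting property used in place of the vanishing of `H^1`. -/
def Lifts (U : EtOver X.obj) : Prop :=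
  ∀ ⦃M N : ModEt X.obj⦄ (_ : M.IsQuasicoherent) (_ : N.IsQuasicoherent) (π : M ⟶ N) (n : sectModEt N U),
    Inv N n → (∃ m, hs π U m = n) → ∃ m, Inv M m ∧ hs π U m = n

/-- Vanishing of `H^1` of the kernel lifts invariant sections. -/
theorem exists_lift_of_h1 (hU : Covers U) (π : M ⟶ N) [Epi π] (h : Subsingleton (HModEt X.obj (kernel π) 1))
    {n : sectModEt N U} (hn : Inv N n) : ∃ m, Inv M m ∧ hs π U m = n := by
  let T : ShortComplex (ModEt X.obj) := ShortComplex.mk (kernel.ι π) π (kernel.condition π)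
  have hTe : T.Exact := ShortComplex.exact_of_f_is_kernel _ (kernelIsKernel π)
  let G := toAbEt X.obj
  have : G.PreservesZeroMorphisms := inferInstance
  have hA : (T.map G).ShortExact := by
    have hm : Mono (G.map (kernel.ι π)) := inferInstance
    have he : Epi (G.map π) := by
      suffices Sheaf.IsLocallySurjective (G.map π) from inferInstance
      constructor
      intro E y
      obtain ⟨R, hR, hy⟩ := exists_local_lift π (E := E) y
      exact (etTop X.obj).superset_covering (fun Z g hg => hy Z g hg) hR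
    exact { exact := hTe.map_of_mono_of_preservesKernel G inferInstance inferInstance, mono_f := hm, epi_g := he }
  obtain ⟨σ, hσ⟩ := exists_sections hU hn
  let Z := (constantSheaf (etTop X.obj) AddCommGrpCat.{u + 1}).obj (AddCommGrpCat.of (ULift.{u + 1} ℤ))
  let P := (Functor.const (EtOver X.obj)ᵒᵖ).obj (AddCommGrpCat.of (ULift.{u + 1} ℤ))
  let adj := sheafificationAdjunction (etTop X.obj) AddCommGrpCat.{u + 1}
  let θ : P ⟶ (T.map G).X₃.obj :=
    { app := fun E => AddCommGrpCat.ofHom
        ((zmultiplesHom (sectModEt N E.unop) (sec σ E.unop)).comp AddEquiv.ulift.toAddMonoidHom)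
      naturality := fun E E' f => AddCommGrpCat.hom_ext (DFunLike.ext _ _ fun z => by
        change z.down • sec σ E'.unop = (rs N f.unop) (z.down • sec σ E.unop)
        rw [map_zsmul]
        exact congrArg _ (res_sec σ f.unop).symm) }
  let g : Z ⟶ (T.map G).X₃ := (adj.homEquiv P (T.map G).X₃).symm θ
  have : Subsingleton (Ext Z (T.map G).X₁ 1) := h
  obtain ⟨a, ha⟩ := Ext.covariant_sequence_exact₃ Z hA (Ext.mk₀ g) (zero_add 1) (Subsingleton.elim _ _)
  obtain ⟨a, rfl⟩ := (Ext.mk₀_bijective _ _).2 a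
  rw [Ext.mk₀_comp_mk₀] at ha
  replace ha := (Ext.mk₀_bijective _ _).1 ha
  let η : P ⟶ (T.map G).X₂.obj := adj.homEquiv P (T.map G).X₂ a
  have hη : η ≫ (T.map G).g.hom = θ := by
    have := adj.homEquiv_naturality_right a (T.map G).g
    rw [ha, Equiv.apply_symm_apply] at this
    exact this.symm
  refine ⟨(η.app (op U)).hom ⟨1⟩, fun W b c => ?_, ?_⟩
  · exact ((NatTrans.naturality_apply η b.op (ULift.up 1)).symm).trans
      (NatTrans.naturality_apply η c.op (ULift.up 1))
  · refine (congr(($(NatTrans.congr_app hη (op U))).hom (ULift.up 1))).trans ?_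
    change (1 : ℤ) • sec σ U = n
    rw [one_zsmul, hσ]

end Groth.Agent.AlgSpEN.SerreC
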