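import Groth.Agent.AlgSpEN.HomSheaf
import Groth.Agent.AlgSpEN.SerreBase
import Groth.Agent.AlgSpQC.PullEval
import Groth.Agent.AlgSpQC.PullUnit
import Groth.Agent.AlgSp.PointsMor
import Groth.Agent.AlgSpQC.Coherent
import Groth.Agent.AlgSpD.QCExtension
import Mathlib.RingTheory.Ideal.AssociatedPrime.Basic
import Mathlib.RingTheory.Spectrum.Prime.RingHom

/-!
# A nonzero map from the direct image of the structure sheaf of an affine finite cover
-/

set_option autoImplicit false
universe u

open CategoryTheory CategoryTheory.Limits AlgebraicGeometry Opposite TensorProduct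

set_option backward.isDefEq.respectTransparency false
set_option backward.isDefEq.respectTransparency.types false

noncomputable section

namespace Groth.Agent.AlgSpEN.HomC

open _root_.AlgSp Groth.Agent.AlgSpQC

/-- A finite algebra with surjective spectrum map has nonzero maps to every nonzero module. -/
theorem exists_linearMap_ne_zero {R B : Type u} [CommRing R] [IsNoetherianRing R] [CommRing B] [Algebra R B]
    [Module.Finite R B] (hs : Function.Surjective (PrimeSpectrum.comap (algebraMap R B))) {N : Type (u + 1)}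
    [AddCommGroup N] [Module R N] [Nontrivial N] : ∃ φ : B →ₗ[R] N, φ ≠ 0 := by
  classical
  obtain ⟨P, hP'⟩ := associatedPrimes.nonempty R N
  obtain ⟨hP, n, hn⟩ := isAssociatedPrime_iff.1 hP'
  have := hP
  let K := P.ResidueField
  obtain ⟨q, hq⟩ := hs ⟨P, hP⟩
  have : Nontrivial (K ⊗[R] B) := (PrimeSpectrum.nontrivial_iff_mem_rangeComap ⟨P, hP⟩).2 ⟨q, hq⟩
  obtain ⟨v, hv⟩ := exists_ne (0 : K ⊗[R] B)
  let bK := Module.Free.chooseBasis K (K ⊗[R] B)
  obtain ⟨i, hi⟩ : ∃ i, bK.repr v i ≠ 0 := by
    by_contra! h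
    exact hv (bK.repr.injective (Finsupp.ext fun i => by rw [h i, map_zero, Finsupp.zero_apply]))
  let c : K ⊗[R] B →ₗ[K] K := bK.coord i
  let ψ : B →ₗ[R] K := (c.restrictScalars R).comp (TensorProduct.mk R K B 1)
  obtain ⟨m, s, hs'⟩ := Module.Finite.exists_fin (R := R) (M := B)
  obtain ⟨⟨a, ha⟩, hint⟩ := IsLocalization.exist_integer_multiples_of_finite (S := K) (nonZeroDivisors (R ⧸ P))
    fun j => ψ (s j)
  obtain ⟨a, rfl⟩ := Ideal.Quotient.mk_surjective a
  have hrange : ∀ x, (a • ψ) x ∈ LinearMap.range ((Algebra.linearMap (R ⧸ P) K).restrictScalars R) := by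
    intro x
    have hx : x ∈ Submodule.span R (Set.range s) := hs'.symm ▸ Submodule.mem_top
    induction hx using Submodule.span_induction with
    | mem y hy =>
      obtain ⟨j, rfl⟩ := hy
      obtain ⟨d, hd⟩ := hint j
      refine ⟨d, hd.trans ?_⟩
      change Ideal.Quotient.mk P a • ψ (s j) = a • ψ (s j)
      exact algebraMap_smul (R ⧸ P) a (ψ (s j))
    | zero => rw [map_zero]; exact zero_mem _
    | add y y' _ _ hy hy' => rw [map_add]; exact add_mem hy hy'
    | smul r y _ hy => rw [map_smul]; exact Submodule.smul_mem _ _ hy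
  let e : (R ⧸ P) ≃ₗ[R] LinearMap.range ((Algebra.linearMap (R ⧸ P) K).restrictScalars R) :=
    LinearEquiv.ofInjective _ (IsFractionRing.injective (R ⧸ P) K)
  let θ : B →ₗ[R] (R ⧸ P) := e.symm.toLinearMap.comp ((a • ψ).codRestrict _ hrange)
  let ι : (R ⧸ P) →ₗ[R] N := Submodule.liftQ P (LinearMap.toSpanSingleton R N n) (by
    intro r hr
    rw [hn] at hr
    simpa [Submodule.mem_colon_singleton] using hr)
  have hι : Function.Injective ι := by
    refine (injective_iff_map_eq_zero ι).2 fun r hr => ?_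
    obtain ⟨r, rfl⟩ := Ideal.Quotient.mk_surjective r
    refine Ideal.Quotient.eq_zero_iff_mem.2 ?_
    rw [hn, Submodule.mem_colon_singleton, Submodule.mem_bot]
    exact hr
  refine ⟨ι.comp θ, fun h0 => hi ?_⟩
  have hθ : ∀ x, θ x = 0 := fun x => hι ((LinearMap.congr_fun h0 x).trans (map_zero ι).symm)
  have hψ : ∀ x, ψ x = 0 := fun x => by
    have h1 : (a • ψ) x = 0 := congrArg Subtype.val (e.symm.injective ((hθ x).trans (map_zero e.symm).symm))
    change a • ψ x = 0 at h1
    rw [← algebraMap_smul K a (ψ x), smul_eq_mul] at h1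
    refine (mul_eq_zero.1 h1).resolve_left fun h => nonZeroDivisors.ne_zero ha ?_
    apply IsFractionRing.injective (R ⧸ P) K
    rw [map_zero, ← h]
    rfl
  have hc : c = 0 := by
    refine LinearMap.ext fun x => ?_
    induction x using TensorProduct.induction_on with
    | zero => simp
    | add x y hx hy => simp [hx, hy]
    | tmul k b =>
      have : k ⊗ₜ[R] b = k • ((1 : K) ⊗ₜ[R] b) := by rw [smul_tmul', smul_eq_mul, mul_one]
      rw [this, map_smul, show c ((1 : K) ⊗ₜ[R] b) = 0 from hψ b, smul_zero]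
      rfl
  exact LinearMap.congr_fun hc v

variable {S : Scheme.{u}} {X Y : Space S} {f : X.obj ⟶ Y.obj} (hf : Representable f)

/-- The direct image of the structure sheaf. -/
abbrev pushO : ModEt Y.obj := (pushModEt hf).obj (unitModEt X.obj)

theorem isFinitePresentation_pushO (hfin : IsFiniteMor f) (hN : IsLocNoethSp Y.obj) :
    (pushO hf).IsFinitePresentation := by
  have : (unitModEt X.obj).IsQuasicoherent := Groth.Agent.AlgSpD.QCExtension.isQuasicoherent_unit X.obj
  have : (pushO hf).IsQuasicoherent := isQuasicoherent_push_affine (isAffineMor_of_isFiniteMor hfin) _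
  refine isFinitePresentation_of_finite hN fun E hE => ?_
  let _ : Algebra (gr E) (gr (bcO hf E)) := (gπ hf E).toAlgebra
  have : Module.Finite (gr E) (gr (bcO hf E)) := finite_gπ (hf := hf) hfin E
  let L : gr (bcO hf E) →ₗ[gr E] sectModEt (pushO hf) E :=
    { toFun := fun b => (pushSect hf (unitModEt X.obj) E).symm (upΓ (bcO hf E) b)
      map_add' := fun b b' => by rw [map_add]; rfl
      map_smul' := fun a b => map_mul (upΓ (bcO hf E)) (gπ hf E a) b }
  exact Module.Finite.of_surjective L fun t => ⟨(pushSect hf (unitModEt X.obj) E t).down, rfl⟩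

variable {hf} {M : ModEt Y.obj}

/-- Multiplication by a function on the base change of a chart. -/
def mulB {E V : EtOver Y.obj} (b : gr (bcO hf E)) (v : V ⟶ E) :
    sectModEt (pushO hf) V →+ sectModEt (pushO hf) V where
  toFun x := (pushSect hf (unitModEt X.obj) V).symm (gm (bcM hf v) b • pushSect hf (unitModEt X.obj) V x)
  map_zero' := by rw [map_zero, smul_zero, map_zero]
  map_add' x y := by rw [map_add, smul_add, map_add]

theorem pushSect_mulB {E V : EtOver Y.obj} (b : gr (bcO hf E)) (v : V ⟶ E) (x : sectModEt (pushO hf) V) :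
    pushSect hf (unitModEt X.obj) V (mulB b v x) = gm (bcM hf v) b • pushSect hf (unitModEt X.obj) V x := rfl

theorem mulB_smul {E V : EtOver Y.obj} (b : gr (bcO hf E)) (v : V ⟶ E) (a : gr V) (x : sectModEt (pushO hf) V) :
    mulB b v (a • x) = a • mulB b v x := by
  apply (pushSect hf (unitModEt X.obj) V).injective
  rw [pushSect_mulB, pushSect_smul, pushSect_smul, pushSect_mulB, smul_comm]

theorem rs_mulB {E V W : EtOver Y.obj} (b : gr (bcO hf E)) (v : V ⟶ E) (g : W ⟶ V) (x : sectModEt (pushO hf) V) :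
    rs (pushO hf) g (mulB b v x) = mulB b (g ≫ v) (rs (pushO hf) g x) := by
  apply (pushSect hf (unitModEt X.obj) W).injective
  rw [pushSect_mulB, pushSect_rs, pushSect_rs, pushSect_mulB, rs_smul,
    show bcM hf (g ≫ v) = bcM hf g ≫ bcM hf v from (EtOver.bc hf).map_comp g v, gm_comp]

theorem mul_smul_swap {R N : Type*} [CommRing R] [AddCommGroup N] [Module R N] {T : Type*} [CommRing T]
    (φ : T →+* R) (a b : T) (x : N) : φ (a * b) • x = φ b • φ a • x := by
  rw [map_mul, mul_smul, smul_comm]

theorem mulB_mul {E V : EtOver Y.obj} (c r : gr (bcO hf E)) (v : V ⟶ E) (x : sectModEt (pushO hf) V) :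
    mulB (c * r) v x = mulB r v (mulB c v x) := by
  apply (pushSect hf (unitModEt X.obj) V).injective
  refine (pushSect_mulB (c * r) v x).trans ?_
  refine Eq.trans ?_ (pushSect_mulB r v (mulB c v x)).symm
  exact (mul_smul_swap (gm (bcM hf v)) c r (pushSect hf (unitModEt X.obj) V x)).trans
    (congrArg (gm (bcM hf v) r • ·) (pushSect_mulB c v x).symm)

/-- The action of functions upstairs on homomorphisms. -/
def act {E : EtOver Y.obj} (b : gr (bcO hf E)) (h : LinFam (pushO hf) M E) : LinFam (pushO hf) M E :=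
  ⟨fun j => (h.1 j).comp (mulB b j.2), fun V v hV a x => by
      change cmp h v hV (mulB b v (a • x)) = a • cmp h v hV (mulB b v x)
      rw [mulB_smul, cmp_smul'],
    fun V W v g hV hW x => by
      change rs M g (cmp h v hV (mulB b v x)) = cmp h (g ≫ v) hW (mulB b (g ≫ v) (rs (pushO hf) g x))
      rw [cmp_rs h v g hV hW, rs_mulB]⟩

theorem cmp_act {E V : EtOver Y.obj} (b : gr (bcO hf E)) (h : LinFam (pushO hf) M E) (v : V ⟶ E)
    (hV : IsAffine V.obj.left.left) (x : sectModEt (pushO hf) V) :
    cmp (act b h) v hV x = cmp h v hV (mulB b v x) := rfl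

theorem linRes_act {E E' : EtOver Y.obj} (a : E' ⟶ E) (b : gr (bcO hf E)) (h : LinFam (pushO hf) M E) :
    linRes a (act b h) = act (gm (bcM hf a) b) (linRes a h) := fam_ext fun V v hV x => by
  refine ((cmp_linRes a (act b h) v hV x).trans (cmp_act b h (v ≫ a) hV x)).trans ?_
  refine Eq.trans ?_ ((cmp_act _ (linRes a h) v hV x).trans (cmp_linRes a h v hV _)).symm
  refine congrArg (cmp h (v ≫ a) hV) ((pushSect hf (unitModEt X.obj) V).injective ?_)
  rw [pushSect_mulB, pushSect_mulB, show bcM hf (v ≫ a) = bcM hf v ≫ bcM hf a from (EtOver.bc hf).map_comp v a,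
    gm_comp]

theorem exists_actPT [(pushO hf).IsQuasicoherent] (E : EtOver Y.obj) :
    ∃ Φ : PT (homMod (pushO hf) M) (𝟙 (bcO hf E)) →+ LinFam (pushO hf) M E,
      ∀ r (η : sectModEt (homMod (pushO hf) M) E), Φ (tm (𝟙 (bcO hf E)) r η) = act r η := by
  refine exists_lift (G := homMod (pushO hf) M) (E := E) (h := 𝟙 (bcO hf E)) (fun r η => act r η) (fun r r' η => fam_ext fun V v hV x => ?_)
    (fun r η η' => fam_ext fun V v hV x => ?_) fun a r η => fam_ext fun V v hV x => ?_
  · refine (cmp_act (r + r') η v hV x).trans ?_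
    refine Eq.trans ?_ ((cmp_add (act r η) (act r' η) v hV x).trans
      (congrArg₂ (· + ·) (cmp_act r η v hV x) (cmp_act r' η v hV x))).symm
    rw [← cmp_map_add]
    refine congrArg (cmp η v hV) ((pushSect hf (unitModEt X.obj) V).injective ?_)
    rw [map_add, pushSect_mulB, pushSect_mulB, pushSect_mulB, map_add, add_smul]
  · rfl
  · refine (cmp_act _ η v hV x).trans ?_
    refine Eq.trans ?_ ((cmp_act r (a • η : sectModEt (homMod (pushO hf) M) E) v hV x).trans
      (cmp_smul a η v hV _)).symm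
    rw [← cmp_smul']
    refine congrArg (cmp η v hV) ((pushSect hf (unitModEt X.obj) V).injective ?_)
    rw [pushSect_mulB, pushSect_smul, pushSect_mulB, gm_id, map_mul, mul_smul, gπ_gm]

/-- The evaluation of tensors as homomorphisms. -/
def actPT [(pushO hf).IsQuasicoherent] (M : ModEt Y.obj) (E : EtOver Y.obj) :
    PT (homMod (pushO hf) M) (𝟙 (bcO hf E)) →+ LinFam (pushO hf) M E := (exists_actPT E).choose

theorem actPT_tm [(pushO hf).IsQuasicoherent] {E : EtOver Y.obj} (r : gr (bcO hf E))
    (η : sectModEt (homMod (pushO hf) M) E) : actPT M E (tm (𝟙 (bcO hf E)) r η) = act r η := (exists_actPT E).choose_spec r η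

theorem actPT_smul [(pushO hf).IsQuasicoherent] {E : EtOver Y.obj} (c : gr (bcO hf E))
    (y : PT (homMod (pushO hf) M) (𝟙 (bcO hf E))) : actPT M E (c • y) = act c (actPT M E y) := by
  induction y using PT.induction with
  | zero =>
    rw [smul_zero, map_zero]
    refine fam_ext fun V v hV x => ?_
    rw [cmp_act, cmp_zero, cmp_zero]
  | tm r η =>
    refine ((congrArg (actPT M E) (smul_tm c r η)).trans (actPT_tm (c * r) η)).trans ?_
    refine Eq.trans ?_ (congrArg (act c) (actPT_tm r η)).symm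
    refine fam_ext fun V v hV x => ?_
    rw [cmp_act, cmp_act, cmp_act]
    exact congrArg (cmp η v hV) (mulB_mul c r v x)
  | add x y hx hy =>
    refine ((congrArg (actPT M E) (smul_add c x y)).trans
      (((actPT M E).map_add (c • x) (c • y)).trans (congrArg₂ (· + ·) hx hy))).trans ?_
    refine Eq.trans ?_ (congrArg (act c) ((actPT M E).map_add x y)).symm
    refine fam_ext fun V v hV z => ?_
    exact ((cmp_add _ _ v hV z).trans (congrArg₂ (· + ·) (cmp_act c _ v hV z) (cmp_act c _ v hV z))).trans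
      ((cmp_act c _ v hV z).trans (cmp_add _ _ v hV _)).symm

theorem linRes_actPT [(pushO hf).IsQuasicoherent] {E E' : EtOver Y.obj} (a : E' ⟶ E)
    (w : 𝟙 (bcO hf E') ≫ bcM hf a = bcM hf a ≫ 𝟙 (bcO hf E))
    (y : PT (homMod (pushO hf) M) (𝟙 (bcO hf E))) :
    linRes a (actPT M E y) =
      actPT M E' (μ (homMod (pushO hf) M) (𝟙 (bcO hf E)) (𝟙 (bcO hf E')) (bcM hf a) a w y) := by
  induction y using PT.induction with
  | zero => simp only [map_zero]
  | tm r η =>
    refine ((congrArg (linRes a) (actPT_tm r η)).trans (linRes_act a r η)).trans ?_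
    refine Eq.trans ?_ (congrArg (actPT M E') (μ_tm (bcM hf a) a w r η)).symm
    exact (actPT_tm (gm (bcM hf a) r) (rs (homMod (pushO hf) M) a η)).symm
  | add x y hx hy => simp only [map_add, hx, hy]

set_option maxHeartbeats 1600000 in
/-- A nonzero map from the direct image of the structure sheaf. -/
theorem exists_hom_ne_zero (hfin : IsFiniteMor f) (hsurj : IsSurjectiveMor f) (hN : IsLocNoethSp Y.obj)
    (E₀ : EtOver X.obj) [IsIso E₀.obj.hom] [IsAffine E₀.obj.left.left] (U : EtOver Y.obj)
    [IsAffine U.obj.left.left] (hU : SerreC.Covers U) (M : ModEt Y.obj) [M.IsFinitePresentation]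
    (m : sectModEt M U) (hm : m ≠ 0) : ∃ φ : pushO hf ⟶ M, φ ≠ 0 := by
  have hqc : M.IsQuasicoherent := inferInstance
  have hG := isFinitePresentation_pushO hf hfin hN
  have hGq : (pushO hf).IsQuasicoherent := inferInstance
  have := isQuasicoherent_homMod (pushO hf) M hN
  let H := homMod (pushO hf) M
  let P := pullQC hf H
  have := isQuasicoherent_pullQC hf H
  have haff := isAffineMor_of_isFiniteMor hfin
  have hbc : ∀ V : EtOver Y.obj, IsAffine V.obj.left.left → IsAffine (bcO hf V).obj.left.left := fun V hV =>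
    isAffine_bcO_and_map (hf := hf) haff V
  have := hbc U ‹_›
  have huniq : ∀ {E : EtOver X.obj} (a b : E ⟶ E₀), a = b := fun a b =>
    EtOver.hom_ext _ _ ((yon S).map_injective ((cancel_mono E₀.obj.hom).1 ((EtOver.w a).trans (EtOver.w b).symm)))
  let p : ∀ E : EtOver X.obj, E ⟶ E₀ := fun E =>
    EtOver.homMk ((yon S).preimage (E.obj.hom ≫ inv E₀.obj.hom)) (by
      rw [Functor.map_preimage, Category.assoc, IsIso.inv_hom_id, Category.comp_id])
  -- the homomorphisms over the atlas are nonzero
  obtain ⟨η, hη⟩ : ∃ η : LinFam (pushO hf) M U, η ≠ 0 := by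
    have := isNoetherianRing_gr hN U
    let _ : Algebra (gr U) (gr (bcO hf U)) := (gπ hf U).toAlgebra
    have : Module.Finite (gr U) (gr (bcO hf U)) := finite_gπ (hf := hf) hfin U
    have : Nontrivial (sectModEt M U) := ⟨⟨m, 0, hm⟩⟩
    have hs : Function.Surjective (PrimeSpectrum.comap (algebraMap (gr U) (gr (bcO hf U)))) := by
      have hπ : Surjective (EtOver.bcπ hf U).left :=
        ((Groth.Agent.AlgSp.repWith_surjective_iff f hf).2 hsurj).2 _ _ _ (EtOver.isPullback_bcObj hf U)
      intro q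
      obtain ⟨u, hu⟩ := U.obj.left.left.isoSpec.hom.surjective q
      obtain ⟨z, rfl⟩ := hπ.surj u
      refine ⟨(bcO hf U).obj.left.left.toSpecΓ z, ?_⟩
      rw [← hu]
      change _ = ((EtOver.bcπ hf U).left ≫ U.obj.left.left.toSpecΓ) z
      rw [Scheme.toSpecΓ_naturality]
      rfl
    obtain ⟨φ, hφ⟩ := exists_linearMap_ne_zero hs (N := sectModEt M U)
    let L : gr (bcO hf U) ≃ₗ[gr U] sectModEt (pushO hf) U :=
      { toFun := fun b => (pushSect hf (unitModEt X.obj) U).symm (upΓ (bcO hf U) b)
        invFun := fun t => (pushSect hf (unitModEt X.obj) U t).down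
        left_inv := fun b => rfl
        right_inv := fun t => rfl
        map_add' := fun b b' => by rw [map_add]; rfl
        map_smul' := fun a b => map_mul (upΓ (bcO hf U)) (gπ hf U a) b }
    obtain ⟨e, -⟩ := exists_affine_eval (pushO hf) M (E := U)
    refine ⟨e.symm (φ.comp L.symm.toLinearMap), fun h => hφ ?_⟩
    have h' : φ.comp L.symm.toLinearMap = 0 := e.symm.injective (h.trans (map_zero e.symm).symm)
    refine LinearMap.ext fun b => ?_
    have := LinearMap.congr_fun h' (L b)
    simpa using this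
  let x : sectModEt P E₀ → LinFam (pushO hf) M U :=
    fun σ => actPT M U (pullEv H (𝟙 (bcO hf U)) (rs P (p _) σ))
  obtain ⟨σ, hσ⟩ : ∃ σ, x σ ≠ 0 := by
    by_contra! h0
    refine hη ?_
    have hall : ∀ y : sectModEt P (bcO hf U), actPT M U (pullEv H (𝟙 (bcO hf U)) y) = 0 := by
      intro y
      have hy := rs_mem_span_range (p (bcO hf U)) y
      induction hy using Submodule.span_induction with
      | mem z hz =>
        obtain ⟨σ, rfl⟩ := hz
        exact h0 σ
      | zero => exact ((actPT M U).comp (pullEv H (𝟙 (bcO hf U)))).map_zero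
      | add y y' _ _ hy hy' =>
        exact (((actPT M U).comp (pullEv H (𝟙 (bcO hf U)))).map_add y y').trans
          ((congrArg₂ (· + ·) hy hy').trans (add_zero _))
      | smul c y _ hy =>
        refine ((congrArg (actPT M U) (pullEv_smul (𝟙 (bcO hf U)) c y)).trans
          (actPT_smul c _)).trans ((congrArg (act c) hy).trans ?_)
        exact fam_ext fun V v hV z => (cmp_act c 0 v hV z).trans ((cmp_zero v hV _).trans (cmp_zero v hV z).symm)
    obtain ⟨y, hy⟩ := (bijective_pullEv (G := H) (𝟙 (bcO hf U))).2 (tm (𝟙 (bcO hf U)) 1 η)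
    have h1 := hall y
    rw [hy, actPT_tm] at h1
    refine Eq.trans ?_ h1
    refine fam_ext fun V v hV z => ?_
    rw [cmp_act]
    refine congrArg (cmp η v hV) ((pushSect hf (unitModEt X.obj) V).injective ?_)
    rw [pushSect_mulB, map_one, one_smul]
  -- invariance
  have hrs : ∀ (Z : EtOver Y.obj) (_ : IsAffine Z.obj.left.left) (_ : IsAffine (bcO hf Z).obj.left.left)
      (a : Z ⟶ U),
      linRes a (x σ) = actPT M Z (pullEv H (𝟙 (bcO hf Z)) (rs P (p _) σ)) := by
    intro Z hZ hZ' a
    have w : 𝟙 (bcO hf Z) ≫ bcM hf a = bcM hf a ≫ 𝟙 (bcO hf U) := by rw [Category.id_comp, Category.comp_id]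
    refine (linRes_actPT a w _).trans (congrArg (actPT M Z) ?_)
    rw [← pullEv_rs (𝟙 (bcO hf U)) (𝟙 (bcO hf Z)) (bcM hf a) a w, ← rs_comp, huniq (bcM hf a ≫ p _) (p _)]
  have hinv : SerreC.Inv H (x σ : sectModEt H U) := by
    intro Z a b
    refine eq_of_sieve (T := Sieve.generate (fun Z' (_ : Z' ⟶ Z) => IsAffine Z'.obj.left.left)) ?_ ?_
    · refine (AlgSpD.mem_etTop_iff _).2 fun z => ?_
      obtain ⟨E₂, g', hE₂, -, w, rfl⟩ := exists_affine_subObj (E := Z) isOpen_univ (Set.mem_univ z)
      exact ⟨E₂, g', Sieve.le_generate _ _ _ hE₂, w, rfl⟩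
    · rintro Z₁ c ⟨Z₂, c₁, c₂, hc, rfl⟩
      simp only [rs_comp c₂ c₁]
      congr 1
      rw [← rs_comp, ← rs_comp]
      exact (hrs Z₂ hc (hbc Z₂ hc) (c₂ ≫ a)).trans (hrs Z₂ hc (hbc Z₂ hc) (c₂ ≫ b)).symm
  obtain ⟨τ, hτ⟩ := SerreC.exists_sections hU hinv
  obtain ⟨φ, hφ⟩ := exists_hom_of_sections (pushO hf) M τ
  refine ⟨φ, fun h0 => hσ ?_⟩
  obtain ⟨e, he⟩ := exists_affine_eval (pushO hf) M (E := U)
  refine e.injective (LinearMap.ext fun z => ?_)
  rw [he, ← hτ, ← hφ U ‹_› z, h0, map_zero]
  rfl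

end Groth.Agent.AlgSpEN.HomC
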