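import Groth.Agent.AlgSpEN.Action
import Groth.Agent.AlgSp.QCMor
import Groth.Agent.BddFibLib.Univ
import Groth.Agent.BddFibLib.Points
import Groth.Agent.EtShriekLib.Proper
import Groth.Agent.AlgSpB.Charts
import Groth.Agent.S9920
import Groth.Agent.S0593

/-!
# The stratification of an algebraic space by the number of lifts to an etale chart
-/

universe u

open CategoryTheory CategoryTheory.Limits AlgebraicGeometry

set_option backward.isDefEq.respectTransparency false
set_option backward.isDefEq.respectTransparency.types false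
set_option autoImplicit false

namespace Groth.Agent.AlgSpEN

open _root_.AlgSp
open Groth.Agent.AlgSpB Groth.Agent.AlgSpB.Art

variable {S : Scheme.{u}} {F : Sp S} {U : Over S} {p : (yon S).obj U ⟶ F}

/-- The points over which some scheme has `n` pairwise distinct lifts to the chart. -/
def tupleLocus (p : (yon S).obj U ⟶ F) (n : ℕ) : Set (Points F) :=
  {x | ∃ (T : Over S) (t : T.left) (a : Fin n → (T ⟶ U)) (c : (yon S).obj T ⟶ F),
    Points.ofPt c t = x ∧ (∀ i, (yon S).map (a i) ≫ p = c) ∧
      ∀ (T' : Over S) (k : T' ⟶ T) (i j : Fin n), Nonempty T'.left → i ≠ j → k ≫ a i ≠ k ≫ a j}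

theorem tupleLocus_succ_subset (p : (yon S).obj U ⟶ F) (n : ℕ) : tupleLocus p (n + 1) ⊆ tupleLocus p n := by
  rintro x ⟨T, t, a, c, hx, ha, hd⟩
  exact ⟨T, t, fun i => a i.castSucc, c, hx, fun i => ha _,
    fun T' k i j hT hij => hd T' k _ _ hT fun h => hij (Fin.castSucc_injective _ h)⟩

theorem antitone_tupleLocus (p : (yon S).obj U ⟶ F) : Antitone (tupleLocus p) :=
  antitone_nat_of_succ_le (tupleLocus_succ_subset p)

theorem tupleLocus_one (hs : RepWith @Surjective p) : tupleLocus p 1 = Set.univ :=
  Set.eq_univ_of_forall fun x => by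
    obtain ⟨u, hu⟩ := surjective_ofPt hs x
    exact ⟨U, u, fun _ => 𝟙 U, p, hu, fun _ => by rw [CategoryTheory.Functor.map_id, Category.id_comp],
      fun T' k i j _ hij => absurd (Subsingleton.elim i j) hij⟩

theorem tupleLocus_zero (hs : RepWith @Surjective p) : tupleLocus p 0 = Set.univ :=
  Set.eq_univ_of_univ_subset ((tupleLocus_one hs).ge.trans (tupleLocus_succ_subset p 0))

/-- A scheme with one point on which two lifts agree after a nonempty base change has the lifts equal. -/
theorem eq_of_restrict_eq [IsAffine U.left] (hp : RepWith @Etale p) {T T' : Over S} [Subsingleton T.left]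
    [Nonempty T'.left] (k : T' ⟶ T) (a b : T ⟶ U) (hab : (yon S).map a ≫ p = (yon S).map b ≫ p)
    (h : k ≫ a = k ≫ b) : a = b := by
  obtain ⟨C, -, hC⟩ := exists_eqLocus hp a b hab
  have h1 : ∀ z : T.left, (𝟙 T : T ⟶ T).left z ∈ C := fun z => by
    rw [Subsingleton.elim ((𝟙 T : T ⟶ T).left z) (k.left (Classical.arbitrary _))]
    exact (hC T' k).1 h _
  simpa using (hC T (𝟙 T)).2 h1

/-- Outside the locus of longer tuples, a lift of a field point is one of the given distinct lifts. -/
theorem exists_eq_of_not_mem [IsAffine U.left] (hp : RepWith @Etale p) {n : ℕ} {T : Over S} [Subsingleton T.left]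
    (t : T.left) (c : (yon S).obj T ⟶ F) (hc : Points.ofPt c t ∉ tupleLocus p (n + 1))
    (a : Fin n → (T ⟶ U)) (ha : ∀ i, (yon S).map (a i) ≫ p = c)
    (hd : ∀ (T' : Over S) (k : T' ⟶ T) (i j : Fin n), Nonempty T'.left → i ≠ j → k ≫ a i ≠ k ≫ a j)
    (b : T ⟶ U) (hb : (yon S).map b ≫ p = c) : ∃ i, a i = b := by
  by_contra! h
  refine hc ⟨T, t, Fin.cons b a, c, rfl, Fin.cases (by simpa using hb) (fun i => by simpa using ha i), ?_⟩
  intro T' k i j hT hij
  induction i using Fin.cases with
  | zero =>
    induction j using Fin.cases with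
    | zero => exact absurd rfl hij
    | succ j =>
      simp only [Fin.cons_zero, Fin.cons_succ]
      exact fun e => h j (eq_of_restrict_eq hp k b (a j) (hb.trans (ha j).symm) e).symm
  | succ i =>
    induction j using Fin.cases with
    | zero =>
      simp only [Fin.cons_zero, Fin.cons_succ]
      exact fun e => h i (eq_of_restrict_eq hp k (a i) b ((ha i).trans hb.symm) e)
    | succ j =>
      simp only [Fin.cons_succ]
      exact hd T' k i j hT fun e => hij (congrArg Fin.succ e)

theorem exists_iInf_opens {X : Scheme.{u}} {ι : Type u} [Finite ι]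
    (C : ι → X.Opens) : ∃ O : X.Opens, ∀ z, z ∈ O ↔ ∀ i, z ∈ C i :=
  ⟨⟨⋂ i, (C i : Set X), isOpen_iInter_of_finite fun i => (C i).isOpen⟩, fun _ => Set.mem_iInter⟩

/-- The locus of tuples is the open image of the quotient chart of distinct tuples, which is injective on
points with values in schemes outside the locus of longer tuples. -/
theorem exists_stratum_chart [IsAffine U.left] (hF : IsAlgSpace F) (hp : RepWith @Etale p) (n : ℕ) :
    ∃ (M : Over S) (m : (yon S).obj M ⟶ F), RepWith @Etale m ∧ M.left.IsSeparated ∧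
      Set.range (Points.ofPt m) = tupleLocus p (n + 1) ∧
      ((RepWith @QuasiCompact p → CompactSpace M.left) ∧ (RepWith @IsAffineHom p → IsAffine M.left)) ∧
      ∀ (T : Over S) (a b : T ⟶ M), (yon S).map a ≫ m = (yon S).map b ≫ m →
        (∀ t, Points.ofPt ((yon S).map a ≫ m) t ∉ tupleLocus p (n + 2)) → a = b := by
  classical
  obtain ⟨V, g, i₀, M, m, q, hg, hge, hgs, hlift, hext, hdist, hcpt, hm, hqs, hqf, hqfl, hqp, hqm, hinv⟩ :=
    exists_sym_quotient hF hp (ULift.{u} (Fin (n + 1)))
  have := hqs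
  have := hqf
  have := hqfl
  have := hqp
  have hgi : ∀ i, (yon S).map (g i) ≫ p = (yon S).map q ≫ m := fun i => (hg i i₀).trans hqm.symm
  refine ⟨M, m, hm, ?_, ?_, ⟨fun hq => ?_, fun hq => ?_⟩, fun T a b hab hout => ?_⟩
  · have : IsSeparated (q.left ≫ terminal.from M.left) := by
      rw [terminal.comp_from, ← terminal.comp_from (g i₀).left]
      infer_instance
    exact ⟨Groth.Agent.EtShriekLib.isSeparated_of_comp_surjective q.left (terminal.from M.left)⟩
  · apply Set.Subset.antisymm
    · rintro _ ⟨y, rfl⟩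
      obtain ⟨v, rfl⟩ := q.left.surjective y
      exact ⟨V, v, fun i => g ⟨i⟩, (yon S).map q ≫ m, ofPt_map_comp q m v, fun i => hgi _,
        fun T' k i j hT hij => hdist T' k _ _ hT fun e => hij (congrArg ULift.down e)⟩
    · rintro _ ⟨T, t, a, c, rfl, ha, hd⟩
      obtain ⟨h, hh⟩ := hlift T (fun i => a i.down) (fun i j => (ha _).trans (ha _).symm)
        (fun T' k i j hT hij => hd T' k _ _ hT fun e => hij (ULift.down_injective e))
      refine ⟨q.left (h.left t), ?_⟩
      rw [← ofPt_map_comp, ← ofPt_map_comp, ← Category.assoc, ← Functor.map_comp,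
        Functor.map_comp, Category.assoc, ← hgi i₀, ← Category.assoc, ← Functor.map_comp, hh, ha]
  · have := hcpt.1 hq
    exact ⟨q.left.surjective.range_eq ▸ isCompact_range q.left.continuous⟩
  · have := hcpt.2 hq
    exact S0593.result _ _ q.left
  -- cover by tuples
  have p1 := isPullback_map_left (IsPullback.of_hasPullback q a)
  let k₁ : pullback q a ⟶ T := pullback.snd q a
  have p2 := isPullback_map_left (IsPullback.of_hasPullback q (k₁ ≫ b))
  let k₂ : pullback q (k₁ ≫ b) ⟶ pullback q a := pullback.snd q (k₁ ≫ b)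
  let a' : pullback q (k₁ ≫ b) ⟶ V := k₂ ≫ pullback.fst q a
  let b' : pullback q (k₁ ≫ b) ⟶ V := pullback.fst q (k₁ ≫ b)
  have : Flat k₁.left := MorphismProperty.of_isPullback p1 hqfl
  have : Surjective k₁.left := MorphismProperty.of_isPullback p1 hqs
  have : Flat k₂.left := MorphismProperty.of_isPullback p2 hqfl
  have : Surjective k₂.left := MorphismProperty.of_isPullback p2 hqs
  have ha' : a' ≫ q = (k₂ ≫ k₁) ≫ a := by simp only [a', k₁, Category.assoc, pullback.condition]
  have hb' : b' ≫ q = (k₂ ≫ k₁) ≫ b := by simp only [b', k₂, Category.assoc, pullback.condition]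
  have hai : ∀ i, (yon S).map (a' ≫ g i) ≫ p = (yon S).map (k₂ ≫ k₁) ≫ (yon S).map a ≫ m := fun i => by
    rw [Functor.map_comp, Category.assoc, hgi, ← Category.assoc, ← Functor.map_comp, ha', Functor.map_comp,
      Category.assoc]
  have hbi : ∀ i, (yon S).map (b' ≫ g i) ≫ p = (yon S).map (k₂ ≫ k₁) ≫ (yon S).map a ≫ m := fun i => by
    rw [Functor.map_comp, Category.assoc, hgi, ← Category.assoc, ← Functor.map_comp, hb', Functor.map_comp,
      Category.assoc, hab]
  choose C hC hCiff using fun i j : ULift.{u} (Fin (n + 1)) =>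
    exists_eqLocus hp (a' ≫ g i) (b' ≫ g j) ((hai i).trans (hbi j).symm)
  have hτ : ∀ t : (pullback q (k₁ ≫ b)).left, ∃ τ : Equiv.Perm (ULift.{u} (Fin (n + 1))), ∀ i, t ∈ C (τ i) i := by
    intro t
    let P : Over S := Over.mk ((pullback q (k₁ ≫ b)).left.fromSpecResidueField t ≫ (pullback q (k₁ ≫ b)).hom)
    let κ : P ⟶ pullback q (k₁ ≫ b) := Over.homMk ((pullback q (k₁ ≫ b)).left.fromSpecResidueField t) rfl
    have : Subsingleton P.left := inferInstanceAs (Subsingleton (PrimeSpectrum _))
    have : Nonempty P.left := inferInstanceAs (Nonempty (PrimeSpectrum _))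
    let s : P.left := Classical.arbitrary _
    have hκ : κ.left s = t := Scheme.fromSpecResidueField_apply _ _
    let c : (yon S).obj P ⟶ F := (yon S).map κ ≫ (yon S).map (k₂ ≫ k₁) ≫ (yon S).map a ≫ m
    have hc : Points.ofPt c s ∉ tupleLocus p (n + 2) := by
      change Points.ofPt ((yon S).map κ ≫ (yon S).map (k₂ ≫ k₁) ≫ (yon S).map a ≫ m) s ∉ _
      rw [ofPt_map_comp, ofPt_map_comp]
      exact hout _
    have key : ∀ j : ULift.{u} (Fin (n + 1)), ∃ i, κ ≫ a' ≫ g i = κ ≫ b' ≫ g j := fun j => by
      obtain ⟨i, hi⟩ := exists_eq_of_not_mem hp s c hc (fun i => κ ≫ a' ≫ g ⟨i⟩)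
        (fun i => by rw [Functor.map_comp, Category.assoc, hai])
        (fun T' k i j hT hij e => hdist T' (k ≫ κ ≫ a') ⟨i⟩ ⟨j⟩ hT (fun e' => hij (congrArg ULift.down e'))
          (by simpa only [Category.assoc] using e))
        (κ ≫ b' ≫ g j) (by rw [Functor.map_comp, Category.assoc, hbi])
      exact ⟨⟨i⟩, hi⟩
    choose τ hτ using key
    have hinj : Function.Injective τ := fun j j' e => by
      by_contra hne
      refine hdist P (κ ≫ b') j j' ‹Nonempty P.left› hne ?_
      rw [Category.assoc, Category.assoc, ← hτ j, ← hτ j', e]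
    refine ⟨Equiv.ofBijective τ (Finite.injective_iff_bijective.1 hinj), fun i => ?_⟩
    rw [← hκ]
    exact (hCiff _ _ P κ).1 (hτ i) s
  choose τ hτ using hτ
  choose O hO using fun t => exists_iInf_opens fun i : ULift.{u} (Fin (n + 1)) => C (τ t i) i
  have key : a' ≫ q = b' ≫ q := by
    refine (yon S).map_injective (Groth.Agent.AlgSp.InfGlue.hom_ext_cover
      (fun t => (Over.homMk (O t).ι rfl : Over.mk ((O t).ι ≫ (pullback q (k₁ ≫ b)).hom) ⟶ pullback q (k₁ ≫ b)))
      (fun t => inferInstanceAs (Etale (O t).ι))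
      (fun t => ⟨t, ⟨t, (hO t t).2 (hτ t)⟩, rfl⟩) _ _ fun t => ?_)
    rw [← Functor.map_comp, ← Functor.map_comp]
    congr 1
    let h : Over.mk ((O t).ι ≫ (pullback q (k₁ ≫ b)).hom) ⟶ pullback q (k₁ ≫ b) := Over.homMk (O t).ι rfl
    change h ≫ a' ≫ q = h ≫ b' ≫ q
    rw [← Category.assoc, ← Category.assoc]
    refine (hinv _ (h ≫ a') (h ≫ b') (τ t) fun i => ?_).symm
    rw [Category.assoc, Category.assoc]
    exact ((hCiff (τ t i) i _ h).2 fun z => (hO t (h.left z)).1 (Subtype.prop (z : ↥(O t))) i).symm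
  rw [ha', hb'] at key
  have : Epi (k₂ ≫ k₁) := by
    have : Epi ((Over.forget S).map (k₂ ≫ k₁)) := by
      change Epi (k₂.left ≫ k₁.left)
      exact Flat.epi_of_flat_of_surjective _
    exact (Over.forget S).epi_of_epi_map this
  exact (cancel_epi (k₂ ≫ k₁)).1 key

/-- A map from a scheme whose fibre product with the chart is quasi-compact meets only boundedly many loci. -/
theorem exists_bound_tupleLocus [IsAffine U.left] (hF : IsAlgSpace F) (hp : RepWith @Etale p)
    {Y R : Over S} (b : (yon S).obj Y ⟶ F) (fst : R ⟶ U) (snd : R ⟶ Y)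
    (sq : IsPullback ((yon S).map fst) ((yon S).map snd) p b) [CompactSpace R.left] :
    ∃ N : ℕ, ∀ y, Points.ofPt b y ∉ tupleLocus p (N + 1) := by
  have : Etale snd.left := hp.2 _ _ _ sq
  have : LocallyQuasiFinite snd.left := AlgSpB.locallyQuasiFinite_of_etale snd.left
  obtain ⟨d, hd⟩ := BddFibLib.univBounded_of_locallyQuasiFinite snd.left
  refine ⟨d, ?_⟩
  rintro y ⟨T, t, a, c, hx, ha, hdist⟩
  obtain ⟨W, w₁, w₂, sqW⟩ := exists_pullback_yon (hF.representable_from_yon c) b
  obtain ⟨w, -, -⟩ := (ofPt_eq_ofPt_iff sqW t y).1 hx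
  let P : Over S := Over.mk (W.left.fromSpecResidueField w ≫ W.hom)
  let κ : P ⟶ W := Over.homMk (W.left.fromSpecResidueField w) rfl
  have : Nonempty P.left := inferInstanceAs (Nonempty (PrimeSpectrum _))
  let yP : P ⟶ Y := κ ≫ w₂
  have hl : ∀ i, ∃ e : P ⟶ R, e ≫ fst = κ ≫ w₁ ≫ a i ∧ e ≫ snd = yP := fun i => by
    obtain ⟨e, he1, he2⟩ := sq.exists_lift ((yon S).map (κ ≫ w₁ ≫ a i)) ((yon S).map yP) (by
      simp only [yP, Functor.map_comp, Category.assoc, ha, sqW.w])
    obtain ⟨e, rfl⟩ := (yon S).map_surjective e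
    exact ⟨e, (yon S).map_injective (by rw [Functor.map_comp, he1]),
      (yon S).map_injective (by rw [Functor.map_comp, he2])⟩
  choose e he1 he2 using hl
  let g : Spec (CommRingCat.of (W.left.residueField w)) ⟶ Y.left := yP.left
  let s : Fin (d + 1) → (Spec (CommRingCat.of (W.left.residueField w)) ⟶ pullback snd.left g) := fun i =>
    pullback.lift (e i).left (𝟙 _) (by rw [← Over.comp_left, he2, Category.id_comp])
  have hs : ∀ i, s i ≫ pullback.snd snd.left g = 𝟙 _ := fun i => pullback.lift_snd _ _ _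
  have hopen : ∀ i, IsOpenImmersion (s i) := fun i => by
    have : Etale (s i ≫ pullback.snd snd.left g) := by rw [hs i]; infer_instance
    have : Etale (s i) := MorphismProperty.of_postcomp @Etale (s i) (pullback.snd snd.left g)
      (MorphismProperty.pullback_snd (P := @Etale) _ _ ‹Etale snd.left›) this
    have : Mono (s i ≫ pullback.snd snd.left g) := by rw [hs i]; infer_instance
    have : Mono (s i) := mono_of_mono _ (pullback.snd snd.left g)
    exact IsOpenImmersion.of_flat_of_mono _
  obtain ⟨hfin, hcard⟩ := BddFibLib.natCard_le snd.left hd g |> fun h => (⟨h.1, h.2.1⟩ : _ ∧ _)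
  have := hfin
  let z : Spec (CommRingCat.of (W.left.residueField w)) := Classical.arbitrary _
  have hinj : Function.Injective fun i => s i z := by
    intro i j hij
    by_contra hne
    have := hopen i
    have := hopen j
    have hr : Set.range (s j) ⊆ Set.range (s i) := by
      rintro _ ⟨z', rfl⟩
      rw [Subsingleton.elim (α := PrimeSpectrum (W.left.residueField w)) z' z]
      exact ⟨z, hij⟩
    have h1 := IsOpenImmersion.lift_fac (s i) (s j) hr
    have h2 : IsOpenImmersion.lift (s i) (s j) hr = 𝟙 _ := by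
      have h3 := congrArg (· ≫ pullback.snd snd.left g) h1
      simpa only [Category.assoc, hs, Category.comp_id] using h3
    rw [h2, Category.id_comp] at h1
    have h4 : e i = e j := Over.OverMorphism.ext (by
      have h5 := congrArg (· ≫ pullback.fst snd.left g) h1
      simpa only [s, pullback.lift_fst] using h5)
    refine hdist P (κ ≫ w₁) i j inferInstance hne ?_
    rw [Category.assoc, Category.assoc, ← he1, ← he1, h4]
  have := (Nat.card_le_card_of_injective _ hinj).trans hcard
  simp at this

/-- An affine chart of an algebraic space quasi-separated over a quasi-separated base is quasi-compact. -/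
theorem repWith_quasiCompact_chart [QuasiSeparatedSpace ↥S] (X : Space S) (hX : IsQuasiSeparatedSp X.obj)
    {T : Over S} [CompactSpace T.left] (a : (yon S).obj T ⟶ X.obj) : RepWith @QuasiCompact a :=
  (Groth.Agent.AlgSp.repWith_quasiCompact_iff X.property a (X.property.representable_from_yon a)).2
    (Groth.Agent.S9920.result (X := ⟨(yon S).obj T, IsAlgSpace.yon_obj T⟩) (ObjectProperty.homMk a)
      (Groth.Agent.AlgSp.isQuasiCompactSp_yon T) hX)

/-- With a quasi-compact chart the loci are eventually empty. -/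
theorem exists_tupleLocus_eq_empty [IsAffine U.left] (hF : IsAlgSpace F) (hp : RepWith @Etale p)
    (hs : RepWith @Surjective p) (hq : RepWith @QuasiCompact p) : ∃ N, tupleLocus p (N + 1) = ∅ := by
  obtain ⟨R, fst, snd, sq⟩ := exists_pullback_yon hp.1 p
  have : QuasiCompact snd.left := hq.2 _ _ _ sq
  have : CompactSpace R.left := QuasiCompact.compactSpace_of_compactSpace snd.left
  obtain ⟨N, hN⟩ := exists_bound_tupleLocus hF hp p fst snd sq
  refine ⟨N, Set.eq_empty_iff_forall_notMem.2 fun x hx => ?_⟩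
  obtain ⟨u, rfl⟩ := surjective_ofPt hs x
  exact hN u hx

end Groth.Agent.AlgSpEN
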