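import Groth.Agent.AlgSpEN.RelBound
import Groth.Agent.AlgSp.AffineMor
import Groth.Agent.AlgSpEN.Strata

/-!
# Vanishing in degrees at least the number of geometric lifts
-/

set_option autoImplicit false
universe u

open CategoryTheory CategoryTheory.Limits AlgebraicGeometry Opposite

set_option backward.isDefEq.respectTransparency false
set_option backward.isDefEq.respectTransparency.types false

noncomputable section

namespace Groth.Agent.AlgSpEN.Bound

open _root_.AlgSp

variable {S : Scheme.{u}} {X : AlgSp.Space S}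

theorem isAffine_pullback_sep [S.IsSeparated] (hsep : IsSeparatedSp X.obj) {A B W : Over S} [IsAffine A.left]
    [IsAffine B.left] {a : (yon S).obj A ⟶ X.obj} {b : (yon S).obj B ⟶ X.obj} {fst : W ⟶ A} {snd : W ⟶ B}
    (sq : IsPullback ((yon S).map fst) ((yon S).map snd) a b) : IsAffine W.left := by
  have h : IsClosedImmersion (AlgSpB.pairHom fst snd) := AlgSpB.prop_pairHom hsep sq
  have : IsAffineHom A.hom := IsAffineHom.of_comp A.hom (terminal.from S)
  have : IsAffine (pullback A.hom B.hom) := isAffine_of_isAffineHom (pullback.snd A.hom B.hom)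
  exact isAffine_of_isAffineHom (AlgSpB.pairHom fst snd)

theorem isAffine_prodObj [S.IsSeparated] (hsep : IsSeparatedSp X.obj) (E₁ E₂ : EtOver X.obj)
    [IsAffine E₁.obj.left.left] [IsAffine E₂.obj.left.left] : IsAffine (EtOver.prodObj E₁ E₂).obj.left.left := by
  obtain ⟨fst, hf⟩ := (yon S).map_surjective (E₂.property.1.fst E₁.obj.hom)
  have sq := E₂.property.1.isPullback E₁.obj.hom
  rw [← hf] at sq
  exact isAffine_pullback_sep hsep sq

theorem repWith_isAffineHom_chart [S.IsSeparated] (hsep : IsSeparatedSp X.obj) {U : Over S} [IsAffine U.left]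
    {f : (yon S).obj U ⟶ X.obj} (hf : Representable f) : RepWith @IsAffineHom f := by
  refine (Groth.Agent.AlgSp.isAffineMor_iff f).1 ?_
  intro Z hZ g
  obtain ⟨W, fst, snd, sq⟩ := AlgSpB.exists_pullback_yon hf g
  exact ⟨W, snd, (yon S).map fst, sq, isAffine_pullback_sep hsep sq⟩

theorem tupleLocus_eq_empty {U : Over S} (f : (yon S).obj U ⟶ X.obj) (hf : RepWith @Etale f) (d : ℕ)
    (hd : ∀ x : FieldPt X.obj, x.IsGeometric → ENat.card ((FieldPt.liftsTo x).obj (EtOver.mk f hf)) ≤ d) :
    tupleLocus f (d + 1) = ∅ := by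
  refine Set.eq_empty_iff_forall_notMem.2 ?_
  rintro _ ⟨T, t, a, c, rfl, ha, hdist⟩
  let K := AlgebraicClosure (T.left.residueField t)
  let σ : Spec (CommRingCat.of K) ⟶ T.left :=
    Spec.map (CommRingCat.ofHom (algebraMap (T.left.residueField t) K)) ≫ T.left.fromSpecResidueField t
  let P : Over S := Over.mk (σ ≫ T.hom)
  let κ : P ⟶ T := Over.homMk σ rfl
  let x : FieldPt X.obj :=
    { K := K, str := σ ≫ T.hom, val := (J S).uliftYonedaEquiv ((yon S).map κ ≫ c) }
  have hx : x.toHom = (yon S).map κ ≫ c := (J S).uliftYonedaEquiv.symm_apply_apply _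
  have hne : Nonempty x.pt.left := inferInstanceAs (Nonempty (PrimeSpectrum K))
  let g : Fin (d + 1) → (FieldPt.liftsTo x).obj (EtOver.mk f hf) := fun i =>
    ⟨κ ≫ a i, by
      change (yon S).map (κ ≫ a i) ≫ f = x.toHom
      rw [Functor.map_comp, Category.assoc, ha, hx]⟩
  have hg : Function.Injective g := fun i j hij => by
    by_contra h
    exact hdist P κ i j hne h (congrArg Subtype.val hij)
  have hgeo : x.IsGeometric := inferInstanceAs (IsAlgClosed K)
  have h := (ENat.card_le_card_of_injective hg).trans (hd x hgeo)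
  rw [ENat.card_eq_coe_fintype_card, Fintype.card_fin] at h
  exact absurd (ENat.natCast_le_natCast.1 h) (by omega)

theorem famBound_univ_of_fibre_card [S.IsSeparated] (hsep : IsSeparatedSp X.obj) {U : Over S} [IsAffine U.left]
    (f : (yon S).obj U ⟶ X.obj) (hf : RepWith @Etale f) (hfs : RepWith @Surjective f) (d : ℕ)
    (hd : tupleLocus f (d + 2) = ∅) (F : AbEt X.obj) (hF : Amitsur.Cech F) :
    FamBound d (Set.univ : Set (Points X.obj)) F := by
  have haff := repWith_isAffineHom_chart hsep hf.1
  have chart : ∀ n, ∃ M : EtOver X.obj, IsAffine M.obj.left.left ∧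
      Set.range (Points.ofPt M.obj.hom) = tupleLocus f (n + 1) ∧ InjOutside M.obj.hom (tupleLocus f (n + 2)) ∧
      IsOpen (tupleLocus f (n + 1)) := fun n => by
    obtain ⟨M, m, hm, -, hr, hc, hinj⟩ := exists_stratum_chart X.property hf n
    refine ⟨EtOver.mk m hm, hc.2 haff, hr, hinj, ?_⟩
    rw [← hr, ← Set.image_univ]
    exact AlgSpB.isOpenMap_ofPt hm _ isOpen_univ
  suffices H : ∀ j n, n + j = d → RelBound j (tupleLocus f (n + 1)) (point X) F ∧
      ∀ E₀ : EtOver X.obj, IsAffine E₀.obj.left.left → RelBound j (tupleLocus f (n + 1)) (yoneda.obj E₀) F by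
    have h := famBound_of_relBound (H d 0 (zero_add d)).1
    rwa [zero_add, tupleLocus_one hfs] at h
  intro j
  induction j with
  | zero =>
    intro n hn
    obtain rfl : n = d := by omega
    obtain ⟨M, hM, hr, hinj, -⟩ := chart n
    have hB : tupleLocus f (n + 1) = (∅ : Set (Points X.obj)) ∪ Set.range (Points.ofPt M.obj.hom) := by
      rw [Set.empty_union, hr]
    rw [hd] at hinj
    have hext : ∀ {W P : EtOver X.obj} (i : W ⟶ P), Lies (∅ : Set (Points X.obj)) W →
        ∀ k, 0 ≤ k → Function.Surjective ((cz k F).obj.map i.op).hom := fun {W P} i hW k _ t => by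
      have := isEmpty_of_lies_empty hW
      exact ⟨0, @Subsingleton.elim _ (PushIntegral.sect_subsingleton_of_isEmpty (cz k F) W) _ _⟩
    rw [hB]
    refine ⟨?_, fun E₀ hE₀ => ?_⟩
    · obtain ⟨W, i, hi, hW, -, hfac⟩ := exists_piece_lift (isOpen_empty (X := Points X.obj)) M
      have := mono_of_isOpenImmersion i hi
      exact relBound_step_point isOpen_empty M hinj hF i hW hfac (relBound_empty _ F) (hext i hW)
    · have := isAffine_prodObj hsep M E₀
      obtain ⟨W, i, hi, hW, -, hfac⟩ := exists_piece_lift (isOpen_empty (X := Points X.obj)) (EtOver.prodObj M E₀)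
      have := mono_of_isOpenImmersion i hi
      exact relBound_step_yoneda isOpen_empty M E₀ hinj hF i hW hfac (relBound_empty _ F) (hext i hW)
  | succ j ih =>
    intro n hn
    obtain ⟨ihp, ihy⟩ := ih (n + 1) (by omega)
    obtain ⟨M, hM, hr, hinj, -⟩ := chart n
    obtain ⟨-, -, -, -, hA⟩ := chart (n + 1)
    have hB : tupleLocus f (n + 1) = tupleLocus f (n + 1 + 1) ∪ Set.range (Points.ofPt M.obj.hom) := by
      rw [hr, Set.union_eq_self_of_subset_left (tupleLocus_succ_subset f (n + 1))]
    rw [hB]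
    have hext : ∀ {W P : EtOver X.obj} (i : W ⟶ P) [Mono i] [IsAffine P.obj.left.left],
        Lies (tupleLocus f (n + 1 + 1)) W →
        (∀ (Z : EtOver X.obj) (g : Z ⟶ P), Lies (tupleLocus f (n + 1 + 1)) Z → ∃ l, l ≫ i = g) →
        ∀ k, j + 1 ≤ k → Function.Surjective ((cz k F).obj.map i.op).hom := fun {W P} i _ hP hW hfac k hk => by
      obtain ⟨k, rfl⟩ : ∃ l, k = l + 1 := ⟨k - 1, by omega⟩
      exact exists_extend (by omega) i (objBound_of_relBound i hW hfac (ihy P hP))
    refine ⟨?_, fun E₀ hE₀ => ?_⟩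
    · obtain ⟨W, i, hi, hW, -, hfac⟩ := exists_piece_lift hA M
      have := mono_of_isOpenImmersion i hi
      exact relBound_step_point hA M hinj hF i hW hfac (relBound_mono (by omega) ihp) (hext i hW hfac)
    · have := isAffine_prodObj hsep M E₀
      obtain ⟨W, i, hi, hW, -, hfac⟩ := exists_piece_lift hA (EtOver.prodObj M E₀)
      have := mono_of_isOpenImmersion i hi
      exact relBound_step_yoneda hA M E₀ hinj hF i hW hfac (relBound_mono (by omega) (ihy E₀ hE₀)) (hext i hW hfac)

/-- Every abelian sheaf vanishes when there are no points. -/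
theorem isZero_of_isEmpty [IsEmpty (Points X.obj)] (F : AbEt X.obj) : IsZero F := by
  have h : ∀ E : EtOver X.obj, Subsingleton (F.obj.obj (op E)) := fun E =>
    have : IsEmpty E.obj.left.left := ⟨fun z => isEmptyElim (Points.ofPt E.obj.hom z)⟩
    PushIntegral.sect_subsingleton_of_isEmpty F E
  rw [IsZero.iff_id_eq_zero]
  ext E s
  exact @Subsingleton.elim _ (h E.unop) _ _

end Groth.Agent.AlgSpEN.Bound
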