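import Groth.Prelude.Def_AlgSpEt
import Groth.Agent.AlgSpEN.StrataSq
import Groth.Agent.AlgSp.PointsMor
import Groth.Agent.AlgSp.LimAffineMor

/-!
# Induction over the open subspaces of a quasi-compact quasi-separated algebraic space
-/

universe u

open CategoryTheory CategoryTheory.Limits AlgebraicGeometry

set_option backward.isDefEq.respectTransparency false
set_option backward.isDefEq.respectTransparency.types false
set_option autoImplicit false

namespace Groth.Agent.AlgSpEN

open _root_.AlgSp
open Groth.Agent.AlgSpB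

variable {S : Scheme.{u}}

/-- A map from a scheme which separates points with values in schemes lying outside a set. -/
def InjOutside {F : Sp S} {V : Over S} (f : (yon S).obj V ⟶ F) (A : Set (Points F)) : Prop :=
  ∀ (T : Over S) (a b : T ⟶ V), (yon S).map a ≫ f = (yon S).map b ≫ f →
    (∀ t, Points.ofPt ((yon S).map a ≫ f) t ∉ A) → a = b

theorem injOutside_univ {F : Sp S} {V : Over S} (f : (yon S).obj V ⟶ F) : InjOutside f Set.univ :=
  fun T _ _ _ h => Over.OverMorphism.ext
    ((have : IsEmpty T.left := ⟨fun t => h t (Set.mem_univ _)⟩; isInitialOfIsEmpty.hom_ext _ _))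

/-- Compactness of the loci of tuples of a quasi-compact chart. -/
theorem isCompact_tupleLocus {X : Space S} {U : Over S} [IsAffine U.left] (p : (yon S).obj U ⟶ X.obj)
    (hp : RepWith @Etale p) (hq : RepWith @QuasiCompact p) (n : ℕ) : IsCompact (tupleLocus p (n + 1)) := by
  obtain ⟨M, m, -, -, hr, hc, -⟩ := exists_stratum_chart X.property hp n
  have := hc.1 hq
  rw [← hr]
  exact isCompact_range (Points.continuous_ofPt m)

/-- Induction over quasi-compact open subsets by affine etale maps which are injective outside. -/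
theorem openInduction [QuasiSeparatedSpace ↥S] (X : Space S) (hqc : IsQuasiCompactSp X.obj)
    (hqs : IsQuasiSeparatedSp X.obj) (A₀ : Set (Points X.obj)) (hA₀ : IsOpen A₀) (hA₀c : IsCompact A₀)
    (Q : Set (Points X.obj) → Prop) (h0 : Q A₀)
    (step : ∀ (A : Set (Points X.obj)) (V : Over S) (f : (yon S).obj V ⟶ X.obj), IsOpen A → IsCompact A →
      A₀ ⊆ A → IsAffine V.left → RepWith @Etale f → InjOutside f A → Q A → Q (A ∪ Set.range (Points.ofPt f))) :
    Q Set.univ := by
  classical
  obtain ⟨U, p, hU, hp, hs⟩ := exists_affine_atlas X hqc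
  have := hU
  have hq := repWith_quasiCompact_chart X hqs p
  obtain ⟨N, hN⟩ := exists_tupleLocus_eq_empty X.property hp hs hq
  suffices H : ∀ d n, n + d = N → Q (A₀ ∪ tupleLocus p (n + 1)) by
    have := H N 0 (zero_add N)
    rwa [tupleLocus_one hs, Set.union_univ] at this
  intro d
  induction d with
  | zero =>
    intro n hn
    obtain rfl : n = N := by omega
    rwa [hN, Set.union_empty]
  | succ d ih =>
    intro n hn
    have hB := ih (n + 1) (by omega)
    obtain ⟨M, m, hm, -, hr, hc, hinj⟩ := exists_stratum_chart X.property hp n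
    have := hc.1 hq
    have hopen : IsOpen (tupleLocus p (n + 2)) := by
      obtain ⟨M', m', hm', -, hr', -, -⟩ := exists_stratum_chart X.property hp (n + 1)
      rw [← hr', ← Set.image_univ]
      exact isOpenMap_ofPt hm' _ isOpen_univ
    let W : M.left.affineOpens → Set (Points X.obj) := fun O => Points.ofPt m '' (O.1 : Set M.left)
    obtain ⟨s, hs'⟩ := isCompact_univ.elim_finite_subcover (fun O : M.left.affineOpens => (O.1 : Set M.left))
      (fun O => O.1.isOpen) (fun x _ => by
        obtain ⟨O, hO, hxO, -⟩ := exists_isAffineOpen_mem_and_subset (x := x) (U := ⊤) trivial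
        exact Set.mem_iUnion.2 ⟨⟨O, hO⟩, hxO⟩)
    have key : ∀ t : Finset M.left.affineOpens, Q (A₀ ∪ tupleLocus p (n + 2) ∪ ⋃ O ∈ t, W O) := by
      intro t
      induction t using Finset.induction with
      | empty => simpa using hB
      | insert O t hO iht =>
        have hB' : A₀ ∪ tupleLocus p (n + 2) ∪ ⋃ O' ∈ insert O t, W O' =
            (A₀ ∪ tupleLocus p (n + 2) ∪ ⋃ O' ∈ t, W O') ∪ Set.range
              (Points.ofPt ((yon S).map (Over.homMk O.1.ι rfl : Over.mk (O.1.ι ≫ M.hom) ⟶ M) ≫ m)) := by
          have : Set.range (Points.ofPt ((yon S).map (Over.homMk O.1.ι rfl : Over.mk (O.1.ι ≫ M.hom) ⟶ M) ≫ m)) =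
              W O := by
            rw [range_ofPt_map_comp]
            exact congrArg (Points.ofPt m '' ·) O.1.range_ι
          rw [this, Finset.set_biUnion_insert, Set.union_comm (W O), ← Set.union_assoc]
        rw [hB']
        refine step _ _ _ ((hA₀.union hopen).union (isOpen_biUnion fun O' _ => isOpenMap_ofPt hm _ O'.1.isOpen))
          ((hA₀c.union (isCompact_tupleLocus p hp hq _)).union
            (t.isCompact_biUnion fun O' _ => O'.2.isCompact.image (Points.continuous_ofPt m)))
          (Set.subset_union_left.trans Set.subset_union_left) O.2 ?_ ?_ iht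
        · have : Etale (Over.homMk O.1.ι rfl : Over.mk (O.1.ι ≫ M.hom) ⟶ M).left := inferInstanceAs (Etale O.1.ι)
          exact repWith_etale_map_comp _ hm
        · intro T a b hab hout
          have : Mono (Over.homMk O.1.ι rfl : Over.mk (O.1.ι ≫ M.hom) ⟶ M) :=
            (Over.forget S).mono_of_mono_map (inferInstanceAs (Mono O.1.ι))
          rw [← cancel_mono (Over.homMk O.1.ι rfl : Over.mk (O.1.ι ≫ M.hom) ⟶ M)]
          refine hinj T _ _ (by simpa only [Functor.map_comp, Category.assoc] using hab) fun t' ht' => ?_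
          rw [Functor.map_comp, Category.assoc] at ht'
          exact hout t' (Or.inl (Or.inr ht'))
    have := key s
    convert this using 1
    have hW : Set.range (Points.ofPt m) ⊆ ⋃ O ∈ s, W O := by
      rintro _ ⟨x, rfl⟩
      obtain ⟨O, hO, hx⟩ := Set.mem_iUnion₂.1 (hs' (Set.mem_univ x))
      exact Set.mem_iUnion₂.2 ⟨O, hO, x, hx, rfl⟩
    apply Set.Subset.antisymm
    · rw [← hr]
      exact Set.union_subset (Set.subset_union_left.trans Set.subset_union_left)
        (hW.trans Set.subset_union_right)
    · refine Set.union_subset (Set.union_subset_union_right _ (tupleLocus_succ_subset p (n + 1))) ?_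
      refine (Set.iUnion₂_subset fun O _ => ?_).trans Set.subset_union_right
      rw [← hr]
      exact Set.image_subset_range _ _

/-- The points of an open subspace form an open subset. -/
theorem isOpenEmbedding_map {X W : Space S} (j : W ⟶ X) (hj : RepWith @IsOpenImmersion j.hom) :
    Topology.IsOpenEmbedding (Points.map j.hom) := by
  have := mono_of_isOpenImmersion hj
  exact Topology.IsOpenEmbedding.of_continuous_injective_isOpenMap (Points.continuous_map _)
    (injective_map_of_mono j.hom) (Groth.Agent.AlgSp.isOpenMap_map_of_repWith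
      (Groth.Agent.AlgSp.repWith_mono (Q := @UniversallyOpen)
        (fun g hg => have : IsOpenImmersion g := hg; inferInstance) hj))

/-- A quasi-compact open subset gives a quasi-compact open subspace. -/
theorem isQuasiCompactSp_of_isCompact_range {X W : Space S} (j : W ⟶ X) (hj : RepWith @IsOpenImmersion j.hom)
    (hc : IsCompact (Set.range (Points.map j.hom))) : IsQuasiCompactSp W.obj :=
  Groth.Agent.AlgSp.isQuasiCompactSp_of_compactSpace W.property
    ⟨(isOpenEmbedding_map j hj).isInducing.isCompact_iff.2 (by rwa [Set.image_univ])⟩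

theorem isCompact_range_map {X W : Space S} (j : W ⟶ X) (hW : IsQuasiCompactSp W.obj) :
    IsCompact (Set.range (Points.map j.hom)) :=
  have := compactSpace_points_of_isQuasiCompactSp hW
  isCompact_range (Points.continuous_map _)

/-- An affine etale map, injective outside an open subspace, gives an elementary distinguished square. -/
theorem exists_isElemDistSq {X W₁ W₂ : Space S} (j₁ : W₁ ⟶ X) (j₂ : W₂ ⟶ X)
    (hj₁ : RepWith @IsOpenImmersion j₁.hom) (hj₂ : RepWith @IsOpenImmersion j₂.hom)
    {V : Over S} (f : (yon S).obj V ⟶ X.obj) (hf : RepWith @Etale f)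
    (hr : Set.range (Points.map j₂.hom) = Set.range (Points.map j₁.hom) ∪ Set.range (Points.ofPt f))
    (hinj : InjOutside f (Set.range (Points.map j₁.hom))) :
    ∃ (k : W₁ ⟶ W₂) (f₂ : (yon S).obj V ⟶ W₂.obj), k ≫ j₂ = j₁ ∧ f₂ ≫ j₂.hom = f ∧
      RepWith @IsOpenImmersion k.hom ∧ RepWith @Etale f₂ ∧ IsElemDistSq k.hom f₂ := by
  have : Mono j₂.hom := mono_of_isOpenImmersion hj₂
  obtain ⟨k, hk⟩ := (exists_factor_isOpenImmersion_iff hj₂ (g := j₁.hom)).2 (hr ▸ Set.subset_union_left)
  obtain ⟨f₂, hf₂⟩ := exists_lift_yon_of_isOpenImmersion hj₂ f (hr ▸ Set.subset_union_right)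
  have hko : RepWith @IsOpenImmersion k :=
    MorphismProperty.of_isPullback (isPullback_of_mono_lift k j₂.hom j₁.hom hk) hj₁
  have hfe : RepWith @Etale f₂ :=
    MorphismProperty.of_isPullback (isPullback_of_mono_lift f₂ j₂.hom f hf₂) hf
  obtain ⟨T, i, -, hi⟩ := exists_redInduced W₂.property (Set.range (Points.map k))ᶜ
    (isOpen_range_of_isOpenImmersion hko).isClosed_compl
  have sq := IsPullback.of_hasPullback i f₂
  have hiso : IsIso (pullback.fst i f₂) := by
    refine isIso_fst_of_injOn f₂ hfe i ?_ (fun A a b hab hout => ?_) _ _ sq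
    · intro x hx
      rw [hi.2.1] at hx
      have h1 : Points.map j₂.hom x ∈ Set.range (Points.map j₁.hom) ∪ Set.range (Points.ofPt f) := hr ▸ ⟨x, rfl⟩
      rcases h1 with ⟨y, hy⟩ | ⟨y, hy⟩
      · exact absurd ⟨y, injective_map_of_mono j₂.hom (by rw [← hy, ← hk]; exact (Points.map_comp _ _ _).symm)⟩ hx
      · exact ⟨y, injective_map_of_mono j₂.hom (by rw [← hy, ← hf₂, Points.map_ofPt])⟩
    · refine hinj A a b (by rw [← hf₂, ← Category.assoc, hab, Category.assoc]) fun t ht => ?_
      have h1 := hout t
      rw [hi.2.1] at h1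
      apply h1
      rw [← hf₂, ← Category.assoc, ← Points.map_ofPt] at ht
      obtain ⟨y, hy⟩ := ht
      exact ⟨y, injective_map_of_mono j₂.hom (by rw [← hy, ← hk]; exact (Points.map_comp _ _ _).symm)⟩
  exact ⟨ObjectProperty.homMk k, f₂, ObjectProperty.hom_ext _ hk, hf₂, hko, hfe,
    hko, isEtaleMor_of_repWith f₂ hfe, T, _, i, _, _, hi, sq, hiso⟩

/-- An open subspace of a quasi-separated space is quasi-separated. -/
theorem isQuasiSeparatedSp_of_openImmersion {X W : Space S} (j : W ⟶ X) (hj : RepWith @IsOpenImmersion j.hom)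
    (hX : IsQuasiSeparatedSp X.obj) : IsQuasiSeparatedSp W.obj := by
  have : Mono j.hom := mono_of_isOpenImmersion hj
  refine Groth.Agent.AlgSp.LimAffine.isQuasiSeparatedSp_of_mor j.hom ?_ hX
  have : IsIso (pullback.diagonal j.hom) := inferInstance
  exact MorphismProperty.of_isIso _ _

end Groth.Agent.AlgSpEN
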