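import Groth.Agent.AlgSpB.Art.EtaleChart

/-!
# The etale chart of a finite locally free open subrelation, with the invariance of the quotient map

This is `Groth.Agent.AlgSpB.Art.exists_etale_chart` with the equation `t ≫ q = s ≫ q` added to its conclusion.
-/

universe u

open CategoryTheory CategoryTheory.Limits AlgebraicGeometry

set_option backward.isDefEq.respectTransparency false
set_option backward.isDefEq.respectTransparency.types false
set_option autoImplicit false

namespace Groth.Agent.AlgSpEN

open _root_.AlgSp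
open Groth.Agent.AlgSpB Groth.Agent.AlgSpB.Art

variable {S : Scheme.{u}} {F : Sp S} {U : Over S}

/-- The etale chart of a finite locally free open subrelation. -/
theorem exists_etale_chart' [IsAffine U.left] {p : (yon S).obj U ⟶ F}
    (hp : RepWith (@Flat ⊓ @LocallyOfFinitePresentation) p) (hd : Representable (Limits.diag F))
    {V R : Over S} (g : V ⟶ U) (t s : R ⟶ V) [Etale g.left] [IsSeparated g.left] (h : IsEqvRel s t)
    [IsFinite s.left] [Flat s.left] [LocallyOfFinitePresentation s.left]
    (hF : (yon S).map (t ≫ g) ≫ p = (yon S).map (s ≫ g) ≫ p)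
    (hloc : ∀ (T : Over S) (a b : T ⟶ V), (yon S).map (a ≫ g) ≫ p = (yon S).map (b ≫ g) ≫ p →
      ∃ C : T.left.Opens, ∀ (T' : Over S) (k : T' ⟶ T),
        (∃ r : T' ⟶ R, r ≫ t = k ≫ a ∧ r ≫ s = k ≫ b) ↔ ∀ x, k.left x ∈ C) :
    ∃ (M : Over S) (q : V ⟶ M) (m : (yon S).obj M ⟶ F), RepWith @Etale m ∧ Surjective q.left ∧
      (yon S).map q ≫ m = (yon S).map g ≫ p ∧ t ≫ q = s ≫ q ∧
        IsFinite q.left ∧ Flat q.left ∧ LocallyOfFinitePresentation q.left := by
  have horb : ∀ x : V.left, ∃ W : V.left.Opens, IsAffineOpen W ∧ ∀ r : R.left, s.left r = x → t.left r ∈ W := by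
    intro x
    have : LocallyQuasiFinite g.left := lqf_of_lft_unramified g.left
    obtain ⟨W, hW, hsub⟩ := GrpdLib.exists_affine_of_finite_of_lqf g.left
      ((s.left.finite_preimage_singleton x).image t.left)
    exact ⟨W, hW, fun r hr => hsub ⟨r, hr, rfl⟩⟩
  obtain ⟨M, q, hqf, hqfl, hqp, hqs, sqq⟩ := exists_finLocFree_quotient t s h horb
  have : Sheaf.IsLocallySurjective ((yon S).map q) := locSurj_yon q
  obtain ⟨hcol⟩ := Groth.Agent.AlgSp.isColimit_of_isPullback ((yon S).map q) sqq
  obtain ⟨m, hm⟩ : ∃ m : (yon S).obj M ⟶ F, (yon S).map q ≫ m = (yon S).map g ≫ p :=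
    ⟨_, (Cofork.IsColimit.desc' hcol ((yon S).map g ≫ p) (by
      rw [← Category.assoc, ← Category.assoc, ← Functor.map_comp, ← Functor.map_comp]; exact hF)).2⟩
  have hmr : Representable m := Functor.relativelyRepresentable.of_diag hd m
  -- `V ⟶ F` is flat and locally of finite presentation
  have : MorphismProperty.IsMultiplicative (@LocallyOfFinitePresentation : MorphismProperty Scheme.{u}) :=
    { id_mem := fun X => (inferInstance : LocallyOfFinitePresentation (𝟙 X)) }
  have hc : RepWith (@Flat ⊓ @LocallyOfFinitePresentation) ((yon S).map g ≫ p) :=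
    Groth.Agent.AlgSp.repWith_inf
      ((repWith_isMultiplicative (S := S) @Flat).comp_mem _ _
        ((repWith_yon_map_iff _ _).2 (inferInstance : Flat g.left))
        (Groth.Agent.AlgSp.repWith_mono (fun _ h => h.1) hp))
      ((repWith_isMultiplicative (S := S) @LocallyOfFinitePresentation).comp_mem _ _
        ((repWith_yon_map_iff _ _).2 (inferInstance : LocallyOfFinitePresentation g.left))
        (Groth.Agent.AlgSp.repWith_mono (fun _ h => h.2) hp))
  -- the diagonal of `M ⟶ F` is an open immersion
  obtain ⟨D, d₁, d₂, sqD⟩ := exists_pullback_yon hc.1 ((yon S).map g ≫ p)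
  have hd12 : (yon S).map (d₁ ≫ g) ≫ p = (yon S).map (d₂ ≫ g) ≫ p := by
    simp only [Functor.map_comp, Category.assoc]; exact sqD.w
  obtain ⟨C, hC⟩ := hloc D d₁ d₂ hd12
  obtain ⟨j, hj1, hj2⟩ := sqD.exists_lift ((yon S).map t) ((yon S).map s) (by
    rw [← Category.assoc, ← Category.assoc, ← Functor.map_comp, ← Functor.map_comp]; exact hF)
  obtain ⟨j, rfl⟩ := (yon S).map_surjective j
  rw [← Functor.map_comp] at hj1 hj2
  replace hj1 := (yon S).map_injective hj1
  replace hj2 := (yon S).map_injective hj2
  have hjopen : IsOpenImmersion j.left := by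
    have hjC : ∀ x, j.left x ∈ C := (hC R j).1 ⟨𝟙 R, by rw [Category.id_comp, hj1], by rw [Category.id_comp, hj2]⟩
    let CO : Over S := Over.mk (C.ι ≫ D.hom)
    let c : CO ⟶ D := Over.homMk C.ι rfl
    have : IsOpenImmersion c.left := inferInstanceAs (IsOpenImmersion C.ι)
    obtain ⟨a, ha⟩ := exists_lift_of_forall_mem c j (fun x => by
      change j.left x ∈ Set.range C.ι; rw [Scheme.Opens.range_ι]; exact hjC x)
    obtain ⟨b, hb1, hb2⟩ := (hC CO c).2 (fun x => x.2)
    have hbj : b ≫ j = c := (yon S).map_injective (sqD.hom_ext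
      (by rw [← Functor.map_comp, ← Functor.map_comp, Category.assoc, hj1, hb1])
      (by rw [← Functor.map_comp, ← Functor.map_comp, Category.assoc, hj2, hb2]))
    have hab : a ≫ b = 𝟙 R := h.injective R _ _
      (by rw [Category.assoc, hb1, reassoc_of% ha, hj1, Category.id_comp])
      (by rw [Category.assoc, hb2, reassoc_of% ha, hj2, Category.id_comp])
    have hba : b ≫ a = 𝟙 CO := Over.OverMorphism.ext ((cancel_mono C.ι).1
      (congrArg (fun k : CO ⟶ D => k.left) ((by rw [Category.assoc, ha, hbj, Category.id_comp]) :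
        (b ≫ a) ≫ c = 𝟙 CO ≫ c)))
    have : IsIso a := ⟨b, hab, hba⟩
    have : IsIso a.left := inferInstanceAs (IsIso ((Over.forget S).map a))
    rw [← ha, Over.comp_left]
    infer_instance
  let e : (yon S).obj D ⟶ pullback m m :=
    pullback.lift ((yon S).map (d₁ ≫ q)) ((yon S).map (d₂ ≫ q)) (by
      simp only [Functor.map_comp, Category.assoc, hm]; exact sqD.w)
  have : Sheaf.IsLocallySurjective e := by
    refine Groth.Agent.AlgSp.isLocallySurjective_of_fppf_lift e fun T x => ?_
    obtain ⟨x₁, hx₁⟩ := (yon S).map_surjective (x ≫ pullback.fst m m)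
    obtain ⟨x₂, hx₂⟩ := (yon S).map_surjective (x ≫ pullback.snd m m)
    let T₁ := pullback x₁ q
    let k₁ : T₁ ⟶ T := pullback.fst x₁ q
    let T₂ := pullback (k₁ ≫ x₂) q
    let k₂ : T₂ ⟶ T₁ := pullback.fst (k₁ ≫ x₂) q
    have p1 := isPullback_map_left (IsPullback.of_hasPullback x₁ q)
    have p2 := isPullback_map_left (IsPullback.of_hasPullback (k₁ ≫ x₂) q)
    have : Flat k₁.left := MorphismProperty.of_isPullback p1.flip hqfl
    have : Surjective k₁.left := MorphismProperty.of_isPullback p1.flip hqs
    have : LocallyOfFinitePresentation k₁.left := MorphismProperty.of_isPullback p1.flip hqp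
    have : Flat k₂.left := MorphismProperty.of_isPullback p2.flip hqfl
    have : Surjective k₂.left := MorphismProperty.of_isPullback p2.flip hqs
    have : LocallyOfFinitePresentation k₂.left := MorphismProperty.of_isPullback p2.flip hqp
    have e1 : (k₂ ≫ pullback.snd x₁ q) ≫ q = (k₂ ≫ k₁) ≫ x₁ := by
      simp only [k₁, Category.assoc, pullback.condition]
    have e2 : pullback.snd (k₁ ≫ x₂) q ≫ q = (k₂ ≫ k₁) ≫ x₂ := by
      simp only [k₂, ← pullback.condition, Category.assoc]
    obtain ⟨l, hl1, hl2⟩ := sqD.exists_lift ((yon S).map (k₂ ≫ pullback.snd x₁ q))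
      ((yon S).map (pullback.snd (k₁ ≫ x₂) q)) (by
      rw [← hm, ← Category.assoc, ← Category.assoc, ← Functor.map_comp, ← Functor.map_comp, e1, e2,
        Functor.map_comp _ _ x₁, Functor.map_comp _ _ x₂, hx₁, hx₂, Category.assoc, Category.assoc,
        Category.assoc, Category.assoc, pullback.condition])
    refine ⟨T₂, k₂ ≫ k₁, l, inferInstanceAs (Flat (k₂.left ≫ k₁.left)),
      inferInstanceAs (Surjective (k₂.left ≫ k₁.left)),
      inferInstanceAs (LocallyOfFinitePresentation (k₂.left ≫ k₁.left)), ?_⟩
    apply pullback.hom_ext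
    · simp only [e, Category.assoc, pullback.lift_fst]
      rw [Functor.map_comp _ d₁ q, reassoc_of% hl1, ← Functor.map_comp, e1, Functor.map_comp _ _ x₁, hx₁]
    · simp only [e, Category.assoc, pullback.lift_snd]
      rw [Functor.map_comp _ d₂ q, reassoc_of% hl2, ← Functor.map_comp, e2, Functor.map_comp _ _ x₂, hx₂]
  have sqd : IsPullback ((yon S).map (t ≫ q)) ((yon S).map j) (pullback.diagonal m) e := by
    refine ⟨⟨?_⟩, ⟨PullbackCone.IsLimit.mk _
      (fun c => sqq.lift (c.snd ≫ (yon S).map d₁) (c.snd ≫ (yon S).map d₂) ?_)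
      (fun c => ?_) (fun c => ?_) (fun c k h1 h2 => ?_)⟩⟩
    · apply pullback.hom_ext
      · simp only [e, Category.assoc, pullback.lift_fst, pullback.diagonal_fst, Category.comp_id,
          ← Functor.map_comp, reassoc_of% hj1]
      · simp only [e, Category.assoc, pullback.lift_snd, pullback.diagonal_snd, Category.comp_id]
        rw [← Functor.map_comp, reassoc_of% hj2]
        exact ((yon S).map_comp t q).trans (sqq.w.trans ((yon S).map_comp s q).symm)
    · have e1 := congrArg (· ≫ pullback.fst m m) c.condition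
      have e2 := congrArg (· ≫ pullback.snd m m) c.condition
      simp [e] at e1 e2
      rw [Category.assoc, Category.assoc, ← e1, ← e2]
    · have e1 := congrArg (· ≫ pullback.fst m m) c.condition
      simp [e] at e1
      refine ((congrArg (_ ≫ ·) ((yon S).map_comp t q)).trans (Category.assoc _ _ _).symm).trans
        ((congrArg (· ≫ (yon S).map q) (sqq.lift_fst _ _ _)).trans ?_)
      rw [Category.assoc, ← e1]
    · apply sqD.hom_ext
      · have e1 := congrArg (yon S).map hj1
        rw [Functor.map_comp] at e1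
        rw [Category.assoc, e1]
        exact sqq.lift_fst _ _ _
      · have e1 := congrArg (yon S).map hj2
        rw [Functor.map_comp] at e1
        rw [Category.assoc, e1]
        exact sqq.lift_snd _ _ _
    · apply sqq.hom_ext
      · rw [sqq.lift_fst, ← h2, Category.assoc, ← Functor.map_comp, hj1]
      · rw [sqq.lift_snd, ← h2, Category.assoc, ← Functor.map_comp, hj2]
  have hjo : RepWith @IsOpenImmersion ((yon S).map j) := (repWith_yon_map_iff _ _).2 hjopen
  have hdr : Representable (pullback.diagonal m) :=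
    (Groth.Agent.AlgSp.repWith_sepLqf_of_baseChange (pullback.diagonal m) e sqd
      (Groth.Agent.AlgSp.repWith_mono (fun g hg => (have : IsOpenImmersion g := hg;
        ⟨⟨inferInstance, inferInstance⟩, inferInstance⟩)) hjo)).1
  have hdo : RepWith @IsOpenImmersion (pullback.diagonal m) :=
    Groth.Agent.AlgSp.repWith_of_isPullback_of_isLocallySurjective (pullback.diagonal m) hdr e _ _ sqd
      @IsOpenImmersion hjo
  refine ⟨M, q, m, ⟨hmr, fun T MT x fst snd sq => ?_⟩, hqs, hm,
    (yon S).map_injective (((yon S).map_comp t q).trans (sqq.w.trans ((yon S).map_comp s q).symm)), hqf, hqfl, hqp⟩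
  -- pull back to a scheme
  have hsnd : RepWith @IsOpenImmersion (pullback.diagonal ((yon S).map snd)) :=
    MorphismProperty.of_isPullback (P := (RepWith @IsOpenImmersion : MorphismProperty (Sp S)).diagonal) sq hdo
  have : IsOpenImmersion (pullback.diagonal snd.left) := (repWith_diagonal_yon_map_iff _ snd).1 hsnd
  obtain ⟨f₀, hf₀⟩ := (yon S).map_surjective fst
  let VT := pullback q f₀
  have p1 := isPullback_map_left (IsPullback.of_hasPullback q f₀)
  let π : VT ⟶ MT := pullback.snd q f₀
  have : Flat π.left := MorphismProperty.of_isPullback p1 hqfl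
  have : Surjective π.left := MorphismProperty.of_isPullback p1 hqs
  have : LocallyOfFinitePresentation π.left := MorphismProperty.of_isPullback p1 hqp
  have sq' : IsPullback ((yon S).map (pullback.fst q f₀)) ((yon S).map (π ≫ snd)) ((yon S).map g ≫ p) x := by
    rw [Functor.map_comp, ← hm]
    exact ((IsPullback.of_hasPullback q f₀).map (yon S)).flip.paste_horiz ((hf₀.symm ▸ sq).flip) |>.flip
  obtain ⟨hf, hlfp⟩ := hc.2 _ _ _ sq'
  have : Flat (π.left ≫ snd.left) := hf
  have : LocallyOfFinitePresentation (π.left ≫ snd.left) := hlfp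
  have : Flat snd.left := GrpdLib.flat_of_comp_flat_surjective π.left snd.left
  have : LocallyOfFinitePresentation snd.left :=
    GrpdLib.FppfSourceDescent.locallyOfFinitePresentation_of_comp_fppf π.left snd.left
  exact Etale.of_formallyUnramified_of_flat (f := snd.left)

end Groth.Agent.AlgSpEN
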