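import Mathlib.AlgebraicGeometry.ZariskisMainTheorem
import Mathlib.AlgebraicGeometry.Morphisms.Etale
import Groth.Agent.AlgSp.GroupQuot
import Groth.Agent.AlgSpCov.Instances

/-!
# Disjoint unions of separated schemes
-/

universe u

open CategoryTheory CategoryTheory.Limits AlgebraicGeometry

set_option backward.isDefEq.respectTransparency.types false
set_option autoImplicit false

namespace Groth.Agent.AlgSpEN

/-- A scheme which is a disjoint union of open subschemes separated over `Y` is separated over `Y`. -/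
theorem isSeparated_of_disjoint_cover {W Y : Scheme.{u}} (f : W ⟶ Y) {ι : Type*} {X : ι → Scheme.{u}}
    (e : ∀ i, X i ⟶ W) [∀ i, IsOpenImmersion (e i)] (hcov : ∀ w, ∃ i, w ∈ Set.range (e i))
    (hdis : ∀ i j w, w ∈ Set.range (e i) → w ∈ Set.range (e j) → i = j)
    (h : ∀ i, IsSeparated (e i ≫ f)) : IsSeparated f := by
  refine ⟨IsClosedImmersion.of_isPreimmersion _ ?_⟩
  rw [← isOpen_compl_iff, isOpen_iff_forall_mem_open]
  intro z hz
  obtain ⟨i, hi⟩ := hcov (pullback.fst f f z)
  obtain ⟨j, hj⟩ := hcov (pullback.snd f f z)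
  rcases eq_or_ne i j with rfl | hij
  · let m := pullback.map (e i ≫ f) (e i ≫ f) f f (e i) (e i) (𝟙 Y) (by simp) (by simp)
    have hm : IsOpenImmersion m := inferInstance
    have := h i
    let C := Set.range (pullback.diagonal (e i ≫ f))
    have hC : IsClosed C := (pullback.diagonal (e i ≫ f)).isClosedMap.isClosed_range
    have hdm : ∀ y, m (pullback.diagonal (e i ≫ f) y) = pullback.diagonal f (e i y) := fun y => by
      have hcomp : pullback.diagonal (e i ≫ f) ≫ m = e i ≫ pullback.diagonal f := by
        apply pullback.hom_ext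
        · rw [Category.assoc, Category.assoc, pullback.lift_fst, pullback.diagonal_fst_assoc, pullback.diagonal_fst,
            Category.comp_id]
        · rw [Category.assoc, Category.assoc, pullback.lift_snd, pullback.diagonal_snd_assoc, pullback.diagonal_snd,
            Category.comp_id]
      rw [← Scheme.Hom.comp_apply, ← Scheme.Hom.comp_apply, hcomp]
    have hzm : z ∈ Set.range m := by
      rw [Scheme.Pullback.range_map]
      exact ⟨hi, hj⟩
    refine ⟨m '' Cᶜ, ?_, m.isOpenEmbedding.isOpenMap _ hC.isOpen_compl, ?_⟩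
    · rintro _ ⟨y, hy, rfl⟩ ⟨w, hw⟩
      have hwi : w ∈ Set.range (e i) := by
        have h1 : w = pullback.fst f f (m y) := by
          rw [← hw, ← Scheme.Hom.comp_apply, pullback.diagonal_fst]; rfl
        rw [h1, ← Scheme.Hom.comp_apply, pullback.lift_fst]
        exact ⟨_, (Scheme.Hom.comp_apply _ _ _).symm⟩
      obtain ⟨w, rfl⟩ := hwi
      exact hy ⟨w, m.isOpenEmbedding.injective ((hdm w).trans hw)⟩
    · obtain ⟨y, rfl⟩ := hzm
      refine ⟨y, fun ⟨w, hw⟩ => hz ⟨e i w, ?_⟩, rfl⟩
      rw [← hdm, hw]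
  · refine ⟨pullback.fst f f ⁻¹' Set.range (e i) ∩ pullback.snd f f ⁻¹' Set.range (e j), ?_, ?_, hi, hj⟩
    · rintro _ ⟨h1, h2⟩ ⟨w, rfl⟩
      rw [Set.mem_preimage, ← Scheme.Hom.comp_apply, pullback.diagonal_fst] at h1
      rw [Set.mem_preimage, ← Scheme.Hom.comp_apply, pullback.diagonal_snd] at h2
      exact hij (hdis i j w h1 h2)
    · exact ((e i).opensRange.2.preimage (pullback.fst f f).continuous).inter
        ((e j).opensRange.2.preimage (pullback.snd f f).continuous)

/-- An etale fold map of finitely many copies is finite. -/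
theorem isFinite_of_finite_copies {W Y : Scheme.{u}} (f : W ⟶ Y) {ι : Type u} [Finite ι]
    (e : ι → (Y ⟶ W)) [∀ i, IsOpenImmersion (e i)] (hcov : ∀ w, ∃ i, w ∈ Set.range (e i))
    (hdis : ∀ i j w, w ∈ Set.range (e i) → w ∈ Set.range (e j) → i = j)
    (he : ∀ i, e i ≫ f = 𝟙 Y) [Etale f] : IsFinite f := by
  have : IsSeparated f := isSeparated_of_disjoint_cover f e hcov hdis fun i => by rw [he]; infer_instance
  have : UniversallyClosed f := Groth.Agent.AlgSp.universallyClosed_of_finite_family f e hcov fun i => by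
    rw [he]; infer_instance
  have : QuasiCompact f := inferInstance
  have : LocallyQuasiFinite f := AlgSpCov.etale_le_locallyQuasiFinite _ _ _ ‹Etale f›
  have : IsProper f := ⟨⟩
  exact IsFinite.of_isProper_of_locallyQuasiFinite f

end Groth.Agent.AlgSpEN
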