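import Groth.Agent.AlgSpEN.Power
import Groth.Agent.AlgSpEN.Chart
import Groth.Agent.AlgSpEN.Disjoint
import Groth.Agent.AlgSp.GroupQuot

/-!
# The symmetric power of an etale chart: tuples of pairwise distinct points modulo permutations
-/

universe u

open CategoryTheory CategoryTheory.Limits AlgebraicGeometry

set_option backward.isDefEq.respectTransparency false
set_option backward.isDefEq.respectTransparency.types false
set_option autoImplicit false

namespace Groth.Agent.AlgSpEN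

open _root_.AlgSp
open Groth.Agent.AlgSpB Groth.Agent.AlgSpB.Art

variable {S : Scheme.{u}} {F : Sp S} {U : Over S} {p : (yon S).obj U ⟶ F}

/-- The scheme of tuples of pairwise distinct points of a chart with the same image. -/
theorem exists_distinct [IsAffine U.left] (hp : RepWith @Etale p) (I : Type u) [Finite I] [Nonempty I] :
    ∃ (V : Over S) (g : I → (V ⟶ U)) (i₀ : I),
      (∀ i j, (yon S).map (g i) ≫ p = (yon S).map (g j) ≫ p) ∧
      Etale (g i₀).left ∧ IsSeparated (g i₀).left ∧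
      (∀ (T : Over S) (a : I → (T ⟶ U)), (∀ i j, (yon S).map (a i) ≫ p = (yon S).map (a j) ≫ p) →
        (∀ (T' : Over S) (k : T' ⟶ T) (i j : I), Nonempty T'.left → i ≠ j → k ≫ a i ≠ k ≫ a j) →
        ∃ h : T ⟶ V, ∀ i, h ≫ g i = a i) ∧
      (∀ (T : Over S) (h h' : T ⟶ V), (∀ i, h ≫ g i = h' ≫ g i) → h = h') ∧
      (∀ (T : Over S) (k : T ⟶ V) (i j : I), Nonempty T.left → i ≠ j → k ≫ g i ≠ k ≫ g j) ∧
      ((RepWith @QuasiCompact p → CompactSpace V.left) ∧ (RepWith @IsAffineHom p → IsAffine V.left)) := by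
  obtain ⟨W, r, i₀, hr, hre, hrs, hrq, hlift, hext⟩ := exists_powerI hp I
  choose C hC hCiff using fun i j : I => exists_eqLocus hp (r i) (r j) ((hr i).trans (hr j).symm)
  let O : W.left.Opens := ⟨⋂ i, ⋂ j, ⋂ (_ : i ≠ j), (C i j : Set W.left)ᶜ,
    isOpen_iInter_of_finite fun i => isOpen_iInter_of_finite fun j =>
      isOpen_iInter_of_finite fun _ => (hC i j).compl.2⟩
  have hO : ∀ w, w ∈ O ↔ ∀ i j, i ≠ j → w ∉ C i j := fun w => by
    change w ∈ (⋂ i, ⋂ j, ⋂ (_ : i ≠ j), (C i j : Set W.left)ᶜ) ↔ _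
    simp only [Set.mem_iInter, Set.mem_compl_iff, SetLike.mem_coe]
  let V : Over S := Over.mk (O.ι ≫ W.hom)
  let ι : V ⟶ W := Over.homMk O.ι rfl
  have : Mono ι := (Over.forget S).mono_of_mono_map (inferInstanceAs (Mono O.ι))
  have : Etale ι.left := inferInstanceAs (Etale O.ι)
  have : IsSeparated ι.left := inferInstanceAs (IsSeparated O.ι)
  refine ⟨V, fun i => ι ≫ r i, i₀, fun i j => ?_, ?_, ?_, fun T a ha hd => ?_, fun T h h' e => ?_,
    fun T k i j hT hij e => ?_,
    ⟨fun hq => ?_, fun hq => ?_⟩⟩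
  · rw [Functor.map_comp, Functor.map_comp, Category.assoc, Category.assoc, hr i, hr j]
  · rw [Over.comp_left]; infer_instance
  · rw [Over.comp_left]; infer_instance
  · obtain ⟨h₀, hh₀⟩ := hlift T a ha
    have hmem : ∀ t, h₀.left t ∈ O := fun t => (hO _).2 fun i j hij ht => by
      let O' : T.left.Opens := h₀.left ⁻¹ᵁ C i j
      let k : Over.mk (O'.ι ≫ T.hom) ⟶ T := Over.homMk O'.ι rfl
      refine hd _ k i j ⟨⟨t, ht⟩⟩ hij ?_
      have := (hCiff i j _ (k ≫ h₀)).2 fun x => x.2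
      rwa [Category.assoc, Category.assoc, hh₀, hh₀] at this
    obtain ⟨h, hh⟩ := exists_lift_opens O h₀ hmem
    exact ⟨h, fun i => by rw [reassoc_of% hh, hh₀]⟩
  · rw [← cancel_mono ι]
    exact hext T _ _ fun i => by simpa only [Category.assoc] using e i
  · obtain ⟨t⟩ := hT
    have := (hCiff i j T (k ≫ ι)).1 (by simpa only [Category.assoc] using e) t
    exact (hO _).1 (k.left t).2 i j hij this
  · have := hrq.1 hq
    have : CompactSpace W.left := QuasiCompact.compactSpace_of_compactSpace (r i₀).left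
    have hcl : IsClosed (O : Set W.left) :=
      isClosed_iInter fun i => isClosed_iInter fun j => isClosed_iInter fun _ => (hC i j).compl.1
    exact isCompact_iff_compactSpace.1 hcl.isCompact
  · have := hrq.2 hq
    have hcl : IsClosed (O : Set W.left) :=
      isClosed_iInter fun i => isClosed_iInter fun j => isClosed_iInter fun _ => (hC i j).compl.1
    have : IsClosedImmersion O.ι :=
      IsClosedImmersion.of_isPreimmersion O.ι (by rwa [Scheme.Opens.range_ι])
    exact isAffine_of_isAffineHom O.ι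

/-- The scheme of tuples of pairwise distinct points of a chart with the same image and its quotient by the
permutations, which is etale over the sheaf. -/
theorem exists_sym_quotient [IsAffine U.left] (hF : IsAlgSpace F) (hp : RepWith @Etale p) (I : Type u) [Finite I]
    [Nonempty I] :
    ∃ (V : Over S) (g : I → (V ⟶ U)) (i₀ : I) (M : Over S) (m : (yon S).obj M ⟶ F) (q : V ⟶ M),
      (∀ i j, (yon S).map (g i) ≫ p = (yon S).map (g j) ≫ p) ∧
      Etale (g i₀).left ∧ IsSeparated (g i₀).left ∧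
      (∀ (T : Over S) (a : I → (T ⟶ U)), (∀ i j, (yon S).map (a i) ≫ p = (yon S).map (a j) ≫ p) →
        (∀ (T' : Over S) (k : T' ⟶ T) (i j : I), Nonempty T'.left → i ≠ j → k ≫ a i ≠ k ≫ a j) →
        ∃ h : T ⟶ V, ∀ i, h ≫ g i = a i) ∧
      (∀ (T : Over S) (h h' : T ⟶ V), (∀ i, h ≫ g i = h' ≫ g i) → h = h') ∧
      (∀ (T : Over S) (k : T ⟶ V) (i j : I), Nonempty T.left → i ≠ j → k ≫ g i ≠ k ≫ g j) ∧
      ((RepWith @QuasiCompact p → CompactSpace V.left) ∧ (RepWith @IsAffineHom p → IsAffine V.left)) ∧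
      RepWith @Etale m ∧ Surjective q.left ∧ IsFinite q.left ∧ Flat q.left ∧ LocallyOfFinitePresentation q.left ∧
      (yon S).map q ≫ m = (yon S).map (g i₀) ≫ p ∧
      ∀ (T : Over S) (a b : T ⟶ V) (τ : Equiv.Perm I), (∀ i, b ≫ g i = a ≫ g (τ i)) → b ≫ q = a ≫ q := by
  classical
  obtain ⟨V, g, i₀, hg, hge, hgs, hlift, hext, hdist, hcpt⟩ := exists_distinct hp I
  -- the action
  let G := Equiv.Perm I
  have hφ : ∀ τ : G, ∃ φ : V ⟶ V, ∀ i, φ ≫ g i = g (τ.symm i) := fun τ =>
    hlift V (fun i => g (τ.symm i)) (fun i j => hg _ _) fun T' k i j hT hij =>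
      hdist T' k _ _ hT fun h => hij (τ.symm.injective h)
  choose φ hφ using hφ
  have hφ1 : φ 1 = 𝟙 V := hext V _ _ fun i => by rw [hφ, Category.id_comp]; rfl
  have hφm : ∀ x y : G, φ (x * y) = φ y ≫ φ x := fun x y => hext V _ _ fun i => by
    rw [hφ, Category.assoc, hφ, hφ]; rfl
  let ρ : G →* Aut V := MonoidHom.mk' (fun τ =>
    { hom := φ τ, inv := φ τ⁻¹
      hom_inv_id := by rw [← hφm, inv_mul_cancel, hφ1]
      inv_hom_id := by rw [← hφm, mul_inv_cancel, hφ1] }) fun x y => Iso.ext (hφm x y)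
  have hρ : ∀ τ, (ρ τ).hom = φ τ := fun τ => rfl
  have hfree : ∀ (τ : G) (x : V.left), τ ≠ 1 →
      V.left.fromSpecResidueField x ≫ (ρ τ).hom.left ≠ V.left.fromSpecResidueField x := by
    intro τ x hτ e
    obtain ⟨i, hi⟩ : ∃ i, τ.symm i ≠ i := by
      by_contra h
      push Not at h
      exact hτ (Equiv.ext fun i => (Equiv.symm_apply_eq τ).1 (h i) ▸ rfl)
    let P : Over S := Over.mk (V.left.fromSpecResidueField x ≫ V.hom)
    let k : P ⟶ V := Over.homMk (V.left.fromSpecResidueField x) rfl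
    have hk : k ≫ φ τ = k := Over.OverMorphism.ext e
    refine hdist P k _ _ (inferInstanceAs (Nonempty (PrimeSpectrum (V.left.residueField x)))) hi ?_
    rw [← hφ, reassoc_of% hk]
  -- the relation
  let c : Cofan (fun _ : G => V) := Cofan.mk (∐ fun _ : G => V) (Sigma.ι _)
  have hc : IsColimit c := coproductIsCoproduct _
  let s : c.pt ⟶ V := Sigma.desc fun _ => 𝟙 V
  let t : c.pt ⟶ V := Sigma.desc fun τ => (ρ τ).hom
  have hs : ∀ τ, c.inj τ ≫ s = 𝟙 V := fun τ => Sigma.ι_desc _ _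
  have ht : ∀ τ, c.inj τ ≫ t = (ρ τ).hom := fun τ => Sigma.ι_desc _ _
  have hE := Groth.Agent.AlgSp.isEtaleEqvRel_of_free ρ hfree hc hs ht
  obtain ⟨ho, hcov, hdis⟩ := Groth.Agent.AlgSp.cofan_over_props hc
  have : Etale s.left := hE.etale_left
  have : Finite G := inferInstance
  have : IsFinite s.left := by
    have := ho
    exact isFinite_of_finite_copies s.left (fun τ => (c.inj τ).left) hcov hdis fun τ => by
      rw [← Over.comp_left, hs]; rfl
  have hF2 : (yon S).map (t ≫ g i₀) ≫ p = (yon S).map (s ≫ g i₀) ≫ p := by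
    refine Groth.Agent.AlgSp.InfGlue.hom_ext_cover (T := c.pt) (U := fun _ : G => V) c.inj
      (fun τ => have := ho τ; inferInstance) hcov _ _ fun τ => ?_
    rw [← Category.assoc, ← Category.assoc, ← Functor.map_comp, ← Functor.map_comp, reassoc_of% (ht τ),
      reassoc_of% (hs τ), hρ, hφ]
    exact hg _ _
  have hloc : ∀ (T₀ : Over S) (x y : T₀ ⟶ V), (yon S).map (x ≫ g i₀) ≫ p = (yon S).map (y ≫ g i₀) ≫ p →
      ∃ C : T₀.left.Opens, ∀ (T' : Over S) (k : T' ⟶ T₀),
        (∃ r : T' ⟶ c.pt, r ≫ t = k ≫ x ∧ r ≫ s = k ≫ y) ↔ ∀ z, k.left z ∈ C := by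
    intro T₀ x y hxy
    have hxy' : ∀ i j, (yon S).map (x ≫ g i) ≫ p = (yon S).map (y ≫ g j) ≫ p := fun i j => by
      rw [Functor.map_comp, Functor.map_comp, Category.assoc, Category.assoc, hg i i₀, hg j i₀]
      simpa only [Functor.map_comp, Category.assoc] using hxy
    choose C hC hCiff using fun (τ : G) (i : I) => exists_eqLocus hp (x ≫ g i) (y ≫ g (τ.symm i)) (hxy' _ _)
    let D : G → T₀.left.Opens := fun τ => ⟨⋂ i, (C τ i : Set T₀.left), isOpen_iInter_of_finite fun i => (C τ i).2⟩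
    have hDm : ∀ τ z, z ∈ D τ ↔ ∀ i, z ∈ C τ i := fun τ z => Set.mem_iInter
    have hD : ∀ (τ : G) (T' : Over S) (k : T' ⟶ T₀), k ≫ x = k ≫ y ≫ φ τ ↔ ∀ z, k.left z ∈ D τ := by
      intro τ T' k
      simp only [hDm]
      refine ⟨fun h z i => (hCiff τ i T' k).1 ?_ z, fun h => hext T' _ _ fun i => ?_⟩
      · rw [reassoc_of% h, hφ]
      · rw [Category.assoc, (hCiff τ i T' k).2 fun z => h z i]
        simp only [Category.assoc, hφ]
    refine ⟨⨆ τ, D τ, fun T' k => ⟨fun ⟨r, h1, h2⟩ z => ?_, fun h => ?_⟩⟩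
    · obtain ⟨τ, W, q, -, ⟨w, hw⟩, h3, -⟩ := Groth.Agent.AlgSp.exists_piece_eq ρ hc hs ht r z
      rw [h1, reassoc_of% h2, hρ] at h3
      have := (hD τ W (q ≫ k)).1 (by simpa only [Category.assoc] using h3) w
      rw [Over.comp_left, Scheme.Hom.comp_apply, hw] at this
      exact TopologicalSpace.Opens.mem_iSup.2 ⟨τ, this⟩
    · choose τ hτ using fun z : T'.left => TopologicalSpace.Opens.mem_iSup.1 (h z)
      let O : T'.left → T'.left.Opens := fun z => k.left ⁻¹ᵁ D (τ z)
      let q : ∀ z, Over.mk ((O z).ι ≫ T'.hom) ⟶ T' := fun z => Over.homMk (O z).ι rfl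
      have hq : ∀ z, IsOpenImmersion (q z).left := fun z => inferInstanceAs (IsOpenImmersion (O z).ι)
      have hqc : ∀ z, ∃ j, z ∈ Set.range (q j).left := fun z => ⟨z, ⟨z, hτ z⟩, rfl⟩
      have hqx : ∀ z, q z ≫ k ≫ x = q z ≫ k ≫ y ≫ φ (τ z) := fun z => by
        simpa only [Category.assoc] using (hD (τ z) _ (q z ≫ k)).2 fun w => w.2
      obtain ⟨r, hr⟩ := Groth.Agent.AlgSp.InfGlue.exists_glue q (fun z => have := hq z; inferInstance) hqc
        (fun z => (yon S).map (q z ≫ k ≫ y ≫ c.inj (τ z))) fun i j Z α β hαβ => by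
          rw [← Functor.map_comp, ← Functor.map_comp]
          congr 1
          refine hE.injective Z _ _ ?_ ?_
          · simp only [Category.assoc, ht, hρ]
            rw [← hqx, ← hqx, reassoc_of% hαβ]
          · simp only [Category.assoc, hs, Category.comp_id]
            rw [reassoc_of% hαβ]
      obtain ⟨r, rfl⟩ := (yon S).map_surjective r
      have hr' : ∀ z, q z ≫ r = q z ≫ k ≫ y ≫ c.inj (τ z) := fun z => (yon S).map_injective (by
        rw [Functor.map_comp, hr])
      refine ⟨r, ?_, ?_⟩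
      · apply (yon S).map_injective
        refine Groth.Agent.AlgSp.InfGlue.hom_ext_cover q (fun z => have := hq z; inferInstance) hqc _ _ fun z => ?_
        rw [← Functor.map_comp, ← Functor.map_comp, reassoc_of% (hr' z), ht, hρ, hqx z]
      · apply (yon S).map_injective
        refine Groth.Agent.AlgSp.InfGlue.hom_ext_cover q (fun z => have := hq z; inferInstance) hqc _ _ fun z => ?_
        rw [← Functor.map_comp, ← Functor.map_comp, reassoc_of% (hr' z), hs, Category.comp_id]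
  have : MorphismProperty.IsMultiplicative (@LocallyOfFinitePresentation : MorphismProperty Scheme.{u}) :=
    { id_mem := fun X => (inferInstance : LocallyOfFinitePresentation (𝟙 X)) }
  have hpf : RepWith (@Flat ⊓ @LocallyOfFinitePresentation) p :=
    Groth.Agent.AlgSp.repWith_mono (fun f hf => have : Etale f := hf; ⟨inferInstance, inferInstance⟩) hp
  obtain ⟨M, q, m, hm, hqs, hqm, htq, hqf, hqfl, hqp⟩ := exists_etale_chart' hpf hF.diag (g i₀) t s hE.toIsEqvRel hF2 hloc
  have hinv : ∀ τ, φ τ ≫ q = q := fun τ => by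
    rw [← hρ, ← ht τ, Category.assoc, htq, ← Category.assoc, hs, Category.id_comp]
  refine ⟨V, g, i₀, M, m, q, hg, hge, hgs, hlift, hext, hdist, hcpt, hm, hqs, hqf, hqfl, hqp, hqm,
    fun T a b τ hab => ?_⟩
  have h2 : b = a ≫ φ τ⁻¹ := hext T _ _ fun i => by
    rw [hab, Category.assoc, hφ]; rfl
  rw [h2, Category.assoc, hinv]

/-- Pairwise distinct points of an etale chart with the same image give a point of an etale scheme over the sheaf
which is fixed by every map permuting them. -/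
theorem exists_sym_chart [IsAffine U.left] (hF : IsAlgSpace F) (hp : RepWith @Etale p) (I : Type u) [Finite I]
    [Nonempty I] {T : Over S} (a : I → (T ⟶ U))
    (ha : ∀ i j, (yon S).map (a i) ≫ p = (yon S).map (a j) ≫ p)
    (hd : ∀ (T' : Over S) (k : T' ⟶ T) (i j : I), Nonempty T'.left → i ≠ j → k ≫ a i ≠ k ≫ a j) :
    ∃ (M : Over S) (m : (yon S).obj M ⟶ F) (μ : T ⟶ M), RepWith @Etale m ∧
      (∀ i, (yon S).map μ ≫ m = (yon S).map (a i) ≫ p) ∧
      ∀ (θ : T ⟶ T) (τ : Equiv.Perm I), (∀ i, θ ≫ a i = a (τ i)) → θ ≫ μ = μ := by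
  obtain ⟨V, g, i₀, M, m, q, hg, -, -, hlift, -, -, -, hm, -, -, -, -, hqm, hinv⟩ := exists_sym_quotient hF hp I
  obtain ⟨e, he⟩ := hlift T a ha hd
  refine ⟨M, m, e ≫ q, hm, fun i => ?_, fun θ τ hθ => ?_⟩
  · rw [Functor.map_comp, Category.assoc, hqm, ← Category.assoc, ← Functor.map_comp, he]
    exact ha _ _
  · rw [← Category.assoc]
    exact hinv T e (θ ≫ e) τ fun i => by rw [Category.assoc, he, hθ, he]

end Groth.Agent.AlgSpEN
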