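import Groth.Agent.AlgSpEN.AmitsurInj
import Groth.Agent.AlgSpEN.PushIntegral
import Groth.Agent.AlgSpQC.Base
import Groth.Agent.EtaleSite.Flasque

/-!
# Sheaves with exact Amitsur complexes are acyclic on affine objects
-/

set_option autoImplicit false
universe u w v

open CategoryTheory CategoryTheory.Limits AlgebraicGeometry Opposite

set_option backward.isDefEq.respectTransparency false
set_option backward.isDefEq.respectTransparency.types false

noncomputable section

namespace Groth.Agent.AlgSpEN.Amitsur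

open _root_.AlgSp Groth.Agent.AdeqAmitsur

theorem D_zero {C : Type*} [Category C] [HasFiniteProducts C] (U : C) (P : Cᵒᵖ ⥤ AddCommGrpCat.{w})
    (c : P.obj (op (O U 0))) : D U P 0 c = pm P (face U 0 0) c := by
  simp [D_apply]

variable {S : Scheme.{u}} {X : Sp S}

/-- A morphism of schemes over an object of the site underlies a morphism of the site. -/
theorem exists_hom_over {A B C : EtOver X} (a : A ⟶ C) (b : B ⟶ C) (k : A.obj.left.left ⟶ B.obj.left.left)
    (hk : k ≫ b.hom.left.left = a.hom.left.left) : ∃ k' : A ⟶ B, k' ≫ b = a := by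
  let k' : A.obj.left ⟶ B.obj.left := Over.homMk k (by
    rw [← Over.w b.hom.left, ← Category.assoc, hk, Over.w])
  have e : k' ≫ b.hom.left = a.hom.left := Over.OverMorphism.ext hk
  exact ⟨EtOver.homMk k' (by rw [← EtOver.w b, ← Category.assoc, ← Functor.map_comp, e, EtOver.w]),
    EtOver.hom_ext _ _ e⟩

/-- Lifts along an epimorphism exist on one affine covering of an affine object. -/
theorem exists_lift_single {G H : AbEt X} (g : G ⟶ H) [Epi g] (E : EtOver X) [IsAffine E.obj.left.left]
    (t : H.obj.obj (op E)) :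
    ∃ U : Over E, IsAffine U.left.obj.left.left ∧ Surjective (str U) ∧
      ∃ s : G.obj.obj (op U.left), (g.hom.app (op U.left)).hom s = (H.obj.map U.hom.op).hom t := by
  have hg : Sheaf.IsLocallySurjective g :=
    (Sheaf.isLocallySurjective_iff_epi' AddCommGrpCat.{u + 1} g).2 inferInstance
  obtain ⟨ι, hι, V, f, hV, hf, hcov⟩ :=
    AlgSpQC.exists_affine_family (Presheaf.imageSieve_mem (etTop X) g.hom (U := op E) t)
  choose s hs using hf
  let f' : ∀ a, (V a).obj.left.left ⟶ E.obj.left.left := fun a => (f a).hom.left.left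
  have : ∀ a, Etale (f' a) := fun a => EtOver.etale_left (f a)
  have hd : Etale (Sigma.desc f') := EtaleSite.etale_sigmaDesc _
  let T : Over S := Over.mk (Sigma.desc f' ≫ E.obj.left.hom)
  let j : T ⟶ E.obj.left := Over.homMk (Sigma.desc f') rfl
  let P : EtOver X := EtOver.mk ((yon S).map j ≫ E.obj.hom)
    ((RepWith _).comp_mem _ _ ((repWith_yon_map_iff _ j).2 hd) E.property)
  let d : P ⟶ E := EtOver.homMk j rfl
  have hP : IsAffine P.obj.left.left := inferInstanceAs (IsAffine (∐ fun a => (V a).obj.left.left))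
  refine ⟨Over.mk d, hP, ⟨fun x => ?_⟩, ?_⟩
  · obtain ⟨a, z, hz⟩ := hcov x
    refine ⟨Sigma.ι (fun a => (V a).obj.left.left) a z, ?_⟩
    refine Eq.trans ?_ hz
    change (Sigma.ι (fun a => (V a).obj.left.left) a ≫ Sigma.desc f') z = _
    rw [Sigma.ι_desc]
  obtain ⟨W, hd', hc, hk⟩ := EtaleSite.exists_pieces (𝟙 (∐ fun a => (V a).obj.left.left))
  choose k hk using hk
  have hkf : ∀ a, k a ≫ f' a = (W a).ι ≫ Sigma.desc f' := fun a => by
    have h := congrArg (· ≫ Sigma.desc f') (hk a)
    simpa using h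
  choose k' hk' using fun a =>
    exists_hom_over (PushIntegral.pieceHom P (W a) ≫ d) (f a) (k a) (hkf a)
  obtain ⟨r, hr⟩ := PushIntegral.exists_glue_disjoint G (E := P) W hd' hc
    fun a => (G.obj.map (k' a).op).hom (s a)
  refine ⟨r, PushIntegral.eq_of_pieces H (E := P) W hc _ _ fun a => ?_⟩
  refine (NatTrans.naturality_apply g.hom (PushIntegral.pieceHom P (W a)).op r).symm.trans ?_
  refine (congrArg _ (hr a)).trans ?_
  refine (NatTrans.naturality_apply g.hom (k' a).op (s a)).trans ?_
  refine (congrArg _ (hs a)).trans ?_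
  change _ = (H.obj.map _).hom ((H.obj.map d.op).hom t)
  rw [← ConcreteCategory.comp_apply, ← Functor.map_comp, ← ConcreteCategory.comp_apply, ← Functor.map_comp,
    ← op_comp, ← op_comp, hk']

section Short

variable (C : ShortComplex (AbEt X)) (hC : C.ShortExact)
include hC

theorem sections_injective (W : EtOver X) : Function.Injective (C.f.hom.app (op W)).hom := by
  have := hC.mono_f
  have : Mono ((sheafToPresheaf _ _ ⋙ (evaluation _ _).obj (op W)).map C.f) := inferInstance
  exact (AddCommGrpCat.mono_iff_injective _).1 this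

theorem sections_zero (W : EtOver X) (x : C.X₁.obj.obj (op W)) :
    (C.g.hom.app (op W)).hom ((C.f.hom.app (op W)).hom x) = 0 :=
  congr(($(congrArg (fun k : C.X₁ ⟶ C.X₃ => k.hom.app (op W)) C.zero)).hom x)

theorem sections_exact (W : EtOver X) (y : C.X₂.obj.obj (op W)) (hy : (C.g.hom.app (op W)).hom y = 0) :
    ∃ x, (C.f.hom.app (op W)).hom x = y := by
  let R : AbEt X ⥤ AddCommGrpCat.{u + 1} := sheafToPresheaf _ _ ⋙ (evaluation _ _).obj (op W)
  have : R.Additive := {}
  have h := (R.preservesFiniteLimits_iff_forall_exact_map_and_mono.1 inferInstance C hC).1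
  exact (ShortComplex.ab_exact_iff _).1 h y hy

variable [HasSheafify (etTop X) AddCommGrpCat.{u + 1}] (h₁ : Cech C.X₁) (h₂ : Cech C.X₂)
include h₁ h₂

/-- Sections of the cokernel lift on affine objects. -/
theorem sections_surjective_of_cech (E : EtOver X) [IsAffine E.obj.left.left] :
    Function.Surjective (C.g.hom.app (op E)).hom := by
  intro t
  have := hC.epi_g
  obtain ⟨U, hU, hsur, s, hs⟩ := exists_lift_single C.g E t
  let φ : secPre E C.X₁.obj ⟶ secPre E C.X₂.obj := Functor.whiskerLeft _ C.f.hom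
  let ψ : secPre E C.X₂.obj ⟶ secPre E C.X₃.obj := Functor.whiskerLeft _ C.g.hom
  let e : (secPre E C.X₂.obj).obj (op (O U 1)) := pm (secPre E C.X₂.obj) (π U 0) s
  let t0 : (secPre E C.X₃.obj).obj (op (O U 0)) := (C.X₃.obj.map (O U 0).hom.op).hom t
  have he : (ψ.app _).hom e = D U (secPre E C.X₃.obj) 0 t0 := by
    rw [D_zero, pm_nat]
    refine (congrArg (pm (secPre E C.X₃.obj) (π U 0)) hs).trans ?_
    change (C.X₃.obj.map (π U 0).left.op).hom ((C.X₃.obj.map U.hom.op).hom t) =
      (C.X₃.obj.map (face U 0 0).left.op).hom ((C.X₃.obj.map (O U 0).hom.op).hom t)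
    rw [← ConcreteCategory.comp_apply, ← Functor.map_comp, ← ConcreteCategory.comp_apply, ← Functor.map_comp,
      ← op_comp, ← op_comp, Over.w, Over.w]
  obtain ⟨c, hc⟩ := sections_exact C hC (O U 2).left (D U (secPre E C.X₂.obj) 1 e)
    ((D_nat U ψ 1 e).trans ((congrArg _ he).trans (D_D U _ 0 t0)))
  obtain ⟨b, rfl⟩ := h₁ E U hsur 1 c (sections_injective C hC (O U 3).left
    ((D_nat U φ 2 c).trans ((congrArg _ hc).trans ((D_D U _ 1 e).trans (map_zero (C.f.hom.app (op (O U 3).left)).hom).symm))))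
  obtain ⟨a, ha⟩ := h₂ E U hsur 0 (e - (φ.app _).hom b)
    (by rw [map_sub, ← D_nat]; exact sub_eq_zero.2 hc.symm)
  let ι0 : Over.mk (𝟙 E) ⟶ O U 0 := Pi.lift fun i : Fin 0 => i.elim0
  let δ : U ⟶ O U 1 := Pi.lift fun _ => 𝟙 U
  refine ⟨pm (secPre E C.X₂.obj) ι0 a, ?_⟩
  refine C.X₃.property.isSeparated _ _
    (ofArrows_mem_etTop (fun _ : PUnit.{u + 1} => U.left) (fun _ => U.hom) fun x => ⟨⟨⟩, hsur.surj x⟩)
    _ _ fun Z q hq => ?_
  obtain ⟨-, r, rfl⟩ := Sieve.mem_ofArrows_iff .. |>.1 hq
  rw [op_comp, Functor.map_comp, ConcreteCategory.comp_apply, ConcreteCategory.comp_apply]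
  congr 1
  refine ((NatTrans.naturality_apply C.g.hom U.hom.op _).symm.trans ?_).trans hs
  change (ψ.app (op U)).hom (pm (secPre E C.X₂.obj) (Over.homMk U.hom : U ⟶ Over.mk (𝟙 E))
    (pm (secPre E C.X₂.obj) ι0 a)) = (ψ.app (op U)).hom s
  have hfac : (Over.homMk U.hom : U ⟶ Over.mk (𝟙 E)) ≫ ι0 = δ ≫ face U 0 0 :=
    Pi.hom_ext _ _ fun i => i.elim0
  have h0 : pm (secPre E C.X₂.obj) (face U 0 0) a = e - (φ.app _).hom b := (D_zero U _ a).symm.trans ha
  rw [← pm_comp, hfac, pm_comp, h0, map_sub]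
  rw [show pm (secPre E C.X₂.obj) δ e = s by
    rw [← pm_comp, show δ ≫ π U 0 = 𝟙 U from Pi.lift_π _ _, pm_id]]
  rw [map_sub, pm_nat ψ, show (ψ.app (op (O U 1))).hom ((φ.app (op (O U 1))).hom b) = 0 from
    sections_zero C hC _ b, map_zero, sub_zero]

/-- Exactness of Amitsur complexes passes to such cokernels. -/
theorem cech_X₃_of_cech : Cech C.X₃ := by
  intro E _ U _ hU m c hc
  let φ : secPre E C.X₁.obj ⟶ secPre E C.X₂.obj := Functor.whiskerLeft _ C.f.hom
  let ψ : secPre E C.X₂.obj ⟶ secPre E C.X₃.obj := Functor.whiskerLeft _ C.g.hom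
  have := isAffine_O U (m + 1)
  obtain ⟨e, rfl⟩ := sections_surjective_of_cech C hC h₁ h₂ (O U (m + 1)).left c
  obtain ⟨c', hc'⟩ := sections_exact C hC (O U (m + 2)).left (D U (secPre E C.X₂.obj) (m + 1) e)
    ((D_nat U ψ (m + 1) e).trans hc)
  obtain ⟨b, rfl⟩ := h₁ E U hU (m + 1) c' (sections_injective C hC (O U (m + 3)).left
    ((D_nat U φ (m + 2) c').trans ((congrArg _ hc').trans ((D_D U (secPre E C.X₂.obj) (m + 1) e).trans (map_zero (C.f.hom.app (op (O U (m + 3)).left)).hom).symm))))
  let e' : (secPre E C.X₂.obj).obj (op (O U (m + 1))) := e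
  obtain ⟨a, ha⟩ := h₂ E U hU m (e' - (φ.app _).hom b)
    (by rw [map_sub, ← D_nat]; exact sub_eq_zero.2 hc'.symm)
  refine ⟨(ψ.app _).hom a, ?_⟩
  rw [← D_nat, ha, map_sub]
  exact (congrArg _ (sections_zero C hC _ b)).trans (sub_zero _)

end Short

section ShortInjective

variable (C : ShortComplex (AbEt X)) (hC : C.ShortExact) [HasSheafify (etTop X) AddCommGrpCat.{u + 1}]
  [Injective C.X₂] (h₁ : Cech C.X₁)
include hC h₁

/-- Sections of the cokernel of a map to an injective sheaf lift on affine objects. -/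
theorem sections_surjective (E : EtOver X) [IsAffine E.obj.left.left] :
    Function.Surjective (C.g.hom.app (op E)).hom :=
  sections_surjective_of_cech C hC h₁ (cech_of_injective C.X₂) E

/-- Exactness of Amitsur complexes passes to cokernels of maps to injective sheaves. -/
theorem cech_X₃ : Cech C.X₃ :=
  cech_X₃_of_cech C hC h₁ (cech_of_injective C.X₂)

end ShortInjective

/-- Higher derived functors of a left exact functor that only sees affine sections kill sheaves with exact
Amitsur complexes. -/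
theorem isZero_rightDerived [HasSheafify (etTop X) AddCommGrpCat.{u + 1}] [EnoughInjectives (AbEt X)]
    {D : Type w} [Category.{v} D] [Abelian D] (R : AbEt X ⥤ D) [R.Additive] [PreservesFiniteLimits R]
    (hR : ∀ {G H : AbEt X} (g : G ⟶ H), (∀ E : EtOver X, IsAffine E.obj.left.left →
      Function.Surjective (g.hom.app (op E)).hom) → Epi (R.map g))
    (q : ℕ) (F : AbEt X) (hF : Cech F) : IsZero ((R.rightDerived (q + 1)).obj F) := by
  refine EtaleSite.Flasque.isZero_rightDerived_of_class R Cech (fun G hG => ?_) q F hF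
  let C : ShortComplex (AbEt X) := ShortComplex.mk (Injective.ι G) (cokernel.π _) (cokernel.condition _)
  have : Epi C.g := coequalizer.π_epi
  have hC : C.ShortExact := { exact := ShortComplex.exact_cokernel _ }
  have : Injective C.X₂ := inferInstanceAs (Injective (Injective.under G))
  exact ⟨C, hC, rfl, inferInstance, cech_X₃ C hC hG,
    hR C.g fun E hE => have := hE; sections_surjective C hC hG E⟩

end Groth.Agent.AlgSpEN.Amitsur
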