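import Groth.Agent.KFlat.DerivedLimit
import Groth.Agent.DHA.KInj.Products

/-!
# Lifting classes to cycles of K-injective complexes
-/

set_option autoImplicit false

open CategoryTheory Limits Pretriangulated DerivedCategory
open Groth.Agent.KFlat

namespace Groth.Agent.AlgSpEN.CycleLift

/-- Maps to the cohomology of a K-injective complex lift to cycles when they lift to the derived category. -/
theorem exists_cycle_lift {A : Type*} [Category A] [Abelian A] [HasDerivedCategory A] (C : CochainComplex A ℤ)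
    [C.IsKInjective] (P : A) (m : ℤ) (h : Function.Surjective (TruncHom.Φ P m (Q.obj C))) (x : P ⟶ C.homology m) :
    ∃ u : P ⟶ C.cycles m, u ≫ C.homologyπ m = x := by
  let r : C.homology m ≅ (homologyFunctor A m).obj (Q.obj C) := ((homologyFunctorFactors A m).app C).symm
  obtain ⟨G, hG⟩ := h (x ≫ r.hom)
  let s := ((SingleFunctors.evaluation _ _ m).mapIso (singleFunctorsPostcompQIso A)).app P
  obtain ⟨φ, hφ⟩ := DHA.KInj.Q_map_surjective ((HomologicalComplex.single A (ComplexShape.up ℤ) m).obj P) C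
    (s.inv ≫ G)
  refine ⟨(HomologicalComplex.singleObjCyclesSelfIso (ComplexShape.up ℤ) m P).inv ≫
    HomologicalComplex.cyclesMap φ m, ?_⟩
  have hG' : G = s.hom ≫ Q.map φ := ((congrArg (s.hom ≫ ·) hφ).trans (s.hom_inv_id_assoc G)).symm
  rw [← cancel_mono r.hom]
  refine Eq.trans ?_ hG
  subst hG'
  have hnat := (homologyFunctorFactors A m).inv.naturality φ
  have hι : (TruncHom.ιH P m).hom ≫ (homologyFunctor A m).map s.hom =
      (HomologicalComplex.homologyFunctorSingleIso A (ComplexShape.up ℤ) m).inv.app P ≫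
        (homologyFunctorFactors A m).inv.app _ := by
    simp [TruncHom.ιH, singleFunctorCompHomologyFunctorIso, s]
    refine congrArg (_ ≫ ·) ((congrArg (_ ≫ ·) ?_).trans (Category.comp_id _))
    exact (Category.id_comp _).trans ((Functor.map_comp _ _ _).symm.trans
      ((congrArg _ (SingleFunctors.inv_hom_id_hom_app (singleFunctorsPostcompQIso A) m P)).trans
        (CategoryTheory.Functor.map_id _ _)))
  rw [TruncHom.Φ_apply]
  refine Eq.trans ?_ (congrArg ((TruncHom.ιH P m).hom ≫ ·) (CategoryTheory.Functor.map_comp _ _ _).symm)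
  refine Eq.symm ((Category.assoc _ _ _).symm.trans ((congrArg (· ≫ _) hι).trans ?_))
  refine (Category.assoc _ _ _).trans ((congrArg (_ ≫ ·) hnat.symm).trans ?_)
  dsimp [r]
  have hπ : (HomologicalComplex.singleObjHomologySelfIso (ComplexShape.up ℤ) m P).inv =
      (HomologicalComplex.singleObjCyclesSelfIso (ComplexShape.up ℤ) m P).inv ≫
        ((HomologicalComplex.single A (ComplexShape.up ℤ) m).obj P).homologyπ m :=
    ((Iso.inv_comp_eq _).2
      (HomologicalComplex.singleObjHomologySelfIso_hom_singleObjHomologySelfIso_inv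
        (ComplexShape.up ℤ) m P).symm).symm
  simp
  refine (congrArg (· ≫ _) hπ).trans ?_
  refine (Category.assoc _ _ _).trans (congrArg (_ ≫ ·) ?_)
  exact HomologicalComplex.homologyπ_naturality_assoc φ m _

/-- The middle term of a five-term exact sequence is an extension. -/
theorem exists_shortExact {A : Type*} [Category A] [Abelian A] {X₁ X₂ X₃ X₄ X₅ : A} {a : X₁ ⟶ X₂} {b : X₂ ⟶ X₃}
    {d : X₃ ⟶ X₄} {a' : X₄ ⟶ X₅} (hab : a ≫ b = 0) (hbd : b ≫ d = 0) (hda : d ≫ a' = 0)
    (h₁ : (ShortComplex.mk a b hab).Exact) (h₂ : (ShortComplex.mk b d hbd).Exact)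
    (h₃ : (ShortComplex.mk d a' hda).Exact) :
    ∃ (f : cokernel a ⟶ X₃) (g : X₃ ⟶ kernel a') (w : f ≫ g = 0), (ShortComplex.mk f g w).ShortExact := by
  have hd : cokernel.desc a b hab ≫ d = 0 := by
    rw [← cancel_epi (cokernel.π a), cokernel.π_desc_assoc, hbd, comp_zero]
  let S₂ := ShortComplex.mk (cokernel.desc a b hab) d hd
  let C := ShortComplex.mk (cokernel.desc a b hab) (kernel.lift a' d hda)
    (by rw [← cancel_mono (kernel.ι a'), Category.assoc, kernel.lift_ι, hd, zero_comp])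
  have h₂' : S₂.Exact := by
    let φ : ShortComplex.mk b d hbd ⟶ S₂ :=
      { τ₁ := cokernel.π a, τ₂ := 𝟙 _, τ₃ := 𝟙 _
        comm₁₂ := by simp [S₂], comm₂₃ := by simp [S₂] }
    have : Epi φ.τ₁ := inferInstanceAs (Epi (cokernel.π a))
    have : IsIso φ.τ₂ := inferInstanceAs (IsIso (𝟙 _))
    have : Mono φ.τ₃ := inferInstanceAs (Mono (𝟙 _))
    exact (ShortComplex.exact_iff_of_epi_of_isIso_of_mono φ).1 h₂
  have hC : C.Exact := by
    let ψ : C ⟶ S₂ :=
      { τ₁ := 𝟙 _, τ₂ := 𝟙 _, τ₃ := kernel.ι a'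
        comm₁₂ := by simp [S₂, C], comm₂₃ := by simp [S₂, C] }
    have : Epi ψ.τ₁ := inferInstanceAs (Epi (𝟙 _))
    have : IsIso ψ.τ₂ := inferInstanceAs (IsIso (𝟙 _))
    have : Mono ψ.τ₃ := inferInstanceAs (Mono (kernel.ι a'))
    exact (ShortComplex.exact_iff_of_epi_of_isIso_of_mono ψ).2 h₂'
  have hm : Mono C.f := (ShortComplex.exact_iff_mono_cokernel_desc _).1 h₁
  have he : Epi C.g := (ShortComplex.exact_iff_epi_kernel_lift _).1 h₃
  exact ⟨_, _, _, ⟨hC⟩⟩

end Groth.Agent.AlgSpEN.CycleLift
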