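import Groth.Agent.AlgSpEN.RlimQC
import Groth.Agent.AlgSpEN.SerreBase
import Groth.Agent.AlgSpQC.Push
import Groth.Agent.AlgSpD.QCExtension
import Groth.Agent.AlgSpQC.WeakAss
import Groth.Agent.AlgSp.PointsMor
import Groth.Agent.CohDerLib.RFLim.Main
import Groth.Agent.AlgSpEN.CycleLift

/-!
# Derived direct images along affine morphisms reflect isomorphisms
-/

set_option autoImplicit false
universe u

open CategoryTheory CategoryTheory.Limits AlgebraicGeometry Opposite DerivedCategory Pretriangulated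
open Groth.Agent.KFlat

set_option backward.isDefEq.respectTransparency false
set_option backward.isDefEq.respectTransparency.types false
set_option maxHeartbeats 400000
set_option synthInstance.maxHeartbeats 100000
attribute [local instance] HasDerivedCategory.standard

namespace Groth.Agent.AlgSpEN.AffReflect

open _root_.AlgSp Groth.Agent.AlgSpQC Groth.Agent.AlgSpEN.FreeAcy

variable {S : Scheme.{u}} {X Y : Space S}

/-- A quasi-coherent module vanishing on a family of affine objects covering all points is zero. -/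
theorem sect_eq_zero_of_family {M : ModEt X.obj} [M.IsQuasicoherent] {κ : Type (u + 1)} (U : κ → EtOver X.obj)
    [∀ k, IsAffine (U k).obj.left.left]
    (hU : ∀ x : Points X.obj, ∃ k, x ∈ Set.range (Points.ofPt (U k).obj.hom))
    (h : ∀ k (m : sectModEt M (U k)), m = 0) (E : EtOver X.obj) (m : sectModEt M E) : m = 0 := by
  let R : Sieve E :=
    { arrows := fun Z _ => ∃ k, Nonempty (Z ⟶ U k)
      downward_closed := fun {_ _} _ ⟨k, ⟨v⟩⟩ g => ⟨k, ⟨g ≫ v⟩⟩ }
  have hR : R ∈ etTop X.obj E := (AlgSpD.mem_etTop_iff _).2 fun z => by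
    obtain ⟨k, hk⟩ := hU (Points.ofPt E.obj.hom z)
    exact ⟨EtOver.prodObj E (U k), EtOver.prodFst E (U k), ⟨k, ⟨EtOver.prodSnd E (U k)⟩⟩,
      Bound.exists_prod_cover (U k) E z hk⟩
  refine eq_of_sieve hR fun Z g hg => ?_
  obtain ⟨k, ⟨v⟩⟩ := hg
  rw [map_zero]
  refine (exists_affine_sieve Z).elim fun T hT => ?_
  refine eq_of_sieve hT.1 fun W j hj => ?_
  refine (hT.2 W j hj).elim fun A hA => hA.elim fun a ha => ha.elim fun b hb => ?_
  have := hb.1
  rw [map_zero, ← hb.2, rs_comp]
  have e : rs M b (rs M g m) = 0 := by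
    have hmem := rs_mem_span_range (b ≫ v) (rs M b (rs M g m))
    rw [show Set.range (rs M (b ≫ v)) = {0} from Set.eq_singleton_iff_unique_mem.2
      ⟨⟨0, map_zero _⟩, by rintro _ ⟨y, rfl⟩; rw [h k y, map_zero]⟩,
      Submodule.span_singleton_eq_bot.2 rfl] at hmem
    exact (Submodule.mem_bot _).1 hmem
  rw [e, map_zero]

theorem isQuasicoherent_extension₂ {A B C : ModEt X.obj} {φ : A ⟶ B} {ψ : B ⟶ C} {w : φ ≫ ψ = 0}
    (h : (ShortComplex.mk φ ψ w).ShortExact) (hA : A.IsQuasicoherent) (hC : C.IsQuasicoherent) : B.IsQuasicoherent :=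
  @Groth.Agent.AlgSpD.QCExtension.isQuasicoherent_ext _ _ (ShortComplex.mk φ ψ w) h hA hC

/-- Cohomology of the third term of a triangle with quasi-coherent cohomology elsewhere is quasi-coherent. -/
theorem isQuasicoherent_obj₃ (T : Triangle (DModEt X.obj)) (hT : T ∈ distTriang (DModEt X.obj)) (j : ℤ)
    (h₀ : (DCoh.HDMod (OEtRing X.obj) T.obj₁ j).IsQuasicoherent)
    (h₁ : (DCoh.HDMod (OEtRing X.obj) T.obj₂ j).IsQuasicoherent)
    (h₂ : (DCoh.HDMod (OEtRing X.obj) T.obj₁ (j + 1)).IsQuasicoherent)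
    (h₃ : (DCoh.HDMod (OEtRing X.obj) T.obj₂ (j + 1)).IsQuasicoherent) :
    (DCoh.HDMod (OEtRing X.obj) T.obj₃ j).IsQuasicoherent := by
  refine (CycleLift.exists_shortExact _ (HomologySequence.comp_δ T hT j (j + 1) rfl)
    (HomologySequence.δ_comp T hT j (j + 1) rfl) (HomologySequence.exact₂ T hT j)
    (HomologySequence.exact₃ T hT j (j + 1) rfl) (HomologySequence.exact₁ T hT j (j + 1) rfl)).elim fun φ hφ => ?_
  refine hφ.elim fun ψ hψ => hψ.elim fun w hw => ?_
  exact isQuasicoherent_extension₂ hw (@isQuasicoherent_cokernel _ _ _ _ h₀ h₁ _)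
    (@isQuasicoherent_kernel _ _ _ _ h₂ h₃ _)

variable {f : X.obj ⟶ Y.obj} (hf : Representable f)

/-- Base changes of affine objects cover all points. -/
theorem bc_covers (x : Points X.obj) :
    ∃ E : {E : EtOver Y.obj // IsAffine E.obj.left.left}, x ∈ Set.range (Points.ofPt (bcO hf E.1).obj.hom) := by
  obtain ⟨E, hE, u, hu⟩ := exists_affine_etOver Y (Points.map f x)
  refine ⟨⟨E, hE⟩, ?_⟩
  obtain ⟨p, hp, -⟩ := Groth.Agent.AlgSpB.exists_of_isPullback (EtOver.isPullback_bcObj hf E) x
    (Points.ofScheme _ u) (by rw [← Points.ofPt_eq_map_ofScheme, hu])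
  exact ⟨Points.toScheme _ p, by rw [Points.ofPt_eq_map_ofScheme, Points.ofScheme_toScheme]; exact hp⟩

include hf in
/-- Cohomology sheaves of a K-injective complex with acyclic direct image vanish along an affine morphism. -/
theorem homology_sect_eq_zero (haff : IsAffineMor f) (I : CochainComplex (ModEt X.obj) ℤ) [I.IsKInjective]
    (hI : DCoh.IsQCohDMod (OEtRing X.obj) (Q.obj I)) (m : ℤ)
    (hex : (((pushModEt hf).mapHomologicalComplex (ComplexShape.up ℤ)).obj I).ExactAt m)
    (E : EtOver Y.obj) [IsAffine E.obj.left.left] (s : sectModEt (I.homology m) (bcO hf E)) : s = 0 := by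
  have := isAffine_bcO_and_map (hf := hf) haff E
  obtain ⟨u, hu⟩ := CycleLift.exists_cycle_lift I (freeO (bcO hf E)) m
    (RlimQC.Φ_bijective (bcO hf E) (Q.obj I) hI m).2 ((freeOEquiv (bcO hf E) _).symm s)
  let z : sectModEt (I.cycles m) (bcO hf E) := freeOEquiv _ _ u
  have hz : ((I.homologyπ m).val.app (op (bcO hf E))).hom z = s := by
    rw [← freeOEquiv_comp, hu, Equiv.apply_symm_apply]
  let T := (((pushModEt hf).mapHomologicalComplex (ComplexShape.up ℤ)).obj I).sc' (m - 1) m (m + 1)
  have hT : T.Exact := (HomologicalComplex.exactAt_iff' _ (m - 1) m (m + 1) (by simp) (by simp)).1 hex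
  let w : sectModEt T.X₂ E := ((I.iCycles m).val.app (op (bcO hf E))).hom z
  have hw : hs T.g E w = 0 := by
    change ((I.d m (m + 1)).val.app (op (bcO hf E))).hom (((I.iCycles m).val.app (op (bcO hf E))).hom z) = 0
    exact congr(($(congrArg (fun q : I.cycles m ⟶ I.X (m + 1) => q.val.app (op (bcO hf E)))
      (I.iCycles_d m (m + 1)))).hom z)
  refine (exists_local_preimage T hT w hw).elim fun J hJ => ?_
  refine ((toAbEt Y.obj).obj ((pushModEt hf).obj (I.homology m))).property.isSeparated E J hJ.1 s 0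
    fun V g hg => ?_
  refine (hJ.2 V g hg).elim fun l hl => ?_
  rw [map_zero]
  have hl' : ((I.d (m - 1) m).val.app (op (bcO hf V))).hom l =
      rs (I.X m) (bcM hf g) (((I.iCycles m).val.app (op (bcO hf E))).hom z) := hl
  have hc : ((I.toCycles (m - 1) m).val.app (op (bcO hf V))).hom l = rs (I.cycles m) (bcM hf g) z := by
    refine (hs_injective (I.iCycles m) (bcO hf V)) ?_
    refine Eq.trans (congr(($(congrArg (fun q : I.X (m - 1) ⟶ I.X m => q.val.app (op (bcO hf V)))
      (I.toCycles_i (m - 1) m))).hom l)) (hl'.trans ?_)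
    exact (hs_rs (I.iCycles m) (bcM hf g) z).symm
  change rs (I.homology m) (bcM hf g) s = 0
  rw [← hz]
  refine (hs_rs (I.homologyπ m) (bcM hf g) z).symm.trans ?_
  rw [← hc]
  exact congr(($(congrArg (fun q : I.X (m - 1) ⟶ I.homology m => q.val.app (op (bcO hf V)))
    (I.toCycles_comp_homologyπ (m - 1) m))).hom l)

/-- Total direct image along an affine morphism reflects isomorphisms between objects with quasi-coherent
cohomology. -/
theorem isIso_of_isIso_map (haff : IsAffineMor f) [HasRpushModEtD hf] {E F : DModEt X.obj}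
    (hE : DCoh.IsQCohDMod (OEtRing X.obj) E) (hF : DCoh.IsQCohDMod (OEtRing X.obj) F) (α : E ⟶ F)
    (hα : IsIso ((RpushModEtD hf).map α)) : IsIso α := by
  have := isGrothendieckAbelian_sheafOfModules (OEtRing X.obj)
  obtain ⟨Z, u, v, hT⟩ := Pretriangulated.distinguished_cocone_triangle α
  let T := Triangle.mk α u v
  suffices hz : IsZero Z from (Triangle.isZero₃_iff_isIso₁ T hT).1 hz
  obtain ⟨δ, hδ⟩ := CohDerLib.RFLim.distinguished_RF (pushModEt hf) T hT
  have hR : IsZero ((RpushModEtD hf).obj Z) := (Triangle.isZero₃_iff_isIso₁ _ hδ).2 hα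
  obtain ⟨I, hI, ⟨e⟩⟩ := CohDerLib.RFLim.exists_rep Z
  have hq : ∀ j, (DCoh.HDMod (OEtRing X.obj) (Q.obj I) j).IsQuasicoherent := fun j => by
    have h₁ : SheafOfModules.IsQuasicoherent.{u + 1, u, u + 1}
        ((homologyFunctor (ModEt X.obj) j).obj Z) := by
      have h₁ := hF j
      have h₂ := hE (j + 1)
      have h₃ := hE j
      have h₄ := hF (j + 1)
      exact AlgSpEN.AffReflect.isQuasicoherent_obj₃ T hT j h₃ h₁ h₂ h₄
    exact (SheafOfModules.isQuasicoherent.{u + 1, u, u + 1} (OEtRing X.obj)).prop_of_iso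
      ((homologyFunctor (ModEt X.obj) j).mapIso e).symm h₁
  have hQ : IsZero (Q.obj (((pushModEt hf).mapHomologicalComplex (ComplexShape.up ℤ)).obj I)) := by
    have := CohDerLib.RFLim.isIso_toRF (pushModEt hf) I
    exact (hR.of_iso ((RpushModEtD hf).mapIso e)).of_iso (asIso ((CohDerLib.RFLim.toRF (pushModEt hf)).app I))
  have hz : ∀ m, IsZero ((homologyFunctor (ModEt X.obj) m).obj Z) := fun m => by
    have hex : (((pushModEt hf).mapHomologicalComplex (ComplexShape.up ℤ)).obj I).ExactAt m :=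
      (HomologicalComplex.exactAt_iff_isZero_homology _ _).2
        (((homologyFunctor (ModEt Y.obj) m).map_isZero hQ).of_iso
          ((homologyFunctorFactors (ModEt Y.obj) m).app _).symm)
    have := hq m
    let i₁ : I.homology m ≅ DCoh.HDMod (OEtRing X.obj) (Q.obj I) m := ((homologyFunctorFactors _ m).app I).symm
    have : SheafOfModules.IsQuasicoherent.{u + 1, u, u + 1} (I.homology m) :=
      (SheafOfModules.isQuasicoherent.{u + 1, u, u + 1} (OEtRing X.obj)).prop_of_iso i₁.symm (hq m)
    have h0 : IsZero (I.homology m) := by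
      rw [IsZero.iff_id_eq_zero]
      ext A s
      have : ∀ k : {E : EtOver Y.obj // IsAffine E.obj.left.left}, IsAffine (bcO hf k.1).obj.left.left :=
        fun k => have := k.2; isAffine_bcO_and_map (hf := hf) haff k.1
      exact sect_eq_zero_of_family (fun k : {E : EtOver Y.obj // IsAffine E.obj.left.left} => bcO hf k.1)
        (bc_covers hf) (fun k s => have := k.2; homology_sect_eq_zero hf haff I hq m hex k.1 s) A.unop s
    exact h0.of_iso (((homologyFunctor (ModEt X.obj) m).mapIso e).symm ≪≫ i₁.symm)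
  refine (IsZero.iff_id_eq_zero _).2 ?_
  have : IsIso (0 : Z ⟶ Z) := (DerivedCategory.isIso_iff (ModEt X.obj) (0 : Z ⟶ Z)).2 fun m =>
    ⟨0, (hz m).eq_of_src _ _, (hz m).eq_of_src _ _⟩
  exact (IsIso.hom_inv_id (0 : Z ⟶ Z)).symm.trans zero_comp

end Groth.Agent.AlgSpEN.AffReflect
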