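import Groth.Agent.AlgSpEN.AffAcyclic
import Groth.Agent.AdeqAmitsur.Exact
import Groth.Agent.AlgSpQC.Cart

/-!
# Amitsur complexes of quasi-coherent modules are exact
-/

set_option autoImplicit false
universe u

open CategoryTheory CategoryTheory.Limits AlgebraicGeometry Opposite TensorProduct

set_option backward.isDefEq.respectTransparency false
set_option backward.isDefEq.respectTransparency.types false

noncomputable section

namespace Groth.Agent.AlgSpEN.Amitsur

open _root_.AlgSp Groth.Agent.AdeqAmitsur Groth.Agent.AlgSpQC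

variable {S : Scheme.{u}} {X : Sp S} {E : EtOver X}

/-- The functions of an object over `E` form an algebra over the functions of `E`. -/
scoped instance algOver (W : Over E) : Algebra (gr E) (gr W.left) := (gm W.hom).toAlgebra

/-- Pullback of functions over `E`. -/
def gA {W W' : Over E} (f : W' ⟶ W) : gr W.left →ₐ[gr E] gr W'.left :=
  { gm f.left with
    commutes' := fun a => by
      change gm f.left (gm W.hom a) = gm W'.hom a
      rw [← gm_comp, Over.w] }

theorem flat_over [IsAffine E.obj.left.left] (W : Over E) [IsAffine W.left.obj.left.left] :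
    Module.Flat (gr E) (gr W.left) := flat_gm W.hom

variable (N N' : Type (u + 1)) [AddCommGroup N] [Module (gr E) N] [AddCommGroup N'] [Module (gr E) N']

/-- Restriction of tensors. -/
def tr {W W' : Over E} (f : W' ⟶ W) : gr W.left ⊗[gr E] N →ₗ[gr E] gr W'.left ⊗[gr E] N :=
  TensorProduct.map (gA f).toLinearMap LinearMap.id

theorem tr_id (W : Over E) : tr N (𝟙 W) = LinearMap.id :=
  TensorProduct.ext' fun _ _ => rfl

theorem tr_comp {W W' W'' : Over E} (f : W' ⟶ W) (g : W'' ⟶ W') : tr N (g ≫ f) = tr N g ∘ₗ tr N f :=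
  TensorProduct.ext' fun a _ => congrArg (· ⊗ₜ _) (gm_comp f.left g.left a)

/-- The presheaf of tensors with a module over the functions of `E`. -/
def tens : (Over E)ᵒᵖ ⥤ AddCommGrpCat.{u + 1} where
  obj W := AddCommGrpCat.of (gr W.unop.left ⊗[gr E] N)
  map f := AddCommGrpCat.ofHom (tr N f.unop).toAddMonoidHom
  map_id W := AddCommGrpCat.hom_ext (DFunLike.ext _ _ fun x => congr($(tr_id N W.unop) x))
  map_comp f g := AddCommGrpCat.hom_ext (DFunLike.ext _ _ fun x => congr($(tr_comp N f.unop g.unop) x))

variable {N N'} in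
/-- Functoriality in the module. -/
def tensMap (h : N →ₗ[gr E] N') : tens (E := E) N ⟶ tens (E := E) N' where
  app W := AddCommGrpCat.ofHom (LinearMap.lTensor (gr W.unop.left) h).toAddMonoidHom
  naturality W W' f := by
    have : LinearMap.lTensor (gr W'.unop.left) h ∘ₗ tr N f.unop = tr N' f.unop ∘ₗ LinearMap.lTensor (gr W.unop.left) h :=
      TensorProduct.ext' fun _ _ => rfl
    exact AddCommGrpCat.hom_ext (DFunLike.ext _ _ fun x => congr($this x))

variable (U : Over E)

/-- Functions of `W ×_E U`. -/
def μ (W : Over E) : gr W.left ⊗[gr E] gr U.left →ₐ[gr E] gr (W ⨯ U).left :=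
  Algebra.TensorProduct.lift (gA prod.fst) (gA prod.snd) fun _ _ => .all _ _

/-- Comparison of tensors over `W ×_E U`. -/
def γ (W : Over E) : gr W.left ⊗[gr E] (gr U.left ⊗[gr E] N) →ₗ[gr E] gr (W ⨯ U).left ⊗[gr E] N :=
  TensorProduct.map (μ U W).toLinearMap LinearMap.id ∘ₗ
    (TensorProduct.assoc (gr E) (gr W.left) (gr U.left) N).symm.toLinearMap

theorem γ_tmul (W : Over E) (x : gr W.left) (b : gr U.left) (n : N) :
    γ N U W (x ⊗ₜ (b ⊗ₜ n)) = (gm (prod.fst : W ⨯ U ⟶ W).left x * gm (prod.snd : W ⨯ U ⟶ U).left b) ⊗ₜ n :=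
  rfl

set_option maxHeartbeats 1000000 in
/-- The comparison is natural. -/
def γHom : tens (E := E) (gr U.left ⊗[gr E] N) ⟶ shift U (tens (E := E) N) where
  app W := AddCommGrpCat.ofHom (γ N U W.unop).toAddMonoidHom
  naturality W W' f := by
    refine AddCommGrpCat.hom_ext (DFunLike.ext _ _ fun x => ?_)
    change γ N U W'.unop (tr _ f.unop x) = tr N ((times U).map f.unop) (γ N U W.unop x)
    have : γ N U W'.unop ∘ₗ tr _ f.unop = tr N ((times U).map f.unop) ∘ₗ γ N U W.unop := by
      refine TensorProduct.ext' fun a y => ?_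
      induction y using TensorProduct.induction_on with
      | zero => simp
      | add y y' hy hy' => simp only [tmul_add, map_add, hy, hy']
      | tmul b n =>
        change γ N U W'.unop (gm f.unop.left a ⊗ₜ (b ⊗ₜ n)) =
          tr N ((times U).map f.unop) (γ N U W.unop (a ⊗ₜ (b ⊗ₜ n)))
        rw [γ_tmul, γ_tmul]
        refine congrArg (· ⊗ₜ n) ?_
        refine Eq.symm ((map_mul (gm ((times U).map f.unop).left) _ _).trans ?_)
        rw [← gm_comp, ← gm_comp, ← gm_comp, ← Over.comp_left, ← Over.comp_left, ← Over.comp_left,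
          prod.map_fst, prod.map_snd, Category.comp_id]
    exact congr($this x)

theorem isPushout_prod [IsAffine E.obj.left.left] [IsAffine U.left.obj.left.left] (W : Over E)
    [IsAffine W.left.obj.left.left] : Function.Bijective (μ U W) := by
  have := isAffine_prod W U
  let p := (prod.fst : W ⨯ U ⟶ W)
  let q := (prod.snd : W ⨯ U ⟶ U)
  have h := isPushout_appTop (isPullback_prod W U)
  let _ : Algebra (gr W.left) (gr (W ⨯ U).left) := (gm p.left).toAlgebra
  let _ : Algebra (gr U.left) (gr (W ⨯ U).left) := (gm q.left).toAlgebra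
  have : IsScalarTower (gr E) (gr W.left) (gr (W ⨯ U).left) := .of_algebraMap_eq' (gA p).comp_algebraMap.symm
  have : IsScalarTower (gr E) (gr U.left) (gr (W ⨯ U).left) := .of_algebraMap_eq' (gA q).comp_algebraMap.symm
  have : Algebra.IsPushout (gr E) (gr W.left) (gr U.left) (gr (W ⨯ U).left) :=
    CommRingCat.isPushout_iff_isPushout.1 h
  have e : ∀ z, μ U W z = Algebra.IsPushout.equiv (gr E) (gr W.left) (gr U.left) (gr (W ⨯ U).left) z := fun z => by
    induction z using TensorProduct.induction_on with
    | zero => simp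
    | add a b ha hb => simp only [map_add, ha, hb]
    | tmul a b => exact (Algebra.IsPushout.equiv_tmul _ _ _ _ a b).symm
  rw [funext e]
  exact (Algebra.IsPushout.equiv (gr E) (gr W.left) (gr U.left) (gr (W ⨯ U).left)).bijective

theorem γ_bijective [IsAffine E.obj.left.left] [IsAffine U.left.obj.left.left] (W : Over E)
    [IsAffine W.left.obj.left.left] : Function.Bijective (γ N U W) :=
  (TensorProduct.congr (AlgEquiv.ofBijective _ (isPushout_prod U W)).toLinearEquiv (LinearEquiv.refl _ N)).bijective.comp
    (TensorProduct.assoc (gr E) (gr W.left) (gr U.left) N).symm.bijective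

variable [IsAffine E.obj.left.left] [IsAffine U.left.obj.left.left]

/-- The unit of descent. -/
def η : N →ₗ[gr E] gr U.left ⊗[gr E] N := TensorProduct.mk (gr E) (gr U.left) N 1

theorem η_injective (hU : Surjective (str U)) : Function.Injective (η N U) := by
  refine (injective_iff_map_eq_zero _).2 fun x hx => ?_
  have := flat_over U
  refine eq_zero_of_jointly (fun _ : PUnit.{u + 1} => gr U.left) (fun p => ?_) x fun _ => hx
  exact exists_prime_comap (fun _ : PUnit.{u + 1} => U.hom) (fun _ => inferInstance)
    (fun x => ⟨⟨⟩, hU.surj x⟩) p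

theorem tensMap_η_injective (hU : Surjective (str U)) (m : ℕ) :
    Function.Injective ((tensMap (η N U)).app (op (O U m))).hom :=
  have := isAffine_O U m
  have := flat_over (O U m)
  Module.Flat.lTensor_preserves_injective_linearMap _ (η_injective N U hU)

theorem injective_D_zero_tens (hU : Surjective (str U)) : Function.Injective (D U (tens N) 0) := by
  refine injective_D_zero_of_mono U (tensMap (η N U)) (tensMap_η_injective N U hU) ?_
  refine injective_D_zero_of_mono U (γHom N U) (fun m => ?_) (injective_D_zero_shift U _)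
  have := isAffine_O U m
  exact (γ_bijective N U _).1

theorem exactD_tens (hU : Surjective (str U)) (m : ℕ) :
    ∀ (N : Type (u + 1)) [AddCommGroup N] [Module (gr E) N], ExactD U (tens N) m := by
  have hP' : ∀ (N : Type (u + 1)) [AddCommGroup N] [Module (gr E) N] (m : ℕ),
      ExactD U (tens (gr U.left ⊗[gr E] N)) m := fun N _ _ m =>
    exactD_of_bijective U (γHom N U) (fun k => by
      have := isAffine_O U k
      exact γ_bijective N U _) (exactD_shift U _ m)
  induction m with
  | zero =>
    intro N _ _
    let p := (LinearMap.range (η N U)).mkQ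
    refine exactD_of_short U (tensMap (η N U)) (tensMap p) (tensMap_η_injective N U hU)
      (fun k x => ?_) (fun k y hy => (lTensor_exact _ (LinearMap.exact_map_mkQ_range _)
        (Submodule.mkQ_surjective _) y).1 hy) (hP' N 0) fun q hq => ⟨0, map_zero _, ?_⟩
    · exact (lTensor_exact _ (LinearMap.exact_map_mkQ_range _) (Submodule.mkQ_surjective _) _).2 ⟨x, rfl⟩
    · exact (map_zero _).trans (injective_D_zero_tens _ U hU (hq.trans (map_zero _).symm)).symm
  | succ m ih =>
    intro N _ _
    let p := (LinearMap.range (η N U)).mkQ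
    refine exactD_of_short U (tensMap (η N U)) (tensMap p) (tensMap_η_injective N U hU)
      (fun k x => ?_) (fun k y hy => (lTensor_exact _ (LinearMap.exact_map_mkQ_range _)
        (Submodule.mkQ_surjective _) y).1 hy) (hP' N (m + 1))
      (hQ_succ U (tensMap p) (fun _ => LinearMap.lTensor_surjective _ (Submodule.mkQ_surjective _)) (ih _))
    exact (lTensor_exact _ (LinearMap.exact_map_mkQ_range _) (Submodule.mkQ_surjective _) _).2 ⟨x, rfl⟩

/-- Tensors give sections. -/
def sectHom (M : ModEt X) (E : EtOver X) : tens (E := E) (sectModEt M E) ⟶ secPre E ((toAbEt X).obj M).obj where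
  app W := AddCommGrpCat.ofHom
    (bc (A := gr E) (W := gr W.unop.left) (rs M W.unop.hom) (rs_smul W.unop.hom)).toAddMonoidHom
  naturality W W' f := by
    refine AddCommGrpCat.hom_ext (DFunLike.ext _ _ fun (x : gr W.unop.left ⊗[gr E] sectModEt M E) => ?_)
    change bc (A := gr E) (W := gr W'.unop.left) (rs M W'.unop.hom) (rs_smul W'.unop.hom) (tr _ f.unop x) =
      rs M f.unop.left (bc (A := gr E) (W := gr W.unop.left) (rs M W.unop.hom) (rs_smul W.unop.hom) x)
    induction x using TensorProduct.induction_on with
    | zero => simp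
    | add a b ha hb => simp only [map_add, ha, hb]
    | tmul a n =>
      change gm f.unop.left a • rs M W'.unop.hom n = rs M f.unop.left (a • rs M W.unop.hom n)
      rw [rs_smul, ← rs_comp, Over.w]

/-- Quasi-coherent modules have exact Amitsur complexes. -/
theorem cech_qc (M : ModEt X) [M.IsQuasicoherent] : Cech ((toAbEt X).obj M) := by
  intro E _ U _ hU m c hc
  have hb : ∀ k, Function.Bijective ((sectHom M E).app (op (O U k))).hom := fun k => by
    have := isAffine_O U k
    exact (isBC_iff (A := gr E) (rs M (O U k).hom) (rs_smul (O U k).hom)).1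
      (bc_of_pres (pres_id M E) (O U k).hom)
  obtain ⟨a, rfl⟩ := (hb (m + 1)).2 c
  obtain ⟨b, hb'⟩ := exactD_tens U hU m (sectModEt M E) a
    ((hb (m + 2)).1 (by rw [D_nat, hc, map_zero]))
  exact ⟨((sectHom M E).app _).hom b, by rw [← D_nat, hb']⟩

end Groth.Agent.AlgSpEN.Amitsur
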