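import Groth.Agent.AlgSpEN.Lift
import Groth.Agent.AlgSpEN.Disjoint
import Groth.Agent.AlgSp.UnivInj
import Groth.Agent.AlgSp.EDPushGlue
import Groth.Agent.AlgSp.CoprodCover
import Groth.Agent.AlgSp.SchImageQC
import Groth.Agent.AlgSpB.FieldPoints
import Groth.Agent.AzInvLib.SH

/-!
# One separated etale chart lifting all points with values in quotients of a henselian local ring
-/

universe u

open CategoryTheory CategoryTheory.Limits AlgebraicGeometry

set_option backward.isDefEq.respectTransparency false
set_option backward.isDefEq.respectTransparency.types false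
set_option autoImplicit false

namespace Groth.Agent.AlgSpEN

open _root_.AlgSp
open Groth.Agent.AlgSpB Groth.Agent.AlgSpB.Art

variable {S : Scheme.{u}}

/-- The points of an algebraic space with values in a given field form a small set. -/
theorem small_field_points {F : Sp S} (hF : IsAlgSpace F) {k : Type u} [Field k]
    (σ : Spec (CommRingCat.of k) ⟶ S) : Small.{u} ((yon S).obj (Over.mk σ) ⟶ F) := by
  obtain ⟨U, a, ha, hs⟩ := hF.atlas
  let Ω : Type u := AlgebraicClosure k
  let A : Over S := Over.mk (Spec.map (CommRingCat.ofHom (algebraMap k Ω)) ≫ σ)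
  let i : A ⟶ Over.mk σ := Over.homMk (Spec.map (CommRingCat.ofHom (algebraMap k Ω))) rfl
  have hl : ∀ x : (yon S).obj (Over.mk σ) ⟶ F, ∃ c : A ⟶ U, (yon S).map c ≫ a = (yon S).map i ≫ x := by
    intro x
    obtain ⟨W, f, j, sq⟩ := exists_pullback_yon ha.1 ((yon S).map i ≫ x)
    have : Etale j.left := ha.2 _ _ _ sq
    have : Surjective j.left := hs.2 _ _ _ sq
    obtain ⟨w, -⟩ := j.left.surjective (default : Spec (CommRingCat.of Ω))
    obtain ⟨s, hs, -⟩ := exists_section_of_etale (K := Ω) j.left w
    let s' : A ⟶ W := Over.homMk s (by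
      rw [← Over.w j, ← Category.assoc, hs]; exact Category.id_comp _)
    have hsj : s' ≫ j = 𝟙 _ := Over.OverMorphism.ext hs
    exact ⟨s' ≫ f, by rw [Functor.map_comp, Category.assoc, sq.w, ← Category.assoc, ← Functor.map_comp, hsj,
      CategoryTheory.Functor.map_id, Category.id_comp]⟩
  choose c hc using hl
  refine small_of_injective (f := c) fun x y e => ?_
  exact Groth.Agent.AlgSp.eq_of_field_extension hF i x y (by rw [← hc, ← hc, e])

/-- All points with values in quotients of a henselian local ring lift to one separated etale chart, which is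
affine when there are finitely many points with values in the residue field. -/
theorem exists_chart_quotient_points {F : Sp S} (hF : IsAlgSpace F) (R : Type u) [CommRing R]
    [HenselianLocalRing R] (str : Spec (CommRingCat.of R) ⟶ S) :
    ∃ (Z : Over S) (p : (yon S).obj Z ⟶ F), IsSeparated Z.hom ∧ RepWith @Etale p ∧
      (Finite ((yon S).obj (Over.mk (Spec.map (CommRingCat.ofHom (IsLocalRing.residue R)) ≫ str)) ⟶ F) →
        IsAffine Z.left) ∧
      ∀ (a : Ideal R)
        (x : (yon S).obj (Over.mk (Spec.map (CommRingCat.ofHom (Ideal.Quotient.mk a)) ≫ str)) ⟶ F),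
        ∃ g : Over.mk (Spec.map (CommRingCat.ofHom (Ideal.Quotient.mk a)) ≫ str) ⟶ Z,
          (yon S).map g ≫ p = x := by
  let σ := Spec.map (CommRingCat.ofHom (IsLocalRing.residue R)) ≫ str
  let Q := (yon S).obj (Over.mk σ) ⟶ F
  have : Small.{u} Q := small_field_points hF σ
  let ι : Type u := Shrink.{u} Q
  let pt : ι → Q := fun i => (equivShrink Q).symm i
  choose C c g hC hc hg using fun i => exists_affine_chart_field hF (k := IsLocalRing.ResidueField R) σ (pt i)
  let Y : ι → Scheme.{u} := fun i => (C i).left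
  have hY : ∀ i, IsAffine (Y i) := hC
  let W : Over S := Over.mk (Sigma.desc fun i => (C i).hom : (∐ Y) ⟶ S)
  let ε : ∀ i, C i ⟶ W := fun i => Over.homMk (Sigma.ι Y i) (Sigma.ι_desc _ i)
  have hdis : ∀ i j z, z ∈ Set.range (ε i).left → z ∈ Set.range (ε j).left → i = j := fun i j z hi hj =>
    of_not_not fun hij => Set.disjoint_left.1 (Groth.Agent.AlgSpCov.disjoint_range_sigmaι Y hij) hi hj
  have hε : ∀ i, IsOpenImmersion (ε i).left := fun i => (sigmaOpenCover Y).map_prop i
  have hcov : ∀ z : W.left, ∃ i, z ∈ Set.range (ε i).left := fun z => ⟨_, (sigmaOpenCover Y).covers z⟩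
  obtain ⟨p, hp⟩ := Groth.Agent.AlgSp.InfGlue.exists_glue ε (fun i => have := hε i; inferInstance) hcov c
    fun i j Z a b hab => by
      rcases eq_or_ne i j with rfl | hij
      · have : Mono (ε i) :=
          (Over.forget S).mono_of_mono_map (have := hε i; inferInstanceAs (Mono (ε i).left))
        rw [(cancel_mono (ε i)).1 hab]
      · refine Groth.Agent.AlgSp.EDPushGlue.hom_eq_of_isEmpty
          ⟨fun z => hij (hdis i j ((ε i).left (a.left z)) ⟨_, rfl⟩ ⟨b.left z, ?_⟩)⟩ _ _
        exact (congrArg (fun k => k.left z) hab).symm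
  refine ⟨W, p, ?_, Groth.Agent.AlgSp.repWith_of_disjoint_cover ε hε hcov hdis p (fun i => by rw [hp]; exact hc i),
    fun hQ => ?_, fun a x => ?_⟩
  · have := hε
    refine isSeparated_of_disjoint_cover W.hom (fun i => (ε i).left) hcov hdis fun i => ?_
    rw [Over.w (ε i)]
    have := hC i
    have : IsSeparated ((C i).hom ≫ terminal.from S) := by
      rw [terminal.comp_from]
      exact Scheme.IsSeparated.isSeparated_terminal_from
    exact IsSeparated.of_comp (C i).hom (terminal.from S)
  · have : Finite Q := hQ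
    have : Finite ι := Finite.of_equiv _ (equivShrink Q)
    exact inferInstanceAs (IsAffine (∐ Y))
  · rcases eq_or_ne a ⊤ with ha | ha
    · let T : Over S := Over.mk (Spec.map (CommRingCat.ofHom (Ideal.Quotient.mk a)) ≫ str)
      have : Subsingleton (R ⧸ a) := Ideal.Quotient.subsingleton_iff.2 ha
      have hT : IsEmpty T.left := inferInstanceAs (IsEmpty (PrimeSpectrum (R ⧸ a)))
      exact ⟨Over.homMk (isInitialOfIsEmpty.to W.left) (isInitialOfIsEmpty.hom_ext _ _),
        Groth.Agent.AlgSp.EDPushGlue.hom_eq_of_isEmpty hT _ _⟩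
    · have : Nontrivial (R ⧸ a) := Ideal.Quotient.nontrivial_iff.2 ha
      have : HenselianLocalRing (R ⧸ a) :=
        Groth.Agent.AzInvLib.henselianLocalRing_of_surjective (Ideal.Quotient.mk a) Ideal.Quotient.mk_surjective
      have : IsLocalHom (Ideal.Quotient.mk a) := Ideal.Quotient.mk_surjective.isLocalHom _
      let f : R ⧸ a →+* IsLocalRing.ResidueField R := Ideal.Quotient.lift a (IsLocalRing.residue R) fun r hr =>
        IsLocalRing.residue_eq_zero_iff r |>.2 (IsLocalRing.le_maximalIdeal ha hr)
      let strA := Spec.map (CommRingCat.ofHom (Ideal.Quotient.mk a)) ≫ str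
      let κ : Over.mk σ ⟶ Over.mk strA := Over.homMk (Spec.map (CommRingCat.ofHom f)) (by
        change Spec.map _ ≫ Spec.map _ ≫ str = Spec.map _ ≫ str
        rw [← Spec.map_comp_assoc]
        rfl)
      let η : IsLocalRing.ResidueField R →+* IsLocalRing.ResidueField (R ⧸ a) :=
        IsLocalRing.ResidueField.map (Ideal.Quotient.mk a)
      have hηf : η.comp f = IsLocalRing.residue (R ⧸ a) := Ideal.Quotient.ringHom_ext (RingHom.ext fun r => rfl)
      let ω : Over.mk (Spec.map (CommRingCat.ofHom (IsLocalRing.residue (R ⧸ a))) ≫ strA) ⟶ Over.mk σ :=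
        Over.homMk (Spec.map (CommRingCat.ofHom η)) (by
          change Spec.map _ ≫ Spec.map _ ≫ str = Spec.map _ ≫ Spec.map _ ≫ str
          rw [← Spec.map_comp_assoc, ← Spec.map_comp_assoc]
          rfl)
      have hωκ : ω ≫ κ = resPt (R ⧸ a) strA := Over.OverMorphism.ext (by
        change Spec.map _ ≫ Spec.map _ = Spec.map _
        rw [← Spec.map_comp, ← CommRingCat.ofHom_comp, hηf])
      let i : ι := equivShrink Q ((yon S).map κ ≫ x)
      have hi : pt i = (yon S).map κ ≫ x := (equivShrink Q).symm_apply_apply _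
      obtain ⟨l, hl, -⟩ := exists_lift_henselian
        (Groth.Agent.AlgSp.repWith_mono (Q := @Smooth)
          (fun f hf => have : Etale f := hf; (inferInstance : Smooth f)) (hc i))
        (R ⧸ a) strA x (ω ≫ g i) (by
          have e := congrArg (fun m => (yon S).map m ≫ x) hωκ
          simp only [Functor.map_comp, Category.assoc] at e
          rw [Functor.map_comp, Category.assoc, hg i, hi]
          exact e)
      exact ⟨l ≫ ε i, by rw [Functor.map_comp, Category.assoc, hp, hl]⟩

end Groth.Agent.AlgSpEN
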