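import Groth.Agent.AlgSp.CoprodCover
import Groth.Agent.AlgSpEN.Induction

/-!
# The disjoint union of two charts
-/

universe u

open CategoryTheory CategoryTheory.Limits AlgebraicGeometry

set_option backward.isDefEq.respectTransparency false
set_option backward.isDefEq.respectTransparency.types false
set_option autoImplicit false

namespace Groth.Agent.AlgSpEN

open _root_.AlgSp
open Groth.Agent.AlgSpB

variable {S : Scheme.{u}}

/-- Two etale maps from affine schemes give one from their disjoint union. -/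
theorem exists_coprod_chart {F : Sp S} {A B : Over S} [IsAffine A.left] [IsAffine B.left]
    (a : (yon S).obj A ⟶ F) (b : (yon S).obj B ⟶ F) (ha : RepWith @Etale a) (hb : RepWith @Etale b) :
    ∃ (V : Over S) (f : (yon S).obj V ⟶ F) (ea : A ⟶ V) (eb : B ⟶ V), IsAffine V.left ∧ RepWith @Etale f ∧
      (yon S).map ea ≫ f = a ∧ (yon S).map eb ≫ f = b ∧ IsOpenImmersion ea.left ∧
      (∀ v, v ∈ Set.range ea.left ∨ v ∈ Set.range eb.left) := by
  let U : ULift.{u} Bool → Over S := fun i => match i.down with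
    | true => A
    | false => B
  let c : ∀ i, (yon S).obj (U i) ⟶ F := fun i => match i with
    | ⟨true⟩ => a
    | ⟨false⟩ => b
  have hc : ∀ i, RepWith @Etale (c i) := fun i => match i with
    | ⟨true⟩ => ha
    | ⟨false⟩ => hb
  let Y : ULift.{u} Bool → Scheme.{u} := fun i => (U i).left
  have : ∀ i, IsAffine (Y i) := fun i => match i with
    | ⟨true⟩ => ‹IsAffine A.left›
    | ⟨false⟩ => ‹IsAffine B.left›
  let W : Over S := Over.mk (Sigma.desc fun i => (U i).hom : (∐ Y) ⟶ S)
  let ε : ∀ i, U i ⟶ W := fun i => Over.homMk (Sigma.ι Y i) (Sigma.ι_desc _ _)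
  have hεo : ∀ i, IsOpenImmersion (ε i).left := fun i => (sigmaOpenCover Y).map_prop i
  have hεc : ∀ x : W.left, ∃ i, x ∈ Set.range (ε i).left := fun x => ⟨_, (sigmaOpenCover Y).covers x⟩
  have hεd : ∀ i j x, x ∈ Set.range (ε i).left → x ∈ Set.range (ε j).left → i = j := by
    rintro i j x ⟨p, hp⟩ ⟨q, hq⟩
    by_contra hne
    obtain ⟨z, -, -⟩ := Scheme.Pullback.exists_preimage_pullback (f := Sigma.ι Y i) (g := Sigma.ι Y j) p q
      (hp.trans hq.symm)
    exact (isEmpty_pullback_sigmaι_of_ne Y hne).elim z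
  obtain ⟨f, hf⟩ := Groth.Agent.AlgSp.InfGlue.exists_glue (T := W) (U := U) ε
    (fun i => have := hεo i; inferInstance) hεc c fun i j Z p q hpq => by
      rcases eq_or_ne i j with rfl | hne
      · have : Mono (ε i) := (Over.forget S).mono_of_mono_map (have := hεo i; inferInstanceAs (Mono (ε i).left))
        rw [(cancel_mono (ε i)).1 hpq]
      · refine Groth.Agent.AlgSp.InfGlue.hom_ext_cover (ι := PEmpty.{u + 1}) (U := fun x => x.elim)
          (fun x => x.elim) (fun x => x.elim) (fun t => ?_) _ _ (fun x => x.elim)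
        exact absurd (hεd i j ((ε i).left (p.left t)) ⟨_, rfl⟩
          ⟨q.left t, (congrArg (fun k : Z ⟶ W => k.left t) hpq).symm⟩) hne
  refine ⟨W, f, ε ⟨true⟩, ε ⟨false⟩, inferInstanceAs (IsAffine (∐ Y)),
    Groth.Agent.AlgSp.repWith_of_disjoint_cover ε hεo hεc hεd f fun i => by rw [hf]; exact hc i,
    hf _, hf _, hεo _, fun v => ?_⟩
  obtain ⟨⟨_ | _⟩, hv⟩ := hεc v
  · exact Or.inr hv
  · exact Or.inl hv

end Groth.Agent.AlgSpEN
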