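import Groth.Prelude.Def_AlgSpDec
import Groth.Prelude.Def_AlgSpMor5
import Groth.Agent.AlgSpD.Decent
import Groth.Agent.AlgSpCov.Listed
import Groth.Agent.AlgSpCov.LocP
import Groth.Agent.AlgSp.GaloisData
import Groth.Agent.DVRCrit.Basic
import Groth.Agent.S10343

/-!
# Lifts of squares over discrete valuation rings for universally closed decent morphisms of finite type
-/

universe u

open CategoryTheory CategoryTheory.Limits AlgebraicGeometry Opposite IsLocalRing

set_option backward.isDefEq.respectTransparency false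
set_option backward.isDefEq.respectTransparency.types false
set_option autoImplicit false

namespace Groth.Agent.AlgSpEN

open _root_.AlgSp
open Groth.Agent

variable {S : Scheme.{u}}

/-- A specialization of the image of a point with values in a finite extension of the fraction field is seen by a
discrete valuation ring of that extension. -/
theorem exists_dvr_lift_of_specializes {A K K' : Type u} [CommRing A] [IsDomain A] [IsDiscreteValuationRing A]
    [Field K] [Algebra A K] [IsFractionRing A K] [Field K'] (i : K →+* K') (hi : i.Finite)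
    {U : Scheme.{u}} (q : U ⟶ Spec (CommRingCat.of A)) [LocallyOfFiniteType q]
    (u u' : U) (hs : u' ⤳ u) (hq : q u = closedPoint A) (e : U.residueField u' ⟶ CommRingCat.of K')
    (hcomm : (Spec.map e ≫ U.fromSpecResidueField u') ≫ q =
      Spec.map (CommRingCat.ofHom i) ≫ Spec.map (CommRingCat.ofHom (algebraMap A K))) :
    ∃ (R : ValuationSubring K') (φ : A →+* R) (l : Spec (CommRingCat.of R) ⟶ U),
      IsDiscreteValuationRing R ∧ R.subtype.comp φ = i.comp (algebraMap A K) ∧ IsLocalHom φ ∧
        Spec.map (CommRingCat.ofHom R.subtype) ≫ l = Spec.map e ≫ U.fromSpecResidueField u' ∧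
        l ≫ q = Spec.map (CommRingCat.ofHom φ) := by
  have : IsLocallyNoetherian U := LocallyOfFiniteType.isLocallyNoetherian q
  let O := U.presheaf.stalk u
  let ψ : O ⟶ CommRingCat.of K' := U.presheaf.stalkSpecializes hs ≫ U.residue u' ≫ e
  have hψ : Spec.map ψ ≫ U.fromSpecStalk u = Spec.map e ≫ U.fromSpecResidueField u' := by
    simp only [ψ, Spec.map_comp, Category.assoc, Scheme.SpecMap_stalkSpecializes_fromSpecStalk]
    rfl
  let α : CommRingCat.of A ⟶ O := Spec.preimage (U.fromSpecStalk u ≫ q)
  have hα : Spec.map α = U.fromSpecStalk u ≫ q := Spec.map_preimage _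
  have hαψ : α ≫ ψ = CommRingCat.ofHom (i.comp (algebraMap A K)) := Spec.map_injective (by
    rw [Spec.map_comp, hα, reassoc_of% hψ, CommRingCat.ofHom_comp, Spec.map_comp, ← hcomm, Category.assoc])
  have hαloc : ∀ a, a ∈ maximalIdeal A → α.hom a ∈ maximalIdeal O := by
    intro a ha
    have h1 : Spec.map α (closedPoint O) = closedPoint A := by
      rw [hα, Scheme.Hom.comp_apply, Scheme.fromSpecStalk_closedPoint, hq]
    have h2 := congrArg PrimeSpectrum.asIdeal h1
    change (maximalIdeal O).comap α.hom = maximalIdeal A at h2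
    rw [← h2] at ha
    exact ha
  obtain ⟨ϖ, hϖ⟩ := IsDiscreteValuationRing.exists_irreducible A
  have hinj : Function.Injective (i.comp (algebraMap A K)) := i.injective.comp (IsFractionRing.injective A K)
  let _ : Algebra K K' := i.toAlgebra
  have : Module.Finite K K' := hi
  obtain ⟨G, hG⟩ := Module.Finite.fg_top (R := K) (M := K')
  have hgen : Subfield.closure (Set.range ψ.hom ∪ (G : Set K')) = ⊤ := by
    have hK : ∀ c : K, i c ∈ Subfield.closure (Set.range ψ.hom ∪ (G : Set K')) := by
      intro c
      obtain ⟨a, b, -, rfl⟩ := IsFractionRing.div_surjective (A := A) c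
      rw [map_div₀]
      refine div_mem (Subfield.subset_closure (Or.inl ⟨α.hom a, ?_⟩)) (Subfield.subset_closure (Or.inl ⟨α.hom b, ?_⟩))
      · exact ConcreteCategory.congr_hom hαψ a
      · exact ConcreteCategory.congr_hom hαψ b
    rw [eq_top_iff]
    rintro z -
    have hz : z ∈ Submodule.span K (G : Set K') := hG ▸ Submodule.mem_top
    induction hz using Submodule.span_induction with
    | mem g hg => exact Subfield.subset_closure (Or.inr hg)
    | zero => exact zero_mem _
    | add x y _ _ hx hy => exact add_mem hx hy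
    | smul c x _ hx => rw [Algebra.smul_def]; exact mul_mem (hK c) hx
  obtain ⟨R, hR, hmem, hdom⟩ := DVRCrit.exists_dvr_dominating' ψ.hom G.finite_toSet hgen
    ⟨α.hom ϖ, hαloc ϖ hϖ.not_isUnit, fun h0 => hϖ.ne_zero (hinj (by
      rw [map_zero]; exact (ConcreteCategory.congr_hom hαψ ϖ).symm.trans h0))⟩
  let χ : O →+* R := ψ.hom.codRestrict R.toSubring hmem
  have hχ : R.subtype.comp χ = ψ.hom := RingHom.ext fun _ => rfl
  refine ⟨R, χ.comp α.hom, Spec.map (CommRingCat.ofHom χ) ≫ U.fromSpecStalk u, hR, ?_, ?_, ?_, ?_⟩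
  · rw [← RingHom.comp_assoc, hχ]
    exact congrArg CommRingCat.Hom.hom hαψ
  · refine ⟨fun a ha => ?_⟩
    by_contra hu
    have h1 := hdom _ (hαloc a hu)
    exact ((R.valuation_lt_one_iff (χ (α.hom a))).2 h1) ha
  · rw [← Category.assoc, ← Spec.map_comp, ← hψ]
    congr 2
  · rw [Category.assoc, ← hα, ← Spec.map_comp]
    rfl

/-- Squares over discrete valuation rings lift after a finite separable extension for universally closed decent
morphisms locally of finite type. -/
theorem exists_domExt_of_isUnivClosedMor {X Y : Space S} (f : X ⟶ Y) (hlft : LocP @LocallyOfFiniteType f.hom)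
    (hdec : IsDecentMor f.hom) (huc : IsUnivClosedMor f.hom) (sq : ValSq f.hom)
    (hA : IsDiscreteValuationRing sq.A) :
    ∃ e : sq.DomExt, IsDiscreteValuationRing e.A' ∧
      (letI := e.ψ.toAlgebra; Module.Finite sq.K e.K' ∧ Algebra.IsSeparable sq.K e.K') ∧ e.HasLift := by
  let XA := pullback f.hom sq.bot
  have sqA : IsPullback (pullback.fst f.hom sq.bot) (pullback.snd f.hom sq.bot) f.hom sq.bot :=
    IsPullback.of_hasPullback _ _
  have hXA : IsAlgSpace XA :=
    Groth.Agent.AlgSp.isAlgSpace_pullback Y.property X.property (IsAlgSpace.yon_obj _) f.hom sq.bot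
  let XS : Space S := ⟨XA, hXA⟩
  let η : (yon S).obj sq.ptK ⟶ XA := pullback.lift sq.top ((yon S).map sq.j) sq.comm
  let x : Points XA := Points.ofPt η (default : Spec (CommRingCat.of sq.K))
  have hclosed : IsClosed (Points.map (pullback.snd f.hom sq.bot) '' closure {x}) :=
    huc (IsAlgSpace.yon_obj _) sq.bot _ _ sqA _ isClosed_closure
  have hx : Points.map (pullback.snd f.hom sq.bot) x =
      Points.schemeEquiv sq.ptA (sq.j.left (default : Spec (CommRingCat.of sq.K))) := by
    rw [Points.map_ofPt, pullback.lift_snd, Points.ofPt_eq_map_ofScheme]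
    exact Points.map_yon_map_apply _ _
  obtain ⟨c, hc, hcs⟩ : Points.schemeEquiv sq.ptA (closedPoint sq.A) ∈
      Points.map (pullback.snd f.hom sq.bot) '' closure {x} := by
    have h1 := hclosed.preimage (Points.schemeHomeo sq.ptA).continuous
    exact (IsLocalRing.specializes_closedPoint (sq.j.left (default : Spec (CommRingCat.of sq.K)))).mem_closed h1
      ⟨x, subset_closure rfl, hx⟩
  obtain ⟨U, a, ha, has⟩ := hXA.atlas
  obtain ⟨u, hu⟩ := AlgSpB.surjective_ofPt has c
  obtain ⟨qU, hqU⟩ := (yon S).map_surjective (a ≫ pullback.snd f.hom sq.bot)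
  have : LocallyOfFiniteType qU.left := AlgSpCov.chart_of_locP AlgSpCov.etaleLocal_locallyOfFiniteType
    X.property Y.property hlft sq.bot sqA ha qU hqU.symm
  have hqu : qU.left u = closedPoint sq.A := by
    apply (Points.schemeEquiv sq.ptA).injective
    rw [← hcs, ← hu, Points.map_ofPt, ← hqU, Points.ofPt_eq_map_ofScheme]
    exact (Points.map_yon_map_apply qU u).symm
  obtain ⟨u', hu's, hu'⟩ := Groth.Agent.S10343.result XS c x (specializes_iff_mem_closure.2 hc)
    (hdec sq.bot _ _ sqA x) a ha u hu
  obtain ⟨P, fst, snd, sqP⟩ := AlgSpB.exists_pullback_yon (hXA.representable_from_yon η) a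
  obtain ⟨z, -, hz⟩ := (AlgSpB.ofPt_eq_ofPt_iff sqP (default : Spec (CommRingCat.of sq.K)) u').1 hu'.symm
  have : Etale fst.left := ha.2 _ _ _ sqP.flip
  let K' : Type u := P.left.residueField z
  let i : CommRingCat.of sq.K ⟶ CommRingCat.of K' := Spec.preimage (P.left.fromSpecResidueField z ≫ fst.left)
  have hi : Spec.map i = P.left.fromSpecResidueField z ≫ fst.left := Spec.map_preimage _
  obtain ⟨hft, hfu⟩ := Groth.Agent.AlgSp.finite_separable_of_etale fst.left z (Iso.refl _) i
    (hi.trans (Category.id_comp _).symm)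
  have hfin : i.hom.Finite := by
    let _ : Algebra sq.K K' := i.hom.toAlgebra
    have : Algebra.FiniteType sq.K K' := hft
    have : Algebra.FormallyUnramified sq.K K' := hfu
    exact finite_of_finite_type_of_isJacobsonRing sq.K K'
  have hsep : letI := i.hom.toAlgebra; Algebra.IsSeparable sq.K K' := by
    let _ : Algebra sq.K K' := i.hom.toAlgebra
    have : Algebra.FiniteType sq.K K' := hft
    have : Algebra.FormallyUnramified sq.K K' := hfu
    exact Algebra.FormallyUnramified.isSeparable sq.K K'
  obtain ⟨e, hρ⟩ : ∃ e : U.left.residueField u' ⟶ CommRingCat.of K',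
      Spec.map e ≫ U.left.fromSpecResidueField u' = P.left.fromSpecResidueField z ≫ snd.left := by
    subst hz
    exact ⟨snd.left.residueFieldMap z, snd.left.SpecMap_residueFieldMap_fromSpecResidueField z⟩
  have hcomp : snd ≫ qU = fst ≫ sq.j := (yon S).map_injective (by
    rw [Functor.map_comp, Functor.map_comp, hqU, ← Category.assoc, ← sqP.w, Category.assoc, pullback.lift_snd])
  obtain ⟨R, φ, l, hR, hφ, hφloc, hlK, hlA⟩ := exists_dvr_lift_of_specializes (A := sq.A) (K := sq.K) i.hom hfin
    qU.left u u' hu's hqu e (by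
      rw [hρ, Category.assoc, ← Over.comp_left, hcomp, CommRingCat.ofHom_hom, hi, Category.assoc]
      rfl)
  let d : sq.DomExt := { A' := R, K' := K', φ := φ, ψ := i.hom, comm := hφ, isLocalHom := hφloc }
  refine ⟨d, hR, ⟨hfin, hsep⟩, ?_⟩
  let L : d.ptA' ⟶ U := Over.homMk l (by
    change l ≫ U.hom = Spec.map (CommRingCat.ofHom φ) ≫ sq.str
    rw [← hlA, Category.assoc, show qU.left ≫ sq.str = U.hom from Over.w qU])
  let jd : d.ptK' ⟶ d.ptA' := Over.homMk (Spec.map (CommRingCat.ofHom (algebraMap R K'))) rfl
  let ρP : d.ptK' ⟶ P := Over.homMk (P.left.fromSpecResidueField z) (by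
    change P.left.fromSpecResidueField z ≫ P.hom = Spec.map _ ≫ Spec.map _ ≫ sq.str
    rw [← Over.w fst, ← Category.assoc, ← hi, ← Spec.map_comp_assoc, ← CommRingCat.ofHom_comp]
    change Spec.map i ≫ Spec.map _ ≫ sq.str = _
    rw [← Spec.map_comp_assoc]
    congr 2
    exact CommRingCat.hom_ext hφ.symm)
  have h1 : jd ≫ L = ρP ≫ snd := Over.OverMorphism.ext (hlK.trans hρ)
  refine ⟨(yon S).map L ≫ a ≫ pullback.fst f.hom sq.bot, ?_, ?_⟩
  · change (yon S).map jd ≫ _ = _
    rw [← Functor.map_comp_assoc, h1, Functor.map_comp_assoc, ← reassoc_of% sqP.w, pullback.lift_fst,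
      ← Functor.map_comp_assoc]
    congr 2
    exact Over.OverMorphism.ext hi.symm
  · rw [Category.assoc, Category.assoc, pullback.condition, ← Category.assoc a, ← hqU, ← Functor.map_comp_assoc]
    congr 2
    exact Over.OverMorphism.ext hlA

end Groth.Agent.AlgSpEN
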