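import Groth.Agent.AlgSp.ElemDist
import Groth.Agent.AlgSp.Space
import Groth.Agent.AlgSp.QCMor
import Groth.Agent.AlgSpB.Open
import Groth.Agent.AlgSpCov.HomeoEt.Basic

/-!
# Etale charts with affine members, and pullback bookkeeping in `Over B` of algebraic spaces
-/

set_option autoImplicit false
set_option backward.isDefEq.respectTransparency.types false

universe w v u

open CategoryTheory CategoryTheory.Limits AlgebraicGeometry Opposite

namespace Groth.Agent.AlgSpEN.EtaleBC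

open _root_.AlgSp

variable {S : Scheme.{u}}

/-- Every algebraic space has a jointly surjective family of affine etale charts. -/
theorem exists_affine_charts {F : Sp S} (hF : IsAlgSpace F) :
    ∃ (κ : Type u) (V : κ → Over S) (p : ∀ k, (yon S).obj (V k) ⟶ F),
      (∀ k, IsAffine (V k).left) ∧ (∀ k, RepWith @Etale (p k)) ∧
      ∀ x, ∃ k t, Points.ofPt (p k) t = x := by
  obtain ⟨W, q, hq, hqs⟩ := hF.atlas
  choose A str g hg hx using Groth.Agent.AlgSp.InfSpace.exists_affine_etale W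
  refine ⟨↥W.left, fun x => Over.mk (str x), fun x => (yon S).map (g x) ≫ q,
    fun x => inferInstanceAs (IsAffine (Spec (A x))),
    fun x => (repWith_isMultiplicative _).comp_mem _ _ ((repWith_yon_map_iff _ _).2 (hg x)) hq, fun y => ?_⟩
  obtain ⟨x, hx'⟩ := AlgSpB.surjective_ofPt hqs y
  obtain ⟨t, ht⟩ := hx x
  exact ⟨x, t, by rw [AlgSpB.ofPt_map_comp, ht, hx']⟩

/-- Two maps out of a sheaf `A` over `U` agree as soon as they agree on all schemes which map to `A`
and, compatibly, to a member of a jointly surjective family of etale charts of `U`. -/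
theorem hom_ext_pull {ι : Type*} {U A X : Sp S} {V : ι → Over S} {p : ∀ i, (yon S).obj (V i) ⟶ U}
    (hp : ∀ i, RepWith @Etale (p i)) (hs : ∀ x, ∃ i t, Points.ofPt (p i) t = x) (h : A ⟶ U) {l l' : A ⟶ X}
    (H : ∀ (i : ι) (W : Over S) (a : (yon S).obj W ⟶ A) (b : (yon S).obj W ⟶ (yon S).obj (V i)),
      b ≫ p i = a ≫ h → a ≫ l = a ≫ l') : l = l' := by
  refine Groth.Agent.AlgSp.hom_ext_yon fun T a => ?_
  refine Groth.Agent.AlgSp.InfGlue.hom_ext_cover (fun i => (hp i).1.snd (a ≫ h))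
    (fun i => (hp i).2 _ _ _ ((hp i).1.isPullback (a ≫ h))) (fun t => ?_) _ _ fun i => ?_
  · obtain ⟨i, v, hv⟩ := hs (Points.ofPt (a ≫ h) t)
    obtain ⟨w, -, hw⟩ := (AlgSpB.ofPt_eq_ofPt_iff' ((hp i).1.isPullback (a ≫ h)) v t).1 hv
    exact ⟨i, w, hw⟩
  · rw [← Category.assoc, ← Category.assoc]
    exact H i _ _ ((hp i).1.fst (a ≫ h))
      (((hp i).1.isPullback (a ≫ h)).w.trans (Category.assoc _ _ _).symm)

/-- A representable etale map is etale. -/
theorem isEtaleMor_of_rep {F G : Sp S} {f : F ⟶ G} (h : RepWith @Etale f) : IsEtaleMor f :=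
  fun _ _ hφ => (repWith_isMultiplicative _).comp_mem _ _ hφ h

theorem isEtaleMor_comp {F G H : Sp S} {f : F ⟶ G} {g : G ⟶ H} (hf : IsEtaleMor f) (hg : IsEtaleMor g) :
    IsEtaleMor (f ≫ g) := fun U φ hφ => by
  rw [← Category.assoc]
  exact hg (φ ≫ f) (hf φ hφ)

/-- An etale map out of a scheme is representable etale. -/
theorem repWith_of_isEtaleMor {U : Over S} {G : Sp S} {f : (yon S).obj U ⟶ G} (hf : IsEtaleMor f) :
    RepWith @Etale f := by
  rw [← Category.id_comp f]
  exact hf (𝟙 _) (repWith_id _ U)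

variable {B : Space S}

/-- Morphisms over `B` are determined by the underlying morphism of sheaves. -/
theorem oext {X Y : Over B} {f g : X ⟶ Y} (h : f.left.hom = g.left.hom) : f = g :=
  Over.OverMorphism.ext (InducedCategory.hom_ext h)

/-- Morphisms over `B` from a morphism of sheaves. -/
theorem exists_ohom {X Y : Over B} (f : X.left.obj ⟶ Y.left.obj) (h : f ≫ Y.hom.hom = X.hom.hom) :
    ∃ g : X ⟶ Y, g.left.hom = f :=
  ⟨Over.homMk (ObjectProperty.homMk f) (InducedCategory.hom_ext h), rfl⟩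

theorem whom {X Y : Over B} (f : X ⟶ Y) : f.left.hom ≫ Y.hom.hom = X.hom.hom :=
  congrArg (fun q : X.left ⟶ B => q.hom) (Over.w f)

/-- Lifts into cartesian squares of algebraic spaces over `B`. -/
theorem exists_olift {P X Y Z T : Over B} {fst : P ⟶ X} {snd : P ⟶ Y} {f : X ⟶ Z} {g : Y ⟶ Z}
    (sq : IsPullback fst.left.hom snd.left.hom f.left.hom g.left.hom) (a : T ⟶ X) (b : T ⟶ Y)
    (h : a ≫ f = b ≫ g) : ∃ l : T ⟶ P, l ≫ fst = a ∧ l ≫ snd = b := by
  have e : a.left.hom ≫ f.left.hom = b.left.hom ≫ g.left.hom := congrArg (fun q : T ⟶ Z => q.left.hom) h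
  obtain ⟨l, hl⟩ := exists_ohom (X := T) (Y := P) (sq.lift _ _ e) (by
    rw [← whom fst, ← Category.assoc, sq.lift_fst]
    exact whom a)
  exact ⟨l, oext (by rw [← sq.lift_fst _ _ e, ← hl]; rfl), oext (by rw [← sq.lift_snd _ _ e, ← hl]; rfl)⟩

theorem osq_hom_ext {P X Y Z T : Over B} {fst : P ⟶ X} {snd : P ⟶ Y} {f : X ⟶ Z} {g : Y ⟶ Z}
    (sq : IsPullback fst.left.hom snd.left.hom f.left.hom g.left.hom) {l l' : T ⟶ P}
    (h₁ : l ≫ fst = l' ≫ fst) (h₂ : l ≫ snd = l' ≫ snd) : l = l' :=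
  oext (sq.hom_ext (congrArg (fun q : T ⟶ X => q.left.hom) h₁) (congrArg (fun q : T ⟶ Y => q.left.hom) h₂))

theorem osq_w {P X Y Z : Over B} {fst : P ⟶ X} {snd : P ⟶ Y} {f : X ⟶ Z} {g : Y ⟶ Z}
    (sq : IsPullback fst.left.hom snd.left.hom f.left.hom g.left.hom) : fst ≫ f = snd ≫ g :=
  oext sq.w

/-- Fibre products over an algebraic space over `B`. -/
theorem exists_opullback {X Y Z : Over B} (f : X ⟶ Z) (g : Y ⟶ Z) :
    ∃ (P : Over B) (fst : P ⟶ X) (snd : P ⟶ Y),
      IsPullback fst.left.hom snd.left.hom f.left.hom g.left.hom := by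
  let P : Space S := ⟨pullback f.left.hom g.left.hom,
    Groth.Agent.AlgSp.isAlgSpace_pullback Z.left.property X.left.property Y.left.property _ _⟩
  let PO : Over B := Over.mk (ObjectProperty.homMk (X := P) (pullback.fst f.left.hom g.left.hom ≫ X.hom.hom))
  obtain ⟨a, ha⟩ := exists_ohom (X := PO) (Y := X) (pullback.fst f.left.hom g.left.hom) rfl
  obtain ⟨b, hb⟩ := exists_ohom (X := PO) (Y := Y) (pullback.snd f.left.hom g.left.hom) (by
    change _ = pullback.fst f.left.hom g.left.hom ≫ X.hom.hom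
    rw [← whom g, ← whom f, ← Category.assoc, ← Category.assoc, pullback.condition])
  exact ⟨PO, a, b, by rw [ha, hb]; exact IsPullback.of_hasPullback _ _⟩

end Groth.Agent.AlgSpEN.EtaleBC
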