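import Groth.Agent.AlgSpCov.HomeoEt.Basic
import Groth.Agent.AlgSpB.Open
import Groth.Agent.AlgSpB.Points
import Groth.Agent.AlgSp.PointsMor
import Groth.Agent.AlgSpCov.SmoothLocalST
import Groth.Agent.AlgSpEN.StrataSq

/-!
# Sections of etale morphisms glue along a modification

Let `f : Y' ⟶ Y` be universally closed, `i : Z ⟶ Y` a closed immersion and assume that `f` is an isomorphism
over the complement of `Z`. A section over `Y'` and a section over `Z` of an etale morphism to `Y` which agree
over `Z ×_Y Y'` come from exactly one section over `Y`.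
-/

set_option autoImplicit false
set_option backward.isDefEq.respectTransparency false
set_option backward.isDefEq.respectTransparency.types false

universe u

open CategoryTheory CategoryTheory.Limits AlgebraicGeometry

namespace Groth.Agent.AlgSpEN

open _root_.AlgSp

variable {S : Scheme.{u}}

/-- A section of an etale morphism is an open immersion. -/
theorem repWith_isOpenImmersion_section {A B : Sp S} (hA : IsAlgSpace A) (hB : IsAlgSpace B) (p : B ⟶ A)
    (hp : IsEtaleMor p) (s : A ⟶ B) (hs : s ≫ p = 𝟙 A) : RepWith @IsOpenImmersion s := by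
  have : Mono s := ⟨fun a b hab => by simpa [hs] using hab =≫ p⟩
  exact AlgSpCov.repWith_isOpenImmersion_of_mono_isEtaleMor hA hB s
    (AlgSpCov.HomeoEt.isEtaleMor_cancel hA hB hA s p (hs.symm ▸ AlgSpCov.etale_id hA) hp)

/-- Compatible sections over `Y'` and over `Z` of an etale morphism to `Y` glue uniquely. -/
theorem existsUnique_section {Y Y' Z E U P : Space S} (f : Y' ⟶ Y) (hf : IsUnivClosedMor f.hom) (i : Z ⟶ Y)
    (hi : RepWith @IsClosedImmersion i.hom) (j : E ⟶ Y') (g : E ⟶ Z) (hE : IsPullback j.hom g.hom f.hom i.hom)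
    (jU : U ⟶ Y) (hjU : RepWith @IsOpenImmersion jU.hom)
    (hU : Set.range (Points.map jU.hom) = (Set.range (Points.map i.hom))ᶜ)
    (k : U.obj ⟶ Y'.obj) (hk : IsPullback k (𝟙 U.obj) f.hom jU.hom)
    (h : P ⟶ Y) (he : IsEtaleMor h.hom) (s' : Y'.obj ⟶ P.obj) (hs' : s' ≫ h.hom = f.hom)
    (t : Z.obj ⟶ P.obj) (ht : t ≫ h.hom = i.hom) (hst : j.hom ≫ s' = g.hom ≫ t) :
    ∃! s : Y.obj ⟶ P.obj, s ≫ h.hom = 𝟙 Y.obj ∧ f.hom ≫ s = s' ∧ i.hom ≫ s = t := by
  have hkf : k ≫ f.hom = jU.hom := by rw [hk.w, Category.id_comp]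
  have hcover : ∀ y, (∃ y', Points.map f.hom y' = y) ∨ ∃ z, Points.map i.hom z = y := fun y => by
    by_cases hy : y ∈ Set.range (Points.map i.hom)
    · exact .inr hy
    · obtain ⟨u, rfl⟩ := (hU.symm ▸ hy : y ∈ Set.range (Points.map jU.hom))
      exact .inl ⟨Points.map k u, by rw [← Points.map_comp, hkf]⟩
  -- the base change to `Y'`
  have sqP : IsPullback (pullback.fst h.hom f.hom) (pullback.snd h.hom f.hom) h.hom f.hom :=
    IsPullback.of_hasPullback _ _
  have hP' := AlgSp.isAlgSpace_pullback Y.property P.property Y'.property h.hom f.hom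
  let π := pullback.fst h.hom f.hom
  let pr := pullback.snd h.hom f.hom
  let σ : Y'.obj ⟶ pullback h.hom f.hom := pullback.lift s' (𝟙 _) (by rw [hs', Category.id_comp])
  have hσπ : σ ≫ π = s' := pullback.lift_fst _ _ _
  have hσpr : σ ≫ pr = 𝟙 _ := pullback.lift_snd _ _ _
  have hσo : RepWith @IsOpenImmersion σ := repWith_isOpenImmersion_section Y'.property hP' pr
    (AlgSpCov.HomeoEt.isEtaleMor_of_baseChange P.property Y.property hP' Y'.property sqP he) σ hσpr
  -- the base change to `Z`
  have sqQ : IsPullback (pullback.fst h.hom i.hom) (pullback.snd h.hom i.hom) h.hom i.hom :=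
    IsPullback.of_hasPullback _ _
  have hQ := AlgSp.isAlgSpace_pullback Y.property P.property Z.property h.hom i.hom
  let ρ := pullback.fst h.hom i.hom
  let pz := pullback.snd h.hom i.hom
  let τ : Z.obj ⟶ pullback h.hom i.hom := pullback.lift t (𝟙 _) (by rw [ht, Category.id_comp])
  have hτρ : τ ≫ ρ = t := pullback.lift_fst _ _ _
  have hτpz : τ ≫ pz = 𝟙 _ := pullback.lift_snd _ _ _
  have hτo : RepWith @IsOpenImmersion τ := repWith_isOpenImmersion_section Z.property hQ pz
    (AlgSpCov.HomeoEt.isEtaleMor_of_baseChange P.property Y.property hQ Z.property sqQ he) τ hτpz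
  have hρc : RepWith @IsClosedImmersion ρ := MorphismProperty.of_isPullback sqQ.flip hi
  have : Mono ρ := AlgSpB.mono_of_isClosedImmersion hρc
  -- the set of points of the section
  let G : Set (Points P.obj) := Set.range (Points.map s') ∪ Set.range (Points.map t)
  have hpreP : Points.map π ⁻¹' G = Set.range (Points.map σ) := by
    refine Set.Subset.antisymm (fun x hx => ?_) ?_
    · have hx2 : Points.map h.hom (Points.map π x) = Points.map f.hom (Points.map pr x) := by
        rw [← Points.map_comp, ← Points.map_comp, sqP.w]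
      by_cases hy : Points.map f.hom (Points.map pr x) ∈ Set.range (Points.map i.hom)
      · obtain ⟨z, hz⟩ : ∃ z, Points.map t z = Points.map π x := by
          rcases hx with ⟨y, hy'⟩ | hx'
          · obtain ⟨z, hz⟩ := hy
            have e : Points.map f.hom y = Points.map i.hom z := by
              rw [hz, ← hx2, ← hy', ← Points.map_comp, hs']
            obtain ⟨w, hw1, hw2⟩ := AlgSpB.exists_of_isPullback hE y z e
            exact ⟨Points.map g.hom w, by rw [← Points.map_comp, ← hst, Points.map_comp, hw1, hy']⟩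
          · exact hx'
        have hsq : IsPullback (j.hom ≫ σ) g.hom π t := by
          refine IsPullback.of_right (h₁₂ := pr) (h₂₂ := h.hom) (v₁₃ := f.hom) ?_ ?_ sqP.flip
          · rw [Category.assoc, hσpr, Category.comp_id, ht]; exact hE
          · rw [Category.assoc, hσπ, hst]
        obtain ⟨w, hw, -⟩ := AlgSpB.exists_of_isPullback hsq x z hz.symm
        exact ⟨Points.map j.hom w, by rw [← Points.map_comp, hw]⟩
      · have hyU : Points.map f.hom (Points.map pr x) ∈ Set.range (Points.map jU.hom) := hU.symm ▸ hy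
        rcases hx with ⟨y, hy'⟩ | ⟨z, hz⟩
        · have sqR : IsPullback (pullback.fst pr k) (pullback.snd pr k) pr k := IsPullback.of_hasPullback _ _
          have sqR' : IsPullback (pullback.fst pr k ≫ π) (pullback.snd pr k) h.hom jU.hom :=
            hkf ▸ sqR.paste_horiz sqP
          have hmo : RepWith @IsOpenImmersion (pullback.fst pr k ≫ π) :=
            MorphismProperty.of_isPullback sqR'.flip hjU
          have : Mono (pullback.fst pr k ≫ π) := AlgSpB.mono_of_isOpenImmersion hmo
          have hlift : ∀ x' : Points (pullback h.hom f.hom),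
              Points.map f.hom (Points.map pr x') ∈ Set.range (Points.map jU.hom) →
              x' ∈ Set.range (Points.map (pullback.fst pr k)) := fun x' ⟨u, hu⟩ => by
            obtain ⟨u', hu', -⟩ := AlgSpB.exists_of_isPullback hk (Points.map pr x') u hu.symm
            obtain ⟨r, hr, -⟩ := AlgSpB.exists_of_isPullback sqR x' u' hu'.symm
            exact ⟨r, hr⟩
          have e1 : Points.map f.hom (Points.map pr (Points.map σ y)) = Points.map f.hom (Points.map pr x) := by
            rw [← hx2, ← hy', ← Points.map_comp σ pr, hσpr, Points.map_id, ← Points.map_comp, hs']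
          obtain ⟨r, hr⟩ := hlift x hyU
          obtain ⟨r', hr'⟩ := hlift (Points.map σ y) (e1 ▸ hyU)
          have : r' = r := AlgSpB.injective_map_of_mono (pullback.fst pr k ≫ π) (by
            rw [Points.map_comp, Points.map_comp, hr, hr', ← Points.map_comp, hσπ, hy'])
          exact ⟨y, by rw [← hr', this, hr]⟩
        · exact absurd ⟨z, by rw [← hx2, ← hz, ← Points.map_comp, ht]⟩ hy
    · rintro _ ⟨y, rfl⟩
      exact .inl ⟨y, by rw [← Points.map_comp, hσπ]⟩
  have hpreQ : Points.map ρ ⁻¹' G = Set.range (Points.map τ) := by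
    refine Set.Subset.antisymm (fun x hx => ?_) ?_
    · rcases hx with ⟨y, hy⟩ | ⟨z, hz⟩
      · have hsq : IsPullback (g.hom ≫ τ) j.hom ρ s' := by
          refine IsPullback.of_right (h₁₂ := pz) (h₂₂ := h.hom) (v₁₃ := i.hom) ?_ ?_ sqQ.flip
          · rw [Category.assoc, hτpz, Category.comp_id, hs']; exact hE.flip
          · rw [Category.assoc, hτρ, hst]
        obtain ⟨w, hw, -⟩ := AlgSpB.exists_of_isPullback hsq x y hy.symm
        exact ⟨Points.map g.hom w, by rw [← Points.map_comp, hw]⟩
      · exact ⟨z, AlgSpB.injective_map_of_mono ρ (by rw [← Points.map_comp, hτρ, hz])⟩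
    · rintro _ ⟨y, rfl⟩
      exact .inr ⟨y, by rw [← Points.map_comp, hτρ]⟩
  have hGo : IsOpen G := by
    have h1 : IsClosed (Points.map π '' (Points.map π ⁻¹' Gᶜ)) :=
      hf P.property h.hom _ _ sqP.flip _ (by
        rw [Set.preimage_compl, hpreP]
        exact (AlgSpB.isOpen_range_of_isOpenImmersion hσo).isClosed_compl)
    have h2 : IsClosed (Points.map ρ '' (Points.map ρ ⁻¹' Gᶜ)) :=
      AlgSp.isClosedMap_map_of_repWith (AlgSp.repWith_mono (Q := @UniversallyClosed)
        (fun m hm => have : IsClosedImmersion m := hm; inferInstance) hρc) _ (by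
        rw [Set.preimage_compl, hpreQ]
        exact (AlgSpB.isOpen_range_of_isOpenImmersion hτo).isClosed_compl)
    refine isClosed_compl_iff.1 ?_
    convert h1.union h2 using 1
    refine Set.Subset.antisymm (fun p hp => ?_)
      (Set.union_subset (Set.image_preimage_subset _ _) (Set.image_preimage_subset _ _))
    rcases hcover (Points.map h.hom p) with ⟨y', hy'⟩ | ⟨z, hz⟩
    · obtain ⟨x, hx, -⟩ := AlgSpB.exists_of_isPullback sqP p y' hy'.symm
      exact .inl ⟨x, (by rw [Set.mem_preimage, hx]; exact hp), hx⟩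
    · obtain ⟨x, hx, -⟩ := AlgSpB.exists_of_isPullback sqQ p z hz.symm
      exact .inr ⟨x, (by rw [Set.mem_preimage, hx]; exact hp), hx⟩
  -- the open subspace
  obtain ⟨G₀, ι, hι, hιr⟩ := AlgSpB.exists_openSubspace P hGo
  have : Mono ι.hom := AlgSpB.mono_of_isOpenImmersion hι
  let c : G₀ ⟶ Y := ι ≫ h
  have hc : c.hom = ι.hom ≫ h.hom := rfl
  have hce : IsEtaleMor c.hom := AlgSpCov.openClass_etale.comp G₀.property P.property Y.property _ _
    (AlgSpCov.openClass_etale.of_openImm G₀.property P.property _ hι) he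
  obtain ⟨sG, hsG⟩ := (AlgSpB.exists_factor_isOpenImmersion_iff hι s').2 (hιr ▸ Set.subset_union_left)
  obtain ⟨tG, htG⟩ := (AlgSpB.exists_factor_isOpenImmersion_iff hι t).2 (hιr ▸ Set.subset_union_right)
  have hsc : sG ≫ c.hom = f.hom := by rw [hc, reassoc_of% hsG, hs']
  have htc : tG ≫ c.hom = i.hom := by rw [hc, reassoc_of% htG, ht]
  -- uniqueness of lifts over `Y'` and over `Z`
  have keyP : ∀ (T : Sp S) (a : T ⟶ G₀.obj) (b : T ⟶ Y'.obj), a ≫ c.hom = b ≫ f.hom → a = b ≫ sG := by
    intro T a b w
    have w' : (a ≫ ι.hom) ≫ h.hom = b ≫ f.hom := by rw [Category.assoc, ← hc, w]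
    obtain ⟨l, hl⟩ := (AlgSpB.exists_factor_isOpenImmersion_iff hσo (pullback.lift _ _ w')).2 (by
      rintro _ ⟨p, rfl⟩
      rw [← hpreP, Set.mem_preimage, ← hιr, ← Points.map_comp, pullback.lift_fst, Points.map_comp]
      exact ⟨_, rfl⟩)
    have hlb : l = b := by
      have := hl =≫ pr
      rwa [Category.assoc, hσpr, Category.comp_id, pullback.lift_snd] at this
    rw [← cancel_mono ι.hom, Category.assoc, hsG, ← hlb]
    have := hl =≫ π
    rw [Category.assoc, hσπ, pullback.lift_fst] at this
    exact this.symm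
  have keyQ : ∀ (T : Sp S) (a : T ⟶ G₀.obj) (b : T ⟶ Z.obj), a ≫ c.hom = b ≫ i.hom → a = b ≫ tG := by
    intro T a b w
    have w' : (a ≫ ι.hom) ≫ h.hom = b ≫ i.hom := by rw [Category.assoc, ← hc, w]
    obtain ⟨l, hl⟩ := (AlgSpB.exists_factor_isOpenImmersion_iff hτo (pullback.lift _ _ w')).2 (by
      rintro _ ⟨p, rfl⟩
      rw [← hpreQ, Set.mem_preimage, ← hιr, ← Points.map_comp, pullback.lift_fst, Points.map_comp]
      exact ⟨_, rfl⟩)
    have hlb : l = b := by
      have := hl =≫ pz
      rwa [Category.assoc, hτpz, Category.comp_id, pullback.lift_snd] at this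
    rw [← cancel_mono ι.hom, Category.assoc, htG, ← hlb]
    have := hl =≫ ρ
    rw [Category.assoc, hτρ, pullback.lift_fst] at this
    exact this.symm
  -- the diagonal of `c` is surjective
  have hΔ : RepWith @IsOpenImmersion (pullback.diagonal c.hom) :=
    AlgSpCov.HomeoEt.repWith_openImmersion_diagonal c hce
  have hΔs : ∀ w, w ∈ Set.range (Points.map (pullback.diagonal c.hom)) := by
    intro w
    let d := pullback.fst c.hom c.hom ≫ c.hom
    rcases hcover (Points.map d w) with ⟨y', hy'⟩ | ⟨z, hz⟩
    · obtain ⟨p, hp, -⟩ := AlgSpB.exists_of_isPullback (IsPullback.of_hasPullback d f.hom) w y' hy'.symm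
      have hd : (pullback.fst d f.hom ≫ pullback.fst c.hom c.hom) ≫ c.hom = pullback.snd d f.hom ≫ f.hom := by
        rw [Category.assoc]; exact pullback.condition
      have e1 := keyP _ _ _ hd
      have e2 := keyP _ (pullback.fst d f.hom ≫ pullback.snd c.hom c.hom) (pullback.snd d f.hom)
        (by rw [Category.assoc, ← pullback.condition (f := c.hom), ← Category.assoc]; exact hd)
      have : (pullback.fst d f.hom ≫ pullback.fst c.hom c.hom) ≫ pullback.diagonal c.hom = pullback.fst d f.hom := by
        refine pullback.hom_ext ?_ ?_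
        · rw [Category.assoc, pullback.diagonal_fst, Category.comp_id]
        · rw [Category.assoc, pullback.diagonal_snd, Category.comp_id, e1, e2]
      rw [← hp, ← this, Points.map_comp]
      exact ⟨_, rfl⟩
    · obtain ⟨p, hp, -⟩ := AlgSpB.exists_of_isPullback (IsPullback.of_hasPullback d i.hom) w z hz.symm
      have hd : (pullback.fst d i.hom ≫ pullback.fst c.hom c.hom) ≫ c.hom = pullback.snd d i.hom ≫ i.hom := by
        rw [Category.assoc]; exact pullback.condition
      have e1 := keyQ _ _ _ hd
      have e2 := keyQ _ (pullback.fst d i.hom ≫ pullback.snd c.hom c.hom) (pullback.snd d i.hom)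
        (by rw [Category.assoc, ← pullback.condition (f := c.hom), ← Category.assoc]; exact hd)
      have : (pullback.fst d i.hom ≫ pullback.fst c.hom c.hom) ≫ pullback.diagonal c.hom = pullback.fst d i.hom := by
        refine pullback.hom_ext ?_ ?_
        · rw [Category.assoc, pullback.diagonal_fst, Category.comp_id]
        · rw [Category.assoc, pullback.diagonal_snd, Category.comp_id, e1, e2]
      rw [← hp, ← this, Points.map_comp]
      exact ⟨_, rfl⟩
  have hcm : Mono c.hom := by
    obtain ⟨l, hl⟩ := (AlgSpB.exists_factor_isOpenImmersion_iff hΔ (𝟙 _)).2 fun w _ => hΔs w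
    have hfs : pullback.fst c.hom c.hom = pullback.snd c.hom c.hom := by
      have h1 := hl =≫ pullback.fst c.hom c.hom
      have h2 := hl =≫ pullback.snd c.hom c.hom
      rw [Category.assoc, pullback.diagonal_fst, Category.comp_id, Category.id_comp] at h1
      rw [Category.assoc, pullback.diagonal_snd, Category.comp_id, Category.id_comp] at h2
      rw [← h1, ← h2]
    refine ⟨fun a b hab => ?_⟩
    rw [← pullback.lift_fst a b hab, hfs, pullback.lift_snd]
  have : IsIso c.hom := AlgSpCov.isIso_of_mono_isEtaleMor G₀.property c.hom hce fun y => by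
    rcases hcover y with ⟨y', rfl⟩ | ⟨z, rfl⟩
    · exact ⟨Points.map sG y', by rw [← Points.map_comp, hsc]⟩
    · exact ⟨Points.map tG z, by rw [← Points.map_comp, htc]⟩
  refine ⟨inv c.hom ≫ ι.hom, ⟨?_, ?_, ?_⟩, fun s hs => ?_⟩
  · rw [Category.assoc, ← hc, IsIso.inv_hom_id]
  · rw [← hsG, ← Category.assoc]
    congr 1
    rw [IsIso.comp_inv_eq, hsc]
  · rw [← htG, ← Category.assoc]
    congr 1
    rw [IsIso.comp_inv_eq, htc]
  · obtain ⟨h1, h2, h3⟩ := hs
    obtain ⟨l, rfl⟩ := (AlgSpB.exists_factor_isOpenImmersion_iff hι s).2 (by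
      rintro _ ⟨y, rfl⟩
      rw [hιr]
      rcases hcover y with ⟨y', rfl⟩ | ⟨z, rfl⟩
      · exact .inl ⟨y', by rw [← h2, Points.map_comp]⟩
      · exact .inr ⟨z, by rw [← h3, Points.map_comp]⟩)
    rw [Category.assoc, ← hc] at h1
    congr 1
    exact IsIso.eq_inv_of_inv_hom_id h1

end Groth.Agent.AlgSpEN
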