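import Groth.Agent.AlgSpEN.SectBound
import Groth.Agent.AlgSpEN.Induction
import Groth.Agent.AlgSpB.FPCover.Presented
import Groth.Agent.AlgSpD.StalkPoint

/-!
# Cohomological bound of a quasi-compact quasi-separated algebraic space
-/

set_option autoImplicit false
universe u

open CategoryTheory CategoryTheory.Limits AlgebraicGeometry Opposite CategoryTheory.Abelian

set_option backward.isDefEq.respectTransparency false
set_option backward.isDefEq.respectTransparency.types false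

noncomputable section

namespace Groth.Agent.AlgSpEN.Bound

open _root_.AlgSp

variable {S : Scheme.{u}} {X : AlgSp.Space S}

/-- The object lies over the set of points. -/
def Lies (A : Set (Points X.obj)) (E : EtOver X.obj) : Prop := Set.range (Points.ofPt E.obj.hom) ⊆ A

theorem lies_of_hom {A : Set (Points X.obj)} {E E' : EtOver X.obj} (g : E' ⟶ E) (h : Lies A E) : Lies A E' := by
  rintro _ ⟨z, rfl⟩
  refine h ⟨g.hom.left.left z, ?_⟩
  rw [← AlgSpB.ofPt_map_comp, EtOver.w g]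

/-- Compatible families of sections over a set of points. -/
def IsFam (A : Set (Points X.obj)) (F : AbEt X.obj) (s : ∀ E, Lies A E → F.obj.obj (op E)) : Prop :=
  ∀ ⦃E E' : EtOver X.obj⦄ (g : E' ⟶ E) (hE : Lies A E) (hE' : Lies A E'), (F.obj.map g.op).hom (s E hE) = s E' hE'

/-- A section-lifting bound over a set of points. -/
def FamBound (n : ℕ) (A : Set (Points X.obj)) (F : AbEt X.obj) : Prop :=
  ∀ k, n ≤ k → ∀ t, IsFam A (seq k F).X₃ t →
    ∃ s, IsFam A (seq k F).X₂ s ∧ ∀ E h, ((seq k F).g.hom.app (op E)).hom (s E h) = t E h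

theorem famBound_mono {n m : ℕ} (h : n ≤ m) {A : Set (Points X.obj)} {F : AbEt X.obj} (hb : FamBound n A F) :
    FamBound m A F :=
  fun k hk => hb k (h.trans hk)

theorem famBound_empty (F : AbEt X.obj) : FamBound 0 (∅ : Set (Points X.obj)) F := by
  intro k _ t ht
  have he : ∀ E : EtOver X.obj, Lies (∅ : Set (Points X.obj)) E → IsEmpty E.obj.left.left :=
    fun E h => ⟨fun z => h ⟨z, rfl⟩⟩
  refine ⟨fun E _ => 0, fun E E' g _ _ => map_zero _, fun E h => ?_⟩
  have := he E h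
  exact @Subsingleton.elim _ (PushIntegral.sect_subsingleton_of_isEmpty (seq k F).X₃ E) _ _

theorem exists_piece_lift {A : Set (Points X.obj)} (hA : IsOpen A) (E : EtOver X.obj) :
    ∃ (W : EtOver X.obj) (j : W ⟶ E), IsOpenImmersion j.hom.left.left ∧ Lies A W ∧
      Set.range j.hom.left.left = Points.ofPt E.obj.hom ⁻¹' A ∧
      ∀ (Z : EtOver X.obj) (g : Z ⟶ E), Lies A Z → ∃ l, l ≫ j = g := by
  let O : E.obj.left.left.Opens := ⟨_, hA.preimage (Points.continuous_ofPt E.obj.hom)⟩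
  refine ⟨PushIntegral.piece E O, PushIntegral.pieceHom E O, inferInstanceAs (IsOpenImmersion O.ι), ?_,
    Scheme.Opens.range_ι O, fun Z g hZ => ?_⟩
  · rintro _ ⟨z, rfl⟩
    rw [← EtOver.w (PushIntegral.pieceHom E O), AlgSpB.ofPt_map_comp]
    exact z.2
  · have hr : Set.range g.hom.left.left ⊆ Set.range O.ι := by
      rw [Scheme.Opens.range_ι]
      rintro _ ⟨z, rfl⟩
      change Points.ofPt E.obj.hom _ ∈ A
      rw [← AlgSpB.ofPt_map_comp, EtOver.w g]
      exact hZ ⟨z, rfl⟩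
    exact Amitsur.exists_hom_over g (PushIntegral.pieceHom E O) (IsOpenImmersion.lift O.ι _ hr)
      (IsOpenImmersion.lift_fac _ _ _)

/-- Two maps into an affine chart agreeing with a family over `A` agree everywhere. -/
theorem map_eq_map {A : Set (Points X.obj)} (hA : IsOpen A) {E : EtOver X.obj} (hinj : InjOutside E.obj.hom A)
    (F : AbEt X.obj) (b : F.obj.obj (op E)) (a : ∀ Z, Lies A Z → F.obj.obj (op Z))
    (hab : ∀ (Z : EtOver X.obj) (g : Z ⟶ E) (h : Lies A Z), (F.obj.map g.op).hom b = a Z h)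
    {Z : EtOver X.obj} (u v : Z ⟶ E) : (F.obj.map u.op).hom b = (F.obj.map v.op).hom b := by
  have hcov : ∀ z : Z.obj.left.left, ∃ (Z' : EtOver X.obj) (g : Z' ⟶ Z),
      (F.obj.map g.op).hom ((F.obj.map u.op).hom b) = (F.obj.map g.op).hom ((F.obj.map v.op).hom b) ∧
      z ∈ Set.range g.hom.left.left := by
    intro z
    by_cases hz : Points.ofPt Z.obj.hom z ∈ A
    · obtain ⟨W, j, -, hW, hr, -⟩ := exists_piece_lift hA Z
      refine ⟨W, j, ?_, hr ▸ hz⟩
      rw [← ConcreteCategory.comp_apply, ← Functor.map_comp, ← ConcreteCategory.comp_apply, ← Functor.map_comp,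
        ← op_comp, ← op_comp, hab W _ hW, hab W _ hW]
    · let P := EtOver.prodObj E E
      let m : Z ⟶ P := (EtOver.prodIsLimit E E).lift (BinaryFan.mk u v)
      let δ : E ⟶ P := (EtOver.prodIsLimit E E).lift (BinaryFan.mk (𝟙 E) (𝟙 E))
      have hm1 : m ≫ EtOver.prodFst E E = u :=
        (EtOver.prodIsLimit E E).fac (BinaryFan.mk u v) ⟨WalkingPair.left⟩
      have hm2 : m ≫ EtOver.prodSnd E E = v :=
        (EtOver.prodIsLimit E E).fac (BinaryFan.mk u v) ⟨WalkingPair.right⟩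
      have hd1 : δ ≫ EtOver.prodFst E E = 𝟙 E :=
        (EtOver.prodIsLimit E E).fac (BinaryFan.mk (𝟙 E) (𝟙 E)) ⟨WalkingPair.left⟩
      have hd2 : δ ≫ EtOver.prodSnd E E = 𝟙 E :=
        (EtOver.prodIsLimit E E).fac (BinaryFan.mk (𝟙 E) (𝟙 E)) ⟨WalkingPair.right⟩
      obtain ⟨q, hq, l, hl, hqz⟩ := AlgSpD.exists_geometric_lift X Z z
      have hw : ∀ g : Z ⟶ E, (yon S).map (l.1 ≫ g.hom.left) ≫ E.obj.hom = q.toHom := fun g => by
        rw [Functor.map_comp, Category.assoc, EtOver.w g]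
        exact l.2
      have hc : l.1 ≫ u.hom.left = l.1 ≫ v.hom.left :=
        hinj q.pt _ _ ((hw u).trans (hw v).symm) fun o => by
          rw [hw u, Points.ofPt_toHom, hqz]
          exact hz
      have hpt : l.1 ≫ m.hom.left = (l.1 ≫ u.hom.left) ≫ δ.hom.left := by
        refine Functor.relativelyRepresentable.hom_ext' _ ?_ ?_
        · change (l.1 ≫ m.hom.left) ≫ (EtOver.prodSnd E E).hom.left =
            ((l.1 ≫ u.hom.left) ≫ δ.hom.left) ≫ (EtOver.prodSnd E E).hom.left
          have e1 : m.hom.left ≫ (EtOver.prodSnd E E).hom.left = v.hom.left := congrArg (fun k => k.hom.left) hm2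
          have e2 : δ.hom.left ≫ (EtOver.prodSnd E E).hom.left = 𝟙 _ := congrArg (fun k => k.hom.left) hd2
          rw [Category.assoc, e1, Category.assoc, e2, Category.comp_id, hc]
        · change (l.1 ≫ m.hom.left) ≫ (EtOver.prodFst E E).hom.left =
            ((l.1 ≫ u.hom.left) ≫ δ.hom.left) ≫ (EtOver.prodFst E E).hom.left
          have e1 : m.hom.left ≫ (EtOver.prodFst E E).hom.left = u.hom.left := congrArg (fun k => k.hom.left) hm1
          have e2 : δ.hom.left ≫ (EtOver.prodFst E E).hom.left = 𝟙 _ := congrArg (fun k => k.hom.left) hd1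
          rw [Category.assoc, e1, Category.assoc, e2, Category.comp_id]
      have sq := EtOver.isPullback m δ
      obtain ⟨y, hy, -⟩ := Scheme.exists_preimage_of_isPullback (sq.map (EtOver.toScheme X.obj)) z
        ((l.1 ≫ u.hom.left).left (IsLocalRing.closedPoint q.K)) (by
          rw [← hl]
          exact congrArg (fun k : q.pt ⟶ P.obj.left => k.left (IsLocalRing.closedPoint q.K)) hpt)
      refine ⟨_, EtOver.pullbackFst m δ, ?_, y, hy⟩
      rw [← ConcreteCategory.comp_apply, ← Functor.map_comp, ← ConcreteCategory.comp_apply, ← Functor.map_comp,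
        ← op_comp, ← op_comp]
      have e : EtOver.pullbackFst m δ ≫ u = EtOver.pullbackFst m δ ≫ v := by
        rw [← hm1, ← hm2, ← Category.assoc, ← Category.assoc, sq.w, Category.assoc, Category.assoc, hd1, hd2]
      rw [e]
  refine F.property.isSeparated _ (Presheaf.equalizerSieve ((F.obj.map u.op).hom b) ((F.obj.map v.op).hom b))
    ((AlgSpD.mem_etTop_iff _).2 fun z => ?_) _ _ fun Z' g hg => hg
  obtain ⟨Z', g, hg, hr⟩ := hcov z
  exact ⟨Z', g, hg, hr⟩

theorem famBound_step {A : Set (Points X.obj)} (hA : IsOpen A) (E : EtOver X.obj) [IsAffine E.obj.left.left]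
    (hinj : InjOutside E.obj.hom A) {F : AbEt X.obj} (hF : Amitsur.Cech F) {W : EtOver X.obj} (j : W ⟶ E) [Mono j]
    (hW : Lies A W) (hfac : ∀ (Z : EtOver X.obj) (g : Z ⟶ E), Lies A Z → ∃ l, l ≫ j = g) {n m : ℕ}
    (ha : FamBound n A F) (hw : ObjBound m W F) :
    FamBound (max n (m + 1)) (A ∪ Set.range (Points.ofPt E.obj.hom)) F := by
  intro k hk t ht
  obtain ⟨k, rfl⟩ : ∃ l, k = l + 1 := ⟨k - 1, by omega⟩
  let C := seq (k + 1) F
  have hC := seq_shortExact (k + 1) F
  let B := A ∪ Set.range (Points.ofPt E.obj.hom)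
  have hAB : ∀ {Z : EtOver X.obj}, Lies A Z → Lies B Z := fun h => h.trans Set.subset_union_left
  have hEB : Lies B E := Set.subset_union_right
  obtain ⟨a, hafam, ha⟩ := ha (k + 1) (by omega) (fun Z h => t Z (hAB h)) fun Z Z' g h h' => ht g _ _
  obtain ⟨b, hb⟩ := objBound_affine hF E (k + 1) (Nat.zero_le _) (t E hEB)
  obtain ⟨d, hd⟩ := Amitsur.sections_exact C hC W (a W hW - (C.X₂.obj.map j.op).hom b) (by
    rw [map_sub, sub_eq_zero]
    refine (ha W hW).trans (Eq.symm ?_)
    exact (NatTrans.naturality_apply C.g.hom j.op b).trans ((congrArg _ hb).trans (ht j hEB (hAB hW))))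
  obtain ⟨d', rfl⟩ := exists_extend (k := k) (by omega : m ≤ k) j hw d
  let b' := b + (C.f.hom.app (op E)).hom d'
  have hbt : (C.g.hom.app (op E)).hom b' = t E hEB := by
    rw [map_add, Amitsur.sections_zero C hC, add_zero, hb]
  have hba : (C.X₂.obj.map j.op).hom b' = a W hW := by
    have h : (C.X₂.obj.map j.op).hom ((C.f.hom.app (op E)).hom d') = a W hW - (C.X₂.obj.map j.op).hom b :=
      (NatTrans.naturality_apply C.f.hom j.op d').symm.trans hd
    rw [map_add, h, add_sub_cancel]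
  have hab : ∀ (Z : EtOver X.obj) (g : Z ⟶ E) (h : Lies A Z), (C.X₂.obj.map g.op).hom b' = a Z h := by
    intro Z g h
    obtain ⟨l, rfl⟩ := hfac Z g h
    rw [op_comp, Functor.map_comp, ConcreteCategory.comp_apply]
    exact (congrArg _ hba).trans (hafam l hW h)
  -- local values
  classical
  let R : ∀ E' : EtOver X.obj, Sieve E' := fun E' =>
    { arrows := fun Z _ => Lies A Z ∨ Nonempty (Z ⟶ E)
      downward_closed := fun {_ _} _ h g => h.imp (lies_of_hom g) (fun ⟨v⟩ => ⟨g ≫ v⟩) }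
  let val : ∀ Z : EtOver X.obj, (Lies A Z ∨ Nonempty (Z ⟶ E)) → C.X₂.obj.obj (op Z) := fun Z h =>
    if hZ : Lies A Z then a Z hZ else (C.X₂.obj.map (h.resolve_left hZ).some.op).hom b'
  have hval : ∀ (Z : EtOver X.obj) (g : Z ⟶ E) (h), val Z h = (C.X₂.obj.map g.op).hom b' := by
    intro Z g h
    by_cases hZ : Lies A Z
    · simp only [val, dif_pos hZ, hab Z g hZ]
    · simp only [val, dif_neg hZ]
      exact map_eq_map hA hinj C.X₂ b' a hab _ g
  have hvalA : ∀ (Z : EtOver X.obj) (hZ : Lies A Z) (h), val Z h = a Z hZ := fun Z hZ h => dif_pos hZ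
  have hnat : ∀ (Z Z' : EtOver X.obj) (g : Z' ⟶ Z) (h : Lies A Z ∨ Nonempty (Z ⟶ E)) (h'),
      (C.X₂.obj.map g.op).hom (val Z h) = val Z' h' := by
    intro Z Z' g h h'
    rcases h with hZ | ⟨⟨v⟩⟩
    · rw [hvalA Z hZ (Or.inl hZ), hvalA Z' (lies_of_hom g hZ) h']
      exact hafam g _ _
    · rw [hval Z v (Or.inr ⟨v⟩), hval Z' (g ≫ v) h', ← ConcreteCategory.comp_apply, ← Functor.map_comp, ← op_comp]
  have hR : ∀ E' : EtOver X.obj, Lies B E' → R E' ∈ etTop X.obj E' := by
    intro E' hE'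
    refine (AlgSpD.mem_etTop_iff _).2 fun z => ?_
    rcases hE' ⟨z, rfl⟩ with hz | ⟨e, he⟩
    · obtain ⟨W', j', -, hW', hr, -⟩ := exists_piece_lift hA E'
      exact ⟨W', j', Or.inl hW', hr ▸ hz⟩
    · obtain ⟨q, hq, l, hl, hqz⟩ := AlgSpD.exists_geometric_lift X E' z
      obtain ⟨c, hc, -⟩ := AlgSpB.exists_lift_geometric E.property q hq e (he.trans hqz.symm)
      refine ⟨EtOver.prodObj E' E, EtOver.prodFst E' E, Or.inr ⟨EtOver.prodSnd E' E⟩,
        (E.property.1.lift' c l.1 (hc.trans l.2.symm)).left (IsLocalRing.closedPoint q.K), ?_⟩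
      exact (congrArg (fun k : q.pt ⟶ E'.obj.left => k.left (IsLocalRing.closedPoint q.K))
        (Functor.relativelyRepresentable.lift'_snd _ c l.1 (hc.trans l.2.symm))).trans hl
  have key : ∀ (E' : EtOver X.obj) (_ : Lies B E'), ∃ s : C.X₂.obj.obj (op E'),
      ∀ (Z : EtOver X.obj) (g : Z ⟶ E') (h : (R E').arrows g), (C.X₂.obj.map g.op).hom s = val Z h := by
    intro E' hE'
    obtain ⟨s, hs, -⟩ := PushIntegral.isSheaf_forget C.X₂ (R E') (hR E' hE') (fun Z g h => val Z h)
      fun Z₁ Z₂ Z g₁ g₂ f₁ f₂ h₁ h₂ _ => (hnat Z₁ Z g₁ h₁ (h₁.imp (lies_of_hom g₁) fun ⟨v⟩ => ⟨g₁ ≫ v⟩)).trans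
        (hnat Z₂ Z g₂ h₂ (h₁.imp (lies_of_hom g₁) fun ⟨v⟩ => ⟨g₁ ≫ v⟩)).symm
    exact ⟨s, fun Z g h => hs g h⟩
  choose s hs using key
  refine ⟨s, fun E' E'' g h h' => ?_, fun E' h => ?_⟩
  · refine C.X₂.property.isSeparated _ (R E'') (hR E'' h') _ _ fun Z q hq => ?_
    rw [← ConcreteCategory.comp_apply, ← Functor.map_comp, ← op_comp]
    exact (hs E' h Z (q ≫ g) hq).trans (hs E'' h' Z q hq).symm
  · refine C.X₃.property.isSeparated _ (R E') (hR E' h) _ _ fun Z q hq => ?_
    refine (NatTrans.naturality_apply C.g.hom q.op (s E' h)).symm.trans ((congrArg _ (hs E' h Z q hq)).trans ?_)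
    have hZB : Lies B Z := lies_of_hom q h
    refine Eq.trans ?_ (ht q h hZB).symm
    rcases hq with hZ | ⟨⟨v⟩⟩
    · rw [hvalA Z hZ (Or.inl hZ)]
      exact ha Z hZ
    · rw [hval Z v (Or.inr ⟨v⟩)]
      exact (NatTrans.naturality_apply C.g.hom v.op b').trans ((congrArg _ hbt).trans (ht v hEB hZB))

theorem exists_famBound_univ [QuasiSeparatedSpace ↥S] (hqc : IsQuasiCompactSp X.obj)
    (hqs : IsQuasiSeparatedSp X.obj) :
    ∃ n : ℕ, ∀ F : AbEt X.obj, Amitsur.Cech F → FamBound n (Set.univ : Set (Points X.obj)) F := by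
  refine openInduction X hqc hqs ∅ isOpen_empty isCompact_empty
    (fun A => ∃ n : ℕ, ∀ F : AbEt X.obj, Amitsur.Cech F → FamBound n A F)
    ⟨0, fun F _ => famBound_empty F⟩ ?_
  rintro A V f hA hAc - hV hf hinj ⟨n, hn⟩
  let E : EtOver X.obj := EtOver.mk f hf
  have hEaff : IsAffine E.obj.left.left := hV
  obtain ⟨W, j, hj, hW, hr, hfac⟩ := exists_piece_lift hA E
  have := mono_of_isOpenImmersion j hj
  have hc : IsCompact (Set.univ : Set W.obj.left.left) :=
    j.hom.left.left.isOpenEmbedding.isInducing.isCompact_iff.2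
      (by rw [Set.image_univ, hr]; exact AlgSpB.FPCover.exists_cover_preimage hqc hqs hA hAc E)
  obtain ⟨ι, hι, D, d, hD, hdT, hdc⟩ : ∃ (ι : Type u) (_ : Finite ι) (D : ι → EtOver X.obj) (d : ∀ i, D i ⟶ W),
      (∀ i, IsAffine (D i).obj.left.left) ∧ (∀ i, IsOpenImmersion (d i).hom.left.left) ∧
      ∀ x : W.obj.left.left, ∃ i, x ∈ Set.range (d i).hom.left.left := by
    have h : ∀ x : W.obj.left.left, ∃ O : W.obj.left.left.Opens, IsAffineOpen O ∧ x ∈ O := fun x => by
      obtain ⟨O, hO, hx, -⟩ := exists_isAffineOpen_mem_and_subset (U := (⊤ : W.obj.left.left.Opens))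
        (x := x) trivial
      exact ⟨O, hO, hx⟩
    choose O hO hxO using h
    obtain ⟨s, hs⟩ := hc.elim_finite_subcover (fun x => (O x : Set W.obj.left.left)) (fun x => (O x).isOpen)
      fun x _ => Set.mem_iUnion.2 ⟨x, hxO x⟩
    refine ⟨{x // x ∈ s}, inferInstance, fun i => PushIntegral.piece W (O i.1), fun i => PushIntegral.pieceHom W (O i.1),
      fun i => hO i.1, fun i => inferInstanceAs (IsOpenImmersion (O i.1).ι), fun x => ?_⟩
    obtain ⟨i, hi, hxi⟩ := Set.mem_iUnion₂.1 (hs (Set.mem_univ x))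
    exact ⟨⟨i, hi⟩, ⟨x, hxi⟩, rfl⟩
  obtain ⟨c, ⟨e⟩⟩ := Finite.exists_equiv_fin ι
  refine ⟨max n (c + 1), fun F hF => famBound_step hA E hinj hF j hW hfac (hn F hF) ?_⟩
  refine objBound_open hF c W E j hj (fun i => D (e.symm i)) (fun i => d _) (fun i => hD _) (fun i => hdT _) fun x => ?_
  obtain ⟨i, hi⟩ := hdc x
  exact ⟨e i, by rw [Equiv.symm_apply_apply]; exact hi⟩

/-- A lifting bound over all points bounds cohomology. -/
theorem subsingleton_HEt {n : ℕ} {F : AbEt X.obj} (h : FamBound n (Set.univ : Set (Points X.obj)) F) (q : ℕ)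
    (hq : n < q) : Subsingleton (HEt X.obj F q) := by
  let Z := (constantSheaf (etTop X.obj) AddCommGrpCat.{u + 1}).obj (AddCommGrpCat.of (ULift.{u + 1} ℤ))
  have hlift : ∀ k, n ≤ k → ∀ g : Z ⟶ (seq k F).X₃, ∃ a : Z ⟶ (seq k F).X₂, a ≫ (seq k F).g = g := by
    intro k hk g
    let P := (Functor.const (EtOver X.obj)ᵒᵖ).obj (AddCommGrpCat.of (ULift.{u + 1} ℤ))
    let adj := sheafificationAdjunction (etTop X.obj) AddCommGrpCat.{u + 1}
    let η : P ⟶ (seq k F).X₃.obj := (adj.homEquiv P (seq k F).X₃) g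
    obtain ⟨s, hs, hst⟩ := h k hk (fun E _ => (η.app (op E)).hom ⟨1⟩) fun E E' m _ _ =>
      (NatTrans.naturality_apply η m.op (ULift.up 1)).symm
    let θ : P ⟶ (seq k F).X₂.obj :=
      { app := fun E => AddCommGrpCat.ofHom
          ((zmultiplesHom _ (s E.unop (Set.subset_univ _))).comp AddEquiv.ulift.toAddMonoidHom)
        naturality := fun E E' m => AddCommGrpCat.hom_ext (DFunLike.ext _ _ fun z => by
          change z.down • s E'.unop _ = ((seq k F).X₂.obj.map m).hom (z.down • s E.unop _)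
          rw [map_zsmul]
          exact congrArg _ (hs m.unop _ _).symm) }
    refine ⟨(adj.homEquiv P (seq k F).X₂).symm θ, ?_⟩
    apply (adj.homEquiv P (seq k F).X₃).injective
    rw [adj.homEquiv_naturality_right, Equiv.apply_symm_apply]
    ext E z
    change ((seq k F).g.hom.app E).hom (z.down • s E.unop _) = (η.app E).hom z
    rw [map_zsmul, hst]
    refine (map_zsmul (η.app E).hom z.down ⟨1⟩).symm.trans (congrArg _ ?_)
    refine ULift.ext _ _ ?_
    change z.down • (1 : ℤ) = z.down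
    simp
  have key : ∀ p k, n ≤ p + k → Subsingleton (Ext Z (cz k F) (p + 1)) := by
    intro p
    induction p with
    | zero =>
      intro k hk
      exact SiteCoh.DimShift.subsingleton_one (seq_shortExact k F) (hlift k (by omega))
    | succ p ih =>
      intro k hk
      exact SiteCoh.DimShift.subsingleton_succ (seq_shortExact k F) p (ih (k + 1) (by omega))
  obtain ⟨p, rfl⟩ : ∃ p, q = p + 1 := ⟨q - 1, by omega⟩
  exact key p 0 (by omega)

end Groth.Agent.AlgSpEN.Bound
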