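import Groth.Agent.AlgSpEN.Induction
import Groth.Agent.AlgSp.Space
import Groth.Agent.StFib.AtlasProps
import Groth.Agent.AlgSp.EDPushGlue
import Mathlib.AlgebraicGeometry.AffineScheme

/-!
# The induction principle on the spaces etale over an algebraic space
-/

universe u

open CategoryTheory CategoryTheory.Limits AlgebraicGeometry

set_option backward.isDefEq.respectTransparency false
set_option backward.isDefEq.respectTransparency.types false
set_option autoImplicit false

namespace Groth.Agent.AlgSpEN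

open _root_.AlgSp
open Groth.Agent.AlgSpB

variable {S : Scheme.{u}} {X : Space S}

/-- An etale morphism to the source of an object etale over `X` gives such an object. -/
def etObj (Y : EtSpOver X) (U : Space S) (j : U ⟶ Y.obj.left) (hj : IsEtaleMor j.hom) : EtSpOver X :=
  ⟨Over.mk (j ≫ Y.obj.hom), fun _ a ha => by
    change RepWith @Etale (a ≫ j.hom ≫ Y.obj.hom.hom)
    rw [← Category.assoc]
    exact Y.property _ (hj a ha)⟩

/-- An etale morphism to the source of an object etale over `X` is a morphism of such objects. -/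
def etHom (Y : EtSpOver X) (U : Space S) (j : U ⟶ Y.obj.left) (hj : IsEtaleMor j.hom) : etObj Y U j hj ⟶ Y :=
  ObjectProperty.homMk (Over.homMk j rfl)

/-- An open subset is the set of points of an open subspace as an object etale over `X`. -/
theorem exists_etObj_open (Y : EtSpOver X) {A : Set (Points Y.obj.left.obj)} (hA : IsOpen A) :
    ∃ (E : EtSpOver X) (φ : E ⟶ Y),
      RepWith @IsOpenImmersion φ.hom.left.hom ∧ Set.range (Points.map φ.hom.left.hom) = A := by
  obtain ⟨U, j, hj, hr⟩ := exists_openSubspace Y.obj.left hA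
  exact ⟨_, etHom Y U j (Groth.Agent.StFib.isEtaleMor_of_repWith
    (Groth.Agent.AlgSp.repWith_mono (Q := @Etale) (fun g hg => have : IsOpenImmersion g := hg; inferInstance) hj)),
    hj, hr⟩

/-- A space without points is an affine scheme. -/
theorem exists_iso_yon_of_isEmpty (W : Space S) [IsEmpty (Points W.obj)] :
    ∃ T : Over S, IsAffine T.left ∧ Nonempty ((yon S).obj T ≅ W.obj) := by
  obtain ⟨T, a, -, -⟩ := W.property.atlas
  have : IsEmpty T.left := ⟨fun t => isEmptyElim (Points.ofPt a t)⟩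
  refine ⟨T, inferInstance, ⟨@asIso _ _ _ _ a (isIso_of_forall_yon a fun A x => ?_)⟩⟩
  have hA : IsEmpty A.left := ⟨fun t => isEmptyElim (Points.ofPt x t)⟩
  exact ⟨(yon S).map (Over.homMk (isInitialOfIsEmpty.to T.left) (isInitialOfIsEmpty.hom_ext _ _)),
    Groth.Agent.AlgSp.EDPushGlue.hom_eq_of_isEmpty hA _ _,
    fun y _ => Groth.Agent.AlgSp.EDPushGlue.hom_eq_of_isEmpty hA _ _⟩

/-- A compact open subset of an affine scheme is a finite union of basic open sets. -/
theorem exists_finset_basicOpen {Z : Scheme.{u}} [IsAffine Z] (O : Z.Opens) (hO : IsCompact (O : Set Z)) :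
    ∃ s : Finset Γ(Z, ⊤), (⋃ g ∈ s, (Z.basicOpen g : Set Z)) = O := by
  classical
  choose g hg hgx using fun x : O =>
    (isAffineOpen_top Z).exists_basicOpen_le (V := O) x (Set.mem_univ (x : Z))
  obtain ⟨t, ht⟩ := hO.elim_finite_subcover (fun x : O => (Z.basicOpen (g x) : Set Z)) (fun x => (Z.basicOpen (g x)).isOpen)
    fun x hx => Set.mem_iUnion.2 ⟨⟨x, hx⟩, hgx ⟨x, hx⟩⟩
  refine ⟨t.image g, Set.Subset.antisymm ?_ ?_⟩
  · simp only [Finset.mem_image, Set.iUnion_exists, Set.iUnion_subset_iff, and_imp]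
    rintro _ x - rfl
    exact hg x
  · intro z hz
    obtain ⟨x, hx, hzx⟩ := Set.mem_iUnion₂.1 (ht hz)
    exact Set.mem_iUnion₂.2 ⟨g x, Finset.mem_image_of_mem g hx, hzx⟩

/-- The step of the induction principle. -/
theorem induction_step (B P : EtSpOver X → Prop)
    (hsq : ∀ (W U V UV : EtSpOver X) (j : U ⟶ W) (f : V ⟶ W) (p : UV ⟶ U) (q : UV ⟶ V),
      B W → IsQuasiCompactSp U.obj.left.obj →
      (∃ T : Over S, IsAffine T.left ∧ Nonempty ((yon S).obj T ≅ V.obj.left.obj)) →
      IsElemDistSq j.hom.left.hom f.hom.left.hom →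
      IsPullback p.hom.left.hom q.hom.left.hom j.hom.left.hom f.hom.left.hom →
      P U → P V → P UV → P W)
    (haff : ∀ (V : EtSpOver X) (T : Over S), IsAffine T.left →
      Nonempty ((yon S).obj T ≅ V.obj.left.obj) → B V ∧ P V)
    {Y U₁ U₂ : EtSpOver X} (j₁ : U₁ ⟶ Y) (j₂ : U₂ ⟶ Y)
    (hj₁ : RepWith @IsOpenImmersion j₁.hom.left.hom) (hj₂ : RepWith @IsOpenImmersion j₂.hom.left.hom)
    {V : Over S} [IsAffine V.left] (f : (yon S).obj V ⟶ Y.obj.left.obj) (hf : RepWith @Etale f)
    (hr : Set.range (Points.map j₂.hom.left.hom) = Set.range (Points.map j₁.hom.left.hom) ∪ Set.range (Points.ofPt f))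
    (hinj : InjOutside f (Set.range (Points.map j₁.hom.left.hom)))
    (hc₁ : IsCompact (Set.range (Points.map j₁.hom.left.hom)))
    (hB₂ : B U₂) (hP₁ : P U₁)
    (hcorner : ∀ (N : EtSpOver X) (q : N.obj.left.obj ⟶ (yon S).obj V), RepWith @IsOpenImmersion q →
      q ≫ f ≫ Y.obj.hom.hom = N.obj.hom.hom →
      Set.range (Points.map q) = Points.map f ⁻¹' Set.range (Points.map j₁.hom.left.hom) → P N) :
    P U₂ := by
  have : Mono j₂.hom.left.hom := mono_of_isOpenImmersion hj₂
  obtain ⟨k, f₂, hk, hf₂, hko, hfe, hsquare⟩ :=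
    exists_isElemDistSq j₁.hom.left j₂.hom.left hj₁ hj₂ f hf hr hinj
  let kk : U₁ ⟶ U₂ := ObjectProperty.homMk (Over.homMk k (by rw [← Over.w j₂.hom, reassoc_of% hk, Over.w j₁.hom]))
  let VS : Space S := ⟨(yon S).obj V, IsAlgSpace.yon_obj V⟩
  let hfet := isEtaleMor_of_repWith f₂ hfe
  let EV : EtSpOver X := etObj U₂ VS (ObjectProperty.homMk f₂) hfet
  let φV : EV ⟶ U₂ := etHom U₂ VS (ObjectProperty.homMk f₂) hfet
  let US : Space S := ⟨pullback k.hom f₂,
    Groth.Agent.AlgSp.isAlgSpace_pullback U₂.obj.left.property U₁.obj.left.property (IsAlgSpace.yon_obj V) k.hom f₂⟩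
  have hq : RepWith @IsOpenImmersion (pullback.snd k.hom f₂) :=
    MorphismProperty.of_isPullback (IsPullback.of_hasPullback k.hom f₂) hko
  have hqe : IsEtaleMor (pullback.snd k.hom f₂) := Groth.Agent.StFib.isEtaleMor_of_repWith
    (Groth.Agent.AlgSp.repWith_mono (Q := @Etale) (fun g hg => have : IsOpenImmersion g := hg; inferInstance) hq)
  let N : EtSpOver X := etObj EV US (ObjectProperty.homMk (pullback.snd k.hom f₂)) hqe
  let φN : N ⟶ EV := etHom EV US (ObjectProperty.homMk (pullback.snd k.hom f₂)) hqe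
  let pN : N ⟶ U₁ := ObjectProperty.homMk (Over.homMk (ObjectProperty.homMk (pullback.fst k.hom f₂)) (by
    apply ObjectProperty.hom_ext
    change pullback.fst k.hom f₂ ≫ U₁.obj.hom.hom = _
    change _ = pullback.snd k.hom f₂ ≫ f₂ ≫ U₂.obj.hom.hom
    rw [← Category.assoc, ← pullback.condition, Category.assoc]
    have e3 : k.hom ≫ U₂.obj.hom.hom = U₁.obj.hom.hom :=
      congrArg (fun g : U₁.obj.left ⟶ X => g.hom) (Over.w kk.hom)
    rw [e3]))
  refine hsq U₂ U₁ EV N kk φV pN φN hB₂ (isQuasiCompactSp_of_isCompact_range j₁.hom.left hj₁ hc₁)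
    ⟨V, ‹_›, ⟨Iso.refl _⟩⟩ ?_ ?_ hP₁ (haff EV V ‹_› ⟨Iso.refl _⟩).2 (hcorner N (pullback.snd k.hom f₂) hq ?_ ?_)
  · exact hsquare
  · exact IsPullback.of_hasPullback k.hom f₂
  · change pullback.snd k.hom f₂ ≫ f ≫ Y.obj.hom.hom = pullback.snd k.hom f₂ ≫ f₂ ≫ U₂.obj.hom.hom
    rw [← hf₂, ← show j₂.hom.left.hom ≫ Y.obj.hom.hom = U₂.obj.hom.hom from
      congrArg (fun g : U₂.obj.left ⟶ X => g.hom) (Over.w j₂.hom), Category.assoc]
  · ext v
    constructor
    · rintro ⟨z, rfl⟩
      refine ⟨Points.map (pullback.fst k.hom f₂) z, ?_⟩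
      rw [← Points.map_comp, ← Points.map_comp, ← hf₂]
      congr 1
      rw [← hk]
      change pullback.fst k.hom f₂ ≫ k.hom ≫ j₂.hom.left.hom = _
      rw [reassoc_of% (pullback.condition (f := k.hom) (g := f₂))]
    · rintro ⟨y, hy⟩
      obtain ⟨z, -, hz⟩ := exists_of_isPullback (IsPullback.of_hasPullback k.hom f₂) y v
        (injective_map_of_mono j₂.hom.left.hom (by
          rw [← Points.map_comp, ← Points.map_comp, hf₂, show k.hom ≫ j₂.hom.left.hom = j₁.hom.left.hom from
            congrArg (fun g : U₁.obj.left ⟶ Y.obj.left => g.hom) hk, hy]))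
      exact ⟨z, hz⟩

section

variable (B P : EtSpOver X → Prop)
  (hres : ∀ (W U : EtSpOver X) (j : U ⟶ W), B W → RepWith @IsOpenImmersion j.hom.left.hom →
    IsQuasiCompactSp U.obj.left.obj → B U)
  (haff : ∀ (V : EtSpOver X) (T : Over S), IsAffine T.left →
    Nonempty ((yon S).obj T ≅ V.obj.left.obj) → B V ∧ P V)
  (hsq : ∀ (W U V UV : EtSpOver X) (j : U ⟶ W) (f : V ⟶ W) (p : UV ⟶ U) (q : UV ⟶ V),
    B W → IsQuasiCompactSp U.obj.left.obj →
    (∃ T : Over S, IsAffine T.left ∧ Nonempty ((yon S).obj T ≅ V.obj.left.obj)) →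
    IsElemDistSq j.hom.left.hom f.hom.left.hom →
    IsPullback p.hom.left.hom q.hom.left.hom j.hom.left.hom f.hom.left.hom →
    P U → P V → P UV → P W)

include hres haff hsq

/-- Quasi-compact opens of affine objects satisfy the property. -/
theorem induction_affine_open (n : ℕ) : ∀ (V : Over S) (_ : IsAffine V.left) (N : EtSpOver X)
    (q : N.obj.left.obj ⟶ (yon S).obj V) (_ : RepWith @IsOpenImmersion q) (v : (yon S).obj V ⟶ X.obj)
    (_ : RepWith @Etale v) (_ : q ≫ v = N.obj.hom.hom) (s : Finset Γ(V.left, ⊤)), s.card ≤ n →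
    Set.range (Points.map q) = Points.schemeEquiv V '' (⋃ g ∈ s, (V.left.basicOpen g : Set V.left)) → P N := by
  classical
  induction n with
  | zero =>
    intro V _ N q hq v hv hqv s hs hr
    have : IsEmpty (Points N.obj.left.obj) := ⟨fun x => by
      have h : Points.map q x ∈ Set.range (Points.map q) := ⟨x, rfl⟩
      simp [hr, Finset.card_eq_zero.1 (Nat.le_zero.1 hs)] at h⟩
    obtain ⟨T, hT, he⟩ := exists_iso_yon_of_isEmpty N.obj.left
    exact (haff N T hT he).2
  | succ n ih =>
    intro V hV N q hq v hv hqv s hs hr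
    rcases s.eq_empty_or_nonempty with rfl | ⟨g, hg⟩
    · exact ih V hV N q hq v hv hqv ∅ (by simp) hr
    let VS : Space S := ⟨(yon S).obj V, IsAlgSpace.yon_obj V⟩
    let EV : EtSpOver X := ⟨Over.mk (Y := VS) (ObjectProperty.homMk v), isEtaleMor_of_repWith v hv⟩
    let jN : N ⟶ EV := ObjectProperty.homMk (Over.homMk (ObjectProperty.homMk q) (ObjectProperty.hom_ext _ hqv))
    let D : Γ(V.left, ⊤) → Set (Points ((yon S).obj V)) := fun h =>
      Points.schemeEquiv V '' (V.left.basicOpen h : Set V.left)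
    have hDo : ∀ h, IsOpen (D h) := fun h =>
      (Points.schemeHomeo V).isOpenMap _ (V.left.basicOpen h).isOpen
    have hDc : ∀ h, IsCompact (D h) := fun h =>
      ((isAffineOpen_top V.left).basicOpen h).isCompact.image (Points.schemeHomeo V).continuous
    let A := ⋃ h ∈ s.erase g, D h
    have hAc : IsCompact A := (s.erase g).isCompact_biUnion fun h _ => hDc h
    obtain ⟨U₁, j₁, hj₁, hr₁⟩ := exists_etObj_open EV (A := A) (isOpen_biUnion fun h _ => hDo h)
    have hP₁ : P U₁ := ih V hV U₁ j₁.hom.left.hom hj₁ v hv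
      (congrArg (fun e : U₁.obj.left ⟶ X => e.hom) (Over.w j₁.hom)) (s.erase g)
      (by rw [Finset.card_erase_of_mem hg]; omega) (by rw [hr₁]; simp only [A, D, Set.image_iUnion₂])
    let Vg : Over S := Over.mk ((V.left.basicOpen g).ι ≫ V.hom)
    let ι : Vg ⟶ V := Over.homMk (V.left.basicOpen g).ι rfl
    have : IsAffine Vg.left := (isAffineOpen_top V.left).basicOpen g
    have : Etale ι.left := inferInstanceAs (Etale (V.left.basicOpen g).ι)
    have : Mono ι := (Over.forget S).mono_of_mono_map (inferInstanceAs (Mono (V.left.basicOpen g).ι))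
    have hrg : Set.range (Points.ofPt ((yon S).map ι)) = D g := by
      ext x
      constructor
      · rintro ⟨t, rfl⟩
        refine ⟨ι.left t, t.2, ?_⟩
        rw [Points.ofPt_eq_map_ofScheme]
        exact (Points.map_yon_map_apply ι t).symm
      · rintro ⟨y, hy, rfl⟩
        refine ⟨⟨y, hy⟩, ?_⟩
        rw [Points.ofPt_eq_map_ofScheme]
        exact Points.map_yon_map_apply ι ⟨y, hy⟩
    have hN : Set.range (Points.map q) = A ∪ D g := by
      rw [hr, Set.image_iUnion₂]
      conv_lhs => rw [← Finset.insert_erase hg, Finset.set_biUnion_insert, Set.union_comm]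
    refine induction_step B P hsq haff (Y := EV) j₁ jN hj₁ hq (V := Vg) ((yon S).map ι)
      ((repWith_yon_map_iff _ ι).2 inferInstance)
      (show Set.range (Points.map q) = _ by rw [hr₁, hrg, hN]) ?_ (hr₁ ▸ hAc) ?_ hP₁ ?_
    · intro T a b hab _
      rw [← Functor.map_comp, ← Functor.map_comp] at hab
      exact (cancel_mono ι).1 ((yon S).map_injective hab)
    · refine hres EV N jN (haff EV V hV ⟨Iso.refl _⟩).1 hq (isQuasiCompactSp_of_isCompact_range jN.hom.left hq ?_)
      show IsCompact (Set.range (Points.map q))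
      rw [hN]
      exact hAc.union (hDc g)
    · intro N' q' hq' hqv' hr'
      -- the corner is a union of fewer basic opens of the smaller affine
      let res : Γ(V.left, ⊤) → Γ(Vg.left, ⊤) := fun h => ι.left.appTop h
      refine ih Vg ‹_› N' q' hq' ((yon S).map ι ≫ v) (repWith_etale_map_comp ι hv) hqv' ((s.erase g).image res)
        (Finset.card_image_le.trans (by rw [Finset.card_erase_of_mem hg]; omega)) ?_
      rw [hr', hr₁]
      ext x
      obtain ⟨t, rfl⟩ := (Points.schemeEquiv Vg).surjective x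
      have e : Points.map ((yon S).map ι) (Points.schemeEquiv Vg t) = Points.schemeEquiv V (ι.left t) :=
        Points.map_yon_map_apply ι t
      simp only [A, D, Set.mem_preimage, e, Set.image_iUnion₂, Set.mem_iUnion,
        (Points.schemeEquiv V).injective.mem_set_image, (Points.schemeEquiv Vg).injective.mem_set_image,
        Finset.mem_image, SetLike.mem_coe]
      have hb : ∀ h, t ∈ Vg.left.basicOpen (res h) ↔ ι.left t ∈ V.left.basicOpen h := fun h => by
        rw [← Scheme.preimage_basicOpen_top ι.left h]; rfl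
      constructor
      · rintro ⟨h, hh, ht⟩
        exact ⟨res h, ⟨h, hh, rfl⟩, (hb h).2 ht⟩
      · rintro ⟨_, ⟨h, hh, rfl⟩, ht⟩
        exact ⟨h, hh, (hb h).1 ht⟩

/-- The induction principle for a family of objects. -/
theorem induction_family [QuasiSeparatedSpace ↥S]
    (hB : ∀ W, B W → IsQuasiCompactSp W.obj.left.obj ∧ IsQuasiSeparatedSp W.obj.left.obj)
    (W : EtSpOver X) (hW : B W) : P W := by
  classical
  obtain ⟨hWc, hWs⟩ := hB W hW
  have := compactSpace_points_of_isQuasiCompactSp hWc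
  -- the step from an open subspace to a larger one
  have step : ∀ (U₁ U₂ : EtSpOver X) (j₁ : U₁ ⟶ W) (j₂ : U₂ ⟶ W), RepWith @IsOpenImmersion j₁.hom.left.hom →
      RepWith @IsOpenImmersion j₂.hom.left.hom → ∀ (V : Over S), IsAffine V.left →
      ∀ (f : (yon S).obj V ⟶ W.obj.left.obj), RepWith @Etale f →
      Set.range (Points.map j₂.hom.left.hom) =
        Set.range (Points.map j₁.hom.left.hom) ∪ Set.range (Points.ofPt f) →
      InjOutside f (Set.range (Points.map j₁.hom.left.hom)) →
      IsCompact (Set.range (Points.map j₁.hom.left.hom)) → P U₁ → P U₂ := by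
    intro U₁ U₂ j₁ j₂ hj₁ hj₂ V hV f hf hr hinj hc₁ hP₁
    have := hV
    refine induction_step B P hsq haff j₁ j₂ hj₁ hj₂ f hf hr hinj hc₁ ?_ hP₁ fun N q hq hqv hr' => ?_
    · refine hres W U₂ j₂ hW hj₂ (isQuasiCompactSp_of_isCompact_range j₂.hom.left hj₂ ?_)
      rw [hr]
      exact hc₁.union (isCompact_range (Points.continuous_ofPt f))
    · have hfv : RepWith @Etale (f ≫ W.obj.hom.hom) := W.property f hf
      have hqcf := Groth.Agent.AlgSp.isQuasiCompactMor_of_repWith W.obj.left.property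
        (repWith_quasiCompact_chart W.obj.left hWs f)
      have hc : IsCompact (Points.schemeEquiv V ⁻¹' Set.range (Points.map q)) := by
        refine (Points.schemeHomeo V).isCompact_preimage.2 ?_
        rw [hr']
        exact Groth.Agent.AlgSp.isCompact_preimage W.obj.left.property f hqcf _
          (isOpen_range_of_isOpenImmersion hj₁) hc₁
      have ho : IsOpen (Points.schemeEquiv V ⁻¹' Set.range (Points.map q)) :=
        (isOpen_range_of_isOpenImmersion hq).preimage (Points.schemeHomeo V).continuous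
      obtain ⟨s, hs⟩ := exists_finset_basicOpen ⟨_, ho⟩ hc
      refine induction_affine_open B P hres haff hsq s.card V hV N q hq (f ≫ W.obj.hom.hom) hfv hqv s le_rfl ?_
      rw [hs]
      exact ((Points.schemeEquiv V).image_preimage _).symm
  -- the empty subspace
  obtain ⟨U₀, j₀, hj₀, hr₀⟩ := exists_etObj_open W (A := ∅) isOpen_empty
  have hP₀ : P U₀ := by
    have : IsEmpty (Points U₀.obj.left.obj) := ⟨fun x => by
      have h : Points.map j₀.hom.left.hom x ∈ Set.range (Points.map j₀.hom.left.hom) := ⟨x, rfl⟩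
      simp [hr₀] at h⟩
    obtain ⟨T, hT, he⟩ := exists_iso_yon_of_isEmpty U₀.obj.left
    exact (haff U₀ T hT he).2
  obtain ⟨U, j, hj, hr, hP⟩ := openInduction W.obj.left hWc hWs ∅ isOpen_empty isCompact_empty
    (fun A => ∃ (U : EtSpOver X) (j : U ⟶ W), RepWith @IsOpenImmersion j.hom.left.hom ∧
      Set.range (Points.map j.hom.left.hom) = A ∧ P U)
    ⟨U₀, j₀, hj₀, hr₀, hP₀⟩ (by
      rintro A V f hA hAc - hV hf hinj ⟨U₁, j₁, hj₁, rfl, hP₁⟩
      have hfo : IsOpen (Set.range (Points.ofPt f)) := by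
        rw [← Set.image_univ]
        exact isOpenMap_ofPt hf _ isOpen_univ
      obtain ⟨U₂, j₂, hj₂, hr⟩ := exists_etObj_open W (hA.union hfo)
      exact ⟨U₂, j₂, hj₂, hr, step U₁ U₂ j₁ j₂ hj₁ hj₂ V hV f hf hr hinj hAc hP₁⟩)
  obtain ⟨V, f, hV, hf, -⟩ := exists_affine_atlas W.obj.left hWc
  have hid : RepWith @IsOpenImmersion (𝟙 W : W ⟶ W).hom.left.hom := MorphismProperty.of_isIso _ _
  have hr1 : Set.range (Points.map (𝟙 W : W ⟶ W).hom.left.hom) = Set.univ :=
    Set.eq_univ_of_forall fun x => ⟨x, Points.map_id x⟩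
  exact step U W j (𝟙 W) hj hid V hV f hf (by rw [hr, hr1, Set.univ_union]) (hr ▸ injOutside_univ f)
    (hr ▸ isCompact_univ) hP

end

end Groth.Agent.AlgSpEN
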