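import Groth.Agent.AlgSpEN.AmitsurQC
import Groth.Agent.AlgSpEN.PushIntegral
import Groth.Agent.SiteCoh.DimShift

/-!
# Mayer-Vietoris bounds by dimension shifting

For an injective embedding sequence of an abelian sheaf, `bound` statements say that sections lift along the
quotient maps from some degree on. These glue along open pieces.
-/

set_option autoImplicit false
universe u

open CategoryTheory CategoryTheory.Limits AlgebraicGeometry Opposite

set_option backward.isDefEq.respectTransparency false
set_option backward.isDefEq.respectTransparency.types false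

noncomputable section

namespace Groth.Agent.AlgSpEN.Bound

open _root_.AlgSp

variable {S : Scheme.{u}} {X : Sp S}

/-- The chosen injective cosyzygies. -/
def cz : ℕ → AbEt X → AbEt X
  | 0, F => F
  | k + 1, F => cokernel (Injective.ι (cz k F))

/-- The chosen embedding sequences. -/
def seq (k : ℕ) (F : AbEt X) : ShortComplex (AbEt X) :=
  ShortComplex.mk (Injective.ι (cz k F)) (cokernel.π _) (cokernel.condition _)

theorem seq_shortExact (k : ℕ) (F : AbEt X) : (seq k F).ShortExact :=
  have : Epi (seq k F).g := coequalizer.π_epi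
  have : Mono (seq k F).f := Injective.ι_mono _
  { exact := ShortComplex.exact_cokernel _ }

instance injective_seq (k : ℕ) (F : AbEt X) : Injective (seq k F).X₂ :=
  inferInstanceAs (Injective (Injective.under (cz k F)))

/-- A section-lifting bound at an object. -/
def ObjBound (n : ℕ) (W : EtOver X) (F : AbEt X) : Prop :=
  ∀ k, n ≤ k → Function.Surjective ((seq k F).g.hom.app (op W)).hom

theorem objBound_mono {n m : ℕ} (h : n ≤ m) {W : EtOver X} {F : AbEt X} (hb : ObjBound n W F) : ObjBound m W F :=
  fun k hk => hb k (h.trans hk)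

theorem objBound_affine {F : AbEt X} (hF : Amitsur.Cech F) (E : EtOver X) [IsAffine E.obj.left.left] :
    ObjBound 0 E F := by
  have : ∀ k, Amitsur.Cech (cz k F) := fun k => by
    induction k with
    | zero => exact hF
    | succ k ih => exact Amitsur.cech_X₃ (seq k F) (seq_shortExact k F) ih
  exact fun k _ => Amitsur.sections_surjective (seq k F) (seq_shortExact k F) (this k) E

/-- Injective sheaves are flasque along monomorphisms. -/
theorem flasque (I : AbEt X) [Injective I] {W V : EtOver X} (j : W ⟶ V) [Mono j] :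
    Function.Surjective (I.obj.map j.op).hom := by
  intro d
  have : Injective I.obj :=
    (sheafificationAdjunction (etTop X) AddCommGrpCat.{u + 1}).map_injective I inferInstance
  let jj : Amitsur.freePre W ⟶ Amitsur.freePre V :=
    Functor.whiskerRight (uliftYoneda.{u + 1}.map j) AddCommGrpCat.free
  have : ∀ Z, Mono (jj.app Z) := fun Z => by
    have : Mono ((uliftYoneda.{u + 1}.map j).app Z) := (mono_iff_injective _).2 fun a b h =>
      ULift.ext _ _ ((cancel_mono j).1 (congrArg ULift.down h))
    exact AddCommGrpCat.free.map_mono _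
  have : Mono jj := NatTrans.mono_of_mono_app jj
  let e := Injective.factorThru (Amitsur.classify I.obj d) jj
  refine ⟨(e.app (op V)).hom (Amitsur.gen (𝟙 V)), ?_⟩
  refine (NatTrans.naturality_apply e j.op (Amitsur.gen (𝟙 V))).symm.trans ?_
  have h := congr(($(NatTrans.congr_app (Injective.comp_factorThru (Amitsur.classify I.obj d) jj) (op W))).hom
    (Amitsur.gen (𝟙 W)))
  refine Eq.trans ?_ (h.trans ((Amitsur.classify_gen I.obj d (𝟙 W)).trans (by simp)))
  refine congrArg (e.app (op W)).hom ?_
  change FreeAbelianGroup.map _ (FreeAbelianGroup.of _) = FreeAbelianGroup.map _ (FreeAbelianGroup.of _)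
  rw [FreeAbelianGroup.map_of_apply, FreeAbelianGroup.map_of_apply]
  exact congrArg FreeAbelianGroup.of (ULift.ext _ _ ((Category.comp_id j).trans (Category.id_comp j).symm))

/-- Sections of a cosyzygy extend along a monomorphism from an object with a bound. -/
theorem exists_extend {n k : ℕ} (hk : n ≤ k) {F : AbEt X} {W V : EtOver X} (j : W ⟶ V) [Mono j]
    (hW : ObjBound n W F) : Function.Surjective ((cz (k + 1) F).obj.map j.op).hom := by
  intro d
  obtain ⟨a, rfl⟩ := hW k hk d
  obtain ⟨a', rfl⟩ := flasque (seq k F).X₂ j a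
  exact ⟨((seq k F).g.hom.app (op V)).hom a', (NatTrans.naturality_apply (seq k F).g.hom j.op a').symm⟩

theorem mono_of_isOpenImmersion {W V : EtOver X} (j : W ⟶ V) (hj : IsOpenImmersion j.hom.left.left) : Mono j :=
  ⟨fun a b h => EtOver.hom_ext _ _ (Over.OverMorphism.ext ((cancel_mono j.hom.left.left).1
    (congrArg (fun q => q.hom.left.left) h)))⟩

theorem objBound_isEmpty (W : EtOver X) [IsEmpty W.obj.left.left] (F : AbEt X) : ObjBound 0 W F :=
  fun k _ t => ⟨0, @Subsingleton.elim _ (PushIntegral.sect_subsingleton_of_isEmpty (seq k F).X₃ W) _ _⟩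

/-- Gluing of bounds along two open pieces. -/
theorem objBound_union {F : AbEt X} {W W₁ W₂ P : EtOver X} (i₁ : W₁ ⟶ W) (i₂ : W₂ ⟶ W)
    (hcov : ∀ x : W.obj.left.left, x ∈ Set.range i₁.hom.left.left ∨ x ∈ Set.range i₂.hom.left.left)
    [Mono i₁] [Mono i₂] {p₁ : P ⟶ W₁} {p₂ : P ⟶ W₂} (sq : IsPullback p₁ p₂ i₁ i₂) {n m : ℕ}
    (h₁ : ObjBound n W₁ F) (h₂ : ObjBound n W₂ F) (hP : ObjBound m P F) (hmn : m + 1 ≤ n) : ObjBound n W F := by
  intro k hk t
  obtain ⟨k, rfl⟩ : ∃ l, k = l + 1 := ⟨k - 1, by omega⟩
  let C := seq (k + 1) F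
  have hC := seq_shortExact (k + 1) F
  obtain ⟨a, ha⟩ := h₁ _ hk ((C.X₃.obj.map i₁.op).hom t)
  obtain ⟨b, hb⟩ := h₂ _ hk ((C.X₃.obj.map i₂.op).hom t)
  have := MorphismProperty.of_isPullback (P := MorphismProperty.monomorphisms (EtOver X)) sq.flip
    (MorphismProperty.monomorphisms.infer_property i₂)
  have : Mono p₁ := this
  obtain ⟨d, hd⟩ := Amitsur.sections_exact C hC P ((C.X₂.obj.map p₁.op).hom a - (C.X₂.obj.map p₂.op).hom b) (by
    rw [map_sub, sub_eq_zero]
    refine (NatTrans.naturality_apply C.g.hom p₁.op a).trans ((congrArg _ ha).trans ?_)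
    refine Eq.trans ?_ ((NatTrans.naturality_apply C.g.hom p₂.op b).trans (congrArg _ hb)).symm
    rw [← ConcreteCategory.comp_apply, ← ConcreteCategory.comp_apply, ← Functor.map_comp, ← Functor.map_comp,
      ← op_comp, ← op_comp, sq.w])
  obtain ⟨d', rfl⟩ := exists_extend (k := k) (by omega : m ≤ k) p₁ hP d
  let a' := a - (C.f.hom.app (op W₁)).hom d'
  have hag : (C.g.hom.app (op W₁)).hom a' = (C.X₃.obj.map i₁.op).hom t := by
    rw [map_sub, Amitsur.sections_zero C hC, sub_zero, ha]
  have hab : (C.X₂.obj.map p₁.op).hom a' = (C.X₂.obj.map p₂.op).hom b := by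
    have h : (C.X₂.obj.map p₁.op).hom ((C.f.hom.app (op W₁)).hom d') =
        (C.X₂.obj.map p₁.op).hom a - (C.X₂.obj.map p₂.op).hom b :=
      (NatTrans.naturality_apply C.f.hom p₁.op d').symm.trans hd
    rw [map_sub, h, sub_sub_cancel]
  -- glue
  let Wf : Bool → EtOver X := fun i => cond i W₁ W₂
  let inc : ∀ i, Wf i ⟶ W := fun i => Bool.rec i₂ i₁ i
  have hP' : (Presieve.ofArrows Wf inc).IsSheafFor (C.X₂.obj ⋙ forget AddCommGrpCat.{u + 1}) := by
    rw [Presieve.isSheafFor_iff_generate]
    exact PushIntegral.isSheaf_forget C.X₂ _ (AlgSp.ofArrows_mem_etTop Wf inc fun x =>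
      (hcov x).elim (fun h => ⟨true, h⟩) fun h => ⟨false, h⟩)
  rw [Presieve.isSheafFor_arrows_iff] at hP'
  obtain ⟨s, hs, -⟩ := hP' (fun i => Bool.rec b a' i) fun i j Z gi gj h => by
    cases i <;> cases j
    · obtain rfl := (cancel_mono i₂).1 h
      rfl
    · obtain ⟨l, h1, h2⟩ := sq.exists_lift gj gi h.symm
      subst h1 h2
      change (C.X₂.obj.map (l ≫ p₂).op).hom b = (C.X₂.obj.map (l ≫ p₁).op).hom a'
      rw [op_comp, op_comp, Functor.map_comp, Functor.map_comp, ConcreteCategory.comp_apply,
        ConcreteCategory.comp_apply]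
      exact congrArg _ hab.symm
    · obtain ⟨l, h1, h2⟩ := sq.exists_lift gi gj h
      subst h1 h2
      change (C.X₂.obj.map (l ≫ p₁).op).hom a' = (C.X₂.obj.map (l ≫ p₂).op).hom b
      rw [op_comp, op_comp, Functor.map_comp, Functor.map_comp, ConcreteCategory.comp_apply,
        ConcreteCategory.comp_apply]
      exact congrArg _ hab
    · obtain rfl := (cancel_mono i₁).1 h
      rfl
  refine ⟨s, ?_⟩
  refine C.X₃.property.isSeparated _ _ (AlgSp.ofArrows_mem_etTop Wf inc fun x =>
      (hcov x).elim (fun h => ⟨true, h⟩) fun h => ⟨false, h⟩) _ _ fun Z q hq => ?_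
  obtain ⟨i, r, rfl⟩ := Sieve.mem_ofArrows_iff .. |>.1 hq
  rw [op_comp, Functor.map_comp, ConcreteCategory.comp_apply, ConcreteCategory.comp_apply]
  refine congrArg _ ((NatTrans.naturality_apply C.g.hom (inc i).op s).symm.trans ((congrArg _ (hs i)).trans ?_))
  cases i
  · exact hb
  · exact hag

/-- An open subobject of an affine object that is covered by finitely many affine opens has a bound. -/
theorem objBound_open {F : AbEt X} (hF : Amitsur.Cech F) : ∀ (n : ℕ) (W V : EtOver X) [IsAffine V.obj.left.left]
    (j : W ⟶ V) (_ : IsOpenImmersion j.hom.left.left) (D : Fin n → EtOver X) (d : ∀ i, D i ⟶ W),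
    (∀ i, IsAffine (D i).obj.left.left) → (∀ i, IsOpenImmersion (d i).hom.left.left) →
    (∀ x : W.obj.left.left, ∃ i, x ∈ Set.range (d i).hom.left.left) → ObjBound n W F := by
  intro n
  induction n with
  | zero =>
    intro W V _ j _ D d _ _ hc
    have : IsEmpty W.obj.left.left := ⟨fun x => (hc x).choose.elim0⟩
    exact objBound_isEmpty W F
  | succ n ih =>
    intro W V _ j hj D d hD hd hc
    have := hD
    have := hd
    let O : W.obj.left.left.Opens := ⨆ i : Fin n, (d i.castSucc).hom.left.left.opensRange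
    let W₁ := PushIntegral.piece W O
    let i₁ : W₁ ⟶ W := PushIntegral.pieceHom W O
    let i₂ := d (Fin.last n)
    have hi₁ : IsOpenImmersion i₁.hom.left.left := inferInstanceAs (IsOpenImmersion O.ι)
    have := mono_of_isOpenImmersion i₁ hi₁
    have := mono_of_isOpenImmersion i₂ (hd _)
    have hlift : ∀ i : Fin n, Set.range (d i.castSucc).hom.left.left ⊆ Set.range O.ι := fun i => by
      rw [Scheme.Opens.range_ι]
      exact (le_iSup (fun i : Fin n => (d i.castSucc).hom.left.left.opensRange) i : _)
    choose e he using fun i : Fin n => Amitsur.exists_hom_over (d i.castSucc) i₁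
      (IsOpenImmersion.lift O.ι _ (hlift i)) (IsOpenImmersion.lift_fac _ _ _)
    have heo : ∀ i, IsOpenImmersion (e i).hom.left.left := fun i => by
      have : IsOpenImmersion ((e i).hom.left.left ≫ i₁.hom.left.left) := by
        rw [show (e i).hom.left.left ≫ i₁.hom.left.left = (d i.castSucc).hom.left.left from
          congrArg (fun q => q.hom.left.left) (he i)]
        exact hd _
      exact IsOpenImmersion.of_comp _ i₁.hom.left.left
    have hec : ∀ x : W₁.obj.left.left, ∃ i, x ∈ Set.range (e i).hom.left.left := by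
      intro x
      obtain ⟨i, z, hz⟩ := TopologicalSpace.Opens.mem_iSup.1 (show O.ι x ∈ O from x.2)
      refine ⟨i, z, O.ι.isOpenEmbedding.injective ?_⟩
      exact (congrArg (fun q => q.hom.left.left z) (he i)).trans hz
    have h₁ : ObjBound n W₁ F := by
      refine ih W₁ V (i₁ ≫ j) ?_ (fun i => D i.castSucc) e (fun i => hD _) heo hec
      exact inferInstanceAs (IsOpenImmersion (O.ι ≫ j.hom.left.left))
    -- the overlap
    let P := EtOver.pullbackObj i₁ i₂
    let p₁ := EtOver.pullbackFst i₁ i₂
    let p₂ := EtOver.pullbackSnd i₁ i₂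
    have sq : IsPullback p₁ p₂ i₁ i₂ := EtOver.isPullback i₁ i₂
    have hsq := sq.map (EtOver.toScheme X)
    have hp₂ : IsOpenImmersion p₂.hom.left.left :=
      MorphismProperty.of_isPullback (P := @IsOpenImmersion) hsq hi₁
    let Q := fun i : Fin n => EtOver.pullbackObj (d i.castSucc ≫ j) (i₂ ≫ j)
    let a := fun i : Fin n => EtOver.pullbackFst (d i.castSucc ≫ j) (i₂ ≫ j)
    let b := fun i : Fin n => EtOver.pullbackSnd (d i.castSucc ≫ j) (i₂ ≫ j)
    have sQ : ∀ i, IsPullback (a i) (b i) (d i.castSucc ≫ j) (i₂ ≫ j) := fun i => EtOver.isPullback _ _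
    have hQ : ∀ i, IsAffine (Q i).obj.left.left := fun i =>
      have sq' : IsPullback (a i).hom.left.left (b i).hom.left.left (d i.castSucc ≫ j).hom.left.left
        (i₂ ≫ j).hom.left.left := (sQ i).map (EtOver.toScheme X)
      have := hD i.castSucc
      have := hD (Fin.last n)
      IsAffine.of_isIso sq'.isoPullback.hom
    have hab : ∀ i, a i ≫ (d i.castSucc ≫ j) = b i ≫ (i₂ ≫ j) := fun i => (sQ i).w
    have := mono_of_isOpenImmersion j hj
    have hw : ∀ i, a i ≫ e i ≫ i₁ = b i ≫ i₂ := fun i => by
      rw [he, ← cancel_mono j]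
      simpa using hab i
    choose c hc₁ hc₂ using fun i => sq.exists_lift (a i ≫ e i) (b i) (by rw [Category.assoc, hw])
    have hPb : ObjBound n P F := by
      refine ih P (D (Fin.last n)) p₂ hp₂ Q c hQ (fun i => ?_) (fun x => ?_)
      · have hbo : IsOpenImmersion (b i).hom.left.left := by
          refine MorphismProperty.of_isPullback (P := @IsOpenImmersion) ((sQ i).map (EtOver.toScheme X)) ?_
          have := hd i.castSucc
          exact inferInstanceAs (IsOpenImmersion ((d i.castSucc).hom.left.left ≫ j.hom.left.left))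
        have : IsOpenImmersion ((c i).hom.left.left ≫ p₂.hom.left.left) := by
          rw [show (c i).hom.left.left ≫ p₂.hom.left.left = (b i).hom.left.left from
            congrArg (fun q => q.hom.left.left) (hc₂ i)]
          exact hbo
        exact IsOpenImmersion.of_comp _ p₂.hom.left.left
      · obtain ⟨i, z, hz⟩ := hec (p₁.hom.left.left x)
        let U : EtOver X := EtOver.pullbackObj (e i) p₁
        have sU := EtOver.isPullback (e i) p₁
        obtain ⟨y, hy₁, hy₂⟩ := Scheme.exists_preimage_of_isPullback (sU.map (EtOver.toScheme X)) z x hz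
        obtain ⟨l, hl₁, hl₂⟩ := (sQ i).exists_lift (EtOver.pullbackFst (e i) p₁) (EtOver.pullbackSnd (e i) p₁ ≫ p₂) (by
          rw [← Category.assoc, ← Category.assoc (EtOver.pullbackSnd (e i) p₁ ≫ p₂)]
          congr 1
          rw [← he, ← Category.assoc, sU.w, Category.assoc, sq.w, Category.assoc])
        refine ⟨i, l.hom.left.left y, ?_⟩
        have hl : l ≫ c i = EtOver.pullbackSnd (e i) p₁ := by
          apply sq.hom_ext
          · rw [Category.assoc, hc₁, ← Category.assoc, hl₁, sU.w]
          · rw [Category.assoc, hc₂, hl₂]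
        rw [← Scheme.Hom.comp_apply]
        exact (congrArg (fun q => q.hom.left.left y) hl).trans hy₂
    refine objBound_union i₁ i₂ (fun x => ?_) sq (objBound_mono n.le_succ h₁)
      (objBound_mono (Nat.zero_le _) (objBound_affine hF _)) hPb le_rfl
    obtain ⟨i, hi⟩ := hc x
    induction i using Fin.lastCases with
    | last => exact Or.inr hi
    | cast i =>
      refine Or.inl ?_
      change x ∈ Set.range O.ι
      exact hlift i hi

end Groth.Agent.AlgSpEN.Bound
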