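import Groth.Agent.AlgSpEN.FamStrict
import Groth.Agent.AlgSpEN.SectBound
import Groth.Agent.AlgSpEN.InductionEt

/-!
# Goodness of unions of basic opens of affine objects
-/

set_option autoImplicit false
universe w u

open CategoryTheory CategoryTheory.Limits AlgebraicGeometry Opposite

set_option backward.isDefEq.respectTransparency false
set_option backward.isDefEq.respectTransparency.types false
set_option maxHeartbeats 1000000

noncomputable section

namespace Groth.Agent.AlgSpEN.FamHom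

open _root_.AlgSp Groth.Agent.AlgSpQC PushIntegral

variable {S : Scheme.{u}} {X : AlgSp.Space S} (K : CochainComplex (ModEt X.obj) ℤ)

/-- A pointwise locally valid stable property holds on a covering sieve. -/
theorem exists_sieve_of_local {Z : EtOver X.obj} (P : ∀ Z' : EtOver X.obj, (Z' ⟶ Z) → Prop)
    (hP : ∀ {Z' Z''} (h : Z'' ⟶ Z') (g : Z' ⟶ Z), P Z' g → P Z'' (h ≫ g))
    (hloc : ∀ z : Z.obj.left.left, ∃ (Z' : EtOver X.obj) (g : Z' ⟶ Z), P Z' g ∧ z ∈ Set.range g.hom.left.left) :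
    ∃ R ∈ etTop X.obj Z, ∀ (Z' : EtOver X.obj) (g : Z' ⟶ Z), R g → P Z' g :=
  ⟨{ arrows := fun {Z'} g => P Z' g, downward_closed := fun {_ _} g hg h => hP h g hg },
    (AlgSpD.mem_etTop_iff _).2 hloc, fun _ _ h => h⟩

/-- Sections lying in a set of points of an object. -/
def inOpen (Q : EtOver X.obj) (O : Set Q.obj.left.left) : Dom (yoneda.obj Q) :=
  ⟨fun Z v => ∀ z, v.hom.left.left z ∈ O, fun {Z Z'} g v h z => h (g.hom.left.left z)⟩

/-- Every affine object over `Q` is good. -/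
def GoodOver (Q : EtOver X.obj) : Prop :=
  ∀ (Q' : EtOver X.obj) (_ : Q' ⟶ Q), IsAffine Q'.obj.left.left → Good (Dom.top (yoneda.obj Q')) K

variable {K}

theorem GoodOver.of_hom {Q Q' : EtOver X.obj} (h : GoodOver K Q) (g : Q' ⟶ Q) : GoodOver K Q' :=
  fun Q'' g' hQ'' => h Q'' (g' ≫ g) hQ''

theorem good_of_iff {Φ : (EtOver X.obj)ᵒᵖ ⥤ Type w} {D D' : Dom Φ} (h : ∀ Z x, D.ok Z x ↔ D'.ok Z x)
    (hg : Good D K) : Good D' K := by
  obtain ⟨c, hc, hg⟩ := hg
  refine ⟨c, hc, fun J hJ n hn φ hφ => ?_⟩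
  let T : ∀ G I, Fam D' G I →+ Fam D G I := fun G I => restr fun Z x hx => (h Z x).1 hx
  let T' : ∀ G I, Fam D G I →+ Fam D' G I := fun G I => restr fun Z x hx => (h Z x).2 hx
  obtain ⟨σ, hσ⟩ := hg J hJ n hn (mapCoch T φ) (isCocycle_map T (fun _ _ _ _ _ => rfl) (fun _ _ _ _ _ => rfl) hφ)
  refine ⟨mapCoch T' σ, fun p q hpq => ?_⟩
  rw [mapCoch_del T' (fun _ _ _ _ _ => rfl) (fun _ _ _ _ _ => rfl), ← hσ p q hpq]
  rfl

/-- The gluing step for a piece injective outside the smaller domain. -/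
theorem good_step_mono {Φ : (EtOver X.obj)ᵒᵖ ⥤ Type w} {D DA : Dom Φ} {Q : EtOver X.obj} (π : Φ.obj (op Q))
    (hle : ∀ Z x, DA.ok Z x → D.ok Z x) (hok : ∀ (Z : EtOver X.obj) (v : Z ⟶ Q), D.ok Z (Φ.map v.op π))
    (hcov : ∀ Z (x : Φ.obj (op Z)), D.ok Z x → ∃ R ∈ etTop X.obj Z, ∀ (Z' : EtOver X.obj) (g : Z' ⟶ Z), R g →
      DA.ok Z' (Φ.map g.op x) ∨ ∃ v : Z' ⟶ Q, Φ.map v.op π = Φ.map g.op x)
    (hinj : ∀ (Z : EtOver X.obj) (v v' : Z ⟶ Q), Φ.map v.op π = Φ.map v'.op π →
      ∃ R ∈ etTop X.obj Z, ∀ (Z' : EtOver X.obj) (g : Z' ⟶ Z), R g →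
        DA.ok Z' (Φ.map (g ≫ v).op π) ∨ g ≫ v' = g ≫ v)
    (gA : Good DA K) (gQ : Good (Dom.top (yoneda.obj Q)) K) (gW : Good (DA.pullBack π) K) : Good D K :=
  good_step π hle hok (fun _ : Unit => 𝟙 Q) 1 (fun _ => by simp) (fun _ => ⟨Equiv.refl _, fun _ => by simp⟩)
    (by simp) hcov (fun Z v v' h => (hinj Z v v' h).elim fun R hR => ⟨R, hR.1, fun Z' g hg =>
      (hR.2 Z' g hg).imp id fun e => ⟨(), e.trans (Category.comp_id _).symm⟩⟩) gA gQ gW

/-- Maps landing in an open factor through the piece. -/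
theorem exists_lift_piece {Q : EtOver X.obj} (O : Q.obj.left.left.Opens) {Z : EtOver X.obj} (g : Z ⟶ Q)
    (h : ∀ z, g.hom.left.left z ∈ O) : ∃ l, l ≫ pieceHom Q O = g := by
  have hr : Set.range g.hom.left.left ⊆ Set.range O.ι := by
    rw [Scheme.Opens.range_ι]
    rintro _ ⟨z, rfl⟩
    exact h z
  exact Amitsur.exists_hom_over g (pieceHom Q O) (IsOpenImmersion.lift O.ι _ hr) (IsOpenImmersion.lift_fac _ _ _)

theorem mem_range_pieceHom {Q : EtOver X.obj} (O : Q.obj.left.left.Opens) {z : Q.obj.left.left} (hz : z ∈ O) :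
    z ∈ Set.range (pieceHom Q O).hom.left.left :=
  ⟨⟨z, hz⟩, rfl⟩

theorem pieceHom_mem {Q : EtOver X.obj} (O : Q.obj.left.left.Opens) (z : (piece Q O).obj.left.left) :
    (pieceHom Q O).hom.left.left z ∈ O :=
  Subtype.prop (z : ↥O)

/-- Unions of basic opens of an affine object are good when the basic opens are. -/
theorem good_basics (n : ℕ) : ∀ (Q : EtOver X.obj), IsAffine Q.obj.left.left →
    ∀ s : Finset Γ(Q.obj.left.left, ⊤), s.card ≤ n →
    (∀ g ∈ s, GoodOver K (piece Q (Q.obj.left.left.basicOpen g))) →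
    Good (inOpen Q (⋃ g ∈ s, (Q.obj.left.left.basicOpen g : Set Q.obj.left.left))) K := by
  classical
  induction n with
  | zero =>
    intro Q _ s hs _
    obtain rfl := Finset.card_eq_zero.1 (Nat.le_zero.1 hs)
    refine good_of_subsingleton fun Z v hv I => ?_
    have : IsEmpty Z.obj.left.left := ⟨fun z => by simpa using hv z⟩
    exact sect_subsingleton_of_isEmpty ((toAbEt X.obj).obj I) Z
  | succ n ih =>
    intro Q hQ s hs hgood
    rcases s.eq_empty_or_nonempty with rfl | ⟨g, hg⟩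
    · exact ih Q hQ ∅ (by simp) (by simp)
    let O := Q.obj.left.left.basicOpen g
    let Qg := piece Q O
    let ι : Qg ⟶ Q := pieceHom Q O
    have hQg : IsAffine Qg.obj.left.left := (isAffineOpen_top Q.obj.left.left).basicOpen g
    have hcard : (s.erase g).card ≤ n := by rw [Finset.card_erase_of_mem hg]; omega
    refine good_step_mono (DA := inOpen Q (⋃ h ∈ s.erase g, (Q.obj.left.left.basicOpen h : Set Q.obj.left.left)))
      (Q := Qg) ι ?_ ?_ ?_ ?_ (ih Q hQ (s.erase g) hcard fun h hh => hgood h (Finset.mem_of_mem_erase hh))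
      (hgood g hg Qg (𝟙 _) hQg) ?_
    · intro Z x hx z
      exact Set.biUnion_subset_biUnion_left (Finset.coe_subset.2 (Finset.erase_subset g s)) (hx z)
    · intro Z v z
      exact Set.mem_biUnion hg (pieceHom_mem O (v.hom.left.left z))
    · intro Z x hx
      refine exists_sieve_of_local _ (fun {Z' Z''} h k hk => hk.elim (fun h1 => Or.inl fun z => h1 (h.hom.left.left z))
        fun ⟨v, hv⟩ => Or.inr ⟨h ≫ v, by
          change (h ≫ v) ≫ ι = (h ≫ k) ≫ x
          rw [Category.assoc, Category.assoc]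
          exact congrArg (h ≫ ·) hv⟩) fun z => ?_
      obtain ⟨g', hg', hz⟩ := Set.mem_iUnion₂.1 (hx z)
      let O' : Z.obj.left.left.Opens := x.hom.left.left ⁻¹ᵁ Q.obj.left.left.basicOpen g'
      refine ⟨piece Z O', pieceHom Z O', ?_, mem_range_pieceHom O' hz⟩
      rcases eq_or_ne g' g with rfl | hne
      · exact Or.inr (exists_lift_piece O (pieceHom Z O' ≫ x) fun w => pieceHom_mem O' w)
      · exact Or.inl fun w => Set.mem_biUnion (Finset.mem_erase.2 ⟨hne, hg'⟩) (pieceHom_mem O' w)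
    · intro Z v v' e
      have : Mono ι := Bound.mono_of_isOpenImmersion ι (inferInstanceAs (IsOpenImmersion O.ι))
      obtain rfl := (cancel_mono ι).1 e
      exact ⟨⊤, (etTop X.obj).top_mem _, fun _ _ _ => Or.inr rfl⟩
    · let res : Γ(Q.obj.left.left, ⊤) → Γ(Qg.obj.left.left, ⊤) := fun h => ι.hom.left.left.appTop h
      have hb : ∀ h (t : Qg.obj.left.left),
          t ∈ Qg.obj.left.left.basicOpen (res h) ↔ ι.hom.left.left t ∈ Q.obj.left.left.basicOpen h := fun h t => by
        rw [← Scheme.preimage_basicOpen_top ι.hom.left.left h]; rfl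
      refine good_of_iff (D := inOpen Qg (⋃ h ∈ (s.erase g).image res,
        (Qg.obj.left.left.basicOpen h : Set Qg.obj.left.left))) (fun Z v => ?_)
        (ih Qg hQg _ (Finset.card_image_le.trans hcard) fun h hh => ?_)
      · change (∀ z, v.hom.left.left z ∈ _) ↔ ∀ z, ι.hom.left.left (v.hom.left.left z) ∈ _
        simp only [Set.mem_iUnion, Finset.mem_image, SetLike.mem_coe, exists_prop]
        refine forall_congr' fun z => ⟨?_, ?_⟩
        · rintro ⟨_, ⟨h, hh, rfl⟩, hz⟩
          exact ⟨h, hh, (hb h _).1 hz⟩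
        · rintro ⟨h, hh, hz⟩
          exact ⟨_, ⟨h, hh, rfl⟩, (hb h _).2 hz⟩
      · obtain ⟨h₀, hh₀, rfl⟩ := Finset.mem_image.1 hh
        obtain ⟨l, -⟩ := exists_lift_piece (Q.obj.left.left.basicOpen h₀) (pieceHom Qg _ ≫ ι) fun w =>
          (hb h₀ _).1 (pieceHom_mem _ w)
        exact (hgood h₀ (Finset.mem_of_mem_erase hh₀)).of_hom l

/-- An affine object covered by basic opens over which everything is good has the same property. -/
theorem goodOver_of_cover {Q : EtOver X.obj} [IsAffine Q.obj.left.left]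
    (h : ∀ z : Q.obj.left.left, ∃ g : Γ(Q.obj.left.left, ⊤), z ∈ Q.obj.left.left.basicOpen g ∧
      GoodOver K (piece Q (Q.obj.left.left.basicOpen g))) : GoodOver K Q := by
  classical
  choose g hg hgood using h
  intro Q' φ hQ'
  obtain ⟨t, ht⟩ := isCompact_univ.elim_finite_subcover
    (fun z : Q'.obj.left.left => (Q'.obj.left.left.basicOpen (φ.hom.left.left.appTop (g (φ.hom.left.left z))) : Set _))
    (fun z => (Q'.obj.left.left.basicOpen _).isOpen) fun z _ => Set.mem_iUnion_of_mem (s := fun z =>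
      (Q'.obj.left.left.basicOpen (φ.hom.left.left.appTop (g (φ.hom.left.left z))) : Set Q'.obj.left.left)) z (by
      change z ∈ Q'.obj.left.left.basicOpen (φ.hom.left.left.appTop (g (φ.hom.left.left z)))
      rw [← Scheme.preimage_basicOpen_top]; exact hg _)
  refine good_of_iff (fun Z v => ⟨fun _ => trivial, fun _ z => ?_⟩) (good_basics (K := K) _ Q' hQ'
    (t.image fun z => φ.hom.left.left.appTop (g (φ.hom.left.left z))) le_rfl fun h hh => ?_)
  · rw [Finset.set_biUnion_finset_image]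
    exact ht (Set.mem_univ _)
  · obtain ⟨z, -, rfl⟩ := Finset.mem_image.1 hh
    obtain ⟨l, -⟩ := exists_lift_piece (Q.obj.left.left.basicOpen (g (φ.hom.left.left z))) (pieceHom Q' _ ≫ φ)
      fun w => by
        have h1 := pieceHom_mem (Q'.obj.left.left.basicOpen (φ.hom.left.left.appTop (g (φ.hom.left.left z)))) w
        exact (Scheme.preimage_basicOpen_top φ.hom.left.left (g (φ.hom.left.left z))).ge h1
    exact (hgood _).of_hom l

/-- A quasi-compact open of an affine object over which everything is good is good. -/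
theorem good_compact {Q : EtOver X.obj} [IsAffine Q.obj.left.left] (h : GoodOver K Q) (O : Q.obj.left.left.Opens)
    (hO : IsCompact (O : Set Q.obj.left.left)) : Good (inOpen Q (O : Set Q.obj.left.left)) K := by
  classical
  obtain ⟨s, hs⟩ := exists_finset_basicOpen O hO
  rw [← hs]
  exact good_basics _ Q ‹_› s le_rfl fun g _ => h.of_hom (pieceHom Q _)

end Groth.Agent.AlgSpEN.FamHom
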