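import Groth.Agent.AlgSpEN.FamHom
import Groth.Agent.AlgSpEN.PushIntegral
import Mathlib.Algebra.Homology.HomotopyCategory

/-!
# Gluing null homotopies of cochains of families
-/

set_option autoImplicit false
universe w w' u

open CategoryTheory CategoryTheory.Limits AlgebraicGeometry Opposite

set_option backward.isDefEq.respectTransparency false
set_option backward.isDefEq.respectTransparency.types false

set_option maxHeartbeats 1000000
noncomputable section

namespace Groth.Agent.AlgSpEN.FamHom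

open _root_.AlgSp Groth.Agent.AlgSpQC

variable {S : Scheme.{u}} {X : AlgSp.Sp S} {Φ : (EtOver X)ᵒᵖ ⥤ Type w} (D : Dom Φ)
  (K J : CochainComplex (ModEt X) ℤ)

/-- Cochains of families; only the components of the degree in question matter. -/
abbrev Coch : Type _ := ∀ p q : ℤ, Fam D (K.X p) (J.X q)

variable {D K J}

/-- The differential, into degree `n`. -/
def del (n : ℤ) (h : Coch D K J) : Coch D K J := fun p q =>
  post (J.d (q - 1) q) (h p (q - 1)) + n.negOnePow • pre (K.d p (p + 1)) (h (p + 1) q)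

/-- Cocycles of degree `n`. -/
def IsCocycle (n : ℤ) (φ : Coch D K J) : Prop := ∀ p q, q = p + n + 1 → del (n + 1) φ p q = 0

/-- Coboundaries of degree `n`. -/
def IsBdry (n : ℤ) (φ : Coch D K J) : Prop := ∃ h : Coch D K J, ∀ p q, q = p + n → φ p q = del n h p q

theorem del_sub (n : ℤ) (h h' : Coch D K J) (p q : ℤ) : del n (h - h') p q = del n h p q - del n h' p q := by
  simp only [del, Pi.sub_apply, map_sub, smul_sub]
  abel

theorem del_add (n : ℤ) (h h' : Coch D K J) (p q : ℤ) : del n (h + h') p q = del n h p q + del n h' p q := by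
  simp only [del, Pi.add_apply, map_add, smul_add]
  abel

theorem del_del_aux {G₁ G₂ G₃ I₁ I₂ I₃ : ModEt X} (a : G₁ ⟶ G₂) (a' : G₂ ⟶ G₃) (b : I₁ ⟶ I₂) (b' : I₂ ⟶ I₃)
    (ha : a ≫ a' = 0) (hb : b ≫ b' = 0) (x : Fam D G₁ I₁) (y : Fam D G₂ I₂) (z : Fam D G₃ I₃) (s t : ℤ)
    (hst : t + s = 0) : post b' (post b x + t • pre a y) + s • pre a (post b' y + t • pre a' z) = 0 := by
  rw [map_add, map_add, map_zsmul, map_zsmul, post_post, hb, post_zero, pre_pre, ha, pre_zero, smul_zero, add_zero,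
    zero_add, post_pre, ← add_smul, hst, zero_smul]

theorem del_del (n : ℤ) (h : Coch D K J) (p q : ℤ) : del n (del (n - 1) h) p q = 0 :=
  del_del_aux (K.d p (p + 1)) (K.d (p + 1) (p + 1 + 1)) (J.d (q - 1 - 1) (q - 1)) (J.d (q - 1) q)
    (K.d_comp_d _ _ _) (J.d_comp_d _ _ _) (h p (q - 1 - 1)) (h (p + 1) (q - 1)) (h (p + 1 + 1) q)
    (n.negOnePow : ℤˣ) ((n - 1).negOnePow : ℤˣ) (by rw [Int.negOnePow_sub, Int.negOnePow_one]; simp)

variable {Φ' : (EtOver X)ᵒᵖ ⥤ Type w'} {D' : Dom Φ'}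

/-- An operation on families applied to each component. -/
def mapCoch (T : ∀ G I : ModEt X, Fam D G I →+ Fam D' G I) (h : Coch D K J) : Coch D' K J :=
  fun p q => T _ _ (h p q)

theorem mapCoch_del (T : ∀ G I : ModEt X, Fam D G I →+ Fam D' G I)
    (hpo : ∀ G I I' (b : I ⟶ I') (h : Fam D G I), T G I' (post b h) = post b (T G I h))
    (hpr : ∀ G G' I (a : G' ⟶ G) (h : Fam D G I), T G' I (pre a h) = pre a (T G I h))
    (n : ℤ) (h : Coch D K J) (p q : ℤ) :
    del n (mapCoch T h) p q = T _ _ (del n h p q) := by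
  simp only [del, mapCoch, map_add, Units.smul_def, map_zsmul, hpo, hpr]

section Glue

variable {Q : EtOver X} (π : Φ.obj (op Q)) {ι : Type} [Fintype ι] (φ : ι → (Q ⟶ Q)) {DA : Dom Φ}
  (hle : ∀ Z x, DA.ok Z x → D.ok Z x) (hok : ∀ (Z : EtOver X) (v : Z ⟶ Q), D.ok Z (Φ.map v.op π))
  (hcov : ∀ Z (x : Φ.obj (op Z)), D.ok Z x → ∃ R ∈ etTop X Z, ∀ (Z' : EtOver X) (g : Z' ⟶ Z), R g →
    DA.ok Z' (Φ.map g.op x) ∨ ∃ v : Z' ⟶ Q, Φ.map v.op π = Φ.map g.op x)
  (hinj : ∀ (Z : EtOver X) (v v' : Z ⟶ Q), Φ.map v.op π = Φ.map v'.op π →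
    ∃ R ∈ etTop X Z, ∀ (Z' : EtOver X) (g : Z' ⟶ Z), R g →
      DA.ok Z' (Φ.map (g ≫ v).op π) ∨ ∃ s, g ≫ v' = (g ≫ v) ≫ φ s)
  {G I : ModEt X}

/-- Invariance on the whole representable domain. -/
abbrev InvTop (h : Fam (Dom.top (yoneda.obj Q)) G I) : Prop :=
  Invariant φ (fun _ _ _ _ => trivial) h

include hcov hok in
theorem fam_ext_glue {h h' : Fam D G I} (eA : restr hle h = restr hle h')
    (eQ : pullSec π (Dom.top _) (fun Z v _ => hok Z v) h = pullSec π (Dom.top _) (fun Z v _ => hok Z v) h') :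
    h = h' := by
  refine fam_ext fun Z x hx m => ?_
  obtain ⟨R, hR, hg⟩ := hcov Z x hx
  refine eq_of_sieve hR fun Z' g h1 => ?_
  refine (h.2 Z Z' g x hx m).trans (Eq.trans ?_ (h'.2 Z Z' g x hx m).symm)
  rcases hg Z' g h1 with hA | ⟨v, hv⟩
  · exact congrArg (fun k : Fam DA G I => ap k Z' _ hA (rs G g m)) eA
  · refine (app_congr h hv.symm _ (hok Z' v) _).trans (Eq.trans ?_ (app_congr h' hv (hok Z' v) _ _))
    exact congrArg (fun k : Fam (Dom.top (yoneda.obj Q)) G I => ap k Z' v trivial (rs G g m)) eQ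

include hcov hinj in
open Classical in
theorem exists_glue (hA : Fam DA G I) (hQ : Fam (Dom.top (yoneda.obj Q)) G I) (hi : InvTop φ hQ)
    (hagree : pullSec π (DA.pullBack π) (fun _ _ h => h) hA = restr (fun _ _ _ => trivial) hQ) :
    ∃ h : Fam D G I, restr hle h = hA ∧ pullSec π (Dom.top _) (fun Z v _ => hok Z v) h = hQ := by
  let val : ∀ (Z : EtOver X) (x : Φ.obj (op Z)), (DA.ok Z x ∨ ∃ v : Z ⟶ Q, Φ.map v.op π = x) →
      (sectModEt G Z →ₗ[gr Z] sectModEt I Z) := fun Z x h =>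
    if hZ : DA.ok Z x then ap hA Z x hZ else ap hQ Z (h.resolve_left hZ).choose trivial
  have agr : ∀ (Z : EtOver X) (v : Z ⟶ Q) (hv : DA.ok Z (Φ.map v.op π)) (m : sectModEt G Z),
      ap hA Z (Φ.map v.op π) hv m = ap hQ Z v trivial m := fun Z v hv m =>
    congrArg (fun k : Fam (DA.pullBack π) G I => ap k Z v hv m) hagree
  have valA : ∀ (Z : EtOver X) x h (hZ : DA.ok Z x), val Z x h = ap hA Z x hZ := fun Z x h hZ => dif_pos hZ
  have valQ : ∀ (Z : EtOver X) (v : Z ⟶ Q) x h (m : sectModEt G Z), Φ.map v.op π = x →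
      val Z x h m = ap hQ Z v trivial m := by
    intro Z v x h m hv
    subst hv
    by_cases hZ : DA.ok Z (Φ.map v.op π)
    · rw [valA _ _ h hZ, agr]
    · simp only [val, dif_neg hZ]
      obtain ⟨R, hR, hg⟩ := hinj Z v (h.resolve_left hZ).choose (h.resolve_left hZ).choose_spec.symm
      refine eq_of_sieve hR fun Z' g h1 => ?_
      refine (hQ.2 Z Z' g _ trivial m).trans (Eq.trans ?_ (hQ.2 Z Z' g v trivial m).symm)
      change ap hQ Z' (g ≫ _) trivial (rs G g m) = ap hQ Z' (g ≫ v) trivial (rs G g m)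
      rcases hg Z' g h1 with h2 | ⟨s, hs⟩
      · rw [← agr Z' (g ≫ v) h2]
        have e : Φ.map (g ≫ (h.resolve_left hZ).choose).op π = Φ.map (g ≫ v).op π := by
          rw [op_comp, op_comp, Functor.map_comp, Functor.map_comp]
          exact congrArg (Φ.map g.op) (h.resolve_left hZ).choose_spec
        rw [← agr Z' (g ≫ _) (by rw [e]; exact h2)]
        exact app_congr hA e _ _ _
      · exact (app_congr hQ hs _ trivial _).trans (hi s Z' (g ≫ v) trivial _)
  have vnat : ∀ (Z Z' : EtOver X) (g : Z' ⟶ Z) x h x' h' (m : sectModEt G Z), Φ.map g.op x = x' →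
      rs I g (val Z x h m) = val Z' x' h' (rs G g m) := by
    intro Z Z' g x h x' h' m hx
    subst hx
    by_cases hZ : DA.ok Z x
    · rw [valA _ _ h hZ, valA _ _ h' (DA.stable g x hZ)]
      exact hA.2 Z Z' g x hZ m
    · obtain ⟨v, rfl⟩ := h.resolve_left hZ
      rw [valQ Z v _ h m rfl, valQ Z' (g ≫ v) _ h' _ (by rw [op_comp, Functor.map_comp]; rfl)]
      exact hQ.2 Z Z' g v trivial m
  have key : ∀ (Z : EtOver X) (x : Φ.obj (op Z)) (_ : D.ok Z x) (m : sectModEt G Z), ∃ s : sectModEt I Z,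
      ∀ (Z' : EtOver X) (g : Z' ⟶ Z) (h : DA.ok Z' (Φ.map g.op x) ∨ ∃ v : Z' ⟶ Q, Φ.map v.op π = Φ.map g.op x),
        rs I g s = val Z' _ h (rs G g m) := by
    intro Z x hx m
    obtain ⟨R, hR, hg⟩ := hcov Z x hx
    obtain ⟨s, hs, -⟩ := PushIntegral.isSheaf_forget ((toAbEt X).obj I) R hR
      (fun Z' g h => (val Z' _ (hg Z' g h) (rs G g m) : sectModEt I Z'))
      fun Z₁ Z₂ W g₁ g₂ f₁ f₂ h₁ h₂ hc => by
        change rs I g₁ (val Z₁ _ (hg Z₁ f₁ h₁) (rs G f₁ m)) = rs I g₂ (val Z₂ _ (hg Z₂ f₂ h₂) (rs G f₂ m))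
        refine (vnat Z₁ W g₁ _ (hg Z₁ f₁ h₁) _ (hg W (g₁ ≫ f₁) (R.downward_closed h₁ g₁)) _
          (by rw [op_comp, Functor.map_comp]; rfl)).trans (Eq.trans ?_ (vnat Z₂ W g₂ _ (hg Z₂ f₂ h₂) _
          (hg W (g₁ ≫ f₁) (R.downward_closed h₁ g₁)) _ (by rw [hc, op_comp, Functor.map_comp]; rfl)).symm)
        rw [← rs_comp, ← rs_comp]
        exact congrArg _ (congrArg (fun k => rs G k m) hc)
    refine ⟨s, fun Z' g h => ?_⟩
    refine eq_of_sieve ((etTop X).pullback_stable g hR) fun W k hk => ?_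
    refine (rs_comp g k s).symm.trans ((hs (k ≫ g) hk).trans ?_)
    refine Eq.trans ?_ (vnat Z' W k _ h _ (hg W (k ≫ g) hk) _ (by rw [op_comp, Functor.map_comp]; rfl)).symm
    rw [← rs_comp]
  choose s hs using key
  have suniq : ∀ Z x hx m (t : sectModEt I Z),
      (∀ (Z' : EtOver X) (g : Z' ⟶ Z) h, rs I g t = val Z' (Φ.map g.op x) h (rs G g m)) → s Z x hx m = t :=
    fun Z x hx m t ht => (hcov Z x hx).elim fun R hR => eq_of_sieve hR.1 fun Z' g h =>
      (hs Z x hx m Z' g (hR.2 Z' g h)).trans (ht Z' g (hR.2 Z' g h)).symm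
  let h : Fam D G I := ⟨fun Z x =>
    { toFun := s Z x.1 x.2
      map_add' := fun a b => suniq _ _ _ _ _ fun Z' g hg => by
        rw [map_add, hs Z x.1 x.2 a Z' g hg, hs Z x.1 x.2 b Z' g hg, map_add, map_add]
      map_smul' := fun c a => suniq _ _ _ _ _ fun Z' g hg => by
        rw [RingHom.id_apply, rs_smul, hs Z x.1 x.2 a Z' g hg, rs_smul, map_smul] },
    fun Z Z' g x hx m => (suniq Z' _ _ _ _ fun W k hW => by
      have e : Φ.map k.op (Φ.map g.op x) = Φ.map (k ≫ g).op x := by rw [op_comp, Functor.map_comp]; rfl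
      change rs I k (rs I g (s Z x hx m)) = _
      rw [← rs_comp, hs Z x hx m W (k ≫ g) (e ▸ hW), rs_comp]
      have cong : ∀ {x₁ x₂ : Φ.obj (op W)} (_ : x₁ = x₂) (a₁ a₂) (m' : sectModEt G W),
          val W x₁ a₁ m' = val W x₂ a₂ m' := fun e a₁ a₂ m' => by subst e; rfl
      exact cong e.symm (e ▸ hW) hW _).symm⟩
  refine ⟨h, fam_ext fun Z x hx m => suniq Z x _ m _ fun Z' g hg => ?_,
    fam_ext fun Z v _ m => suniq Z _ _ m _ fun Z' g hg => ?_⟩
  · rw [valA _ _ hg (DA.stable g x hx)]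
    exact hA.2 Z Z' g x hx m
  · rw [valQ Z' (g ≫ v) _ hg _ (by rw [op_comp, Functor.map_comp]; rfl)]
    exact hQ.2 Z Z' g v trivial m

end Glue

end Groth.Agent.AlgSpEN.FamHom
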