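import Groth.Agent.AlgSpEN.FamGlue

/-!
# Domains over which high cocycles of families are coboundaries, and the gluing step
-/

set_option autoImplicit false
universe w w' u

open CategoryTheory CategoryTheory.Limits AlgebraicGeometry Opposite

set_option backward.isDefEq.respectTransparency false
set_option backward.isDefEq.respectTransparency.types false
set_option maxHeartbeats 1000000

noncomputable section

namespace Groth.Agent.AlgSpEN.FamHom

open _root_.AlgSp Groth.Agent.AlgSpQC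

variable {S : Scheme.{u}} {X : AlgSp.Sp S}

/-- Complexes of injectives in degrees `≥ 0` with exact sections over affine objects in positive degrees. -/
structure IsRes (J : CochainComplex (ModEt X) ℤ) : Prop where
  inj : ∀ i, Injective (J.X i)
  zero : ∀ i : ℤ, i < 0 → IsZero (J.X i)
  exact : ∀ i : ℤ, 0 < i → ∀ (A : EtOver X), IsAffine A.obj.left.left → ∀ s : sectModEt (J.X i) A,
    hs (J.d i (i + 1)) A s = 0 → ∃ t : sectModEt (J.X (i - 1)) A, hs (J.d (i - 1) i) A t = s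

/-- High cocycles of families over the domain with values in such complexes are coboundaries. -/
def Good {Φ : (EtOver X)ᵒᵖ ⥤ Type w} (D : Dom Φ) (K : CochainComplex (ModEt X) ℤ) : Prop :=
  ∃ c : ℤ, 0 ≤ c ∧ ∀ (J : CochainComplex (ModEt X) ℤ), IsRes J → ∀ n, c < n → ∀ φ : Coch D K J,
    IsCocycle n φ → IsBdry n φ

variable {Φ : (EtOver X)ᵒᵖ ⥤ Type w} {D : Dom Φ} {K : CochainComplex (ModEt X) ℤ}

theorem isCocycle_map {Φ' : (EtOver X)ᵒᵖ ⥤ Type w'} {D' : Dom Φ'} {J : CochainComplex (ModEt X) ℤ}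
    (T : ∀ G I : ModEt X, Fam D G I →+ Fam D' G I)
    (hpo : ∀ G I I' (b : I ⟶ I') (h : Fam D G I), T G I' (post b h) = post b (T G I h))
    (hpr : ∀ G G' I (a : G' ⟶ G) (h : Fam D G I), T G' I (pre a h) = pre a (T G I h))
    {n : ℤ} {φ : Coch D K J} (hφ : IsCocycle n φ) : IsCocycle n (mapCoch T φ) := fun p q h => by
  rw [mapCoch_del T hpo hpr, hφ p q h, map_zero]

/-- A domain whose sections live over empty objects is good. -/
theorem good_of_subsingleton (h : ∀ (Z : EtOver X) (x : Φ.obj (op Z)), D.ok Z x →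
    ∀ (I : ModEt X), Subsingleton (sectModEt I Z)) : Good D K :=
  ⟨0, le_rfl, fun J _ n _ φ _ => ⟨0, fun p q _ => fam_ext fun Z x hx m => @Subsingleton.elim _ (h Z x hx _) _ _⟩⟩

/-- The gluing step. -/
theorem good_step {Q : EtOver X} (π : Φ.obj (op Q)) {DA : Dom Φ} (hle : ∀ Z x, DA.ok Z x → D.ok Z x)
    (hok : ∀ (Z : EtOver X) (v : Z ⟶ Q), D.ok Z (Φ.map v.op π))
    {ι : Type} [Fintype ι] (φ : ι → (Q ⟶ Q)) (e : gr Q) (hπ : ∀ s, Φ.map (φ s).op π = π)
    (hperm : ∀ s, ∃ τ : ι ≃ ι, ∀ t, φ s ≫ φ t = φ (τ t)) (hone : ∑ t, gm (φ t) e = 1)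
    (hcov : ∀ Z (x : Φ.obj (op Z)), D.ok Z x → ∃ R ∈ etTop X Z, ∀ (Z' : EtOver X) (g : Z' ⟶ Z), R g →
      DA.ok Z' (Φ.map g.op x) ∨ ∃ v : Z' ⟶ Q, Φ.map v.op π = Φ.map g.op x)
    (hinj : ∀ (Z : EtOver X) (v v' : Z ⟶ Q), Φ.map v.op π = Φ.map v'.op π →
      ∃ R ∈ etTop X Z, ∀ (Z' : EtOver X) (g : Z' ⟶ Z), R g →
        DA.ok Z' (Φ.map (g ≫ v).op π) ∨ ∃ s, g ≫ v' = (g ≫ v) ≫ φ s)
    (gA : Good DA K) (gQ : Good (Dom.top (yoneda.obj Q)) K) (gW : Good (DA.pullBack π) K) : Good D K := by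
  obtain ⟨cA, hcA, gA⟩ := gA
  obtain ⟨cQ, hcQ, gQ⟩ := gQ
  obtain ⟨cW, hcW, gW⟩ := gW
  refine ⟨max cA (max cQ (cW + 1)), by omega, fun J hJ n hn ψ hψ => ?_⟩
  have hst : StableUnder φ (DA.pullBack π) := fun s Z v hv => by
    change DA.ok Z (Φ.map (v ≫ φ s).op π)
    rw [op_comp, Functor.map_comp]
    change DA.ok Z (Φ.map v.op (Φ.map (φ s).op π))
    rw [hπ]
    exact hv
  have hst' : StableUnder φ (Dom.top (yoneda.obj Q)) := fun _ _ _ _ => trivial
  -- the three restrictions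
  let rA : ∀ G I, Fam D G I →+ Fam DA G I := fun G I => restr hle
  let rQ : ∀ G I, Fam D G I →+ Fam (Dom.top (yoneda.obj Q)) G I := fun G I => pullSec π _ fun Z v _ => hok Z v
  let rAW : ∀ G I, Fam DA G I →+ Fam (DA.pullBack π) G I := fun G I => pullSec π _ fun _ _ h => h
  let rQW : ∀ G I, Fam (Dom.top (yoneda.obj Q)) G I →+ Fam (DA.pullBack π) G I := fun G I =>
    restr fun _ _ _ => trivial
  let aQ : ∀ G I, Fam (Dom.top (yoneda.obj Q)) G I →+ Fam (Dom.top (yoneda.obj Q)) G I := fun G I => avg φ e hst'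
  let aW : ∀ G I, Fam (DA.pullBack π) G I →+ Fam (DA.pullBack π) G I := fun G I => avg φ e hst
  have haQ : ∀ G I, ∀ h : Fam (Dom.top (yoneda.obj Q)) G I, Invariant φ hst' (aQ G I h) :=
    fun G I h => invariant_avg φ e hst' hperm h
  have invA : ∀ G I, ∀ h : Fam DA G I, Invariant φ hst (rAW G I h) := fun G I h s Z v hv m =>
    app_congr h (by
      rw [op_comp, Functor.map_comp]
      exact congrArg (Φ.map v.op) (hπ s)) _ _ _
  have invQ : ∀ G I, ∀ h : Fam D G I, Invariant φ hst' (rQ G I h) := fun G I h s Z v hv m =>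
    app_congr h (by
      rw [op_comp, Functor.map_comp]
      exact congrArg (Φ.map v.op) (hπ s)) _ _ _
  have invQW : ∀ G I, ∀ h : Fam (Dom.top (yoneda.obj Q)) G I, Invariant φ hst' h →
      Invariant φ hst (rQW G I h) := fun G I h hh s Z v hv m => hh s Z v trivial m
  obtain ⟨hA, hhA⟩ := gA J hJ n (by omega) (mapCoch rA ψ)
    (isCocycle_map rA (fun _ _ _ _ _ => rfl) (fun _ _ _ _ _ => rfl) hψ)
  obtain ⟨hQ₀, hhQ₀⟩ := gQ J hJ n (by omega) (mapCoch rQ ψ)
    (isCocycle_map rQ (fun _ _ _ _ _ => rfl) (fun _ _ _ _ _ => rfl) hψ)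
  let hQ : Coch (Dom.top (yoneda.obj Q)) K J := mapCoch aQ hQ₀
  have hhQ : ∀ p q, q = p + n → rQ _ _ (ψ p q) = del n hQ p q := fun p q h => by
    refine Eq.trans ?_ (mapCoch_del aQ (fun _ _ _ b x => (post_avg φ e hst' b x).symm)
      (fun _ _ _ a x => (pre_avg φ e hst' a x).symm) n hQ₀ p q).symm
    rw [← hhQ₀ p q h]
    exact (avg_of_invariant φ e hst' hone (invQ _ _ (ψ p q))).symm
  let d : Coch (DA.pullBack π) K J := mapCoch rAW hA - mapCoch rQW hQ
  have hd : IsCocycle (n - 1) d := fun p q h => by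
    have hq : q = p + n := by omega
    rw [sub_add_cancel, del_sub, mapCoch_del rAW (fun _ _ _ _ _ => rfl) (fun _ _ _ _ _ => rfl),
      mapCoch_del rQW (fun _ _ _ _ _ => rfl) (fun _ _ _ _ _ => rfl), ← hhA p q hq, ← hhQ p q hq, sub_eq_zero]
    rfl
  obtain ⟨σ, hσ⟩ := gW J hJ (n - 1) (by omega) d hd
  choose σ' hσ' using fun p q : ℤ => have := hJ.inj q; exists_extend (DA.pullBack π) (aW _ _ (σ p q))
  let τ : Coch (Dom.top (yoneda.obj Q)) K J := fun p q => aQ _ _ (σ' p q)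
  have hτ : mapCoch rQW τ = mapCoch aW σ := funext fun p => funext fun q => by
    change rQW _ _ (avg φ e hst' (σ' p q)) = avg φ e hst (σ p q)
    refine (restr_avg φ e hst' _ hst (σ' p q)).trans ?_
    rw [hσ']
    exact avg_of_invariant φ e hst hone (invariant_avg φ e hst hperm _)
  let hQ' : Coch (Dom.top (yoneda.obj Q)) K J := hQ + del (n - 1) τ
  have key : ∀ p q, q = p + (n - 1) → rAW _ _ (hA p q) = rQW _ _ (hQ' p q) := fun p q h => by
    have e1 : rQW _ _ (del (n - 1) τ p q) = del (n - 1) (mapCoch aW σ) p q := by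
      rw [← hτ, mapCoch_del rQW (fun _ _ _ _ _ => rfl) (fun _ _ _ _ _ => rfl)]
    change _ = rQW _ _ (hQ p q + del (n - 1) τ p q)
    rw [map_add, e1, mapCoch_del aW (fun _ _ _ b x => (post_avg φ e hst b x).symm)
      (fun _ _ _ a x => (pre_avg φ e hst a x).symm), ← hσ p q h]
    change rAW _ _ (hA p q) = rQW _ _ (hQ p q) + avg φ e hst (rAW _ _ (hA p q) - rQW _ _ (hQ p q))
    rw [map_sub, avg_of_invariant φ e hst hone (invA _ _ _),
      avg_of_invariant φ e hst hone (h := rQW _ _ (hQ p q)) (invQW _ _ _ (haQ _ _ (hQ₀ p q))), add_sub_cancel]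
  have hQ'inv : ∀ p q, Invariant φ hst' (hQ' p q) := fun p q s Z v hv m => by
    have e1 : hQ' p q = aQ _ _ (hQ₀ p q + del (n - 1) σ' p q) := by
      change aQ _ _ (hQ₀ p q) + del (n - 1) τ p q = _
      rw [map_add, ← mapCoch_del aQ (fun _ _ _ b x => (post_avg φ e hst' b x).symm)
        (fun _ _ _ a x => (pre_avg φ e hst' a x).symm)]
      rfl
    rw [e1]
    exact haQ _ _ _ s Z v hv m
  have glue : ∀ p q, q = p + (n - 1) → ∃ g : Fam D (K.X p) (J.X q), rA _ _ g = hA p q ∧ rQ _ _ g = hQ' p q :=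
    fun p q h => exists_glue π φ hle hok hcov hinj (hA p q) (hQ' p q) (hQ'inv p q) (key p q h)
  choose g hgA hgQ using glue
  let h : Coch D K J := fun p q => if hpq : q = p + (n - 1) then g p q hpq else 0
  refine ⟨h, fun p q hpq => ?_⟩
  have eA : ∀ p q, q = p + (n - 1) → mapCoch rA h p q = hA p q := fun p q e' => by
    change rA _ _ (if hpq : q = p + (n - 1) then g p q hpq else 0) = _
    rw [dif_pos e', hgA]
  have eQ : ∀ p q, q = p + (n - 1) → mapCoch rQ h p q = hQ' p q := fun p q e' => by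
    change rQ _ _ (if hpq : q = p + (n - 1) then g p q hpq else 0) = _
    rw [dif_pos e', hgQ]
  refine fam_ext_glue π hle hok hcov ?_ ?_
  · change rA _ _ (ψ p q) = rA _ _ (del n h p q)
    rw [← mapCoch_del rA (fun _ _ _ _ _ => rfl) (fun _ _ _ _ _ => rfl)]
    refine (hhA p q hpq).trans ?_
    simp only [del]
    rw [eA p (q - 1) (by omega), eA (p + 1) q (by omega)]
  · change rQ _ _ (ψ p q) = rQ _ _ (del n h p q)
    rw [← mapCoch_del rQ (fun _ _ _ _ _ => rfl) (fun _ _ _ _ _ => rfl)]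
    refine (hhQ p q hpq).trans ?_
    have e1 : del n hQ p q = del n hQ' p q := by
      rw [del_add, del_del, add_zero]
    rw [e1]
    simp only [del]
    rw [eQ p (q - 1) (by omega), eQ (p + 1) q (by omega)]

end Groth.Agent.AlgSpEN.FamHom
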