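import Groth.Agent.AlgSpEN.AffAcyclic
import Groth.Agent.AlgSpEN.AmitsurQC
import Groth.Agent.KFlat.DerivedLimit
import Groth.Agent.KFlat.QCohAcy
import Groth.Agent.AlgSpQC.EnoughInj
import Groth.Prelude.Def_AlgSpD
import Mathlib.Algebra.Category.ModuleCat.Presheaf.Free

/-!
# Free modules on affine objects of the small etale site have no higher `Ext` into quasi-coherent modules
-/

set_option autoImplicit false
universe u

open CategoryTheory CategoryTheory.Limits AlgebraicGeometry Opposite

set_option backward.isDefEq.respectTransparency false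
set_option backward.isDefEq.respectTransparency.types false
set_option maxHeartbeats 400000
attribute [local instance] HasDerivedCategory.standard

noncomputable section

namespace Groth.Agent.AlgSpEN.FreeAcy

open _root_.AlgSp Groth.Agent.AdeqAmitsur Groth.Agent.AlgSpEN.Amitsur
open Groth.Agent.AlgSpQC (exists_affine_sieve)

variable {S : Scheme.{u}} {X : Sp S}

/-- The free presheaf of modules on the maps into an object. -/
abbrev freeP (A : EtOver X) : PresheafOfModules.{u + 1} (OEtRing X).obj :=
  (PresheafOfModules.free (OEtRing X).obj).obj (uliftYoneda.{u + 1}.obj A)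

/-- A generator. -/
abbrev genM {A W : EtOver X} (g : W ⟶ A) : (freeP A).obj (op W) := ModuleCat.freeMk (ULift.up g)

/-- The morphism classifying a section. -/
def classifyM (M : PresheafOfModules.{u + 1} (OEtRing X).obj) {A : EtOver X} (c : M.obj (op A)) : freeP A ⟶ M :=
  PresheafOfModules.freeObjDesc (uliftYonedaEquiv.symm c)

theorem classifyM_gen (M : PresheafOfModules.{u + 1} (OEtRing X).obj) {A W : EtOver X} (c : M.obj (op A))
    (g : W ⟶ A) : ((classifyM M c).app (op W)).hom (genM g) = M.map g.op c :=
  ModuleCat.freeDesc_apply _ _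

variable {E : EtOver X} (U : Over E)

/-- The boundary on free presheaves of modules. -/
def bdM (m : ℕ) : freeP (O U (m + 1)).left ⟶ freeP (O U m).left :=
  ∑ i : Fin (m + 1), ((-1 : ℤ) ^ (i : ℕ)) •
    (PresheafOfModules.free (OEtRing X).obj).map (uliftYoneda.{u + 1}.map (face U m i).left)

theorem bdM_gen (m : ℕ) {W : EtOver X} (g : W ⟶ (O U (m + 1)).left) :
    ((bdM U m).app (op W)).hom (genM g) =
      ∑ i : Fin (m + 1), ((-1 : ℤ) ^ (i : ℕ)) • genM (g ≫ (face U m i).left) := by
  let ev := PresheafOfModules.evaluation (OEtRing X).obj (op W)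
  have e : (bdM U m).app (op W) = ∑ i : Fin (m + 1), ((-1 : ℤ) ^ (i : ℕ)) •
      ((PresheafOfModules.free (OEtRing X).obj).map (uliftYoneda.{u + 1}.map (face U m i).left)).app (op W) := by
    change ev.map (bdM U m) = _
    simp only [bdM, Functor.map_sum, Functor.map_zsmul]
    rfl
  rw [e, ModuleCat.hom_sum, LinearMap.sum_apply]
  refine Finset.sum_congr rfl fun i _ => ?_
  rw [ModuleCat.hom_zsmul, LinearMap.smul_apply]
  exact congrArg _ (ModuleCat.free_map_apply _ _)

variable {U} (F : ModEt X)

theorem comp_eq_zero_of_bdM {m : ℕ} (c : (secPre E F.val.presheaf).obj (op (O U (m + 1))))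
    (hc : D U (secPre E F.val.presheaf) (m + 1) c = 0) (hU : Surjective (str U)) {W : EtOver X}
    (x : (freeP (O U (m + 1)).left).obj (op W)) (hx : ((bdM U m).app (op W)).hom x = 0) :
    ((classifyM F.val (A := (O U (m + 1)).left) c).app (op W)).hom x = 0 := by
  classical
  let Lift : ∀ {Z : EtOver X}, (Z ⟶ E) → Prop := fun σ => ∃ v : _ ⟶ U.left, v ≫ U.hom = σ
  let ψ : ∀ Z : EtOver X, (freeP (O U m).left).obj (op Z) ⟶ F.val.obj (op Z) := fun Z =>
    ModuleCat.freeDesc (↾fun g =>
      if h : Lift (g.down ≫ (O U m).hom) then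
        (F.val.presheaf.map (Pi.lift (f := fun _ : Fin (m + 1) => U)
          (Fin.cases (Over.homMk (U := Over.mk (g.down ≫ (O U m).hom)) h.choose h.choose_spec)
            fun j => Over.homMk g.down rfl ≫ π U j)).left.op).hom c
      else 0)
  have key : ∀ (Z : EtOver X) (g : Z ⟶ (O U (m + 1)).left), Lift (g ≫ (O U (m + 1)).hom) →
      ((classifyM F.val (A := (O U (m + 1)).left) c).app (op Z)).hom (genM g) =
        (ψ Z).hom (((bdM U m).app (op Z)).hom (genM g)) := by
    intro Z g hg
    let σ := g ≫ (O U (m + 1)).hom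
    let T : Over E := Over.mk σ
    let v : T ⟶ U := Over.homMk hg.choose hg.choose_spec
    let g' : T ⟶ O U (m + 1) := Over.homMk g rfl
    let k : T ⟶ O U (m + 2) := Pi.lift (Fin.cases v fun j => g' ≫ π U j)
    have h0 : k ≫ face U (m + 1) 0 = g' := by
      refine Pi.hom_ext _ _ fun j => ?_
      simp [k, face]
    have hcomp : ∀ i : Fin (m + 1), (g ≫ (face U m i).left) ≫ (O U m).hom = σ := fun i => by
      rw [Category.assoc, Over.w]
    have hs : ∀ i : Fin (m + 1), (ψ Z).hom (genM (g ≫ (face U m i).left)) =
        (F.val.presheaf.map (k ≫ face U (m + 1) i.succ).left.op).hom c := fun i => by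
      have hl : Lift ((g ≫ (face U m i).left) ≫ (O U m).hom) := by rw [hcomp]; exact hg
      refine (ModuleCat.freeDesc_apply _ _).trans ((dif_pos hl).trans ?_)
      have aux : ∀ (τ : Z ⟶ E) (e : τ = σ) (h : ∃ v : _ ⟶ U.left, v ≫ U.hom = τ)
          (a : Over.mk τ ⟶ O U m) (_ : a.left = g ≫ (face U m i).left),
          (Pi.lift (f := fun _ : Fin (m + 1) => U)
            (Fin.cases (Over.homMk (U := Over.mk τ) h.choose h.choose_spec) fun j => a ≫ π U j)).left =
              (k ≫ face U (m + 1) i.succ).left := by
        rintro τ rfl h a ha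
        have ha' : a = g' ≫ face U m i := Over.OverMorphism.ext ha
        congr 1
        refine Pi.hom_ext _ _ fun j => ?_
        induction j using Fin.cases with
        | zero => simp [k, face, v]
        | succ j => simp [k, face, ha', Category.assoc]
      exact congrArg (fun q => (F.val.presheaf.map (Quiver.Hom.op q)).hom c)
        (aux _ (hcomp i) hl (Over.homMk (g ≫ (face U m i).left) rfl) rfl)
    have hD := congrArg (pm (secPre E F.val.presheaf) k) hc
    rw [map_zero, D_apply, map_sum, Fin.sum_univ_succ] at hD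
    simp only [map_zsmul, map_neg, ← pm_comp, h0, Fin.val_zero, pow_zero, one_zsmul, Fin.val_succ, pow_succ,
      mul_neg, mul_one, neg_smul, Finset.sum_neg_distrib, add_neg_eq_zero] at hD
    rw [classifyM_gen, bdM_gen, map_sum]
    simp only [map_zsmul, hs]
    exact hD
  have key' : ∀ y : (freeP (O U (m + 1)).left).obj (op W), ∃ R ∈ etTop X W, ∀ (Z : EtOver X) (f : Z ⟶ W), R f →
      ((classifyM F.val (A := (O U (m + 1)).left) c).app (op Z)).hom ((freeP (O U (m + 1)).left).map f.op y) =
        (ψ Z).hom (((bdM U m).app (op Z)).hom ((freeP (O U (m + 1)).left).map f.op y)) := by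
    intro y
    induction y using Finsupp.induction_linear with
    | zero =>
      exact ⟨⊤, (etTop X).top_mem W, fun Z f _ => ((congrArg _ (map_zero _)).trans (map_zero _)).trans
        ((congrArg (ψ Z).hom ((congrArg _ (map_zero _)).trans (map_zero _))).trans (map_zero _)).symm⟩
    | single g a =>
      refine ⟨Sieve.pullback (g.down ≫ (O U (m + 1)).hom) (Sieve.ofArrows (fun _ : PUnit.{u + 1} => U.left) fun _ => U.hom),
        (etTop X).pullback_stable _ (ofArrows_mem_etTop _ _ fun x => ⟨⟨⟩, hU.surj x⟩), fun Z f hf => ?_⟩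
      obtain ⟨-, v, hv⟩ := Sieve.mem_ofArrows_iff .. |>.1 hf
      have hk := key Z (f ≫ g.down) ⟨v, by rw [← hv, Category.assoc]⟩
      have e : (freeP (O U (m + 1)).left).map f.op (Finsupp.single g a) =
          ((OEtRing X).obj.map f.op a) • genM (f ≫ g.down) := by
        have e₁ : (Finsupp.single g a : (freeP (O U (m + 1)).left).obj (op W)) = a • genM g.down :=
          (Finsupp.smul_single_one g a).symm
        refine (congrArg _ e₁).trans ((PresheafOfModules.map_smul _ _ _ _).trans (congrArg _ ?_))
        exact ModuleCat.freeDesc_apply _ _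
      rw [e, map_smul, map_smul, map_smul, hk]
    | add a b ha hb =>
      obtain ⟨R, hR, h⟩ := ha
      obtain ⟨R', hR', h'⟩ := hb
      exact ⟨R ⊓ R', (etTop X).intersection_covering hR hR', fun Z f hf => by
        simp only [map_add, h Z f hf.1, h' Z f hf.2]⟩
  obtain ⟨R, hR, h⟩ := key' x
  refine ((toAbEt X).obj F).property.isSeparated _ R hR _ _ fun Z f hf => ?_
  rw [map_zero]
  refine Eq.trans (PresheafOfModules.naturality_apply (classifyM F.val c) f.op x).symm ?_
  refine (h Z f hf).trans ((congrArg (ψ Z).hom ?_).trans (map_zero _))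
  exact (PresheafOfModules.naturality_apply (bdM U m) f.op x).trans ((congrArg _ hx).trans (map_zero _))

theorem injective_val (I : ModEt X) [Injective I] : Injective I.val :=
  (PresheafOfModules.sheafificationAdjunction (𝟙 (OEtRing X).obj)).map_injective I inferInstance

/-- Injective modules have exact Amitsur complexes. -/
theorem cech_of_injective_mod (I : ModEt X) [Injective I] : Cech ((toAbEt X).obj I) := by
  intro E _ U _ hU m c hc
  have := injective_val I
  let K : ShortComplex (PresheafOfModules.{u + 1} (OEtRing X).obj) :=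
    ShortComplex.mk (kernel.ι (bdM U m)) (bdM U m) (kernel.condition _)
  have hK : K.Exact := ShortComplex.exact_kernel _
  have hz : K.f ≫ classifyM I.val (A := (O U (m + 1)).left) c = 0 := by
    refine PresheafOfModules.hom_ext fun W => ModuleCat.hom_ext (LinearMap.ext fun y => ?_)
    refine comp_eq_zero_of_bdM I c hc hU (W := W.unop) _ ?_
    exact congr(($(congrArg (fun q : kernel (bdM U m) ⟶ _ => q.app W) (kernel.condition (bdM U m)))).hom y)
  let b := hK.descToInjective (classifyM I.val (A := (O U (m + 1)).left) c) hz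
  refine ⟨(b.app (op (O U m).left)).hom (genM (𝟙 _)), ?_⟩
  have hb : bdM U m ≫ b = classifyM I.val (A := (O U (m + 1)).left) c := hK.comp_descToInjective _ hz
  have h := congr(($(congrArg (fun q : freeP (O U (m + 1)).left ⟶ I.val => q.app (op (O U (m + 1)).left)) hb)).hom
    (genM (𝟙 _)))
  refine Eq.trans ?_ (h.trans ((classifyM_gen I.val c (𝟙 _)).trans (pm_id (secPre E I.val.presheaf) c)))
  rw [D_apply, PresheafOfModules.comp_app, ModuleCat.hom_comp, LinearMap.comp_apply, bdM_gen, map_sum]
  simp only [map_zsmul]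
  refine Finset.sum_congr rfl fun i _ => congrArg _ ?_
  refine (PresheafOfModules.naturality_apply b (face U m i).left.op (genM (𝟙 _))).symm.trans ?_
  refine congrArg _ ((ModuleCat.freeDesc_apply _ _).trans ?_)
  rfl

instance : (toAbEt X).Additive := { map_add := rfl }

/-- The free sheaf of modules on an object. -/
def freeO (A : EtOver X) : ModEt X :=
  (PresheafOfModules.sheafification (𝟙 (OEtRing X).obj)).obj (freeP A)

/-- Maps out of the free module are sections. -/
def freeOEquiv (A : EtOver X) (M : ModEt X) : (freeO A ⟶ M) ≃ M.val.obj (op A) :=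
  (PresheafOfModules.sheafificationHomEquiv (𝟙 (OEtRing X).obj)).trans
    (((PresheafOfModules.freeAdjunction (OEtRing X).obj).homEquiv _ _).trans uliftYonedaEquiv)

theorem freeOEquiv_comp (A : EtOver X) {M N : ModEt X} (φ : freeO A ⟶ M) (f : M ⟶ N) :
    freeOEquiv A N (φ ≫ f) = (f.val.app (op A)).hom (freeOEquiv A M φ) := by
  rfl

theorem freeOEquiv_zero (A : EtOver X) (M : ModEt X) : freeOEquiv A M 0 = 0 := by
  have h := freeOEquiv_comp A (0 : freeO A ⟶ M) (0 : M ⟶ M)
  rw [comp_zero] at h
  exact h

/-- The free modules on affine objects separate maps. -/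
theorem eq_zero_of_freeO_comp {M N : ModEt X} (f : M ⟶ N)
    (h : ∀ (A : EtOver X), IsAffine A.obj.left.left → ∀ g : freeO A ⟶ M, g ≫ f = 0) : f = 0 := by
  refine SheafOfModules.hom_ext (PresheafOfModules.hom_ext fun W => ModuleCat.hom_ext (LinearMap.ext fun x => ?_))
  refine (exists_affine_sieve W.unop).elim fun T hT => ?_
  refine ((toAbEt X).obj N).property.isSeparated _ T hT.1 _ _ fun Z k hk => ?_
  refine (hT.2 Z k hk).elim fun A hA => hA.elim fun a ha => ha.elim fun b hb => ?_
  have e : (f.val.app (op A)).hom (M.val.map b.op x) = 0 := by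
    have h' := congrArg (freeOEquiv A N) (h A hb.1 ((freeOEquiv A M).symm (M.val.map b.op x)))
    rw [freeOEquiv_comp, Equiv.apply_symm_apply, freeOEquiv_zero] at h'
    exact h'
  refine Eq.trans ?_ (map_zero _).symm
  refine (PresheafOfModules.naturality_apply f.val k.op x).symm.trans ?_
  rw [← hb.2, op_comp]
  refine (congrArg (f.val.app (op Z)).hom (M.val.map_comp_apply b.op a.op x)).trans ?_
  exact (PresheafOfModules.naturality_apply f.val a.op _).trans ((congrArg _ e).trans (map_zero _))

/-- Modules with exact Amitsur complexes have no higher `Ext` from free modules on affine objects. -/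
theorem acy_freeO (A : EtOver X) [IsAffine A.obj.left.left] {M : ModEt X} (hM : Cech ((toAbEt X).obj M)) :
    KFlat.TruncHom.Acy (freeO A) M := by
  have := AlgSpQC.enoughInjectives_modEt X
  refine KFlat.QCohAcy.acy_of_class (freeO A) (fun N => Cech ((toAbEt X).obj N)) (fun N hN => ?_) hM
  let C : ShortComplex (ModEt X) := ShortComplex.mk (Injective.ι N) (cokernel.π _) (cokernel.condition _)
  have : Epi C.g := coequalizer.π_epi
  have hC : C.ShortExact := { exact := ShortComplex.exact_cokernel _ }
  have hT := hC.map_of_exact (toAbEt X)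
  have h₂ : Cech (C.map (toAbEt X)).X₂ := cech_of_injective_mod (Injective.under N)
  refine ⟨C, hC, inferInstanceAs (Injective (Injective.under N)), rfl, cech_X₃_of_cech _ hT hN h₂, fun γ => ?_⟩
  obtain ⟨s, hs⟩ := sections_surjective_of_cech _ hT hN h₂ A (freeOEquiv A _ γ)
  exact ⟨(freeOEquiv A _).symm s, (freeOEquiv A _).injective (by
    rw [freeOEquiv_comp, Equiv.apply_symm_apply]
    exact hs)⟩

/-- Quasi-coherent modules have no higher `Ext` from free modules on affine objects. -/
theorem acy_freeO_qc (A : EtOver X) [IsAffine A.obj.left.left] (M : ModEt X) [M.IsQuasicoherent] :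
    KFlat.TruncHom.Acy (freeO A) M :=
  acy_freeO A (cech_qc M)

/-- An object with quasi-coherent cohomology sheaves is the derived limit of its truncations. -/
theorem exists_triangle (K : DModEt X) (hK : DCoh.IsQCohDMod (OEtRing X) K)
    [HasProduct (KFlat.DerivedLimit.tw K)] :
    ∃ c : (∏ᶜ KFlat.DerivedLimit.tw K) ⟶ K⟦(1 : ℤ)⟧, Pretriangulated.Triangle.mk
      (Pi.lift (KFlat.DerivedLimit.twπ K))
      (Pi.lift fun n => Pi.π (KFlat.DerivedLimit.tw K) n -
        Pi.π (KFlat.DerivedLimit.tw K) (n + 1) ≫ KFlat.DerivedLimit.twt K n) c ∈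
      Pretriangulated.distinguishedTriangles :=
  KFlat.DerivedLimit.exists_triangle (P₀ := fun A : {A : EtOver X // IsAffine A.obj.left.left} => freeO A.1)
    (fun f h => eq_zero_of_freeO_comp f fun A hA g => h ⟨A, hA⟩ g)
    (fun A j => have := A.2; have := hK j; acy_freeO_qc A.1 _)

end Groth.Agent.AlgSpEN.FreeAcy
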