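import Mathlib.Algebra.Category.ModuleCat.Presheaf.Pushforward
import Mathlib.Algebra.DirectSum.Module
import Mathlib.CategoryTheory.Comma.Over.Basic
import Mathlib.CategoryTheory.Preadditive.Injective.Basic
import Mathlib.Algebra.Category.ModuleCat.Presheaf.Abelian
import Mathlib.Algebra.Category.ModuleCat.Presheaf.EpiMono

/-!
# Restriction to a slice preserves injective presheaves of modules
-/

set_option autoImplicit false
universe w v u₁

open CategoryTheory CategoryTheory.Limits Opposite DirectSum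

set_option backward.isDefEq.respectTransparency false
set_option backward.isDefEq.respectTransparency.types false

noncomputable section

namespace Groth.Agent.AlgSpEN.OverInj

variable {C : Type u₁} [Category.{v} C] {R : Cᵒᵖ ⥤ RingCat.{max w v}} {U : C}
  (P : PresheafOfModules.{max w v} ((Over.forget U).op ⋙ R))

local instance decHom (a b : C) : DecidableEq (a ⟶ b) := Classical.decEq _

/-- A component of the extension. -/
abbrev comp (W : Cᵒᵖ) (φ : W.unop ⟶ U) : Type (max w v) := P.obj (op (Over.mk φ))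

instance (W : Cᵒᵖ) (φ : W.unop ⟶ U) : Module (R.obj W) (comp P W φ) :=
  inferInstanceAs (Module (((Over.forget U).op ⋙ R).obj (op (Over.mk φ))) (P.obj (op (Over.mk φ))))

/-- The sections of the extension. -/
abbrev sec (W : Cᵒᵖ) : Type (max w v) := ⨁ φ : W.unop ⟶ U, comp P W φ

/-- A section in one component. -/
def inc (W : Cᵒᵖ) (φ : W.unop ⟶ U) : comp P W φ →ₗ[R.obj W] sec P W :=
  DirectSum.lof (R.obj W) (W.unop ⟶ U) (comp P W) φ

theorem inc_ext {W : Cᵒᵖ} {M : Type*} [AddCommMonoid M] {f g : sec P W →+ M}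
    (h : ∀ φ x, f (inc P W φ x) = g (inc P W φ x)) : f = g :=
  DirectSum.addHom_ext h

/-- Restriction between components. -/
def rsc {X Y : Cᵒᵖ} (f : X ⟶ Y) (φ : X.unop ⟶ U) : comp P X φ →+ comp P Y (f.unop ≫ φ) :=
  (P.map (Over.homMk (U := Over.mk (f.unop ≫ φ)) (V := Over.mk φ) f.unop rfl).op).hom.toAddMonoidHom

theorem inc_map_eq {X Y : Cᵒᵖ} {φ : X.unop ⟶ U} {ψ ψ' : Y.unop ⟶ U} (hψ : ψ = ψ')
    (g : Over.mk ψ ⟶ Over.mk φ) (g' : Over.mk ψ' ⟶ Over.mk φ) (hg : g.left = g'.left) (x : comp P X φ) :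
    inc P Y ψ (P.map g.op x) = inc P Y ψ' (P.map g'.op x) := by
  subst hψ
  rw [Over.OverMorphism.ext hg]

/-- The transition maps of the extension. -/
def trans' {X Y : Cᵒᵖ} (f : X ⟶ Y) : sec P X →+ sec P Y :=
  DirectSum.toAddMonoid fun φ => (inc P Y (f.unop ≫ φ)).toAddMonoidHom.comp (rsc P f φ)

theorem trans'_inc {X Y : Cᵒᵖ} (f : X ⟶ Y) (φ : X.unop ⟶ U) (x : comp P X φ) :
    trans' P f (inc P X φ x) = inc P Y (f.unop ≫ φ) (rsc P f φ x) :=
  DirectSum.toAddMonoid_of _ φ x

theorem trans'_smul {X Y : Cᵒᵖ} (f : X ⟶ Y) (r : R.obj X) (s : sec P X) :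
    trans' P f (r • s) = (R.map f r) • trans' P f s := by
  refine DFunLike.congr_fun (inc_ext P (f := (trans' P f).comp (DistribMulAction.toAddMonoidHom _ r))
    (g := (DistribMulAction.toAddMonoidHom _ (R.map f r)).comp (trans' P f)) fun φ x => ?_) s
  change trans' P f (r • inc P X φ x) = R.map f r • trans' P f (inc P X φ x)
  rw [← map_smul, trans'_inc, trans'_inc]
  refine Eq.trans ?_ (map_smul (inc P Y (f.unop ≫ φ)) _ _)
  exact congrArg _ (P.map_smul (Over.homMk (U := Over.mk (f.unop ≫ φ)) (V := Over.mk φ) f.unop rfl).op r x)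

theorem trans'_id (X : Cᵒᵖ) (s : sec P X) : trans' P (𝟙 X) s = s := by
  refine DFunLike.congr_fun (inc_ext P (g := AddMonoidHom.id _) fun φ x => ?_) s
  rw [trans'_inc]
  refine (inc_map_eq P (Category.id_comp φ) _ (𝟙 (Over.mk φ)) rfl x).trans (congrArg _ ?_)
  exact (P.congr_map_apply (op_id (X := Over.mk φ)) x).trans (by simp; rfl)

theorem trans'_comp {X Y Z : Cᵒᵖ} (f : X ⟶ Y) (g : Y ⟶ Z) (s : sec P X) :
    trans' P (f ≫ g) s = trans' P g (trans' P f s) := by
  refine DFunLike.congr_fun (inc_ext P (g := (trans' P g).comp (trans' P f)) fun φ x => ?_) s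
  change _ = trans' P g (trans' P f (inc P X φ x))
  rw [trans'_inc, trans'_inc, trans'_inc]
  refine (inc_map_eq P (Category.assoc g.unop f.unop φ) _
    ((Over.homMk (U := Over.mk (g.unop ≫ f.unop ≫ φ)) (V := Over.mk (f.unop ≫ φ)) g.unop rfl) ≫
      Over.homMk (U := Over.mk (f.unop ≫ φ)) (V := Over.mk φ) f.unop rfl) rfl x).trans (congrArg _ ?_)
  exact P.map_comp_apply _ _ x

/-- Extension of presheaves of modules from a slice. -/
def ext : PresheafOfModules.{max w v} R where
  obj X := ModuleCat.of (R.obj X) (sec P X)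
  map {X Y} f := ModuleCat.ofHom
    (Y := (ModuleCat.restrictScalars (R.map f).hom).obj (ModuleCat.of (R.obj Y) (sec P Y)))
    { toFun := trans' P f
      map_add' := map_add _
      map_smul' := trans'_smul P f }
  map_id X := ModuleCat.hom_ext (@LinearMap.ext _ _ _ _ _ _ _ _ (_) (_) _ _ _ (trans'_id P X))
  map_comp f g := ModuleCat.hom_ext (@LinearMap.ext _ _ _ _ _ _ _ _ (_) (_) _ _ _ (trans'_comp P f g))

variable {P} {Q : PresheafOfModules.{max w v} ((Over.forget U).op ⋙ R)} (α : P ⟶ Q)

/-- A component of the induced map. -/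
def compMap (X : Cᵒᵖ) (φ : X.unop ⟶ U) : comp P X φ →ₗ[R.obj X] comp Q X φ := (α.app (op (Over.mk φ))).hom

/-- The induced map of extensions. -/
def extMap : ext P ⟶ ext Q where
  app X := ModuleCat.ofHom (X := sec P X) (Y := sec Q X) (DirectSum.lmap (compMap α X))
  naturality {X Y} f := by
    refine ModuleCat.hom_ext (@LinearMap.ext _ _ _ _ _ _ _ _ (_) (_) _ _ _ ?_)
    refine fun s => DFunLike.congr_fun (inc_ext P
      (f := (DirectSum.lmap (compMap α Y)).toAddMonoidHom.comp (trans' P f))
      (g := (trans' Q f).comp (DirectSum.lmap (compMap α X)).toAddMonoidHom) fun φ x => ?_) s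
    change DirectSum.lmap (compMap α Y) (trans' P f (inc P X φ x)) =
      trans' Q f (DirectSum.lmap (compMap α X) (inc P X φ x))
    rw [trans'_inc]
    refine (DirectSum.lmap_lof _ _ _).trans (Eq.trans ?_ (congrArg _ (DirectSum.lmap_lof _ _ _)).symm)
    refine Eq.trans (congrArg _ ?_) (trans'_inc Q f φ (compMap α X φ x)).symm
    exact PresheafOfModules.naturality_apply α _ x

theorem mono_extMap [Mono α] : Mono (extMap α) := by
  refine PresheafOfModules.mono_of_injective fun X s t hst => DFinsupp.ext fun φ => ?_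
  have := congrArg (fun z : sec Q X => z φ) hst
  exact PresheafOfModules.injective_of_mono α (op (Over.mk φ)) this

variable {I : PresheafOfModules.{max w v} R}

/-- The adjoint of a map to a restriction. -/
def desc (h : P ⟶ (PresheafOfModules.pushforward₀ (Over.forget U) R).obj I) : ext P ⟶ I where
  app X :=
    ModuleCat.ofHom (X := sec P X) (DirectSum.toModule (R.obj X) (X.unop ⟶ U) (I.obj X) fun φ =>
      ((h.app (op (Over.mk φ))).hom : comp P X φ →ₗ[R.obj X] I.obj X))
  naturality {X Y} f := by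
    refine ModuleCat.hom_ext (@LinearMap.ext _ _ _ _ _ _ _ _ (_) (_) _ _ _ ?_)
    let dX : sec P X →ₗ[R.obj X] I.obj X := DirectSum.toModule (R.obj X) (X.unop ⟶ U) (I.obj X) fun φ =>
      ((h.app (op (Over.mk φ))).hom : comp P X φ →ₗ[R.obj X] I.obj X)
    let dY : sec P Y →ₗ[R.obj Y] I.obj Y := DirectSum.toModule (R.obj Y) (Y.unop ⟶ U) (I.obj Y) fun φ =>
      ((h.app (op (Over.mk φ))).hom : comp P Y φ →ₗ[R.obj Y] I.obj Y)
    refine fun s => DFunLike.congr_fun (inc_ext P
      (f := dY.toAddMonoidHom.comp (trans' P f))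
      (g := (I.map f).hom.toAddMonoidHom.comp dX.toAddMonoidHom) fun φ x => ?_) s
    change dY (trans' P f (inc P X φ x)) = I.map f (dX (inc P X φ x))
    rw [trans'_inc]
    refine (DirectSum.toModule_lof _ _ _).trans (Eq.trans ?_ (congrArg (I.map f) (DirectSum.toModule_lof _ _ _)).symm)
    exact PresheafOfModules.naturality_apply h _ x

/-- A map out of an extension gives a map to the restriction. -/
def res (k : ext Q ⟶ I) : Q ⟶ (PresheafOfModules.pushforward₀ (Over.forget U) R).obj I where
  app Y := ModuleCat.ofHom (X := comp Q (op Y.unop.left) Y.unop.hom) (Y := I.obj (op Y.unop.left))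
    ((k.app (op Y.unop.left)).hom ∘ₗ inc Q (op Y.unop.left) Y.unop.hom)
  naturality {Y Z} g := by
    refine ModuleCat.hom_ext (@LinearMap.ext _ _ _ _ _ _ _ _ (_) (_) _ _ _ fun x => ?_)
    change (k.app _).hom (inc Q (op Z.unop.left) Z.unop.hom (Q.map g x)) =
      I.map g.unop.left.op ((k.app _).hom (inc Q (op Y.unop.left) Y.unop.hom x))
    refine Eq.trans (congrArg (k.app (op Z.unop.left)).hom ?_) (PresheafOfModules.naturality_apply k g.unop.left.op _)
    refine Eq.trans ?_ (trans'_inc Q g.unop.left.op Y.unop.hom x).symm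
    exact inc_map_eq Q (X := op Y.unop.left) (Y := op Z.unop.left) (φ := Y.unop.hom) (Over.w g.unop).symm g.unop
      (Over.homMk (U := Over.mk (g.unop.left ≫ Y.unop.hom)) (V := Over.mk Y.unop.hom) g.unop.left rfl) rfl x

/-- Restriction to a slice preserves injective presheaves of modules. -/
theorem injective_restrict (I : PresheafOfModules.{max w v} R) [Injective I] :
    Injective ((PresheafOfModules.pushforward₀ (Over.forget U) R).obj I) where
  factors {P Q} h α _ := by
    have := mono_extMap α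
    obtain ⟨k, hk⟩ := Injective.factors (desc h) (extMap α)
    refine ⟨res k, PresheafOfModules.hom_ext fun Y => ModuleCat.hom_ext (@LinearMap.ext _ _ _ _ _ _ _ _ (_) (_) _ _ _
      fun x => ?_)⟩
    have e : (k.app (op Y.unop.left)).hom ((extMap α).app (op Y.unop.left) (inc P (op Y.unop.left) Y.unop.hom x)) =
        (desc h).app (op Y.unop.left) (inc P (op Y.unop.left) Y.unop.hom x) :=
      congr(($(congrArg (fun q : ext P ⟶ I => q.app (op Y.unop.left)) hk)).hom (inc P (op Y.unop.left) Y.unop.hom x))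
    refine Eq.trans ?_ (e.trans (DirectSum.toModule_lof _ _ _))
    exact congrArg (k.app (op Y.unop.left)).hom (DirectSum.lmap_lof (compMap α (op Y.unop.left)) Y.unop.hom x).symm

end Groth.Agent.AlgSpEN.OverInj
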