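import Groth.Agent.AlgSpQC.Hom
import Groth.Agent.AlgSpEN.FreeAcy
import Groth.Agent.AlgSpEN.OverInj
import Mathlib.Algebra.Category.ModuleCat.Presheaf.Submodule
import Mathlib.Algebra.Ring.NegOnePow

/-!
# Families of homomorphisms of modules over a domain of the small etale site

For a presheaf of sets `Φ` and a stable predicate `D` on its sections, a family assigns to each section `x`
over `Z` satisfying `D` a linear map `G(Z) → I(Z)`, compatibly with restriction. These are the homomorphisms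
out of the twist of `G` by the subpresheaf `D` of `Φ`, and are used to glue null homotopies.
-/

set_option autoImplicit false
universe w u

open CategoryTheory CategoryTheory.Limits AlgebraicGeometry Opposite

set_option backward.isDefEq.respectTransparency false
set_option backward.isDefEq.respectTransparency.types false

noncomputable section

namespace Groth.Agent.AlgSpEN.FamHom

open _root_.AlgSp Groth.Agent.AlgSpQC

variable {S : Scheme.{u}} {X : AlgSp.Sp S}

/-- A stable predicate on the sections of a presheaf of sets. -/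
structure Dom (Φ : (EtOver X)ᵒᵖ ⥤ Type w) where
  ok : ∀ Z : EtOver X, Φ.obj (op Z) → Prop
  stable : ∀ {Z Z' : EtOver X} (g : Z' ⟶ Z) (x : Φ.obj (op Z)), ok Z x → ok Z' (Φ.map g.op x)

variable {Φ : (EtOver X)ᵒᵖ ⥤ Type w}

/-- The sections of the domain. -/
def Dom.top (Φ : (EtOver X)ᵒᵖ ⥤ Type w) : Dom Φ := ⟨fun _ _ => True, fun _ _ h => h⟩

/-- Pullback of a domain along a section. -/
def Dom.pullBack (D : Dom Φ) {Q : EtOver X} (π : Φ.obj (op Q)) : Dom (yoneda.obj Q) :=
  ⟨fun Z v => D.ok Z (Φ.map v.op π), fun {Z Z'} g v h => by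
    have h' := D.stable g _ h
    change D.ok Z' (Φ.map (g ≫ v).op π)
    rw [op_comp, Functor.map_comp]
    exact h'⟩

variable (D : Dom Φ) (G I : ModEt X)

/-- Components of a family. -/
abbrev Comp : Type _ := ∀ (Z : EtOver X) (_ : {x : Φ.obj (op Z) // D.ok Z x}), (sectModEt G Z →ₗ[gr Z] sectModEt I Z)

/-- Compatible components. -/
def famGrp : AddSubgroup (Comp D G I) where
  carrier := {h | ∀ (Z Z' : EtOver X) (g : Z' ⟶ Z) (x : Φ.obj (op Z)) (hx : D.ok Z x) (m : sectModEt G Z),
    rs I g (h Z ⟨x, hx⟩ m) = h Z' ⟨Φ.map g.op x, D.stable g x hx⟩ (rs G g m)}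
  add_mem' {a b} ha hb Z Z' g x hx m := by
    change rs I g (a Z ⟨x, hx⟩ m + b Z ⟨x, hx⟩ m) = _
    rw [map_add, ha Z Z' g x hx m, hb Z Z' g x hx m]
    rfl
  zero_mem' Z Z' g x hx m := map_zero (rs I g)
  neg_mem' {a} ha Z Z' g x hx m := by
    change rs I g (-(a Z ⟨x, hx⟩ m)) = _
    rw [map_neg, ha Z Z' g x hx m]
    rfl

/-- Families of homomorphisms over a domain. -/
abbrev Fam : Type _ := famGrp D G I

variable {D G I}

/-- The value of a family. -/
abbrev ap (h : Fam D G I) (Z : EtOver X) (x : Φ.obj (op Z)) (hx : D.ok Z x) : sectModEt G Z →ₗ[gr Z] sectModEt I Z :=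
  h.1 Z ⟨x, hx⟩

@[ext]
theorem fam_ext {h h' : Fam D G I} (e : ∀ Z x hx m, ap h Z x hx m = ap h' Z x hx m) : h = h' :=
  Subtype.ext (funext fun Z => funext fun x => LinearMap.ext (e Z x.1 x.2))

theorem app_congr (h : Fam D G I) {Z : EtOver X} {x y : Φ.obj (op Z)} (e : x = y) (hx : D.ok Z x) (hy : D.ok Z y)
    (m : sectModEt G Z) : ap h Z x hx m = ap h Z y hy m := by
  subst e; rfl

/-- Postcomposition with a map of modules. -/
def post {I' : ModEt X} (b : I ⟶ I') : Fam D G I →+ Fam D G I' where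
  toFun h := ⟨fun Z x => (hs b Z).comp (h.1 Z x), fun Z Z' g x hx m => by
    change rs I' g (hs b Z (ap h Z x hx m)) = hs b Z' (ap h Z' _ _ (rs G g m))
    rw [← hs_rs, h.2 Z Z' g x hx m]⟩
  map_zero' := fam_ext fun Z x hx m => map_zero (hs b Z)
  map_add' h h' := fam_ext fun Z x hx m => map_add (hs b Z) _ _

/-- Precomposition with a map of modules. -/
def pre {G' : ModEt X} (a : G' ⟶ G) : Fam D G I →+ Fam D G' I where
  toFun h := ⟨fun Z x => (h.1 Z x).comp (hs a Z), fun Z Z' g x hx m => by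
    change rs I g (ap h Z x hx (hs a Z m)) = ap h Z' _ _ (hs a Z' (rs G' g m))
    rw [hs_rs, h.2 Z Z' g x hx]⟩
  map_zero' := rfl
  map_add' _ _ := rfl

theorem post_post {I' I'' : ModEt X} (b : I ⟶ I') (b' : I' ⟶ I'') (h : Fam D G I) :
    post b' (post b h) = post (b ≫ b') h := rfl

theorem pre_pre {G' G'' : ModEt X} (a : G' ⟶ G) (a' : G'' ⟶ G') (h : Fam D G I) :
    pre a' (pre a h) = pre (a' ≫ a) h := rfl

theorem post_pre {G' I' : ModEt X} (a : G' ⟶ G) (b : I ⟶ I') (h : Fam D G I) :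
    post b (pre a h) = pre a (post b h) := rfl

theorem post_zero {I' : ModEt X} (h : Fam D G I) : post (0 : I ⟶ I') h = 0 :=
  fam_ext fun Z x hx m => hs_zero Z _

theorem pre_zero {G' : ModEt X} (h : Fam D G I) : pre (0 : G' ⟶ G) h = 0 :=
  fam_ext fun Z x hx m => (congrArg (ap h Z x hx) (hs_zero Z m)).trans (map_zero _)

variable {Φ' : (EtOver X)ᵒᵖ ⥤ Type u} {D' : Dom Φ'}

/-- Families pull back along maps of domains. -/
def pull (ψ : ∀ Z, Φ'.obj (op Z) → Φ.obj (op Z))
    (hψ : ∀ {Z Z' : EtOver X} (g : Z' ⟶ Z) (x), ψ Z' (Φ'.map g.op x) = Φ.map g.op (ψ Z x))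
    (hok : ∀ Z x, D'.ok Z x → D.ok Z (ψ Z x)) : Fam D G I →+ Fam D' G I where
  toFun h := ⟨fun Z x => h.1 Z ⟨ψ Z x.1, hok Z x.1 x.2⟩, fun Z Z' g x hx m =>
    (h.2 Z Z' g (ψ Z x) (hok Z x hx) m).trans (app_congr h (hψ g x).symm _ _ _)⟩
  map_zero' := rfl
  map_add' _ _ := rfl

/-- Restriction to a smaller domain. -/
def restr {D₁ : Dom Φ} (hle : ∀ Z x, D₁.ok Z x → D.ok Z x) : Fam D G I →+ Fam D₁ G I where
  toFun h := ⟨fun Z x => h.1 Z ⟨x.1, hle Z x.1 x.2⟩, fun Z Z' g x hx m => h.2 Z Z' g x (hle Z x hx) m⟩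
  map_zero' := rfl
  map_add' _ _ := rfl

/-- Pullback of families along a section. -/
def pullSec {Q : EtOver X} (π : Φ.obj (op Q)) (D₁ : Dom (yoneda.obj Q))
    (hok : ∀ Z v, D₁.ok Z v → D.ok Z (Φ.map v.op π)) : Fam D G I →+ Fam D₁ G I where
  toFun h := ⟨fun Z v => h.1 Z ⟨Φ.map v.1.op π, hok Z v.1 v.2⟩, fun Z Z' g v hv m =>
    (h.2 Z Z' g (Φ.map v.op π) (hok Z v hv) m).trans (app_congr h (by
      change Φ.map g.op (Φ.map v.op π) = Φ.map (g ≫ v).op π
      rw [op_comp, Functor.map_comp]; rfl) _ _ _)⟩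
  map_zero' := rfl
  map_add' _ _ := rfl

section Average

variable {Q : EtOver X} {D₁ : Dom (yoneda.obj Q)} {ι : Type} [Fintype ι] (φ : ι → (Q ⟶ Q))

/-- A domain stable under endomorphisms of the base. -/
def StableUnder (D₁ : Dom (yoneda.obj Q)) : Prop := ∀ (s : ι) (Z : EtOver X) (v : Z ⟶ Q), D₁.ok Z v → D₁.ok Z (v ≫ φ s)

/-- Invariance of a family. -/
def Invariant (hst : StableUnder φ D₁) (h : Fam D₁ G I) : Prop :=
  ∀ (s : ι) (Z : EtOver X) (v : Z ⟶ Q) (hv : D₁.ok Z v) (m : sectModEt G Z),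
    ap h Z (v ≫ φ s) (hst s Z v hv) m = ap h Z v hv m

variable (e : gr Q) (hst : StableUnder φ D₁)

/-- The average of a family. -/
def avg : Fam D₁ G I →+ Fam D₁ G I where
  toFun h := ⟨fun Z v => ∑ t, gm (v.1 ≫ φ t) e • h.1 Z ⟨v.1 ≫ φ t, hst t Z v.1 v.2⟩, fun Z Z' g v hv m => by
    rw [LinearMap.sum_apply, map_sum, LinearMap.sum_apply]
    refine Finset.sum_congr rfl fun t _ => ?_
    rw [LinearMap.smul_apply, LinearMap.smul_apply, rs_smul, h.2 Z Z' g _ (hst t Z v hv) m, ← gm_comp]
    exact congrArg₂ (· • ·) (congrArg (fun q : Z' ⟶ Q => gm q e) (Category.assoc g v (φ t)).symm)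
      (app_congr h (Category.assoc g v (φ t)).symm _ _ _)⟩
  map_zero' := fam_ext fun Z v hv m => by
    change (∑ t, gm (v ≫ φ t) e • (0 : sectModEt G Z →ₗ[gr Z] sectModEt I Z)) m = 0
    simp
  map_add' h h' := fam_ext fun Z v hv m => by
    change (∑ t, gm (v ≫ φ t) e • (ap h Z _ (hst t Z v hv) + ap h' Z _ (hst t Z v hv))) m =
      (∑ t, gm (v ≫ φ t) e • ap h Z _ (hst t Z v hv)) m + (∑ t, gm (v ≫ φ t) e • ap h' Z _ (hst t Z v hv)) m
    simp only [smul_add, Finset.sum_add_distrib, LinearMap.add_apply]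

theorem post_avg {I' : ModEt X} (b : I ⟶ I') (h : Fam D₁ G I) :
    post b (avg φ e hst h) = avg φ e hst (post b h) := fam_ext fun Z v hv m => by
  change hs b Z ((∑ t, gm (v ≫ φ t) e • ap h Z _ (hst t Z v hv)) m) =
    (∑ t, gm (v ≫ φ t) e • (hs b Z).comp (ap h Z _ (hst t Z v hv))) m
  simp only [LinearMap.sum_apply, LinearMap.smul_apply, LinearMap.comp_apply, map_sum, map_smul]

theorem pre_avg {G' : ModEt X} (a : G' ⟶ G) (h : Fam D₁ G I) :
    pre a (avg φ e hst h) = avg φ e hst (pre a h) := fam_ext fun Z v hv m => by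
  change (∑ t, gm (v ≫ φ t) e • ap h Z _ (hst t Z v hv)) (hs a Z m) =
    (∑ t, gm (v ≫ φ t) e • (ap h Z _ (hst t Z v hv)).comp (hs a Z)) m
  simp only [LinearMap.sum_apply, LinearMap.smul_apply, LinearMap.comp_apply]

theorem invariant_avg (hperm : ∀ s, ∃ τ : ι ≃ ι, ∀ t, φ s ≫ φ t = φ (τ t)) (h : Fam D₁ G I) :
    Invariant φ hst (avg φ e hst h) := by
  intro s Z v hv m
  obtain ⟨τ, hτ⟩ := hperm s
  change (∑ t, gm ((v ≫ φ s) ≫ φ t) e • ap h Z ((v ≫ φ s) ≫ φ t) _) m = (∑ t, gm (v ≫ φ t) e • ap h Z _ _) m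
  rw [LinearMap.sum_apply, LinearMap.sum_apply]
  refine Fintype.sum_equiv τ _ _ fun t => ?_
  have e₁ : (v ≫ φ s) ≫ φ t = v ≫ φ (τ t) := (Category.assoc _ _ _).trans (congrArg (v ≫ ·) (hτ t))
  rw [LinearMap.smul_apply, LinearMap.smul_apply]
  exact congrArg₂ (· • ·) (congrArg (fun q : Z ⟶ Q => gm q e) e₁) (app_congr h e₁ _ _ _)

theorem avg_of_invariant (hone : ∑ t, gm (φ t) e = 1) {h : Fam D₁ G I} (hi : Invariant φ hst h) :
    avg φ e hst h = h := fam_ext fun Z v hv m => by
  change (∑ t, gm (v ≫ φ t) e • ap h Z (v ≫ φ t) (hst t Z v hv)) m = _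
  simp only [LinearMap.sum_apply, LinearMap.smul_apply, hi _ Z v hv m, ← Finset.sum_smul, gm_comp, ← map_sum,
    hone, map_one, one_smul]

theorem restr_avg {D₂ : Dom (yoneda.obj Q)} (hle : ∀ Z v, D₂.ok Z v → D₁.ok Z v) (hst₂ : StableUnder φ D₂)
    (h : Fam D₁ G I) : restr hle (avg φ e hst h) = avg φ e hst₂ (restr hle h) := rfl

end Average

section Extend

variable {Q : EtOver X} (D₁ : Dom (yoneda.obj Q))

/-- The sections which vanish outside the domain. -/
def subDom (G : ModEt X) : PresheafOfModules.Submodule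
    ((PresheafOfModules.pushforward₀ (Over.forget Q) (OEtRing X).obj).obj G.val) where
  obj Y :=
    { carrier := {m | D₁.ok Y.unop.left Y.unop.hom ∨ m = 0}
      add_mem' := fun {a b} ha hb => by
        rcases ha with h | rfl
        · exact Or.inl h
        · rcases hb with h | rfl
          · exact Or.inl h
          · exact Or.inr (add_zero 0)
      zero_mem' := Or.inr rfl
      smul_mem' := fun c m hm => hm.imp id fun h => by rw [h, smul_zero] }
  map {Y Y'} f := by
    intro m hm
    rcases hm with h | rfl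
    · exact Or.inl ((Over.w f.unop) ▸ D₁.stable f.unop.left Y.unop.hom h)
    · exact Or.inr (map_zero _)

open Classical in
/-- A family as a map out of the sections vanishing outside its domain. -/
def subDomMap (h : Fam D₁ G I) : (subDom D₁ G).toPresheafOfModules ⟶
    (PresheafOfModules.pushforward₀ (Over.forget Q) (OEtRing X).obj).obj I.val :=
  PresheafOfModules.homMk (M₁ := (subDom D₁ G).toPresheafOfModules)
    { app := fun Y => AddCommGrpCat.ofHom
        { toFun := fun m => if hY : D₁.ok Y.unop.left Y.unop.hom then ap h _ _ hY m.1 else 0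
          map_zero' := by split_ifs <;> simp
          map_add' := fun a b => by
            split_ifs
            · exact map_add _ _ _
            · exact (add_zero 0).symm }
      naturality := fun Y Y' f => by
        ext m
        change (if hY : D₁.ok Y'.unop.left Y'.unop.hom then ap h _ _ hY (rs G f.unop.left m.1) else 0) =
          rs I f.unop.left (if hY : D₁.ok Y.unop.left Y.unop.hom then ap h _ _ hY m.1 else 0)
        by_cases hY : D₁.ok Y.unop.left Y.unop.hom
        · have hY' : D₁.ok Y'.unop.left Y'.unop.hom := (Over.w f.unop) ▸ D₁.stable f.unop.left Y.unop.hom hY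
          rw [dif_pos hY, dif_pos hY', h.2 _ _ f.unop.left _ hY]
          exact app_congr h (Over.w f.unop).symm _ _ _
        · obtain hm := m.2.resolve_left hY
          rw [dif_neg hY, map_zero, hm, map_zero]
          split_ifs <;> simp }
    (fun Y r m => by
      obtain ⟨a⟩ := r
      change (if hY : D₁.ok Y.unop.left Y.unop.hom then
          ap h _ _ hY ((show gr Y.unop.left from a) • (show sectModEt G Y.unop.left from m.1)) else 0) =
        (show gr Y.unop.left from a) • (show sectModEt I Y.unop.left from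
          if hY : D₁.ok Y.unop.left Y.unop.hom then ap h _ _ hY m.1 else 0)
      split_ifs
      · exact map_smul _ _ _
      · exact (smul_zero _).symm)

/-- Families with values in an injective module extend to the whole representable domain. -/
theorem exists_extend [Injective I] (h : Fam D₁ G I) :
    ∃ h' : Fam (Dom.top (yoneda.obj Q)) G I, restr (fun _ _ _ => trivial) h' = h := by
  have := FreeAcy.injective_val I
  have := OverInj.injective_restrict.{u + 1, u, u + 1} (U := Q) I.val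
  let ι := (subDom D₁ G).ι
  obtain ⟨k, hk⟩ := Injective.factors (subDomMap D₁ h) ι
  refine ⟨⟨fun Z ⟨v, _⟩ =>
    { toFun := fun m => (k.app (op (Over.mk v))).hom m
      map_add' := map_add (k.app (op (Over.mk v))).hom
      map_smul' := fun a m => (k.app (op (Over.mk v))).hom.map_smul (upΓ Z a) m }, fun Z Z' g v _ m => ?_⟩, ?_⟩
  · exact (PresheafOfModules.naturality_apply k
      (Over.homMk g rfl : Over.mk (g ≫ v) ⟶ Over.mk v).op m).symm
  · refine fam_ext fun Z v hv m => ?_
    have h1 := congr(($(congrArg (fun q : (subDom D₁ G).toPresheafOfModules ⟶ _ => q.app (op (Over.mk v))) hk)).hom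
      (⟨m, Or.inl hv⟩ : (subDom D₁ G).obj (op (Over.mk v))))
    refine h1.trans ?_
    classical
    change (if hY : D₁.ok Z v then ap h Z v hY m else 0) = ap h Z v hv m
    exact dif_pos hv

end Extend

end Groth.Agent.AlgSpEN.FamHom
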