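import Groth.Agent.AlgSpEN.FamVanish
import Mathlib.CategoryTheory.Triangulated.TStructure.TruncLEGT

/-!
# Maps out of perfect objects into objects with quasi-coherent cohomology in very negative degrees vanish
-/

set_option autoImplicit false
universe u

open CategoryTheory CategoryTheory.Limits AlgebraicGeometry Opposite DerivedCategory Pretriangulated

set_option backward.isDefEq.respectTransparency false
set_option backward.isDefEq.respectTransparency.types false
set_option maxHeartbeats 1000000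
set_option synthInstance.maxHeartbeats 100000
attribute [local instance] HasDerivedCategory.standard

noncomputable section

namespace Groth.Agent.AlgSpEN.FamHom

open _root_.AlgSp Groth.Agent.AlgSpQC

variable {S : Scheme.{u}} {X : AlgSp.Space S}

/-- Quasi-coherent modules have resolutions of the required kind. -/
theorem exists_isRes (F : ModEt X.obj) [F.IsQuasicoherent] :
    ∃ J : CochainComplex (ModEt X.obj) ℤ, IsRes J ∧
      Nonempty (DCoh.inDMod (OEtRing X.obj) F ≅ Q.obj J) := by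
  have := AlgSpQC.enoughInjectives_modEt X.obj
  let R := injectiveResolution F
  let J := R.cochainComplex
  let e : DCoh.inDMod (OEtRing X.obj) F ≅ Q.obj J :=
    (singleFunctorIsoCompQ (ModEt X.obj) 0).app F ≪≫ asIso (Q.map R.ι')
  refine ⟨J, ⟨fun i => inferInstance, fun i hi => CochainComplex.isZero_of_isStrictlyGE J 0 i hi,
    fun i hi A hA s hs => ?_⟩, ⟨e⟩⟩
  have := hA
  have hJq : DCoh.IsQCohDMod (OEtRing X.obj) (Q.obj J) := fun q =>
    (SheafOfModules.isQuasicoherent.{u + 1, u, u + 1} (OEtRing X.obj)).prop_of_iso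
      ((homologyFunctor (ModEt X.obj) q).mapIso e) (RlimQC.isQCohDMod_inDMod F q)
  let γ : FreeAcy.freeO A ⟶ J.X i := (FreeAcy.freeOEquiv A _).symm s
  have hγ : ∀ k, (ComplexShape.up ℤ).Rel i k → γ ≫ J.d i k = 0 := fun k hk => by
    obtain rfl : i + 1 = k := hk
    refine (FreeAcy.freeOEquiv A _).injective ?_
    rw [FreeAcy.freeOEquiv_comp, Equiv.apply_symm_apply, FreeAcy.freeOEquiv_zero]
    exact hs
  let f : (HomologicalComplex.single (ModEt X.obj) (ComplexShape.up ℤ) i).obj (FreeAcy.freeO A) ⟶ J :=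
    HomologicalComplex.mkHomFromSingle γ hγ
  have hz : IsZero ((homologyFunctor (ModEt X.obj) i).obj (Q.obj J)) :=
    (isZero_of_isLE (DCoh.inDMod (OEtRing X.obj) F) 0 i hi).of_iso ((homologyFunctor _ i).mapIso e).symm
  let g : (singleFunctor (ModEt X.obj) i).obj (FreeAcy.freeO A) ⟶ Q.obj J :=
    (singleFunctorIsoCompQ (ModEt X.obj) i).hom.app _ ≫ Q.map f
  have hg : g = 0 := (RlimQC.Φ_bijective A (Q.obj J) hJq i).1 (hz.eq_of_tgt _ _)
  have hf : (HomotopyCategory.quotient (ModEt X.obj) (ComplexShape.up ℤ)).map f = 0 := by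
    have hQ : Q.map f = 0 := (cancel_epi ((singleFunctorIsoCompQ (ModEt X.obj) i).hom.app (FreeAcy.freeO A))).1
      (hg.trans comp_zero.symm)
    refine (CochainComplex.IsKInjective.Qh_map_bijective _ J).1 ?_
    rw [Functor.map_zero]
    have h2 := (quotientCompQhIso (ModEt X.obj)).hom.naturality f
    rw [hQ, comp_zero] at h2
    exact (cancel_mono ((quotientCompQhIso (ModEt X.obj)).hom.app J)).1 (h2.trans zero_comp.symm)
  let H := HomotopyCategory.homotopyOfEq f 0 (hf.trans (Functor.map_zero _ _ _).symm)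
  have hc := H.comm i
  rw [dNext_eq _ (show (ComplexShape.up ℤ).Rel i (i + 1) from rfl),
    prevD_eq _ (show (ComplexShape.up ℤ).Rel (i - 1) i by simp)] at hc
  have hz' : H.hom (i + 1) i = 0 := (HomologicalComplex.isZero_single_obj_X _ _ _ _ (by omega)).eq_of_src _ _
  rw [hz', comp_zero, zero_add, HomologicalComplex.zero_f, add_zero] at hc
  refine ⟨FreeAcy.freeOEquiv A _ ((HomologicalComplex.singleObjXSelf _ i (FreeAcy.freeO A)).inv ≫ H.hom i (i - 1)), ?_⟩
  refine (FreeAcy.freeOEquiv_comp A _ (J.d (i - 1) i)).symm.trans ?_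
  rw [Category.assoc, ← hc, HomologicalComplex.mkHomFromSingle_f]
  simp [γ]

variable [QuasiSeparatedSpace ↥S]

/-- Maps into a single quasi-coherent module in a very negative degree vanish. -/
theorem exists_bound_single (hXc : IsQuasiCompactSp X.obj) (hXs : IsQuasiSeparatedSp X.obj) (P : DModEt X.obj)
    (hP : IsPerfectEtD P) : ∃ c : ℤ, 0 ≤ c ∧ ∀ (F : ModEt X.obj), F.IsQuasicoherent → ∀ b : ℤ, b + c < 0 →
      ∀ φ : P ⟶ (singleFunctor (ModEt X.obj) b).obj F, φ = 0 := by
  let K := Q.objPreimage P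
  let eK : Q.obj K ≅ P := Q.objObjPreimageIso P
  have hK : IsPerfectEtD (Q.obj K : DModEt X.obj) := fun U => by
    obtain ⟨ι, V, g, hg, hV⟩ := hP U
    exact ⟨ι, V, g, hg, fun j => by
      obtain ⟨E, hE, ⟨e⟩⟩ := hV j
      exact ⟨E, hE, ⟨(resDEt (V j)).mapIso eK ≪≫ e⟩⟩⟩
  obtain ⟨c, hc, hcob⟩ := exists_coboundary_bound hXc hXs hK
  refine ⟨c, hc, fun F hF b hb φ => ?_⟩
  have := hF
  obtain ⟨J, hJ, ⟨eJ⟩⟩ := exists_isRes F
  let n := -b
  let et : (singleFunctor (ModEt X.obj) b).obj F ≅ Q.obj (J⟦n⟧) :=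
    (((singleFunctors (ModEt X.obj)).shiftIso n b 0 (by omega)).app F).symm ≪≫
      (shiftFunctor (DModEt X.obj) n).mapIso eJ ≪≫ ((Q.commShiftIso n).app J).symm
  have : ∀ i, Injective (J.X i) := hJ.inj
  have : ∀ i, Injective ((J⟦n⟧).X i) := fun i =>
    Injective.of_iso ((CochainComplex.shiftFunctorObjXIso J n i (i + n) rfl).symm) inferInstance
  have : (J⟦n⟧).IsStrictlyGE (-n) := (CochainComplex.isStrictlyGE_iff _ _).2 fun i hi =>
    (hJ.zero (i + n) (by omega)).of_iso (CochainComplex.shiftFunctorObjXIso J n i (i + n) rfl)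
  have : (J⟦n⟧).IsKInjective := CochainComplex.isKInjective_of_injective _ (-n)
  let η := quotientCompQhIso (ModEt X.obj)
  obtain ⟨f, hf⟩ := (CochainComplex.IsKInjective.Qh_map_bijective ((HomotopyCategory.quotient _ _).obj K) (J⟦n⟧)).2
    (η.hom.app K ≫ eK.hom ≫ φ ≫ et.hom ≫ η.inv.app _)
  obtain ⟨f, rfl⟩ := (HomotopyCategory.quotient _ _).map_surjective f
  have hf0 : (HomotopyCategory.quotient (ModEt X.obj) (ComplexShape.up ℤ)).map f = 0 := by
    have h' := (CochainComplex.HomComplex.CohomologyClass.toHom_mk_eq_zero_iff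
      (CochainComplex.HomComplex.Cocycle.equivHomShift f)).2 (hcob J hJ n (by omega) _)
    rwa [CochainComplex.HomComplex.CohomologyClass.toHom_mk, AddEquiv.symm_apply_apply] at h'
  rw [hf0, Functor.map_zero] at hf
  refine (cancel_epi eK.hom).1 ((cancel_mono et.hom).1 ((cancel_epi (η.hom.app K)).1 ((cancel_mono (η.inv.app _)).1 ?_)))
  simpa using hf.symm

/-- Maps into bounded objects in very negative degrees vanish. -/
theorem hom_bounded (P : DModEt X.obj) (c : ℤ) (h : ∀ (F : ModEt X.obj), F.IsQuasicoherent → ∀ b : ℤ, b + c < 0 →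
    ∀ φ : P ⟶ (singleFunctor (ModEt X.obj) b).obj F, φ = 0) :
    ∀ (m : ℕ) (g b : ℤ) (M : DModEt X.obj), b ≤ g + m → M.IsGE g → M.IsLE b →
      DCoh.IsQCohDMod (OEtRing X.obj) M → b + c < 0 → ∀ φ : P ⟶ M, φ = 0 := by
  intro m
  induction m with
  | zero =>
    intro g b M hgb hg hb hM hbc φ
    have : M.IsGE b := TStructure.t.isGE_of_ge M b g (by omega)
    obtain ⟨G, ⟨e⟩⟩ := exists_iso_singleFunctor_obj_of_isGE_of_isLE M b
    have hG : G.IsQuasicoherent := (SheafOfModules.isQuasicoherent.{u + 1, u, u + 1} (OEtRing X.obj)).prop_of_iso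
      ((homologyFunctor (ModEt X.obj) b).mapIso e ≪≫ (singleFunctorCompHomologyFunctorIso (ModEt X.obj) b).app G) (hM b)
    exact (cancel_mono e.hom).1 ((h G hG b hbc (φ ≫ e.hom)).trans zero_comp.symm)
  | succ m ih =>
    intro g b M hgb hg hb hM hbc φ
    let T := (TStructure.t.triangleLTGE b).obj M
    have hT : T ∈ distTriang (DModEt X.obj) := TStructure.t.triangleLTGE_distinguished b M
    have h3g : T.obj₃.IsGE b := inferInstanceAs (TStructure.t.IsGE ((TStructure.t.truncGE b).obj M) b)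
    have h3b : T.obj₃.IsLE b := inferInstanceAs (TStructure.t.IsLE ((TStructure.t.truncGE b).obj M) b)
    have h1g : T.obj₁.IsGE g := inferInstanceAs (TStructure.t.IsGE ((TStructure.t.truncLT b).obj M) g)
    have h1b : T.obj₁.IsLE (b - 1) := inferInstanceAs (TStructure.t.IsLE ((TStructure.t.truncLT b).obj M) (b - 1))
    have h3q : DCoh.IsQCohDMod (OEtRing X.obj) T.obj₃ := fun q => by
      by_cases hq : b ≤ q
      · have := KFlat.TruncHom.isIso_H_truncGEπ M b q hq
        exact (SheafOfModules.isQuasicoherent.{u + 1, u, u + 1} (OEtRing X.obj)).prop_of_iso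
          (asIso ((homologyFunctor (ModEt X.obj) q).map ((TStructure.t.truncGEπ b).app M))) (hM q)
      · have := hM q
        exact RFQC.isQuasicoherent_of_isZero (M := (homologyFunctor (ModEt X.obj) q).obj M)
          (DerivedCategory.isZero_of_isGE T.obj₃ b q (by omega))
    have e0 : φ ≫ T.mor₂ = 0 := ih b b T.obj₃ (by omega) h3g h3b h3q hbc _
    obtain ⟨ψ, hψ⟩ := Triangle.coyoneda_exact₂ T hT φ e0
    have e1 : ψ = 0 := ih g (b - 1) T.obj₁ (by omega) h1g h1b (RFQC.isQCohDMod_truncLT hM b) (by omega) _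
    exact hψ.trans ((congrArg (· ≫ T.mor₁) e1).trans zero_comp)

set_option maxHeartbeats 4000000 in
/-- Maps out of a perfect object into objects with quasi-coherent cohomology in very negative degrees vanish. -/
theorem exists_vanishing (hXc : IsQuasiCompactSp X.obj) (hXs : IsQuasiSeparatedSp X.obj) (P : DModEt X.obj)
    (hP : IsPerfectEtD P) : ∃ c : ℤ, 0 ≤ c ∧ ∀ (M : DModEt X.obj), DCoh.IsQCohDMod (OEtRing X.obj) M →
      ∀ b : ℤ, M.IsLE b → b + c < 0 → ∀ φ : P ⟶ M, φ = 0 := by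
  obtain ⟨c, hc, h⟩ := exists_bound_single hXc hXs P hP
  refine ⟨c + 1, by omega, fun M hM b hb hbc φ => ?_⟩
  have := RlimQC.hasProduct (KFlat.DerivedLimit.tw M)
  obtain ⟨d, hd⟩ := FreeAcy.exists_triangle M hM
  have hq : ∀ k, DCoh.IsQCohDMod (OEtRing X.obj) (KFlat.DerivedLimit.tw M k) := fun k q => by
    by_cases hq : -(k : ℤ) ≤ q
    · have := KFlat.DerivedLimit.isIso_H_twπ M k q hq
      exact (SheafOfModules.isQuasicoherent.{u + 1, u, u + 1} (OEtRing X.obj)).prop_of_iso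
        (asIso ((homologyFunctor (ModEt X.obj) q).map (KFlat.DerivedLimit.twπ M k))) (hM q)
    · have := hM q
      have hg : (KFlat.DerivedLimit.tw M k).IsGE (-(k : ℤ)) :=
        inferInstanceAs (TStructure.t.IsGE ((TStructure.t.truncGE (-(k : ℤ))).obj M) (-(k : ℤ)))
      exact RFQC.isQuasicoherent_of_isZero (M := (homologyFunctor (ModEt X.obj) q).obj M)
        (DerivedCategory.isZero_of_isGE (KFlat.DerivedLimit.tw M k) (-(k : ℤ)) q (by omega))
  have hg : ∀ k, (KFlat.DerivedLimit.tw M k).IsGE (-(k : ℤ)) := fun k =>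
    inferInstanceAs (TStructure.t.IsGE ((TStructure.t.truncGE (-(k : ℤ))).obj M) (-(k : ℤ)))
  have hl : ∀ k, (KFlat.DerivedLimit.tw M k).IsLE b := fun k =>
    inferInstanceAs (TStructure.t.IsLE ((TStructure.t.truncGE (-(k : ℤ))).obj M) b)
  have hv : ∀ k (χ : P ⟶ KFlat.DerivedLimit.tw M k), χ = 0 := fun k χ => by
    obtain ⟨m, hm⟩ : ∃ m : ℕ, b ≤ -(k : ℤ) + m := ⟨(b + k).toNat, by omega⟩
    exact hom_bounded P c h m _ b _ hm (hg k) (hl k) (hq k) (by omega) χ
  have hv1 : ∀ k (χ : P⟦(1 : ℤ)⟧ ⟶ KFlat.DerivedLimit.tw M k), χ = 0 := fun k χ => by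
    obtain ⟨m, hm⟩ : ∃ m : ℕ, b + 1 ≤ -(k : ℤ) + 1 + m := ⟨(b + k).toNat, by omega⟩
    have hg' : ((KFlat.DerivedLimit.tw M k)⟦(-1 : ℤ)⟧).IsGE (-(k : ℤ) + 1) :=
      TStructure.t.isGE_shift (KFlat.DerivedLimit.tw M k) (-(k : ℤ)) (-1) (-(k : ℤ) + 1) (by omega)
    have hl' : ((KFlat.DerivedLimit.tw M k)⟦(-1 : ℤ)⟧).IsLE (b + 1) :=
      TStructure.t.isLE_shift (KFlat.DerivedLimit.tw M k) b (-1) (b + 1) (by omega)
    have hq' : DCoh.IsQCohDMod (OEtRing X.obj) ((KFlat.DerivedLimit.tw M k)⟦(-1 : ℤ)⟧) := fun q =>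
      (SheafOfModules.isQuasicoherent.{u + 1, u, u + 1} (OEtRing X.obj)).prop_of_iso
        (((homologyFunctor (ModEt X.obj) 0).shiftIso (-1) q (q - 1) (by omega)).app (KFlat.DerivedLimit.tw M k)).symm
        (hq k (q - 1))
    have e := hom_bounded P c h m _ (b + 1) _ hm hg' hl' hq' (by omega)
      ((shiftShiftNeg P (1 : ℤ)).inv ≫ χ⟦(-1 : ℤ)⟧')
    refine (shiftFunctor (DModEt X.obj) (-1 : ℤ)).map_injective ?_
    rw [Functor.map_zero]
    exact (cancel_epi ((shiftShiftNeg P (1 : ℤ)).inv)).1 (e.trans comp_zero.symm)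
  have e0 : φ ≫ Pi.lift (KFlat.DerivedLimit.twπ M) = 0 :=
    Pi.hom_ext _ _ fun k => by
      rw [Category.assoc, Pi.lift_π, zero_comp]
      exact hv k _
  let T := Triangle.mk (Pi.lift (KFlat.DerivedLimit.twπ M))
    (Pi.lift fun n => Pi.π (KFlat.DerivedLimit.tw M) n -
      Pi.π (KFlat.DerivedLimit.tw M) (n + 1) ≫ KFlat.DerivedLimit.twt M n) d
  refine (shiftFunctor (DModEt X.obj) (1 : ℤ)).map_injective ?_
  rw [Functor.map_zero]
  obtain ⟨χ, hχ⟩ := Triangle.coyoneda_exact₂ T.rotate.rotate (rot_of_distTriang _ (rot_of_distTriang _ hd)) (φ⟦(1 : ℤ)⟧') (by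
    change φ⟦(1 : ℤ)⟧' ≫ (-(Pi.lift (KFlat.DerivedLimit.twπ M))⟦(1 : ℤ)⟧') = 0
    rw [Preadditive.comp_neg, ← Functor.map_comp, e0, Functor.map_zero, neg_zero])
  have : χ = 0 := Pi.hom_ext _ _ fun k => by rw [zero_comp]; exact hv1 k _
  exact hχ.trans ((congrArg (· ≫ _) this).trans zero_comp)

end Groth.Agent.AlgSpEN.FamHom
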