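import Mathlib.RingTheory.Ideal.GoingUp
import Mathlib.LinearAlgebra.LinearIndependent.Basic
import Mathlib.Algebra.Polynomial.Lifts
import Mathlib.FieldTheory.Fixed
import Mathlib.RingTheory.IntegralClosure.Algebra.Basic

/-!
# An element of trace one for a free action of a finite group
-/

set_option autoImplicit false

open Polynomial

namespace Groth.Agent.AlgSpEN.FamTrace

variable {A : Type*} [CommRing A] {G : Type*} [Group G] [Fintype G]

/-- A free action of a finite group on a ring has an element of trace one. -/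
theorem exists_trace_one (σ : G → (A →+* A)) (h1 : σ 1 = RingHom.id A)
    (hmul : ∀ s t, (σ s).comp (σ t) = σ (s * t))
    (hfree : ∀ s, s ≠ 1 → ∀ m : Ideal A, m.IsMaximal → ∃ y, σ s y - y ∉ m) :
    ∃ e : A, ∑ t, σ t e = 1 := by
  classical
  rcases subsingleton_or_nontrivial A with hA' | hA'
  · exact ⟨0, Subsingleton.elim _ _⟩
  let B : Subring A := ⨅ s, (σ s).eqLocus (RingHom.id A)
  have hB : ∀ a, a ∈ B ↔ ∀ s, σ s a = a := fun a => by simp [B, Subring.mem_iInf]
  have htr : ∀ a, (∑ t, σ t a) ∈ B := fun a => (hB _).2 fun s => by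
    rw [map_sum]
    exact Fintype.sum_equiv (Equiv.mulLeft s) _ _ fun t => congr($(hmul s t) a)
  have hlin : ∀ (b : B) a, ∑ t, σ t ((b : A) * a) = (b : A) * ∑ t, σ t a := fun b a => by
    simp only [map_mul, (hB _).1 b.2, Finset.mul_sum]
  let T : Ideal B :=
    { carrier := {b | ∃ a, ∑ t, σ t a = (b : A)}
      add_mem' := fun ⟨a, ha⟩ ⟨a', ha'⟩ => ⟨a + a', by simp [Finset.sum_add_distrib, ha, ha']⟩
      zero_mem' := ⟨0, by simp⟩
      smul_mem' := fun c b ⟨a, ha⟩ => ⟨(c : A) * a, by rw [hlin, ha]; rfl⟩ }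
  suffices hT : T = ⊤ by
    obtain ⟨e, he⟩ := hT.ge (Submodule.mem_top (x := (1 : B)))
    exact ⟨e, he⟩
  have hA : T.map B.subtype = ⊤ := by
    by_contra hne
    obtain ⟨m, hm, hle⟩ := Ideal.exists_le_maximal _ hne
    let χ : G → (A →* A ⧸ m) := fun s => ((Ideal.Quotient.mk m).comp (σ s)).toMonoidHom
    have hinj : Function.Injective χ := by
      intro s t hst
      by_contra hne'
      obtain ⟨y, hy⟩ := hfree (s * t⁻¹) (fun h => hne' (mul_inv_eq_one.1 h)) m hm
      refine hy ((Ideal.Quotient.eq).1 ?_)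
      have h := congr($hst (σ t⁻¹ y))
      change Ideal.Quotient.mk m (σ s (σ t⁻¹ y)) = Ideal.Quotient.mk m (σ t (σ t⁻¹ y)) at h
      rwa [show σ s (σ t⁻¹ y) = σ (s * t⁻¹) y from congr($(hmul _ _) y),
        show σ t (σ t⁻¹ y) = σ (t * t⁻¹) y from congr($(hmul _ _) y), mul_inv_cancel, h1, RingHom.id_apply] at h
    have := hm.isPrime
    have hli := ((linearIndependent_monoidHom A (A ⧸ m)).comp χ hinj)
    have h0 := Fintype.linearIndependent_iff.1 hli (fun _ => 1) (funext fun a => by
      simp only [Finset.sum_apply, one_smul, Function.comp_apply, Pi.zero_apply]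
      change ∑ t, Ideal.Quotient.mk m (σ t a) = 0
      rw [← map_sum, Ideal.Quotient.eq_zero_iff_mem]
      exact hle (Ideal.mem_map_of_mem B.subtype (x := ⟨_, htr a⟩) (show (⟨_, htr a⟩ : B) ∈ T from ⟨a, rfl⟩))) 1
    exact one_ne_zero h0
  have hint : B.subtype.IsIntegral := fun a => by
    let P : A[X] := ∏ t, (X - C (σ t a))
    have hP : P ∈ Polynomial.lifts B.subtype := by
      refine (Polynomial.lifts_iff_coeff_lifts _).2 fun n => ⟨⟨P.coeff n, (hB _).2 fun s => ?_⟩, rfl⟩
      rw [← Polynomial.coeff_map]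
      congr 1
      simp only [P, Polynomial.map_prod, Polynomial.map_sub, Polynomial.map_X, Polynomial.map_C]
      exact Fintype.prod_equiv (Equiv.mulLeft s) _ _ fun t =>
        congrArg (fun q => X - C q) congr($(hmul s t) a)
    obtain ⟨p, hp, -, hpm⟩ := Polynomial.lifts_and_degree_eq_and_monic hP (monic_prod_X_sub_C _ _)
    refine ⟨p, hpm, ?_⟩
    rw [Polynomial.eval₂_eq_eval_map, hp]
    simp only [P, Polynomial.eval_prod, Polynomial.eval_sub, Polynomial.eval_X, Polynomial.eval_C]
    exact Finset.prod_eq_zero (Finset.mem_univ 1) (by simp [h1])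
  let _ : Algebra B A := B.subtype.toAlgebra
  have : Algebra.IsIntegral B A := ⟨hint⟩
  by_contra hne
  obtain ⟨p, hp, hle⟩ := Ideal.exists_le_maximal _ hne
  obtain ⟨q, hq, hqp⟩ := Ideal.exists_ideal_over_maximal_of_isIntegral (S := A) p (by
    rw [(RingHom.injective_iff_ker_eq_bot _).1 (fun x y h => Subtype.ext h)]
    exact bot_le)
  refine hq.ne_top (eq_top_iff.2 (hA.ge.trans (Ideal.map_le_iff_le_comap.2 (hle.trans ?_))))
  exact hqp.ge

end Groth.Agent.AlgSpEN.FamTrace
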