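import Groth.Agent.AlgSpEN.FamCover
import Groth.Agent.AlgSpEN.FamTrace
import Groth.Agent.AlgSpEN.Strata
import Groth.Agent.AlgSpEN.Action

/-!
# Goodness descends along affine etale coverings of affine objects
-/

set_option autoImplicit false
universe w u

open CategoryTheory CategoryTheory.Limits AlgebraicGeometry Opposite

set_option backward.isDefEq.respectTransparency false
set_option backward.isDefEq.respectTransparency.types false
set_option maxHeartbeats 1000000

noncomputable section

namespace Groth.Agent.AlgSpEN.FamHom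

open _root_.AlgSp Groth.Agent.AlgSpQC PushIntegral

variable {S : Scheme.{u}} {X : AlgSp.Space S} {K : CochainComplex (ModEt X.obj) ℤ}

theorem hom_ext_left {Z Q : EtOver X.obj} {f g : Z ⟶ Q} (h : f.hom.left = g.hom.left) : f = g :=
  ObjectProperty.hom_ext _ (CostructuredArrow.hom_ext _ _ h)

/-- The functions separate points with values in a residue field. -/
theorem exists_not_mem_of_forall_ne {Q : Scheme.{u}} [IsAffine Q] {V : Over S} (e : V.left = Q) (φ : Q ⟶ Q)
    (h : ∀ (L : Scheme.{u}) (k : L ⟶ Q), Nonempty L → k ≫ φ ≠ k) (m : Ideal Γ(Q, ⊤)) (hm : m.IsMaximal) :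
    ∃ y, φ.appTop y - y ∉ m := by
  by_contra hne
  push Not at hne
  let ψ : Spec (CommRingCat.of (Γ(Q, ⊤) ⧸ m)) ⟶ Q :=
    Spec.map (CommRingCat.ofHom (Ideal.Quotient.mk m)) ≫ Q.isoSpec.inv
  have := hm.ne_top
  have : Nontrivial (Γ(Q, ⊤) ⧸ m) := Ideal.Quotient.nontrivial_iff.2 hm.ne_top
  refine h _ ψ inferInstance ((cancel_mono Q.isoSpec.hom).1 ?_)
  have hψ : ψ ≫ Q.toSpecΓ = Spec.map (CommRingCat.ofHom (Ideal.Quotient.mk m)) := by
    change (Spec.map _ ≫ Q.isoSpec.inv) ≫ Q.isoSpec.hom = _
    rw [Category.assoc, Iso.inv_hom_id, Category.comp_id]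
  rw [Category.assoc]
  change ψ ≫ φ ≫ Q.toSpecΓ = ψ ≫ Q.toSpecΓ
  rw [Scheme.toSpecΓ_naturality, ← Category.assoc, hψ, ← Spec.map_comp]
  congr 1
  ext y
  exact Ideal.Quotient.eq.2 (hne y)

/-- An affine object with an affine etale covering over which everything is good is good. -/
theorem good_top_of_cover {M U : EtOver X.obj} [IsAffine M.obj.left.left] [IsAffine U.obj.left.left] (p : U ⟶ M)
    (hp : Function.Surjective p.hom.left.left) (hU : GoodOver K U) : Good (Dom.top (yoneda.obj M)) K := by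
  classical
  let pS : U.obj.left ⟶ M.obj.left := p.hom.left
  have hpe : RepWith @Etale ((yon S).map pS) := (repWith_yon_map_iff _ pS).2 (EtOver.etale_left p)
  have hps : RepWith @Surjective ((yon S).map pS) := (repWith_yon_map_iff _ pS).2 ⟨hp⟩
  have hpq : RepWith @QuasiCompact ((yon S).map pS) :=
    (repWith_yon_map_iff _ pS).2 (have := isAffineHom_of_isAffine pS.left; inferInstance)
  have hpa : RepWith @IsAffineHom ((yon S).map pS) :=
    (repWith_yon_map_iff _ pS).2 (isAffineHom_of_isAffine pS.left)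
  obtain ⟨N, hN⟩ := exists_tupleLocus_eq_empty (IsAlgSpace.yon_obj M.obj.left) hpe hps hpq
  choose V g i₀ hg hge hgs hlift hext hdist haff using fun d : ℕ => exists_distinct hpe (ULift.{u} (Fin (d + 1)))
  have hVa : ∀ d, IsAffine (V d).left := fun d => (haff d).2 hpa
  have hgp : ∀ d i j, g d i ≫ pS = g d j ≫ pS := fun d i j =>
    (yon S).map_injective (by rw [Functor.map_comp, Functor.map_comp, hg d i j])
  let Q : ℕ → EtOver X.obj := fun d => EtOver.mk ((yon S).map (g d (i₀ d) ≫ pS) ≫ M.obj.hom)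
    (have : Etale (g d (i₀ d) ≫ pS).left := by
      have := hge d; have := EtOver.etale_left p; rw [Over.comp_left]; infer_instance
    AlgSpB.repWith_etale_map_comp _ M.property)
  have hQa : ∀ d, IsAffine (Q d).obj.left.left := hVa
  let q : ∀ d, Q d ⟶ M := fun d => EtOver.homMk (g d (i₀ d) ≫ pS) rfl
  let gg : ∀ d, ULift.{u} (Fin (d + 1)) → (Q d ⟶ U) := fun d i => EtOver.homMk (g d i) (by
    change (yon S).map (g d i) ≫ U.obj.hom = (yon S).map (g d (i₀ d) ≫ pS) ≫ M.obj.hom
    rw [← hgp d i, ← EtOver.w p, Functor.map_comp, Category.assoc])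
  have hggq : ∀ d i, gg d i ≫ p = q d := fun d i => hom_ext_left (hgp d i (i₀ d))
  have lift : ∀ (d : ℕ) (Z : EtOver X.obj) (x : Z ⟶ M) (a : Fin (d + 1) → (Z.obj.left ⟶ U.obj.left)),
      (∀ i, a i ≫ pS = x.hom.left) →
      (∀ (T' : Over S) (k : T' ⟶ Z.obj.left) (i j : Fin (d + 1)), Nonempty T'.left → i ≠ j → k ≫ a i ≠ k ≫ a j) →
      ∃ v : Z ⟶ Q d, v ≫ q d = x := by
    intro d Z x a ha hd
    obtain ⟨h, hh⟩ := hlift d Z.obj.left (fun i => a i.down)
      (fun i j => by rw [← Functor.map_comp, ← Functor.map_comp, ha, ha])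
      (fun T' k i j hT hij => hd T' k _ _ hT fun e => hij (ULift.down_injective e))
    have e : h ≫ g d (i₀ d) ≫ pS = x.hom.left := by rw [← Category.assoc, hh, ha]
    refine ⟨EtOver.homMk h ?_, hom_ext_left e⟩
    change (yon S).map h ≫ (yon S).map (g d (i₀ d) ≫ pS) ≫ M.obj.hom = Z.obj.hom
    rw [← Category.assoc, ← Functor.map_comp, e, EtOver.w x]
  let O : ℕ → M.obj.left.left.Opens := fun d => ⟨Set.range (q d).hom.left.left,
    (have := EtOver.etale_left (q d); (q d).hom.left.left.isOpenMap).isOpen_range⟩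
  have hOc : ∀ d, IsCompact (O d : Set M.obj.left.left) := fun d => isCompact_range (q d).hom.left.left.continuous
  suffices H : ∀ k d, d + k = N → Good (inOpen M (O d : Set M.obj.left.left)) K by
    refine good_of_iff (fun Z v => ⟨fun _ => trivial, fun _ z => ?_⟩) (H N 0 (zero_add N))
    obtain ⟨u, hu⟩ := hp (v.hom.left.left z)
    obtain ⟨w, hw⟩ := lift 0 U p (fun _ => 𝟙 _) (fun _ => Category.id_comp _)
      (fun T' k i j _ hij => absurd (Fin.ext (by omega)) hij)
    exact ⟨w.hom.left.left u, (congrArg (fun f : U ⟶ M => f.hom.left.left u) hw).trans hu⟩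
  intro k
  induction k with
  | zero =>
    intro d hd
    obtain rfl : d = N := by omega
    refine good_of_subsingleton fun Z v hv I => ?_
    have : IsEmpty Z.obj.left.left := ⟨fun z => by
      obtain ⟨w, -⟩ := hv z
      refine (Set.eq_empty_iff_forall_notMem.1 hN _) ⟨V d, w, fun i => g d ⟨i⟩,
        (yon S).map (g d (i₀ d)) ≫ (yon S).map pS, rfl, fun i => hg d _ _,
        fun T' k i j hT hij => hdist d T' k _ _ hT fun e => hij (congrArg ULift.down e)⟩⟩
    exact sect_subsingleton_of_isEmpty ((toAbEt X.obj).obj I) Z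
  | succ k ih =>
    intro d hd
    let G := Equiv.Perm (Fin (d + 1))
    have hφ : ∀ t : G, ∃ h : Q d ⟶ Q d, (∀ i, h.hom.left ≫ g d ⟨i⟩ = g d ⟨t i⟩) ∧ h ≫ q d = q d := fun t => by
      obtain ⟨h, hh⟩ := hlift d (V d) (fun i => g d ⟨t i.down⟩) (fun i j => hg d _ _) (fun T' k i j hT hij =>
        hdist d T' k _ _ hT fun e => hij (ULift.down_injective (t.injective (congrArg ULift.down e))))
      have e : h ≫ g d (i₀ d) ≫ pS = g d (i₀ d) ≫ pS := by
        rw [← Category.assoc, hh (i₀ d)]
        exact hgp d _ _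
      refine ⟨EtOver.homMk h ?_, fun i => hh ⟨i⟩, hom_ext_left e⟩
      change (yon S).map h ≫ (yon S).map (g d (i₀ d) ≫ pS) ≫ M.obj.hom = (yon S).map (g d (i₀ d) ≫ pS) ≫ M.obj.hom
      rw [← Category.assoc, ← Functor.map_comp, e]
    choose φ hφ hφq using hφ
    have hφm : ∀ s t : G, φ s ≫ φ t = φ (s * t) := fun s t => hom_ext_left (hext d _ _ _ fun i => by
      change ((φ s).hom.left ≫ (φ t).hom.left) ≫ g d i = (φ (s * t)).hom.left ≫ g d i
      rw [Category.assoc, hφ t i.down, hφ s, hφ (s * t) i.down]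
      rfl)
    have hφ1 : φ 1 = 𝟙 _ := hom_ext_left (hext d _ _ _ fun i =>
      (hφ 1 i.down).trans (Category.id_comp (g d i)).symm)
    have := hQa d
    obtain ⟨e, he⟩ := FamTrace.exists_trace_one (fun t : G => gm (φ t))
      (by rw [hφ1]; rfl) (fun s t => by
        refine RingHom.ext fun a => ?_
        change gm (φ s) (gm (φ t) a) = gm (φ (s * t)) a
        rw [← gm_comp, hφm])
      (fun s hs m hm => exists_not_mem_of_forall_ne (V := (Q d).obj.left) rfl (φ s).hom.left.left (fun L k hL hk => by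
        obtain ⟨i, hi⟩ : ∃ i, s i ≠ i := by
          by_contra hne
          push Not at hne
          exact hs (Equiv.ext hne)
        let k' : Over.mk (k ≫ (Q d).obj.left.hom) ⟶ V d := Over.homMk k rfl
        have hk' : k' ≫ (φ s).hom.left = k' := Over.OverMorphism.ext hk
        refine hdist d _ k' ⟨s i⟩ ⟨i⟩ hL (fun e => hi (congrArg ULift.down e)) ?_
        rw [← hφ s i, reassoc_of% hk']) m hm)
    have hsub : (O (d + 1) : Set M.obj.left.left) ⊆ O d := by
      rintro _ ⟨z, rfl⟩
      obtain ⟨w, hw⟩ := lift d (Q (d + 1)) (q (d + 1)) (fun i => g (d + 1) ⟨i.castSucc⟩) (fun i => hgp _ _ _)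
        (fun T' k i j hT hij => hdist (d + 1) T' k _ _ hT fun e =>
          hij (Fin.castSucc_injective _ (congrArg ULift.down e)))
      exact ⟨w.hom.left.left z, congrArg (fun f : Q (d + 1) ⟶ M => f.hom.left.left z) hw⟩
    refine good_step (Q := Q d) (DA := inOpen M (O (d + 1) : Set M.obj.left.left)) (q d)
      (fun Z x hx z => hsub (hx z)) (fun Z v z => ⟨v.hom.left.left z, rfl⟩) φ e hφq
      (fun s => ⟨Equiv.mulLeft s, fun t => hφm s t⟩) he ?_ ?_ (ih (d + 1) (by omega))
      (hU (Q d) (gg d (i₀ d)) (hQa d)) ?_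
    · intro Z x hx
      refine exists_sieve_of_local _ (fun {Z' Z''} h l hl => hl.elim (fun h1 => Or.inl fun z => h1 (h.hom.left.left z))
        fun ⟨v, hv⟩ => Or.inr ⟨h ≫ v, by
          change (h ≫ v) ≫ q d = (h ≫ l) ≫ x
          rw [Category.assoc, Category.assoc]
          exact congrArg (h ≫ ·) hv⟩) fun z => ?_
      obtain ⟨w, hw⟩ := hx z
      obtain ⟨y, hy, -⟩ := Scheme.exists_preimage_of_isPullback
        ((EtOver.isPullback x (q d)).map (EtOver.toScheme X.obj)) z w hw.symm
      exact ⟨_, EtOver.pullbackFst x (q d), Or.inr ⟨EtOver.pullbackSnd x (q d),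
        (EtOver.isPullback x (q d)).w.symm⟩, y, hy⟩
    · intro Z v v' e'
      refine exists_sieve_of_local _ (fun {Z' Z''} h l hl => hl.elim (fun h1 => Or.inl fun z => h1 (h.hom.left.left z))
        fun ⟨s, hs⟩ => Or.inr ⟨s, by simp only [Category.assoc] at hs ⊢; rw [hs]⟩) fun z => ?_
      have hab : ∀ i j, (yon S).map (v.hom.left ≫ g d ⟨i⟩) ≫ (yon S).map pS =
          (yon S).map (v'.hom.left ≫ g d ⟨j⟩) ≫ (yon S).map pS := fun i j => by
        rw [← Functor.map_comp, ← Functor.map_comp, Category.assoc, Category.assoc, hgp d _ (i₀ d), hgp d ⟨j⟩ (i₀ d)]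
        exact congrArg (yon S).map (congrArg (fun f : Z ⟶ M => f.hom.left) e')
      choose C hC hCiff using fun i j => exists_eqLocus hpe _ _ (hab i j)
      by_cases hτ : ∀ i, ∃ j, z ∈ C j i
      · choose τ hτ using hτ
        obtain ⟨W, hW'⟩ := exists_iInf_opens fun i : ULift.{u} (Fin (d + 1)) => C (τ i.down) i.down
        have hW : ∀ t, t ∈ W ↔ ∀ i, t ∈ C (τ i) i := fun t =>
          (hW' t).trans ⟨fun h i => h ⟨i⟩, fun h i => h i.down⟩
        have key : ∀ i, ((pieceHom Z W).hom.left ≫ v.hom.left) ≫ g d ⟨τ i⟩ =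
            ((pieceHom Z W).hom.left ≫ v'.hom.left) ≫ g d ⟨i⟩ := fun i => by
          rw [Category.assoc, Category.assoc]
          exact (hCiff (τ i) i _ (pieceHom Z W).hom.left).2 fun t => (hW _).1 (pieceHom_mem W t) i
        have hinjτ : Function.Injective τ := fun i i' e'' => by
          by_contra hne
          refine hdist d _ ((pieceHom Z W).hom.left ≫ v'.hom.left) ⟨i⟩ ⟨i'⟩ ⟨⟨z, (hW z).2 hτ⟩⟩
            (fun e3 => hne (congrArg ULift.down e3)) ?_
          rw [← key i, ← key i', e'']
        let s : G := Equiv.ofBijective τ (Finite.injective_iff_bijective.1 hinjτ)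
        refine ⟨piece Z W, pieceHom Z W, Or.inr ⟨s, hom_ext_left (hext d _ _ _ fun i => ?_)⟩,
          mem_range_pieceHom W ((hW z).2 hτ)⟩
        change ((pieceHom Z W).hom.left ≫ v'.hom.left) ≫ g d i =
          (((pieceHom Z W).hom.left ≫ v.hom.left) ≫ (φ s).hom.left) ≫ g d i
        rw [Category.assoc ((pieceHom Z W).hom.left ≫ v.hom.left), hφ s i.down]
        exact (key i.down).symm
      · push Not at hτ
        obtain ⟨i, hi⟩ := hτ
        obtain ⟨W, hW'⟩ := exists_iInf_opens (X := Z.obj.left.left) fun j : ULift.{u} (Fin (d + 1)) =>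
          (⟨(C j.down i : Set Z.obj.left.left)ᶜ, (hC j.down i).compl.2⟩ : Z.obj.left.left.Opens)
        have hW : ∀ t, t ∈ W ↔ ∀ j, t ∉ C j i := fun t =>
          (hW' t).trans ⟨fun h j => h ⟨j⟩, fun h j => h j.down⟩
        refine ⟨piece Z W, pieceHom Z W, Or.inl ?_, mem_range_pieceHom W ((hW z).2 hi)⟩
        have hne : ∀ (T' : Over S) (l : T' ⟶ (piece Z W).obj.left) (j : Fin (d + 1)), Nonempty T'.left →
            l ≫ (pieceHom Z W).hom.left ≫ v'.hom.left ≫ g d ⟨i⟩ ≠ l ≫ (pieceHom Z W).hom.left ≫ v.hom.left ≫ g d ⟨j⟩ :=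
          fun T' l j ⟨t⟩ e'' => (hW _).1 (pieceHom_mem W (l.left t)) j
            ((hCiff j i T' (l ≫ (pieceHom Z W).hom.left)).1 (by simpa only [Category.assoc] using e''.symm) t)
        obtain ⟨w, hw⟩ := lift (d + 1) (piece Z W) (pieceHom Z W ≫ v ≫ q d)
          (Fin.cons ((pieceHom Z W).hom.left ≫ v'.hom.left ≫ g d ⟨i⟩)
            fun j => (pieceHom Z W).hom.left ≫ v.hom.left ≫ g d ⟨j⟩)
          (fun j => by
            refine Fin.cases ?_ (fun j => ?_) j
            · simp only [Fin.cons_zero, Category.assoc]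
              rw [hgp d _ (i₀ d)]
              exact congrArg ((pieceHom Z W).hom.left ≫ ·) (congrArg (fun f : Z ⟶ M => f.hom.left) e').symm
            · simp only [Fin.cons_succ, Category.assoc]
              rw [hgp d _ (i₀ d)]
              rfl)
          (fun T' l a b hT hab' => by
            revert hab'
            refine Fin.cases (Fin.cases (fun h => absurd rfl h) (fun b h => ?_) b)
              (fun a => Fin.cases (fun h => ?_) (fun b h => ?_) b) a
            · simp only [Fin.cons_zero, Fin.cons_succ]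
              exact hne T' l b hT
            · simp only [Fin.cons_zero, Fin.cons_succ]
              exact (hne T' l a hT).symm
            · simp only [Fin.cons_succ]
              intro e''
              exact hdist d T' (l ≫ (pieceHom Z W).hom.left ≫ v.hom.left) ⟨a⟩ ⟨b⟩ hT
                (fun e3 => h (congrArg Fin.succ (congrArg ULift.down e3))) (by simpa only [Category.assoc] using e''))
        intro t
        refine ⟨w.hom.left.left t, ?_⟩
        have := congrArg (fun f : piece Z W ⟶ M => f.hom.left.left t) hw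
        simpa using this
    · refine good_of_iff (D := inOpen (Q d) (((q d).hom.left.left ⁻¹ᵁ O (d + 1) : _) : Set (Q d).obj.left.left))
        (fun Z v => Iff.rfl) (good_compact (hU.of_hom (gg d (i₀ d))) _ ?_)
      exact QuasiCompact.isCompact_preimage _ (O (d + 1)).isOpen (hOc (d + 1))

/-- An affine object with an affine etale covering over which everything is good has the same property. -/
theorem goodOver_of_etale_cover {M U : EtOver X.obj} [IsAffine M.obj.left.left] [IsAffine U.obj.left.left]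
    (p : U ⟶ M) (hp : Function.Surjective p.hom.left.left) (hU : GoodOver K U) : GoodOver K M := by
  intro M' φ hM'
  have sq := (EtOver.isPullback φ p).map (EtOver.toScheme X.obj)
  have : IsAffineHom p.hom.left.left := isAffineHom_of_isAffine _
  have : IsAffineHom (EtOver.pullbackFst φ p).hom.left.left :=
    MorphismProperty.of_isPullback sq.flip ‹IsAffineHom p.hom.left.left›
  have : IsAffine (EtOver.pullbackObj φ p).obj.left.left := isAffine_of_isAffineHom (EtOver.pullbackFst φ p).hom.left.left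
  refine good_top_of_cover (EtOver.pullbackFst φ p) (fun z => ?_) (hU.of_hom (EtOver.pullbackSnd φ p))
  obtain ⟨u, hu⟩ := hp (φ.hom.left.left z)
  obtain ⟨y, hy, -⟩ := Scheme.exists_preimage_of_isPullback sq z u hu.symm
  exact ⟨y, hy⟩

end Groth.Agent.AlgSpEN.FamHom
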