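import Groth.Agent.AlgSpEN.SliceFree
import Groth.Agent.KFlat.MapHomology

/-!
# Quasi-coherence of the cohomology of pseudo-coherent objects on the small etale site
-/

universe u

open CategoryTheory CategoryTheory.Limits AlgebraicGeometry Opposite

set_option backward.isDefEq.respectTransparency false
set_option autoImplicit false
set_option maxHeartbeats 1000000
attribute [local instance] HasDerivedCategory.standard

namespace Groth.Agent.AlgSpEN.PerfQC

open _root_.AlgSp Groth.Agent.AlgSpQC

variable {S : Scheme.{u}} {X : Sp S} {V W : EtOver X} (g : W ⟶ V)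

/-- Further restriction of modules. -/
noncomputable abbrev down : ModEtOn V ⥤ ModEtOn W := SheafOfModules.overMap (OEtRing X) g

instance additive_down : (down g).Additive where
  map_add := by intros; rfl

instance isLeftAdjoint_down : (down g).IsLeftAdjoint := inferInstance

noncomputable instance preservesFiniteColimits_down : PreservesFiniteColimits (down g) := inferInstance

noncomputable instance preservesFiniteLimits_down : PreservesFiniteLimits (down g) := by
  have h1 : PreservesFiniteLimits (down g ⋙ SheafOfModules.toSheaf.{u + 1} _) := by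
    have e : down g ⋙ SheafOfModules.toSheaf.{u + 1} _ = SheafOfModules.toSheaf _ ⋙
        (Over.map g).sheafPushforwardContinuous AddCommGrpCat.{u + 1} ((etTop X).over W) ((etTop X).over V) := rfl
    rw [e]
    infer_instance
  have h2 : ReflectsFiniteLimits (SheafOfModules.toSheaf.{u + 1} (OEtOn W)) := inferInstance
  exact preservesFiniteLimits_of_reflects_of_preserves (down g) (SheafOfModules.toSheaf.{u + 1} _)

theorem isFinFreeSummandMod_down {M : ModEtOn V} (h : DCoh.IsFinFreeSummandMod (OEtOn V) M) :
    DCoh.IsFinFreeSummandMod ((OEtRing X).over W) ((down g).obj M) := by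
  obtain ⟨n, i, p, e⟩ := h
  let η : (down g).obj (SheafOfModules.unit _) ≅ SheafOfModules.unit _ := SheafOfModules.overMapUnitIso g
  let a := SheafOfModules.mapFreeIso (down g) (ULift.{u + 1} (Fin n)) η
  refine ⟨n, (down g).map i ≫ a.inv, a.hom ≫ (down g).map p, ?_⟩
  rw [Category.assoc, a.inv_hom_id_assoc, ← CategoryTheory.Functor.map_comp, e]
  exact (down g).map_id M

/-- Over an affine object the homology of a restricted strictly perfect complex has a presentation. -/
theorem nonempty_presentation_down_homology [IsAffine W.obj.left.left] (E : CochainComplex (ModEtOn V) ℤ)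
    (hE : DCoh.IsStrictlyPerfectMod (OEtOn V) E) (i : ℤ) :
    Nonempty ((down g).obj (E.homology i)).Presentation := by
  have h := SliceFree.nonempty_presentation_homology (E := W) ((E.sc i).map (down g))
    (isFinFreeSummandMod_down g (hE.2 _)) (isFinFreeSummandMod_down g (hE.2 _)) (isFinFreeSummandMod_down g (hE.2 _))
  exact h.elim fun P => ⟨SheafOfModules.Presentation.ofIsIso ((E.sc i).mapHomologyIso (down g)).hom P⟩

include g in
/-- The cohomology of a pseudo-coherent object has a presentation on small affine objects. -/
theorem nonempty_presentation_over [IsAffine W.obj.left.left] (K : DModEt X) (m i : ℤ) (hi : m < i)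
    (E : CochainComplex (ModEtOn V) ℤ) (α : DCoh.toDMod (OEtOn V) E ⟶ (resDEt V).obj K)
    (hE : DCoh.IsStrictlyPerfectMod (OEtOn V) E)
    (hα : ∀ j : ℤ, m < j → IsIso ((DerivedCategory.homologyFunctor (ModEtOn V) j).map α)) :
    Nonempty ((DCoh.HDMod (OEtRing X) K i).over W).Presentation := by
  have := hα i hi
  let e₁ : E.homology i ≅ (resModEt V).obj (DCoh.HDMod (OEtRing X) K i) :=
    ((DerivedCategory.homologyFunctorFactors (ModEtOn V) i).app E).symm ≪≫
      asIso ((DerivedCategory.homologyFunctor (ModEtOn V) i).map α) ≪≫ (KFlat.MapHomology.iso (resModEt V) i).app K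
  let e₂ : (down g).obj (E.homology i) ≅ (DCoh.HDMod (OEtRing X) K i).over W :=
    (down g).mapIso e₁ ≪≫ (SheafOfModules.overFunctorMap (OEtRing X) g).app _
  exact (nonempty_presentation_down_homology g E hE i).elim fun P =>
    ⟨SheafOfModules.Presentation.ofIsIso e₂.hom P⟩

/-- The cohomology sheaves above the bound are quasi-coherent. -/
theorem isQuasicoherent_HDMod (K : DModEt X) (m i : ℤ) (hi : m < i) (hK : IsPseudoCoherentEtD m K) :
    (DCoh.HDMod (OEtRing X) K i).IsQuasicoherent := by
  let I := {W : EtOver X // Nonempty ((DCoh.HDMod (OEtRing X) K i).over W).Presentation}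
  refine SheafOfModules.QuasicoherentData.isQuasicoherent (M := DCoh.HDMod (OEtRing X) K i)
    { I := I, X := fun W => W.1, coversTop := fun U => ?_, presentation := fun W => W.2.some }
  refine (hK U).elim fun ι h => h.elim fun V h => h.elim fun g h => ?_
  refine (etTop X).transitive (Precoverage.generate_mem_toGrothendieck h.1) _ fun Y f hf => ?_
  obtain ⟨Y', k, f', hf', e⟩ := hf
  obtain ⟨j⟩ := hf'
  refine (exists_affine_sieve (V j)).elim fun T hT => ?_
  refine (etTop X).superset_covering ?_ ((etTop X).pullback_stable k hT.1)
  intro Z q hq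
  refine (hT.2 Z (q ≫ k) hq).elim fun W' hW => hW.elim fun a ha => ha.elim fun b hb => ?_
  have := hb.1
  refine (h.2 j).elim fun E hE => hE.elim fun α hα => ?_
  exact (Sieve.mem_ofObjects_iff _ _).2
    ⟨⟨W', nonempty_presentation_over b K m i hi E α hα.1 hα.2.1⟩, ⟨a⟩⟩

end Groth.Agent.AlgSpEN.PerfQC
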