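import Groth.Agent.AlgSpEN.RlimQC
import Groth.Agent.AlgSpEN.OverInj
import Groth.Agent.AlgSpQC.Conv
import Mathlib.Algebra.Homology.DerivedCategory.ExactFunctor

/-!
# Acyclicity of the unit of a slice over an affine object for modules with exact Amitsur complexes
-/

set_option autoImplicit false
universe u

open CategoryTheory CategoryTheory.Limits AlgebraicGeometry Opposite

set_option backward.isDefEq.respectTransparency false
set_option backward.isDefEq.respectTransparency.types false
set_option maxHeartbeats 400000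
attribute [local instance] HasDerivedCategory.standard

noncomputable section

namespace Groth.Agent.AlgSpEN.SliceAcy

open _root_.AlgSp Groth.Agent.AdeqAmitsur Groth.Agent.AlgSpEN.Amitsur Groth.Agent.AlgSpEN.FreeAcy
open Groth.Agent.AlgSpQC (secTop topSec toTop oTop sec_secTop)

variable {S : Scheme.{u}} {X : Space S}

/-- Restriction to a slice preserves injective modules. -/
theorem injective_res (I : ModEt X.obj) [Injective I] (U : EtOver X.obj) : Injective ((resModEt U).obj I) := by
  have := injective_val I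
  have h := OverInj.injective_restrict.{u + 1, u, u + 1} (U := U) I.val
  let e : (PresheafOfModules.pushforward₀ (Over.forget U) (OEtRing X.obj).obj).obj I.val ≅
      ((resModEt U).obj I).val := PresheafOfModules.isoMk (fun _ => Iso.refl _)
  have : Injective ((resModEt U).obj I).val := Injective.of_iso e h
  constructor
  intro P Q g f _
  have : Mono f.val := inferInstanceAs (Mono ((SheafOfModules.forget _).map f))
  obtain ⟨k, hk⟩ := Injective.factors g.val f.val
  exact ⟨⟨k⟩, SheafOfModules.hom_ext hk⟩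

theorem section_ext {U : EtOver X.obj} {N : SheafOfModules.{u + 1} ((OEtRing X.obj).over U)} (s s' : N.sections)
    (h : s.val (op (oTop U)) = s'.val (op (oTop U))) : s = s' := by
  refine Subtype.ext (funext fun Y => ?_)
  exact (s.property (toTop Y.unop).op).symm.trans ((congrArg _ h).trans (s'.property (toTop Y.unop).op))

/-- The value on the base of a map out of the unit. -/
def topVal {U : EtOver X.obj} {N : SheafOfModules.{u + 1} ((OEtRing X.obj).over U)}
    (γ : SheafOfModules.unit _ ⟶ N) : N.val.obj (op (oTop U)) :=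
  (N.unitHomEquiv γ).val (op (oTop U))

theorem exists_unit_lift {U : EtOver X.obj} {N N' : SheafOfModules.{u + 1} ((OEtRing X.obj).over U)} (φ : N ⟶ N')
    (γ : SheafOfModules.unit _ ⟶ N') (s : N.val.obj (op (oTop U))) (hs : (φ.val.app (op (oTop U))).hom s = topVal γ) :
    ∃ γ', γ' ≫ φ = γ := by
  refine ⟨N.unitHomEquiv.symm (secTop s), N'.unitHomEquiv.injective (section_ext _ _ ?_)⟩
  rw [SheafOfModules.unitHomEquiv_comp_apply, Equiv.apply_symm_apply]
  refine Eq.trans ?_ hs
  refine congrArg (φ.val.app (op (oTop U))).hom ?_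
  change (N.val.map (toTop (oTop U)).op).hom s = s
  have e : (toTop (oTop U)).op = 𝟙 (op (oTop U)) := congrArg Quiver.Hom.op
    (Over.OverMorphism.ext rfl : toTop (oTop U) = 𝟙 (oTop U))
  exact (N.val.congr_map_apply e s).trans (by simp)

/-- Sections of the third term lift to maps out of the unit. -/
theorem exists_lift_of_surjective (U : EtOver X.obj) {A B : ModEt X.obj} (φ : A ⟶ B)
    (h : Function.Surjective (φ.val.app (op U)).hom) (γ : SheafOfModules.unit (OEtOn U) ⟶ (resModEt U).obj B) :
    ∃ γ', γ' ≫ (resModEt U).map φ = γ := by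
  refine (h (topVal (N := (resModEt U).obj B) γ)).elim fun s hs => ?_
  exact exists_unit_lift ((resModEt U).map φ) γ s hs

/-- The unit of the slice over an affine object has no higher `Ext` into restrictions of modules with exact
Amitsur complexes. -/
theorem acy_unit (U : EtOver X.obj) [IsAffine U.obj.left.left] {G : ModEt X.obj} (hG : Cech ((toAbEt X.obj).obj G)) :
    KFlat.TruncHom.Acy (SheafOfModules.unit (OEtOn U)) ((resModEt U).obj G) := by
  have := AlgSpQC.enoughInjectives_modEt X.obj
  refine KFlat.QCohAcy.acy_of_class (SheafOfModules.unit (OEtOn U))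
    (fun N => ∃ G : ModEt X.obj, Cech ((toAbEt X.obj).obj G) ∧ N = (resModEt U).obj G) (fun N hN => ?_) ⟨G, hG, rfl⟩
  obtain ⟨G', hG', rfl⟩ := hN
  let C : ShortComplex (ModEt X.obj) := ShortComplex.mk (Injective.ι G') (cokernel.π _) (cokernel.condition _)
  have : Epi C.g := coequalizer.π_epi
  have hC : C.ShortExact := { exact := ShortComplex.exact_cokernel _ }
  have hT := hC.map_of_exact (toAbEt X.obj)
  have h₂ : Cech (C.map (toAbEt X.obj)).X₂ := cech_of_injective_mod (Injective.under G')
  refine ⟨C.map (resModEt U), hC.map_of_exact (resModEt U), injective_res (Injective.under G') U, rfl,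
    ⟨_, cech_X₃_of_cech _ hT hG' h₂, rfl⟩, fun γ => ?_⟩
  exact exists_lift_of_surjective U C.g (sections_surjective_of_cech _ hT hG' h₂ U) γ

/-- Exactness passes to limits of towers with surjective transition maps. -/
theorem exists_compatible_preimage {E : EtOver X.obj} {U : Over E} (P : ℕ → (Over E)ᵒᵖ ⥤ AddCommGrpCat.{u + 1})
    (τ : ∀ n, P (n + 1) ⟶ P n) (hinj : ∀ n, Function.Injective (D U (P n) 0))
    (hsurj : ∀ n k, Function.Surjective ((τ n).app (op (O U k))).hom) (hex : ∀ n k, ExactD U (P n) k) (m : ℕ)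
    (c : ∀ n, (P n).obj (op (O U (m + 1)))) (hc : ∀ n, D U (P n) (m + 1) (c n) = 0)
    (hτc : ∀ n, ((τ n).app (op (O U (m + 1)))).hom (c (n + 1)) = c n) :
    ∃ b : ∀ n, (P n).obj (op (O U m)),
      (∀ n, ((τ n).app (op (O U m))).hom (b (n + 1)) = b n) ∧ ∀ n, D U (P n) m (b n) = c n := by
  have step : ∀ n b, D U (P n) m b = c n →
      ∃ b', D U (P (n + 1)) m b' = c (n + 1) ∧ ((τ n).app (op (O U m))).hom b' = b := by
    intro n b hb
    obtain ⟨b', hb'⟩ := hex (n + 1) m _ (hc (n + 1))
    have hd : D U (P n) m (((τ n).app (op (O U m))).hom b' - b) = 0 := by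
      rw [map_sub, ← D_nat, hb', hτc, hb, sub_self]
    cases m with
    | zero => exact ⟨b', hb', sub_eq_zero.1 (hinj n (hd.trans (map_zero _).symm))⟩
    | succ k =>
      obtain ⟨e, he⟩ := hex n k _ hd
      obtain ⟨e', rfl⟩ := hsurj n k e
      refine ⟨b' - D U (P (n + 1)) k e', by rw [map_sub, hb', D_D, sub_zero], ?_⟩
      rw [map_sub, D_nat, he, sub_sub_cancel]
  choose next hnext using step
  obtain ⟨b₀, hb₀⟩ := hex 0 m _ (hc 0)
  let bs : ∀ n, {b : (P n).obj (op (O U m)) // D U (P n) m b = c n} := fun n =>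
    Nat.rec (motive := fun n => {b : (P n).obj (op (O U m)) // D U (P n) m b = c n}) ⟨b₀, hb₀⟩
      (fun n p => ⟨next n p.1 p.2, (hnext n p.1 p.2).1⟩) n
  exact ⟨fun n => (bs n).1, fun n => (hnext n (bs n).1 (bs n).2).2, fun n => (bs n).2⟩

theorem D_zero_injective (F : AbEt X.obj) {E : EtOver X.obj} (U : Over E) (hU : Surjective (str U)) :
    Function.Injective (D U (secPre E F.obj) 0) := by
  intro a b hab
  rw [Amitsur.D_zero, Amitsur.D_zero] at hab
  let ι0 : Over.mk (𝟙 E) ⟶ O U 0 := Pi.lift fun i : Fin 0 => i.elim0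
  let δ : U ⟶ O U 1 := Pi.lift fun _ => 𝟙 U
  let k : U ⟶ O U 0 := δ ≫ face U 0 0
  have hk : pm (secPre E F.obj) k a = pm (secPre E F.obj) k b := by
    rw [pm_comp, pm_comp, hab]
  have hret : (O U 0).hom ≫ ι0.left = 𝟙 _ :=
    congrArg CommaMorphism.left (show (Over.homMk (O U 0).hom : O U 0 ⟶ Over.mk (𝟙 E)) ≫ ι0 = 𝟙 _ from
      Pi.hom_ext _ _ fun i => i.elim0)
  refine F.property.isSeparated _ _
    (ofArrows_mem_etTop (fun _ : PUnit.{u + 1} => U.left) (fun _ => k.left) fun x => ?_) _ _ fun Z q hq => ?_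
  · obtain ⟨y, hy⟩ := hU.surj ((O U 0).hom.hom.left.left x)
    refine ⟨⟨⟩, y, ?_⟩
    have hinj : Function.Injective (O U 0).hom.hom.left.left :=
      Function.LeftInverse.injective (g := ι0.left.hom.left.left) fun z => by
        have h := congrArg (fun t : (O U 0).left ⟶ (O U 0).left => t.hom.left.left z) hret
        exact h
    refine hinj (Eq.trans ?_ hy)
    have hw := congrArg (fun t : U.left ⟶ E => t.hom.left.left y) (Over.w k)
    exact hw
  · obtain ⟨-, r, rfl⟩ := Sieve.mem_ofArrows_iff .. |>.1 hq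
    rw [op_comp, Functor.map_comp, ConcreteCategory.comp_apply, ConcreteCategory.comp_apply]
    exact congrArg _ hk

/-- Limits of towers of quasi-coherent modules with epimorphic transition maps have exact Amitsur complexes. -/
theorem cech_limit (M : ℕ → ModEt X.obj) (t : ∀ n, M (n + 1) ⟶ M n) (hM : ∀ n, (M n).IsQuasicoherent)
    (ht : ∀ n, Epi (t n)) : Cech ((toAbEt X.obj).obj (limit (Functor.ofOpSequence t))) := by
  intro E _ U _ hU m c hc
  let pr : ∀ n, limit (Functor.ofOpSequence t) ⟶ M n := fun n => limit.π (Functor.ofOpSequence t) (op n)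
  have hpr : ∀ n, pr (n + 1) ≫ t n = pr n := fun n => by
    refine Eq.trans (congrArg (pr (n + 1) ≫ ·) ?_) (limit.w (Functor.ofOpSequence t) (homOfLE (Nat.le_add_right n 1)).op)
    exact (Functor.ofOpSequence_map_homOfLE_succ t n).symm
  have hsec : ∀ A : EtOver X.obj, _ := fun A => RlimQC.sections_of_existsUnique t pr hpr (fun {W} x hx => by
    let xc : Cone (Functor.ofOpSequence t) :=
      { pt := W
        π := NatTrans.ofOpSequence x fun n => by
          simp only [Functor.const_obj_map, Functor.ofOpSequence_map_homOfLE_succ, Category.id_comp]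
          exact (Category.id_comp _).trans (hx n).symm }
    exact ⟨limit.lift _ xc, fun n => limit.lift_π xc (op n), fun f hf => limit.hom_ext fun n => by
      obtain ⟨n⟩ := n
      exact (hf n).trans (limit.lift_π xc (op n)).symm⟩) A
  let P : ∀ n, (Over E)ᵒᵖ ⥤ AddCommGrpCat.{u + 1} := fun n => secPre E ((toAbEt X.obj).obj (M n)).obj
  let τ : ∀ n, P (n + 1) ⟶ P n := fun n => Functor.whiskerLeft _ ((toAbEt X.obj).map (t n)).hom
  let ρ : ∀ n, secPre E ((toAbEt X.obj).obj (limit (Functor.ofOpSequence t))).obj ⟶ P n :=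
    fun n => Functor.whiskerLeft _ ((toAbEt X.obj).map (pr n)).hom
  have hsurj : ∀ n k, Function.Surjective ((τ n).app (op (O U k))).hom := fun n k => by
    have := ht n
    have := hM n
    have := hM (n + 1)
    have := isAffine_O U k
    exact AlgSpQC.hs_surjective (t n) (O U k).left
  have hρτ : ∀ n k x, ((τ n).app (op (O U k))).hom (((ρ (n + 1)).app (op (O U k))).hom x) =
      ((ρ n).app (op (O U k))).hom x := fun n k x =>
    congr(($(congrArg (fun q : limit (Functor.ofOpSequence t) ⟶ M n => q.val.app (op (O U k).left)) (hpr n))).hom x)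
  have hex : ∀ n k, ExactD U (P n) k := fun n k => have := hM n; cech_qc (M n) E U hU k
  refine (exists_compatible_preimage P τ (fun n => D_zero_injective _ U hU) hsurj hex m
    (fun n => ((ρ n).app (op (O U (m + 1)))).hom c)
    (fun n => (D_nat U (ρ n) (m + 1) c).symm.trans ((congrArg _ hc).trans (map_zero _)))
    (fun n => hρτ n (m + 1) c)).elim fun bs hbs => ?_
  refine ((hsec (O U m).left).2 bs hbs.1).elim fun b hb => ?_
  refine ⟨b, (hsec (O U (m + 1)).left).1 _ _ fun n => ?_⟩
  refine (D_nat U (ρ n) m b).trans (Eq.trans ?_ (hbs.2 n))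
  exact congrArg _ (hb n)

/-- Positive cohomology of such limits vanishes on affine objects. -/
theorem subsingleton_HEtDOn (U : EtOver X.obj) [IsAffine U.obj.left.left] {G : ModEt X.obj}
    (hG : Cech ((toAbEt X.obj).obj G)) (p : ℤ) (hp : 0 < p) :
    Subsingleton (HEtDOn U (DCoh.inDMod (OEtRing X.obj) G) p) := by
  let e : ((resDEt U).obj (DCoh.inDMod (OEtRing X.obj) G))⟦p⟧ ≅
      (DerivedCategory.singleFunctor (ModEtOn U) (-p)).obj ((resModEt U).obj G) :=
    (shiftFunctor _ p).mapIso (((resModEt U).mapDerivedCategorySingleFunctor 0).app G) ≪≫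
      ((DerivedCategory.singleFunctors (ModEtOn U)).shiftIso p (-p) 0 (by omega)).app _
  refine ⟨fun f g => (cancel_mono e.hom).1 ?_⟩
  have h := acy_unit U hG 0 (-p) (by omega)
  rw [← sub_eq_zero]
  exact h _

end Groth.Agent.AlgSpEN.SliceAcy
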