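import Groth.Agent.AlgSpEN.FamGood
import Groth.Agent.AlgSpEN.SliceAcy
import Groth.Agent.AlgSpEN.PerfQC
import Mathlib.Algebra.Homology.DerivedCategory.KInjective
import Mathlib.Algebra.Homology.HomotopyCategory.HomComplexCohomology

/-!
# Affine objects over which a complex has a strictly perfect model are good
-/

set_option autoImplicit false
universe w u

open CategoryTheory CategoryTheory.Limits AlgebraicGeometry Opposite

set_option backward.isDefEq.respectTransparency false
set_option backward.isDefEq.respectTransparency.types false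
set_option maxHeartbeats 1000000
attribute [local instance] HasDerivedCategory.standard

noncomputable section

namespace Groth.Agent.AlgSpEN.FamHom

open _root_.AlgSp Groth.Agent.AlgSpQC
open CochainComplex HomComplex

section Generic

variable {C : Type*} [Category C] [Abelian C] [HasDerivedCategory C]

/-- Being a coboundary for all cocycles into injectives is invariant under isomorphisms in the derived category. -/
theorem forall_coboundary_of_iso {K E L : CochainComplex C ℤ} {n : ℤ} [(L⟦n⟧).IsKInjective]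
    (i : DerivedCategory.Q.obj K ≅ DerivedCategory.Q.obj E)
    (h : ∀ z : Cocycle E L n, z ∈ coboundaries E L n) (z : Cocycle K L n) : z ∈ coboundaries K L n := by
  let η := DerivedCategory.quotientCompQhIso C
  obtain ⟨g, hg⟩ := (CochainComplex.IsKInjective.Qh_map_bijective ((HomotopyCategory.quotient C _).obj E)
    (L⟦n⟧)).2 (η.hom.app E ≫ i.inv ≫ DerivedCategory.Q.map (Cocycle.equivHomShift.symm z) ≫ η.inv.app _)
  obtain ⟨g, rfl⟩ := (HomotopyCategory.quotient C _).map_surjective g
  have hg0 : (HomotopyCategory.quotient C (ComplexShape.up ℤ)).map g = 0 := by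
    have h' := (CohomologyClass.toHom_mk_eq_zero_iff (Cocycle.equivHomShift g)).2 (h _)
    rwa [CohomologyClass.toHom_mk, AddEquiv.symm_apply_apply] at h'
  rw [hg0, Functor.map_zero] at hg
  have e : DerivedCategory.Qh.map
      ((HomotopyCategory.quotient C (ComplexShape.up ℤ)).map (Cocycle.equivHomShift.symm z)) = 0 := by
    have h1 := congrArg (fun t => i.hom ≫ η.inv.app E ≫ t ≫ η.hom.app _) hg
    simp at h1
    have h2 : (DerivedCategory.Qh.map
        ((HomotopyCategory.quotient C (ComplexShape.up ℤ)).map (Cocycle.equivHomShift.symm z))) ≫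
          η.hom.app _ = η.hom.app K ≫ DerivedCategory.Q.map (Cocycle.equivHomShift.symm z) :=
      η.hom.naturality (Cocycle.equivHomShift.symm z)
    refine (cancel_mono (η.hom.app _)).1 (h2.trans ?_)
    rw [show DerivedCategory.Q.map (Cocycle.equivHomShift.symm z) = 0 by simpa [η] using h1.symm, comp_zero, zero_comp]
  rw [← CohomologyClass.toHom_mk_eq_zero_iff, CohomologyClass.toHom_mk]
  exact (CochainComplex.IsKInjective.Qh_map_bijective _ (L⟦n⟧)).1 (e.trans (Functor.map_zero _ _ _).symm)

/-- Cocycles out of a bounded complex whose terms lift against cycles are coboundaries. -/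
theorem coboundary_of_lift {E L : CochainComplex C ℤ} {n a b : ℤ} (ha : ∀ p, p < a → IsZero (E.X p))
    (hb : ∀ p, b < p → IsZero (E.X p))
    (hlift : ∀ (p : ℤ) (r : E.X p ⟶ L.X (p + n)), r ≫ L.d (p + n) (p + n + 1) = 0 →
      ∃ w : E.X p ⟶ L.X (p + n - 1), w ≫ L.d (p + n - 1) (p + n) = r)
    (z : Cocycle E L n) : z ∈ coboundaries E L n := by
  have step : ∀ k : ℕ, ∃ w : Cochain E L (n - 1),
      ∀ (p : ℤ) (q : ℤ) (hpq : p + n = q), b - k < p → (δ (n - 1) n w).v p q hpq = z.1.v p q hpq := by
    intro k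
    induction k with
    | zero => exact ⟨0, fun p q hpq hp => (hb p (by omega)).eq_of_src _ _⟩
    | succ k ih =>
      obtain ⟨w, hw⟩ := ih
      let p₀ : ℤ := b - k
      let r := z.1.v p₀ (p₀ + n) rfl - n.negOnePow • E.d p₀ (p₀ + 1) ≫ w.v (p₀ + 1) (p₀ + n) (by omega)
      have hz := Cochain.congr_v (z.δ_eq_zero (n + 1)) p₀ (p₀ + n + 1) (by omega)
      rw [δ_v n (n + 1) rfl z.1 p₀ (p₀ + n + 1) (by omega) (p₀ + n) (p₀ + 1) (by omega) rfl, Cochain.zero_v,
        ← hw (p₀ + 1) (p₀ + n + 1) (by omega) (by omega),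
        δ_v (n - 1) n (by omega) w (p₀ + 1) (p₀ + n + 1) (by omega) (p₀ + n) (p₀ + 1 + 1) (by omega) rfl,
        Preadditive.comp_add, Linear.comp_units_smul, E.d_comp_d_assoc, zero_comp, smul_zero, add_zero,
        Int.negOnePow_succ, Units.neg_smul, ← sub_eq_add_neg] at hz
      obtain ⟨v, hv⟩ := hlift p₀ r (by
        rw [Preadditive.sub_comp, Linear.units_smul_comp, Category.assoc]
        exact hz)
      refine ⟨Cochain.mk fun p q hpq => if hp : p = p₀ then
        (E.XIsoOfEq hp).hom ≫ v ≫ (L.XIsoOfEq (show p₀ + n - 1 = q by omega)).hom else w.v p q hpq,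
        fun p q hpq hp => ?_⟩
      rcases eq_or_ne p p₀ with rfl | hne
      · subst hpq
        rw [δ_v (n - 1) n (by omega) _ p₀ (p₀ + n) rfl (p₀ + n - 1) (p₀ + 1) rfl rfl, Cochain.mk_v, Cochain.mk_v,
          dif_pos rfl, dif_neg (by omega)]
        simp only [HomologicalComplex.XIsoOfEq_rfl, Iso.refl_hom, Category.id_comp, Category.comp_id]
        rw [hv]
        exact sub_add_cancel _ _
      · have hlt : p₀ < p := by push_cast at hp; omega
        rw [← hw p q hpq (by omega), δ_v (n - 1) n (by omega) _ p q hpq (q - 1) (p + 1) rfl rfl,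
          δ_v (n - 1) n (by omega) _ p q hpq (q - 1) (p + 1) rfl rfl, Cochain.mk_v, Cochain.mk_v,
          dif_neg hne, dif_neg (by omega)]
  obtain ⟨w, hw⟩ := step ((b - a).toNat + 1)
  refine ⟨n - 1, by omega, w, ?_⟩
  ext p q hpq
  by_cases hp : p < a
  · exact (ha p hp).eq_of_src _ _
  · exact hw p q hpq (by omega)

end Generic

variable {S : Scheme.{u}} {X : AlgSp.Space S} {A : EtOver X.obj}

/-- A family on a representable domain as a map of modules on the slice. -/
def toSlice {G I : ModEt X.obj} (h : Fam (Dom.top (yoneda.obj A)) G I) : (resModEt A).obj G ⟶ (resModEt A).obj I :=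
  ⟨PresheafOfModules.homMk (M₁ := ((resModEt A).obj G).val) (M₂ := ((resModEt A).obj I).val)
    { app := fun Y => AddCommGrpCat.ofHom (ap h Y.unop.left Y.unop.hom trivial).toAddMonoidHom
      naturality := fun Y Y' f => by
        ext m
        change ap h Y'.unop.left Y'.unop.hom trivial (rs G f.unop.left m) =
          rs I f.unop.left (ap h Y.unop.left Y.unop.hom trivial m)
        rw [h.2 _ _ f.unop.left _ trivial m]
        exact app_congr h (Over.w f.unop).symm _ trivial _ }
    (fun Y r m => by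
      obtain ⟨a⟩ := r
      exact (ap h Y.unop.left Y.unop.hom trivial).map_smul (show gr Y.unop.left from a) m)⟩

/-- A map of modules on the slice as a family. -/
def ofSlice {G I : ModEt X.obj} (f : (resModEt A).obj G ⟶ (resModEt A).obj I) :
    Fam (Dom.top (yoneda.obj A)) G I :=
  ⟨fun Z v =>
    { toFun := fun m => (f.val.app (op (Over.mk v.1))).hom m
      map_add' := map_add (f.val.app (op (Over.mk v.1))).hom
      map_smul' := fun a m => (f.val.app (op (Over.mk v.1))).hom.map_smul (upΓ Z a) m },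
    fun Z Z' g v _ m => (PresheafOfModules.naturality_apply f.val
      (Over.homMk g rfl : Over.mk (g ≫ v) ⟶ Over.mk v).op m).symm⟩

theorem ofSlice_toSlice {G I : ModEt X.obj} (h : Fam (Dom.top (yoneda.obj A)) G I) : ofSlice (toSlice h) = h :=
  fam_ext fun _ _ _ _ => rfl

theorem toSlice_post {G I I' : ModEt X.obj} (b : I ⟶ I') (h : Fam (Dom.top (yoneda.obj A)) G I) :
    toSlice (post b h) = toSlice h ≫ (resModEt A).map b :=
  SheafOfModules.hom_ext (PresheafOfModules.hom_ext fun _ => ModuleCat.hom_ext (LinearMap.ext fun _ => rfl))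

theorem toSlice_pre {G G' I : ModEt X.obj} (a : G' ⟶ G) (h : Fam (Dom.top (yoneda.obj A)) G I) :
    toSlice (pre a h) = (resModEt A).map a ≫ toSlice h :=
  SheafOfModules.hom_ext (PresheafOfModules.hom_ext fun _ => ModuleCat.hom_ext (LinearMap.ext fun _ => rfl))

/-- `toSlice` is additive. -/
def toSliceHom (G I : ModEt X.obj) : Fam (Dom.top (yoneda.obj A)) G I →+ ((resModEt A).obj G ⟶ (resModEt A).obj I) :=
  AddMonoidHom.mk' toSlice fun _ _ =>
    SheafOfModules.hom_ext (PresheafOfModules.hom_ext fun _ => ModuleCat.hom_ext (LinearMap.ext fun _ => rfl))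

/-- `ofSlice` is additive. -/
def ofSliceHom (G I : ModEt X.obj) : ((resModEt A).obj G ⟶ (resModEt A).obj I) →+ Fam (Dom.top (yoneda.obj A)) G I :=
  AddMonoidHom.mk' ofSlice fun _ _ => fam_ext fun _ _ _ _ => rfl

theorem ofSlice_comp_add {G G' I I' : ModEt X.obj} (b : I ⟶ I') (a : G ⟶ G')
    (f : (resModEt A).obj G ⟶ (resModEt A).obj I) (g : (resModEt A).obj G' ⟶ (resModEt A).obj I') (s : ℤ) :
    ofSlice (f ≫ (resModEt A).map b + s • ((resModEt A).map a ≫ g)) = post b (ofSlice f) + s • pre a (ofSlice g) := by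
  change ofSliceHom G I' (f ≫ (resModEt A).map b + s • ((resModEt A).map a ≫ g)) = _
  rw [map_add, map_zsmul]
  rfl

/-- Summands of finite free modules lift against cycles. -/
theorem exists_lift_of_summand [IsAffine A.obj.left.left] {M : ModEtOn A}
    (hM : DCoh.IsFinFreeSummandMod (OEtOn A) M) {J : CochainComplex (ModEt X.obj) ℤ} (hJ : IsRes J) (q : ℤ)
    (hq : 0 < q) (r : M ⟶ (resModEt A).obj (J.X q)) (hr : r ≫ (resModEt A).map (J.d q (q + 1)) = 0) :
    ∃ w : M ⟶ (resModEt A).obj (J.X (q - 1)), w ≫ (resModEt A).map (J.d (q - 1) q) = r := by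
  obtain ⟨m, i, π, hiπ⟩ := hM
  have key : ∀ j : ULift.{u + 1} (Fin m), ∃ γ : SheafOfModules.unit _ ⟶ (resModEt A).obj (J.X (q - 1)),
      γ ≫ (resModEt A).map (J.d (q - 1) q) = SheafOfModules.ιFree j ≫ π ≫ r := fun j => by
    let γ₀ : SheafOfModules.unit _ ⟶ (resModEt A).obj (J.X q) := SheafOfModules.ιFree j ≫ π ≫ r
    have e : SliceAcy.topVal (N := (resModEt A).obj (J.X (q + 1))) (γ₀ ≫ (resModEt A).map (J.d q (q + 1))) = 0 := by
      rw [show γ₀ ≫ (resModEt A).map (J.d q (q + 1)) = 0 by simp only [γ₀, Category.assoc, hr, comp_zero]]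
      rfl
    obtain ⟨t, ht⟩ := hJ.exact q hq A ‹_› (SliceAcy.topVal γ₀) (Eq.trans
      (congrArg (fun t => t.val (op (Groth.Agent.AlgSpQC.oTop A)))
        (SheafOfModules.unitHomEquiv_comp_apply γ₀ ((resModEt A).map (J.d q (q + 1))))).symm e)
    exact SliceAcy.exists_unit_lift ((resModEt A).map (J.d (q - 1) q)) γ₀ t ht
  choose γ hγ using key
  refine ⟨i ≫ Limits.Cofan.IsColimit.desc (SheafOfModules.isColimitFreeCofan (R := OEtOn A) (ULift.{u + 1} (Fin m))) γ, ?_⟩
  rw [← Category.id_comp r, ← hiπ, Category.assoc, Category.assoc]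
  refine congrArg (i ≫ ·) (Limits.Cofan.IsColimit.hom_ext
    (SheafOfModules.isColimitFreeCofan (R := OEtOn A) (ULift.{u + 1} (Fin m))) _ _ fun j => ?_)
  rw [Limits.Cofan.IsColimit.fac_assoc]
  exact hγ j

/-- An affine object with a map to an object over which `K` has a strictly perfect model is good. -/
theorem good_strict [IsAffine A.obj.left.left] {V : EtOver X.obj} (φ : A ⟶ V)
    (K : CochainComplex (ModEt X.obj) ℤ) (E : CochainComplex (ModEtOn V) ℤ)
    (hE : DCoh.IsStrictlyPerfectMod (OEtOn V) E)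
    (e : (resDEt V).obj (DerivedCategory.Q.obj K) ≅ DCoh.toDMod (OEtOn V) E) :
    Good (Dom.top (yoneda.obj A)) K := by
  obtain ⟨⟨a, b, hab⟩, hfree⟩ := hE
  refine ⟨max 0 (-a), le_max_left _ _, fun J hJ n hn ψ hψ => ?_⟩
  let R := (resModEt A).mapHomologicalComplex (ComplexShape.up ℤ)
  let D' := (PerfQC.down φ).mapHomologicalComplex (ComplexShape.up ℤ)
  let ι : DerivedCategory.Q.obj (R.obj K) ≅ DerivedCategory.Q.obj (D'.obj E) :=
    DerivedCategory.Q.mapIso ((NatIso.mapHomologicalComplex (SheafOfModules.overFunctorMap (OEtRing X.obj) φ)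
      (ComplexShape.up ℤ)).app K).symm ≪≫
    ((PerfQC.down φ).mapDerivedCategoryFactors.app (((resModEt V).mapHomologicalComplex (ComplexShape.up ℤ)).obj K)).symm ≪≫
    (PerfQC.down φ).mapDerivedCategory.mapIso (((resModEt V).mapDerivedCategoryFactors.app K).symm ≪≫ e) ≪≫
    (PerfQC.down φ).mapDerivedCategoryFactors.app E
  let RJ : CochainComplex (ModEtOn A) ℤ := R.obj J
  have : ∀ i, Injective (RJ.X i) := fun i => have := hJ.inj i; SliceAcy.injective_res (J.X i) A
  have : ∀ i, Injective ((RJ⟦n⟧).X i) := fun i =>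
    Injective.of_iso ((CochainComplex.shiftFunctorObjXIso RJ n i (i + n) rfl).symm) inferInstance
  have : (RJ⟦n⟧).IsStrictlyGE (-n) := (CochainComplex.isStrictlyGE_iff _ _).2 fun i hi =>
    ((resModEt A).map_isZero (hJ.zero (i + n) (by omega))).of_iso (CochainComplex.shiftFunctorObjXIso RJ n i (i + n) rfl)
  have : (RJ⟦n⟧).IsKInjective := CochainComplex.isKInjective_of_injective _ (-n)
  let z : Cochain (R.obj K) RJ n := Cochain.mk fun p q _ => toSlice (ψ p q)
  have hz : δ n (n + 1) z = 0 := by
    refine Cochain.ext _ _ fun p q hpq => ?_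
    rw [δ_v n (n + 1) rfl z p q hpq (q - 1) (p + 1) rfl rfl, Cochain.mk_v, Cochain.mk_v, Cochain.zero_v]
    refine Eq.trans ?_ ((congrArg (toSliceHom _ _) (hψ p q (by omega))).trans (map_zero (toSliceHom _ _)))
    simp only [del, map_add, Units.smul_def, map_zsmul]
    exact (congrArg₂ (fun (a b : (R.obj K).X p ⟶ RJ.X q) => a + ((n + 1).negOnePow : ℤ) • b) (toSlice_post _ _)
      (toSlice_pre _ _)).symm
  obtain ⟨m, hm, w, hw⟩ := forall_coboundary_of_iso ι (fun z' => coboundary_of_lift
    (fun p hp => (PerfQC.down φ).map_isZero (hab p (Or.inl hp)))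
    (fun p hp => (PerfQC.down φ).map_isZero (hab p (Or.inr hp)))
    (fun p r hr => by
      by_cases hp : p < a
      · exact ⟨0, ((PerfQC.down φ).map_isZero (hab p (Or.inl hp))).eq_of_src _ _⟩
      · exact exists_lift_of_summand (PerfQC.isFinFreeSummandMod_down φ (hfree p)) hJ (p + n) (by omega) r hr) z')
    (Cocycle.mk z (n + 1) rfl hz)
  obtain rfl : m = n - 1 := by omega
  refine ⟨fun p q => if h : p + (n - 1) = q then ofSlice (w.v p q h) else 0, fun p q hpq => ?_⟩
  have e1 := Cochain.congr_v hw p q hpq.symm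
  rw [δ_v (n - 1) n (by omega) w p q hpq.symm (q - 1) (p + 1) rfl rfl] at e1
  rw [← ofSlice_toSlice (ψ p q)]
  refine (congrArg ofSlice e1.symm).trans ?_
  simp only [del]
  rw [dif_pos (by omega), dif_pos (by omega)]
  simp only [Units.smul_def]
  exact ofSlice_comp_add (J.d (q - 1) q) (K.d p (p + 1)) (w.v p (q - 1) (by omega)) (w.v (p + 1) q (by omega))
    (n.negOnePow : ℤˣ)

end Groth.Agent.AlgSpEN.FamHom
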