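import Groth.Agent.AlgSpEN.AffReflect
import Groth.Agent.AlgSpEN.StrataSq
import Groth.Agent.KFlat.MapHomology

/-!
# Perfect objects on a quasi-compact space are bounded
-/

set_option autoImplicit false
universe u

open CategoryTheory CategoryTheory.Limits AlgebraicGeometry Opposite DerivedCategory Pretriangulated

set_option backward.isDefEq.respectTransparency false
set_option backward.isDefEq.respectTransparency.types false
set_option maxHeartbeats 400000
attribute [local instance] HasDerivedCategory.standard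

namespace Groth.Agent.AlgSpEN.PerfBound

open _root_.AlgSp Groth.Agent.AlgSpQC

variable {S : Scheme.{u}} {X : Space S}

/-- A module vanishing on a family of objects covering all points is zero. -/
theorem isZero_of_res {M : ModEt X.obj} {κ : Type*} (U : κ → EtOver X.obj)
    (hU : ∀ x : Points X.obj, ∃ k, x ∈ Set.range (Points.ofPt (U k).obj.hom))
    (h : ∀ k, IsZero ((resModEt (U k)).obj M)) : IsZero M := by
  rw [IsZero.iff_id_eq_zero]
  refine SheafOfModules.hom_ext (PresheafOfModules.hom_ext fun E => ModuleCat.hom_ext (LinearMap.ext fun m => ?_))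
  let R : Sieve E.unop :=
    { arrows := fun Z _ => ∃ k, Nonempty (Z ⟶ U k)
      downward_closed := fun {_ _} _ ⟨k, ⟨v⟩⟩ g => ⟨k, ⟨g ≫ v⟩⟩ }
  have hR : R ∈ etTop X.obj E.unop := (AlgSpD.mem_etTop_iff _).2 fun z => by
    obtain ⟨k, hk⟩ := hU (Points.ofPt E.unop.obj.hom z)
    exact ⟨EtOver.prodObj E.unop (U k), EtOver.prodFst E.unop (U k), ⟨k, ⟨EtOver.prodSnd E.unop (U k)⟩⟩,
      Bound.exists_prod_cover (U k) E.unop z hk⟩
  change (m : sectModEt M E.unop) = 0
  refine eq_of_sieve hR fun Z g hg => ?_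
  obtain ⟨k, ⟨v⟩⟩ := hg
  rw [map_zero]
  exact congr(($(congrArg (fun q : (resModEt (U k)).obj M ⟶ (resModEt (U k)).obj M => q.val.app (op (Over.mk v)))
    ((IsZero.iff_id_eq_zero _).1 (h k)))).hom (rs M g m))

/-- Finitely many strictly perfect models of a perfect object cover a quasi-compact space. -/
theorem exists_finite_models (hXc : IsQuasiCompactSp X.obj) {K : DModEt X.obj} (hK : IsPerfectEtD K) :
    ∃ (κ : Type u) (_ : Finite κ) (A V : κ → EtOver X.obj) (_ : ∀ k, A k ⟶ V k),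
      (∀ k, IsAffine (A k).obj.left.left) ∧
      (∀ x : Points X.obj, ∃ k, x ∈ Set.range (Points.ofPt (A k).obj.hom)) ∧
      ∀ k, ∃ E : CochainComplex (ModEtOn (V k)) ℤ, DCoh.IsStrictlyPerfectMod (OEtOn (V k)) E ∧
        Nonempty ((resDEt (V k)).obj K ≅ DCoh.toDMod (OEtOn (V k)) E) := by
  obtain ⟨U, p, hU, hp, hs⟩ := exists_affine_atlas X hXc
  let E₀ : EtOver X.obj := EtOver.mk p hp
  have hE₀ : IsAffine E₀.obj.left.left := hU
  obtain ⟨ι, V, g, hg, hV⟩ := hK E₀
  obtain ⟨κ, hκ, A, f, hA, hf, hcov⟩ := exists_affine_family (Precoverage.generate_mem_toGrothendieck hg)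
  have hfac : ∀ k, ∃ j, Nonempty (A k ⟶ V j) := fun k => by
    obtain ⟨j, a, -⟩ := Sieve.mem_ofArrows_iff .. |>.1 (hf k)
    exact ⟨j, ⟨a⟩⟩
  choose j hj using hfac
  refine ⟨κ, hκ, A, fun k => V (j k), fun k => (hj k).some, hA, fun x => ?_, fun k => hV (j k)⟩
  obtain ⟨y, hy⟩ := AlgSpB.surjective_ofPt hs x
  obtain ⟨k, z, hz⟩ := hcov y
  refine ⟨k, z, ?_⟩
  rw [← hy, ← hz]
  have w : (yon S).map (f k).hom.left ≫ p = (A k).obj.hom := (f k).hom.w.trans (Category.comp_id _)
  rw [← w, AlgSpB.ofPt_map_comp]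

/-- A perfect object on a quasi-compact space has bounded cohomology. -/
theorem exists_bound (hXc : IsQuasiCompactSp X.obj) {K : DModEt X.obj} (hK : IsPerfectEtD K) :
    ∃ a b : ℤ, ∀ i : ℤ, i < a ∨ b < i → IsZero (DCoh.HDMod (OEtRing X.obj) K i) := by
  obtain ⟨κ, hκ, A, V, φ, -, hcov, hE⟩ := exists_finite_models hXc hK
  choose E hEs e using hE
  choose a b hab using fun k => (hEs k).1
  obtain ⟨a₀, ha₀⟩ := Finite.exists_ge a
  obtain ⟨b₀, hb₀⟩ := Finite.exists_le b
  refine ⟨a₀, b₀, fun i hi => ?_⟩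
  refine isZero_of_res A hcov fun k => ?_
  have hz : IsZero ((resModEt (V k)).obj (DCoh.HDMod (OEtRing X.obj) K i)) := by
    refine IsZero.of_iso ?_ (((KFlat.MapHomology.iso (resModEt (V k)) i).app K).symm ≪≫
      (homologyFunctor _ i).mapIso (e k).some ≪≫ (homologyFunctorFactors _ i).app (E k))
    refine (HomologicalComplex.exactAt_iff_isZero_homology _ i).1 (ShortComplex.exact_of_isZero_X₂ _ (hab k i ?_))
    have := ha₀ k
    have := hb₀ k
    omega
  exact ((SheafOfModules.overMap (OEtRing X.obj) (φ k)).map_isZero hz).of_iso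
    ((SheafOfModules.overFunctorMap (OEtRing X.obj) (φ k)).app _).symm

/-- A perfect object on a quasi-compact space is bounded for the `t`-structure. -/
theorem exists_isLE_isGE (hXc : IsQuasiCompactSp X.obj) {K : DModEt X.obj} (hK : IsPerfectEtD K) :
    ∃ a b : ℤ, K.IsGE a ∧ K.IsLE b := by
  obtain ⟨a, b, h⟩ := exists_bound hXc hK
  exact ⟨a, b, (DerivedCategory.isGE_iff K a).2 fun i hi => h i (Or.inl hi),
    (DerivedCategory.isLE_iff K b).2 fun i hi => h i (Or.inr hi)⟩

end Groth.Agent.AlgSpEN.PerfBound
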