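import Groth.Agent.KFlat.DerivedLimit
import Mathlib.CategoryTheory.Functor.OfSequence

/-!
# Cohomology of derived limits of towers whose cohomology is surjective on a separating family
-/

set_option autoImplicit false
set_option backward.isDefEq.respectTransparency false
set_option backward.isDefEq.respectTransparency.types false
universe w v u

open CategoryTheory CategoryTheory.Limits Pretriangulated DerivedCategory Opposite
open Groth.Agent.KFlat.TruncHom Groth.Agent.KFlat.DerivedLimit

namespace Groth.Agent.AlgSpEN.RlimEpi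

variable {A : Type u} [Category.{v} A] [Abelian A] [HasDerivedCategory.{w} A]
  {K : ℕ → DerivedCategory A} {t : ∀ n, K (n + 1) ⟶ K n} [HasProduct K] {L : DerivedCategory A}
  {a : L ⟶ ∏ᶜ K} {c : (∏ᶜ K) ⟶ L⟦(1 : ℤ)⟧}
  (hT : Triangle.mk a (Pi.lift fun n => Pi.π K n - Pi.π K (n + 1) ≫ t n) c ∈ distinguishedTriangles)

include hT in
theorem component_eq (n : ℕ) : (a ≫ Pi.π K (n + 1)) ≫ t n = a ≫ Pi.π K n := by
  have h : (a ≫ Pi.lift fun k => Pi.π K k - Pi.π K (k + 1) ≫ t k) ≫ Pi.π K n = 0 :=
    (congrArg (· ≫ Pi.π K n) (comp_distTriang_mor_zero₁₂ _ hT)).trans zero_comp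
  rw [Category.assoc, Pi.lift_π, Preadditive.comp_sub, sub_eq_zero] at h
  rw [h, Category.assoc]

/-- Maps from `P` see the cohomology of the stages, with surjective transition maps. -/
structure Good (P : A) (K : ℕ → DerivedCategory A) (t : ∀ n, K (n + 1) ⟶ K n) : Prop where
  bij : ∀ (m : ℤ) (n : ℕ), Function.Bijective (Φ P m (K n))
  surj : ∀ (m : ℤ) (n : ℕ),
    Function.Surjective fun g : P ⟶ (homologyFunctor A m).obj (K (n + 1)) => g ≫ (homologyFunctor A m).map (t n)

theorem Good.comp_surjective {P : A} (h : Good P K t) (m : ℤ) (n : ℕ) :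
    Function.Surjective fun g : (singleFunctor A m).obj P ⟶ K (n + 1) => g ≫ t n := by
  intro g
  obtain ⟨f, hf⟩ := h.surj m n (Φ P m _ g)
  obtain ⟨g', rfl⟩ := (h.bij m (n + 1)).2 f
  exact ⟨g', (h.bij m n).1 ((Φ_comp P m g' (t n)).trans hf)⟩

include hT in
/-- A map from `P[-m]` killed by all components is zero. -/
theorem eq_zero_of_components {P : A} (h : Good P K t) (m : ℤ) (g : (singleFunctor A m).obj P ⟶ L)
    (hg : ∀ n, g ≫ a ≫ Pi.π K n = 0) : g = 0 := by
  have hga : g ≫ a = 0 := Pi.hom_ext _ _ fun n => by rw [Category.assoc, zero_comp, hg n]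
  obtain ⟨k, hk⟩ : ∃ k : _ ⟶ ∏ᶜ K, g⟦(1 : ℤ)⟧' = k ≫ c :=
    Triangle.coyoneda_exact₁ _ hT (g⟦(1 : ℤ)⟧')
      (((shiftFunctor (DerivedCategory A) (1 : ℤ)).map_comp g a).symm.trans
        ((congrArg _ hga).trans (Functor.map_zero _ _ _)))
  let e : ((singleFunctor A m).obj P)⟦(1 : ℤ)⟧ ≅ (singleFunctor A (m - 1)).obj P :=
    ((DerivedCategory.singleFunctors A).shiftIso 1 (m - 1) m (by lia)).app P
  obtain ⟨y, -, hy⟩ := exists_solution K t 0 (fun n _ => h.comp_surjective (m - 1) n)
    (fun n => e.inv ≫ k ≫ Pi.π K n) 0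
  have hd : Pi.lift y ≫ (Pi.lift fun k => Pi.π K k - Pi.π K (k + 1) ≫ t k) = e.inv ≫ k :=
    Pi.hom_ext _ _ fun n => by
      rw [Category.assoc, Pi.lift_π, Preadditive.comp_sub, Pi.lift_π, Pi.lift_π_assoc, hy n,
        add_sub_cancel_right, Category.assoc]
  apply (shiftFunctor (DerivedCategory A) (1 : ℤ)).map_injective
  rw [Functor.map_zero, ← cancel_epi e.inv, comp_zero]
  refine (congrArg (e.inv ≫ ·) hk).trans ((Category.assoc _ _ _).symm.trans
    ((congrArg (· ≫ c) hd.symm).trans ((Category.assoc _ _ _).trans ?_)))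
  exact (congrArg (Pi.lift y ≫ ·) (comp_distTriang_mor_zero₂₃ _ hT)).trans comp_zero

include hT in
/-- Compatible maps lift to the derived limit. -/
theorem exists_lift {W : DerivedCategory A} (x : ∀ n, W ⟶ K n) (hx : ∀ n, x (n + 1) ≫ t n = x n) :
    ∃ g : W ⟶ L, ∀ n, g ≫ a ≫ Pi.π K n = x n := by
  have hd : Pi.lift x ≫ (Pi.lift fun k => Pi.π K k - Pi.π K (k + 1) ≫ t k) = 0 :=
    Pi.hom_ext _ _ fun n => by
      rw [Category.assoc, Pi.lift_π, Preadditive.comp_sub, Pi.lift_π, Pi.lift_π_assoc, hx n, sub_self, zero_comp]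
  obtain ⟨g, hg⟩ := Triangle.coyoneda_exact₂ _ hT (Pi.lift x) hd
  exact ⟨g, fun n => (Category.assoc _ _ _).symm.trans ((congrArg (· ≫ Pi.π K n) hg.symm).trans (Pi.lift_π _ _))⟩

variable {ι : Type*} {P₀ : ι → A}
  (hsep : ∀ {M N : A} (f : M ⟶ N), (∀ i (g : P₀ i ⟶ M), g ≫ f = 0) → f = 0)
  (hP : ∀ i, Good (P₀ i) K t) (m : ℤ)

include hT hsep hP in
/-- The maps to the cohomology of the stages are jointly monic. -/
theorem eq_zero_of_map_eq_zero {W : A} (f : W ⟶ (homologyFunctor A m).obj L)
    (hf : ∀ n, f ≫ (homologyFunctor A m).map (a ≫ Pi.π K n) = 0) : f = 0 := by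
  obtain ⟨Z, q, hq, hlift⟩ := exists_epi_lifts L m
  have : Epi (pullback.fst f q) := inferInstance
  rw [← cancel_epi (pullback.fst f q), comp_zero, pullback.condition]
  refine hsep _ fun i g => ?_
  obtain ⟨G, hG⟩ := hlift (P₀ i) (g ≫ pullback.snd f q)
  have hG0 : G = 0 := eq_zero_of_components hT (hP i) m G fun n => by
    refine ((hP i).bij m n).1 ?_
    rw [Φ_comp, hG, map_zero]
    refine (congrArg (· ≫ _) (Category.assoc g (pullback.snd f q) q)).trans
      ((Category.assoc _ _ _).trans ((congrArg (g ≫ ·) ?_).trans comp_zero))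
    refine (congrArg (· ≫ _) pullback.condition.symm).trans ?_
    rw [Category.assoc, hf n, comp_zero]
  rw [← Category.assoc, ← hG, hG0, map_zero]

include hT hsep hP in
/-- `Hᵐ` of the derived limit is the limit of the `Hᵐ`. -/
theorem existsUnique_factor [HasLimitsOfShape ℕᵒᵖ A] {W : A} (x : ∀ n, W ⟶ (homologyFunctor A m).obj (K n))
    (hx : ∀ n, x (n + 1) ≫ (homologyFunctor A m).map (t n) = x n) :
    ∃! f : W ⟶ (homologyFunctor A m).obj L, ∀ n, f ≫ (homologyFunctor A m).map (a ≫ Pi.π K n) = x n := by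
  let T : ℕᵒᵖ ⥤ A := Functor.ofOpSequence (X := fun n => (homologyFunctor A m).obj (K n)) fun n => (homologyFunctor A m).map (t n)
  let cn : Cone T :=
    { pt := (homologyFunctor A m).obj L
      π := NatTrans.ofOpSequence (fun n => (homologyFunctor A m).map (a ≫ Pi.π K n)) fun n => by
        simp only [T, Functor.const_obj_map, Functor.ofOpSequence_map_homOfLE_succ, Category.id_comp]
        exact (Category.id_comp _).trans ((congrArg (homologyFunctor A m).map (component_eq hT n)).symm.trans (Functor.map_comp _ _ _)) }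
  let b : (homologyFunctor A m).obj L ⟶ limit T := limit.lift T cn
  let pr : ∀ n, limit T ⟶ (homologyFunctor A m).obj (K n) := fun n => limit.π T (op n)
  have hb : ∀ n, b ≫ pr n = (homologyFunctor A m).map (a ≫ Pi.π K n) := fun n => limit.lift_π cn (op n)
  have hTn : ∀ n, pr (n + 1) ≫ (homologyFunctor A m).map (t n) = pr n := fun n => by
    refine Eq.trans (congrArg (pr (n + 1) ≫ ·) ?_) (limit.w T (homOfLE (Nat.le_add_right n 1)).op)
    exact (Functor.ofOpSequence_map_homOfLE_succ (X := fun n => (homologyFunctor A m).obj (K n))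
      (fun n => (homologyFunctor A m).map (t n)) n).symm
  have : Mono b := Preadditive.mono_of_cancel_zero _ fun {W'} f hf =>
    eq_zero_of_map_eq_zero hT hsep hP m f fun n => by rw [← hb, ← Category.assoc, hf, zero_comp]
  have : Epi b := by
    refine Preadditive.epi_of_cancel_zero _ fun {N} f hf => hsep f fun i g => ?_
    choose y hy using fun n => ((hP i).bij m n).2 (g ≫ pr n)
    obtain ⟨G, hG⟩ := exists_lift hT y fun n => ((hP i).bij m n).1 (by
      rw [Φ_comp, hy, hy, Category.assoc, hTn])
    have e : Φ (P₀ i) m L G ≫ b = g := limit.hom_ext fun n => by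
      obtain ⟨n⟩ := n
      change (Φ (P₀ i) m L G ≫ b) ≫ pr n = g ≫ pr n
      rw [Category.assoc, hb, ← Φ_comp]
      exact (congrArg _ (hG n)).trans (hy n)
    rw [← e, Category.assoc, hf, comp_zero]
  have : IsIso b := isIso_of_mono_of_epi b
  let xc : Cone T :=
    { pt := W
      π := NatTrans.ofOpSequence x fun n => by
        simp only [T, Functor.const_obj_map, Functor.ofOpSequence_map_homOfLE_succ, Category.id_comp]
        exact (Category.id_comp _).trans (hx n).symm }
  let l : W ⟶ limit T := limit.lift T xc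
  have hl : ∀ n, l ≫ pr n = x n := fun n => limit.lift_π xc (op n)
  refine ⟨l ≫ inv b, fun n => ?_, fun f hf => ?_⟩
  · rw [← hb, Category.assoc, IsIso.inv_hom_id_assoc, hl]
  · rw [IsIso.eq_comp_inv]
    refine limit.hom_ext fun n => ?_
    obtain ⟨n⟩ := n
    change (f ≫ b) ≫ pr n = l ≫ pr n
    rw [Category.assoc, hb, hl]
    exact hf n

section Single

variable {M : ℕ → A} (s : ∀ n, M (n + 1) ⟶ M n) [HasLimitsOfShape ℕᵒᵖ A]
  [HasProduct fun n => (singleFunctor A 0).obj (M n)]

include hsep in
/-- The limit of a tower with surjective transitions on a separating family is its derived limit. -/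
theorem exists_triangle_single
    (hM : ∀ i, Good (P₀ i) (fun n => (singleFunctor A 0).obj (M n)) fun n => (singleFunctor A 0).map (s n)) :
    ∃ c : (∏ᶜ fun n => (singleFunctor A 0).obj (M n)) ⟶
        ((singleFunctor A 0).obj (limit (Functor.ofOpSequence s)))⟦(1 : ℤ)⟧,
      Triangle.mk (Pi.lift (f := fun n => (singleFunctor A 0).obj (M n))
          fun n => (singleFunctor A 0).map (limit.π (Functor.ofOpSequence s) (op n)))
        (Pi.lift fun n => Pi.π (fun n => (singleFunctor A 0).obj (M n)) n -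
          Pi.π (fun n => (singleFunctor A 0).obj (M n)) (n + 1) ≫ (singleFunctor A 0).map (s n))
        c ∈ distinguishedTriangles := by
  let K := fun n => (singleFunctor A 0).obj (M n)
  let t : ∀ n, K (n + 1) ⟶ K n := fun n => (singleFunctor A 0).map (s n)
  let d := Pi.lift fun n => Pi.π K n - Pi.π K (n + 1) ≫ t n
  obtain ⟨L, a, c, hT⟩ := Pretriangulated.distinguished_cocone_triangle₁ d
  let l := limit (Functor.ofOpSequence s)
  let pr : ∀ n, l ⟶ M n := fun n => limit.π (Functor.ofOpSequence s) (op n)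
  have hpr : ∀ n, pr (n + 1) ≫ s n = pr n := fun n => by
    refine Eq.trans (congrArg (pr (n + 1) ≫ ·) ?_) (limit.w (Functor.ofOpSequence s) (homOfLE (Nat.le_add_right n 1)).op)
    exact (Functor.ofOpSequence_map_homOfLE_succ s n).symm
  obtain ⟨e, he⟩ := exists_lift hT (fun n => (singleFunctor A 0).map (pr n))
    (fun n => (Functor.map_comp _ _ _).symm.trans (congrArg _ (hpr n)))
  let H := homologyFunctor A
  have hz : ∀ m : ℤ, m ≠ 0 → ∀ n, IsZero ((H m).obj (K n)) := fun m hm n => by
    rcases lt_or_gt_of_ne hm with h | h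
    · exact isZero_of_isGE (K n) 0 m h
    · exact isZero_of_isLE (K n) 0 m h
  have hzl : ∀ m : ℤ, m ≠ 0 → IsZero ((H m).obj ((singleFunctor A 0).obj l)) := fun m hm => by
    rcases lt_or_gt_of_ne hm with h | h
    · exact isZero_of_isGE _ 0 m h
    · exact isZero_of_isLE _ 0 m h
  have : IsIso e := by
    rw [DerivedCategory.isIso_iff]
    intro m
    by_cases hm : m = 0
    · subst hm
      let ι := fun Y : A => (singleFunctorCompHomologyFunctorIso A 0).app Y
      obtain ⟨f, hf, -⟩ := existsUnique_factor hT hsep hM 0 (W := l)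
        (fun n => pr n ≫ (ι (M n)).inv) fun n => by
          rw [Category.assoc, ← hpr n, Category.assoc]
          exact congrArg (pr (n + 1) ≫ ·) ((singleFunctorCompHomologyFunctorIso A 0).inv.naturality (s n)).symm
      obtain ⟨u, -, huu⟩ := existsUnique_factor hT hsep hM 0 (W := (H 0).obj L)
        (fun n => (H 0).map (a ≫ Pi.π K n)) fun n =>
          (Functor.map_comp _ _ _).symm.trans (congrArg _ (component_eq hT n))
      let x : Cone (Functor.ofOpSequence s) :=
        { pt := (H 0).obj L
          π := NatTrans.ofOpSequence (fun n => (H 0).map (a ≫ Pi.π K n) ≫ (ι (M n)).hom) fun n => by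
            simp only [Functor.const_obj_map, Functor.ofOpSequence_map_homOfLE_succ, Category.id_comp]
            refine (Category.id_comp _).trans ?_
            rw [Category.assoc]
            refine Eq.trans ?_ (congrArg ((H 0).map (a ≫ Pi.π K (n + 1)) ≫ ·)
              ((singleFunctorCompHomologyFunctorIso A 0).hom.naturality (s n)))
            rw [← Category.assoc]
            exact congrArg (· ≫ (ι (M n)).hom)
              ((congrArg (H 0).map (component_eq hT n)).symm.trans (Functor.map_comp _ _ _)) }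
      let g : (H 0).obj L ⟶ l := limit.lift _ x
      have hg : ∀ n, g ≫ pr n = (H 0).map (a ≫ Pi.π K n) ≫ (ι (M n)).hom := fun n => limit.lift_π x (op n)
      have he' : ∀ n, (H 0).map e ≫ (H 0).map (a ≫ Pi.π K n) = (H 0).map ((singleFunctor A 0).map (pr n)) :=
        fun n => (Functor.map_comp _ _ _).symm.trans (congrArg _ (he n))
      have hnat : ∀ n, (H 0).map ((singleFunctor A 0).map (pr n)) ≫ (ι (M n)).hom = (ι l).hom ≫ pr n :=
        fun n => (singleFunctorCompHomologyFunctorIso A 0).hom.naturality (pr n)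
      refine ⟨g ≫ (ι l).inv, ?_, ?_⟩
      · rw [← cancel_mono (ι l).hom, Category.assoc, Category.assoc, Iso.inv_hom_id, Category.comp_id]
        refine Eq.trans ?_ (Category.id_comp _).symm
        refine limit.hom_ext fun n => ?_
        obtain ⟨n⟩ := n
        change ((H 0).map e ≫ g) ≫ pr n = (ι l).hom ≫ pr n
        rw [Category.assoc, hg, ← Category.assoc, he', hnat]
      · have h₁ : ∀ n, ((g ≫ (ι l).inv) ≫ (H 0).map e) ≫ (H 0).map (a ≫ Pi.π K n) = (H 0).map (a ≫ Pi.π K n) :=
          fun n => by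
            rw [Category.assoc, he', ← cancel_mono (ι (M n)).hom, Category.assoc, hnat, Category.assoc,
              Iso.inv_hom_id_assoc, hg]
        exact (huu _ h₁).trans (huu _ fun n => Category.id_comp _).symm
    · have h0 : IsZero ((H m).obj L) := by
        rw [IsZero.iff_id_eq_zero]
        refine eq_zero_of_map_eq_zero hT hsep hM m _ fun n => ?_
        exact (hz m hm n).eq_of_tgt _ _
      exact ⟨0, (hzl m hm).eq_of_src _ _, h0.eq_of_src _ _⟩
  refine ⟨c ≫ (inv e)⟦(1 : ℤ)⟧', isomorphic_distinguished _ hT _ ?_⟩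
  refine Triangle.isoMk _ _ (@asIso _ _ _ _ e ‹IsIso e›) (Iso.refl _) (Iso.refl _) ?_ ?_ ?_
  · refine (Category.comp_id _).trans (Pi.hom_ext _ _ fun n => ?_)
    exact (Pi.lift_π _ _).trans ((he n).symm.trans (Category.assoc _ _ _).symm)
  · exact (Category.comp_id _).trans (Category.id_comp _).symm
  · exact ((Category.assoc _ _ _).trans (congrArg (c ≫ ·) ((Functor.map_comp _ _ _).symm.trans
      ((congrArg _ (IsIso.inv_hom_id e)).trans (CategoryTheory.Functor.map_id _ _))))).trans
      ((Category.comp_id _).trans (Category.id_comp _).symm)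

end Single

end Groth.Agent.AlgSpEN.RlimEpi
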