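import Groth.Agent.AlgSpEN.FreeAcy
import Groth.Agent.AlgSpEN.RlimEpi
import Groth.Agent.AlgSpQC.Abelian
import Groth.Agent.DHA.KInj.Products
import Groth.Agent.DHA.KInjectiveResolution

/-!
# Derived limits of towers with quasi-coherent cohomology on the small etale site
-/

set_option autoImplicit false
universe u

open CategoryTheory CategoryTheory.Limits AlgebraicGeometry Opposite

set_option backward.isDefEq.respectTransparency false
set_option backward.isDefEq.respectTransparency.types false
set_option maxHeartbeats 400000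
attribute [local instance] HasDerivedCategory.standard

noncomputable section

namespace Groth.Agent.AlgSpEN.RlimQC

open _root_.AlgSp Groth.Agent.AlgSpEN.FreeAcy

variable {S : Scheme.{u}} {X : Space S}

/-- Products exist in the derived category. -/
theorem hasProduct {T : Type} (K : T → DModEt X.obj) : HasProduct K := by
  have := AlgSpQC.isGrothendieckAbelian_sheafOfModules (OEtRing X.obj)
  have h : ∀ t, ∃ (I : CochainComplex (ModEt X.obj) ℤ) (_ : I.IsKInjective),
      Nonempty (DerivedCategory.Q.obj I ≅ K t) := fun t => by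
    let s := (DHA.KInj.resolutionι (ModEt X.obj)).app (DerivedCategory.Q.objPreimage (K t))
    exact ⟨_, inferInstance,
      ⟨(asIso (DerivedCategory.Q.map s)).symm ≪≫ DerivedCategory.Q.objObjPreimageIso (K t)⟩⟩
  choose I hI e using h
  have := Groth.Agent.DHA.KInj.hasProduct_of_isKInjective I
  exact hasLimit_of_iso (Discrete.natIso fun t => (e t.as).some :
    Discrete.functor (fun t => DerivedCategory.Q.obj (I t)) ≅ Discrete.functor K)

/-- Maps out of `freeO A [-m]`, `A` affine, compute sections of cohomology. -/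
theorem Φ_bijective (A : EtOver X.obj) [IsAffine A.obj.left.left] (K : DModEt X.obj)
    (hK : DCoh.IsQCohDMod (OEtRing X.obj) K) (m : ℤ) : Function.Bijective (KFlat.TruncHom.Φ (freeO A) m K) := by
  have := hasProduct (KFlat.DerivedLimit.tw K)
  exact KFlat.DerivedLimit.Φ_bijective (P₀ := fun B : {B : EtOver X.obj // IsAffine B.obj.left.left} => freeO B.1)
    (fun f h => eq_zero_of_freeO_comp f fun B hB g => h ⟨B, hB⟩ g)
    (fun B j => have := B.2; have := hK j; acy_freeO_qc B.1 _)
    (fun j => have := hK j; acy_freeO_qc A _) m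

/-- Epimorphisms of quasi-coherent modules lift maps from free modules on affine objects. -/
theorem comp_epi_surjective (A : EtOver X.obj) [IsAffine A.obj.left.left] {M N : ModEt X.obj} [M.IsQuasicoherent]
    [N.IsQuasicoherent] (π : M ⟶ N) [Epi π] : Function.Surjective fun g : freeO A ⟶ M => g ≫ π := by
  intro g
  obtain ⟨s, hs⟩ := AlgSpQC.hs_surjective π A (freeOEquiv A N g)
  refine ⟨(freeOEquiv A M).symm s, (freeOEquiv A N).injective ?_⟩
  rw [freeOEquiv_comp, Equiv.apply_symm_apply]
  exact hs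

variable {K : ℕ → DModEt X.obj} {t : ∀ n, K (n + 1) ⟶ K n}
  (hK : ∀ n, DCoh.IsQCohDMod (OEtRing X.obj) (K n))
  (ht : ∀ (q : ℤ) (n : ℕ), Epi ((DerivedCategory.homologyFunctor (ModEt X.obj) q).map (t n)))

include hK ht in
theorem good (A : EtOver X.obj) [IsAffine A.obj.left.left] : RlimEpi.Good (freeO A) K t where
  bij m n := Φ_bijective A (K n) (hK n) m
  surj m n := by
    have := ht m n
    have h₁ : SheafOfModules.IsQuasicoherent.{u + 1, u, u + 1} ((DerivedCategory.homologyFunctor (ModEt X.obj) m).obj (K (n + 1))) :=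
      hK (n + 1) m
    have h₂ : SheafOfModules.IsQuasicoherent.{u + 1, u, u + 1} ((DerivedCategory.homologyFunctor (ModEt X.obj) m).obj (K n)) :=
      hK n m
    exact comp_epi_surjective A _

include hK ht in
/-- `Hᵐ` of the derived limit is the limit of the `Hᵐ`. -/
theorem existsUnique_factor [HasProduct K] {L : DModEt X.obj} {a : L ⟶ ∏ᶜ K} {c : (∏ᶜ K) ⟶ L⟦(1 : ℤ)⟧}
    (hT : Pretriangulated.Triangle.mk a (Pi.lift fun n => Pi.π K n - Pi.π K (n + 1) ≫ t n) c ∈
      Pretriangulated.distinguishedTriangles)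
    (m : ℤ) {W : ModEt X.obj} (x : ∀ n, W ⟶ (DerivedCategory.homologyFunctor (ModEt X.obj) m).obj (K n))
    (hx : ∀ n, x (n + 1) ≫ (DerivedCategory.homologyFunctor (ModEt X.obj) m).map (t n) = x n) :
    ∃! f : W ⟶ (DerivedCategory.homologyFunctor (ModEt X.obj) m).obj L,
      ∀ n, f ≫ (DerivedCategory.homologyFunctor (ModEt X.obj) m).map (a ≫ Pi.π K n) = x n :=
  RlimEpi.existsUnique_factor hT (P₀ := fun B : {B : EtOver X.obj // IsAffine B.obj.left.left} => freeO B.1)
    (fun f h => eq_zero_of_freeO_comp f fun B hB g => h ⟨B, hB⟩ g)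
    (fun B => have := B.2; good hK ht B.1) m x hx

/-- Sections of a limit of modules are the compatible families of sections. -/
theorem sections_of_existsUnique {H : ModEt X.obj} {M : ℕ → ModEt X.obj} (t : ∀ n, M (n + 1) ⟶ M n)
    (p : ∀ n, H ⟶ M n) (hp : ∀ n, p (n + 1) ≫ t n = p n)
    (h : ∀ {W : ModEt X.obj} (x : ∀ n, W ⟶ M n), (∀ n, x (n + 1) ≫ t n = x n) →
      ∃! f : W ⟶ H, ∀ n, f ≫ p n = x n) (A : EtOver X.obj) :
    (∀ s s' : sectModEt H A, (∀ n, (p n).val.app (op A) s = (p n).val.app (op A) s') → s = s') ∧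
      ∀ x : ∀ n, sectModEt (M n) A, (∀ n, (t n).val.app (op A) (x (n + 1)) = x n) →
        ∃ s : sectModEt H A, ∀ n, (p n).val.app (op A) s = x n := by
  refine ⟨fun s s' hs => ?_, fun x hx => ?_⟩
  · obtain ⟨f, -, hf⟩ := h (fun n => (freeOEquiv A H).symm s ≫ p n) fun n => by rw [Category.assoc, hp]
    have h₁ := hf ((freeOEquiv A H).symm s) fun n => rfl
    have h₂ := hf ((freeOEquiv A H).symm s') fun n => (freeOEquiv A _).injective (by
      rw [freeOEquiv_comp, freeOEquiv_comp, Equiv.apply_symm_apply, Equiv.apply_symm_apply]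
      exact (hs n).symm)
    exact (freeOEquiv A H).symm.injective (h₁.trans h₂.symm)
  · obtain ⟨f, hf, -⟩ := h (fun n => (freeOEquiv A _).symm (x n)) fun n => (freeOEquiv A _).injective (by
      rw [freeOEquiv_comp, Equiv.apply_symm_apply, Equiv.apply_symm_apply]
      exact hx n)
    exact ⟨freeOEquiv A H f, fun n => (freeOEquiv_comp A f _).symm.trans
      ((congrArg (freeOEquiv A _) (hf n)).trans (Equiv.apply_symm_apply _ _))⟩

include hK ht in
/-- Sections of `Hᵐ` of the derived limit are the compatible families of sections. -/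
theorem sections_H_rlim [HasProduct K] {L : DModEt X.obj} {a : L ⟶ ∏ᶜ K} {c : (∏ᶜ K) ⟶ L⟦(1 : ℤ)⟧}
    (hT : Pretriangulated.Triangle.mk a (Pi.lift fun n => Pi.π K n - Pi.π K (n + 1) ≫ t n) c ∈
      Pretriangulated.distinguishedTriangles) (m : ℤ) (A : EtOver X.obj) :
    (∀ s s' : sectModEt (DCoh.HDMod (OEtRing X.obj) L m) A,
        (∀ n : ℕ, ((DerivedCategory.homologyFunctor (ModEt X.obj) m).map (a ≫ Pi.π K n)).val.app (op A) s =
          ((DerivedCategory.homologyFunctor (ModEt X.obj) m).map (a ≫ Pi.π K n)).val.app (op A) s') → s = s') ∧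
      ∀ x : ∀ n : ℕ, sectModEt (DCoh.HDMod (OEtRing X.obj) (K n) m) A,
        (∀ n : ℕ, ((DerivedCategory.homologyFunctor (ModEt X.obj) m).map (t n)).val.app (op A) (x (n + 1)) = x n) →
        ∃ s : sectModEt (DCoh.HDMod (OEtRing X.obj) L m) A,
          ∀ n : ℕ, ((DerivedCategory.homologyFunctor (ModEt X.obj) m).map (a ≫ Pi.π K n)).val.app (op A) s = x n :=
  sections_of_existsUnique (fun n => (DerivedCategory.homologyFunctor (ModEt X.obj) m).map (t n))
    (fun n => (DerivedCategory.homologyFunctor (ModEt X.obj) m).map (a ≫ Pi.π K n))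
    (fun n => (Functor.map_comp _ _ _).symm.trans (congrArg _ (RlimEpi.component_eq hT n)))
    (fun x hx => existsUnique_factor hK ht hT m x hx) A

/-- A quasi-coherent module in degree zero has quasi-coherent cohomology sheaves. -/
theorem isQCohDMod_inDMod (M : ModEt X.obj) [M.IsQuasicoherent] :
    DCoh.IsQCohDMod (OEtRing X.obj) (DCoh.inDMod (OEtRing X.obj) M) := by
  have hz : ∀ {Z : ModEt X.obj}, IsZero Z → Z.IsQuasicoherent := fun {Z} hZ => by
    have h : IsZero (kernel (𝟙 M)) := IsZero.of_mono_eq_zero (kernel.ι (𝟙 M)) (kernel.ι_of_mono (𝟙 M))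
    have := AlgSpQC.isQuasicoherent_kernel (𝟙 M)
    exact (SheafOfModules.isQuasicoherent.{u + 1, u, u + 1} (OEtRing X.obj)).prop_of_iso (h.iso hZ) this
  intro q
  by_cases hq : q = 0
  · subst hq
    exact (SheafOfModules.isQuasicoherent.{u + 1, u, u + 1} (OEtRing X.obj)).prop_of_iso
      ((DerivedCategory.singleFunctorCompHomologyFunctorIso (ModEt X.obj) 0).app M).symm ‹_›
  · refine hz ?_
    rcases lt_or_gt_of_ne hq with h | h
    · exact DerivedCategory.isZero_of_isGE (DCoh.inDMod (OEtRing X.obj) M) 0 q h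
    · exact DerivedCategory.isZero_of_isLE (DCoh.inDMod (OEtRing X.obj) M) 0 q h

theorem epi_map_single {M N : ModEt X.obj} (f : M ⟶ N) [Epi f] (q : ℤ) :
    Epi ((DerivedCategory.homologyFunctor (ModEt X.obj) q).map
      ((DerivedCategory.singleFunctor (ModEt X.obj) 0).map f)) := by
  by_cases hq : q = 0
  · subst hq
    let e := DerivedCategory.singleFunctorCompHomologyFunctorIso (ModEt X.obj) 0
    change Epi ((DerivedCategory.singleFunctor (ModEt X.obj) 0 ⋙ DerivedCategory.homologyFunctor (ModEt X.obj) 0).map f)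
    have h : (DerivedCategory.singleFunctor (ModEt X.obj) 0 ⋙ DerivedCategory.homologyFunctor (ModEt X.obj) 0).map f =
        e.hom.app M ≫ f ≫ e.inv.app N := (NatIso.naturality_2 e f).symm
    rw [h]
    exact epi_comp _ _
  · have h0 : IsZero ((DerivedCategory.homologyFunctor (ModEt X.obj) q).obj
        ((DerivedCategory.singleFunctor (ModEt X.obj) 0).obj N)) := by
      rcases lt_or_gt_of_ne hq with h | h
      · exact DerivedCategory.isZero_of_isGE _ 0 q h
      · exact DerivedCategory.isZero_of_isLE _ 0 q h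
    exact ⟨fun a b _ => h0.eq_of_src a b⟩

/-- The limit of a tower of quasi-coherent modules with epimorphic transition maps is its derived limit. -/
theorem exists_triangle_limit (M : ℕ → ModEt X.obj) (t : ∀ n, M (n + 1) ⟶ M n) (hM : ∀ n, (M n).IsQuasicoherent)
    (ht : ∀ n, Epi (t n)) [HasProduct fun n : ℕ => DCoh.inDMod (OEtRing X.obj) (M n)] :
    ∃ c : (∏ᶜ fun n : ℕ => DCoh.inDMod (OEtRing X.obj) (M n)) ⟶
        (DCoh.inDMod (OEtRing X.obj) (limit (Functor.ofOpSequence t)))⟦(1 : ℤ)⟧,
      Pretriangulated.Triangle.mk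
        (Pi.lift (f := fun n : ℕ => DCoh.inDMod (OEtRing X.obj) (M n))
          fun n : ℕ => (DerivedCategory.singleFunctor (ModEt X.obj) 0).map
            (limit.π (Functor.ofOpSequence t) (op n)))
        (Pi.lift fun n : ℕ => Pi.π (fun n : ℕ => DCoh.inDMod (OEtRing X.obj) (M n)) n -
          Pi.π (fun n : ℕ => DCoh.inDMod (OEtRing X.obj) (M n)) (n + 1) ≫
            (DerivedCategory.singleFunctor (ModEt X.obj) 0).map (t n))
        c ∈ Pretriangulated.distinguishedTriangles :=
  RlimEpi.exists_triangle_single (P₀ := fun B : {B : EtOver X.obj // IsAffine B.obj.left.left} => freeO B.1)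
    (fun f h => eq_zero_of_freeO_comp f fun B hB g => h ⟨B, hB⟩ g) t
    (fun B => have := B.2
      good (fun n => have := hM n; isQCohDMod_inDMod (M n)) (fun q n => have := ht n; epi_map_single (t n) q) B.1)

end Groth.Agent.AlgSpEN.RlimQC
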