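import Groth.Agent.AlgSpEN.RFBounds
import Groth.Agent.AlgSpEN.RlimQC

/-!
# Derived functors of finite cohomological dimension on quasi-coherent modules of an algebraic space
-/

set_option autoImplicit false
universe u

open CategoryTheory CategoryTheory.Limits AlgebraicGeometry Opposite DerivedCategory Pretriangulated
open Groth.Agent.CohDerLib.RFLim Groth.Agent.KFlat

set_option backward.isDefEq.respectTransparency false
attribute [local instance] HasDerivedCategory.standard

namespace Groth.Agent.AlgSpEN.RFQC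

theorem hasProductsOfShape_nat : HasProductsOfShape ℕ AddCommGrpCat.{u + 1} :=
  hasLimitsOfShape_of_equivalence (Discrete.equivalence (Equiv.ulift.{u + 1} (α := ℕ)))

theorem hasExactLimitsOfShape_nat :
    haveI := hasProductsOfShape_nat.{u}
    HasExactLimitsOfShape (Discrete ℕ) AddCommGrpCat.{u + 1} :=
  HasExactLimitsOfShape.of_domain_equivalence _ (Discrete.equivalence (Equiv.ulift.{u + 1} (α := ℕ)))

open _root_.AlgSp

variable {S : Scheme.{u}} {X : Space S}

theorem isQuasicoherent_of_isZero {Z M : ModEt X.obj} [M.IsQuasicoherent] (hZ : IsZero Z) : Z.IsQuasicoherent := by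
  have h : IsZero (kernel (𝟙 M)) := IsZero.of_mono_eq_zero (kernel.ι (𝟙 M)) (kernel.ι_of_mono (𝟙 M))
  have := AlgSpQC.isQuasicoherent_kernel (𝟙 M)
  exact (SheafOfModules.isQuasicoherent.{u + 1, u, u + 1} (OEtRing X.obj)).prop_of_iso (h.iso hZ) this

/-- Quasi-coherent cohomology passes to truncations. -/
theorem isQCohDMod_truncLT {E : DModEt X.obj} (hE : DCoh.IsQCohDMod (OEtRing X.obj) E) (c : ℤ) :
    DCoh.IsQCohDMod (OEtRing X.obj) ((TStructure.t.truncLT c).obj E) := fun q => by
  by_cases hq : q < c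
  · have := TruncHom.isIso_H_truncLTι E c q hq
    exact (SheafOfModules.isQuasicoherent.{u + 1, u, u + 1} (OEtRing X.obj)).prop_of_iso
      (asIso ((homologyFunctor (ModEt X.obj) q).map ((TStructure.t.truncLTι c).app E))).symm (hE q)
  · have h : ((TStructure.t.truncLT c).obj E).IsLE (c - 1) :=
      inferInstanceAs (TStructure.t.IsLE ((TStructure.t.truncLT c).obj E) (c - 1))
    have := hE q
    exact isQuasicoherent_of_isZero (M := (homologyFunctor (ModEt X.obj) q).obj E)
      (DerivedCategory.isZero_of_isLE _ (c - 1) q (by omega))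

variable (F : ModEt X.obj ⥤ AddCommGrpCat.{u + 1}) [F.Additive] [PreservesLimitsOfShape (Discrete ℕ) F]
  [EnoughInjectives (ModEt X.obj)] (N : ℕ)
  (hF : ∀ G : ModEt X.obj, G.IsQuasicoherent → ∀ p : ℕ, N ≤ p → IsZero ((F.rightDerived p).obj G))
  [(F.mapHomotopyCategory (ComplexShape.up ℤ) ⋙ DerivedCategory.Qh).HasRightDerivedFunctor
    (HomotopyCategory.quasiIso (ModEt X.obj) (ComplexShape.up ℤ))]

/-- Cohomology above `b + N` of the image vanishes. -/
theorem isZero_above (hF : ∀ G : ModEt X.obj, G.IsQuasicoherent → ∀ p : ℕ, N ≤ p → IsZero ((F.rightDerived p).obj G))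
    (E : DModEt X.obj) (hE : DCoh.IsQCohDMod (OEtRing X.obj) E) (b i : ℤ)
    (hb : ∀ q, b < q → IsZero (DCoh.HDMod (OEtRing X.obj) E q)) (hi : b + N ≤ i) :
    IsZero ((homologyFunctor AddCommGrpCat.{u + 1} i).obj ((RF F).obj E)) := by
  have := AlgSpQC.isGrothendieckAbelian_sheafOfModules (OEtRing X.obj)
  have := RlimQC.hasProduct (DerivedLimit.tw E)
  have := hasProductsOfShape_nat.{u}
  have := hasExactLimitsOfShape_nat.{u}
  have : (lim : (Discrete ℕ ⥤ AddCommGrpCat.{u + 1}) ⥤ AddCommGrpCat.{u + 1}).PreservesEpimorphisms :=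
    inferInstance
  refine RFBounds.isZero_of_isLE.{u + 2, u + 1, u + 1} F (N : ℤ) E ?_ (fun q j hqj => ?_) b i hb hi
  · obtain ⟨c, hc⟩ := FreeAcy.exists_triangle E hE
    exact ⟨_, c, hc⟩
  · obtain ⟨e⟩ := SitePull.exists_iso_rightDerived F ((homologyFunctor (ModEt X.obj) q).obj E) q j (j - q).toNat
      (by omega)
    exact (hF _ (hE q) _ (by omega)).of_iso e

/-- Cohomology below a lower bound of the image vanishes. -/
theorem isZero_below (E : DModEt X.obj) (a i : ℤ)
    (ha : ∀ q, q < a → IsZero (DCoh.HDMod (OEtRing X.obj) E q)) (hi : i < a) :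
    IsZero ((homologyFunctor AddCommGrpCat.{u + 1} i).obj ((RF F).obj E)) := by
  have := AlgSpQC.isGrothendieckAbelian_sheafOfModules (OEtRing X.obj)
  have : E.IsGE a := (DerivedCategory.isGE_iff E a).2 ha
  have := SitePull.isGE_RF F E a
  exact DerivedCategory.isZero_of_isGE _ a i hi

/-- High cohomology only depends on a truncation. -/
theorem isIso_truncGE (hF : ∀ G : ModEt X.obj, G.IsQuasicoherent → ∀ p : ℕ, N ≤ p → IsZero ((F.rightDerived p).obj G))
    (E : DModEt X.obj) (hE : DCoh.IsQCohDMod (OEtRing X.obj) E) (b i : ℤ) (hi : b ≤ i) :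
    IsIso ((homologyFunctor AddCommGrpCat.{u + 1} i).map
      ((RF F).map ((TStructure.t.truncGEπ (b - N + 1)).app E))) := by
  have := AlgSpQC.isGrothendieckAbelian_sheafOfModules (OEtRing X.obj)
  let T := (TStructure.t.triangleLTGE (b - N + 1)).obj E
  obtain ⟨δ, hδ⟩ := distinguished_RF F T (TStructure.t.triangleLTGE_distinguished (b - N + 1) E)
  have hz : ∀ j, b ≤ j → IsZero ((homologyFunctor AddCommGrpCat.{u + 1} j).obj ((RF F).obj T.obj₁)) := fun j hj => by
    have h : T.obj₁.IsLE (b - N) :=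
      inferInstanceAs (TStructure.t.IsLE ((TStructure.t.truncLT (b - N + 1)).obj E) (b - N))
    exact isZero_above F N hF T.obj₁ (isQCohDMod_truncLT hE _) (b - N) j
      (fun q hq => DerivedCategory.isZero_of_isLE T.obj₁ (b - N) q hq) (by omega)
  have hm : Mono ((homologyFunctor AddCommGrpCat.{u + 1} i).map ((RF F).map T.mor₂)) :=
    (HomologySequence.mono_homologyMap_mor₂_iff _ hδ i).2 ((hz i hi).eq_of_src _ _)
  have he : Epi ((homologyFunctor AddCommGrpCat.{u + 1} i).map ((RF F).map T.mor₂)) :=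
    (HomologySequence.epi_homologyMap_mor₂_iff _ hδ i (i + 1) rfl).2 ((hz (i + 1) (by omega)).eq_of_tgt _ _)
  exact isIso_of_mono_of_epi ((homologyFunctor AddCommGrpCat.{u + 1} i).map ((RF F).map T.mor₂))

end Groth.Agent.AlgSpEN.RFQC
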