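import Groth.Agent.AlgSpEN.FamStrata
import Groth.Agent.AlgSpEN.PerfBound
import Groth.Agent.AlgSpEN.RFQC
import Groth.Agent.AlgSpEN.RelBound
import Groth.Agent.AlgSpEN.RlimQC
import Groth.Agent.AlgSpB.IdealApprox.Step
import Mathlib.CategoryTheory.Abelian.Injective.Ext

/-!
# Maps out of perfect objects into very negative objects with quasi-coherent cohomology vanish
-/

set_option autoImplicit false
universe w u

open CategoryTheory CategoryTheory.Limits AlgebraicGeometry Opposite

set_option backward.isDefEq.respectTransparency false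
set_option backward.isDefEq.respectTransparency.types false
set_option maxHeartbeats 1000000
attribute [local instance] HasDerivedCategory.standard

noncomputable section

namespace Groth.Agent.AlgSpEN.FamHom

open _root_.AlgSp Groth.Agent.AlgSpQC PushIntegral
open CochainComplex HomComplex

variable {S : Scheme.{u}} {X : AlgSp.Space S} {K : CochainComplex (ModEt X.obj) ℤ}

/-- Over every affine object everything is good for a complex representing a perfect object. -/
theorem goodOver_of_isPerfect (hK : IsPerfectEtD (DerivedCategory.Q.obj K : DModEt X.obj)) (M : EtOver X.obj)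
    [IsAffine M.obj.left.left] : GoodOver K M := by
  obtain ⟨ι, V, g, hg, hV⟩ := hK M
  obtain ⟨κ, hκ, A, f, hA, hf, hcov⟩ := exists_affine_family (Precoverage.generate_mem_toGrothendieck hg)
  refine goodOver_of_cover fun z => ?_
  obtain ⟨k, hk⟩ := hcov z
  obtain ⟨j, a, -⟩ := Sieve.mem_ofArrows_iff .. |>.1 (hf k)
  obtain ⟨E, hE, ⟨e⟩⟩ := hV j
  have := hA k
  have hAk : GoodOver K (A k) := fun Q' φ hQ' => have := hQ'; good_strict (φ ≫ a) K E hE e
  let O : M.obj.left.left.Opens := ⟨Set.range (f k).hom.left.left,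
    (have := EtOver.etale_left (f k); (f k).hom.left.left.isOpenMap).isOpen_range⟩
  obtain ⟨g₀, hgO, hzg⟩ := (isAffineOpen_top M.obj.left.left).exists_basicOpen_le (V := O) ⟨z, hk⟩ (Set.mem_univ _)
  refine ⟨g₀, hzg, ?_⟩
  have hM : IsAffine (piece M (M.obj.left.left.basicOpen g₀)).obj.left.left :=
    (isAffineOpen_top M.obj.left.left).basicOpen g₀
  have : IsAffine (piece (A k) ((A k).obj.left.left.basicOpen ((f k).hom.left.left.appTop g₀))).obj.left.left :=
    (isAffineOpen_top _).basicOpen _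
  obtain ⟨l, hl⟩ := exists_lift_piece (M.obj.left.left.basicOpen g₀)
    (pieceHom (A k) ((A k).obj.left.left.basicOpen ((f k).hom.left.left.appTop g₀)) ≫ f k) fun w =>
      (Scheme.preimage_basicOpen_top (f k).hom.left.left g₀).ge (pieceHom_mem _ w)
  refine goodOver_of_etale_cover l (fun y => ?_) (hAk.of_hom (pieceHom _ _))
  obtain ⟨u, hu⟩ := hgO (pieceHom_mem (M.obj.left.left.basicOpen g₀) y)
  have hu' : u ∈ (A k).obj.left.left.basicOpen ((f k).hom.left.left.appTop g₀) := by
    refine (Scheme.preimage_basicOpen_top (f k).hom.left.left g₀).le ?_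
    change (f k).hom.left.left u ∈ M.obj.left.left.basicOpen g₀
    rw [hu]
    exact pieceHom_mem (M.obj.left.left.basicOpen g₀) y
  refine ⟨⟨u, hu'⟩, (M.obj.left.left.basicOpen g₀).ι.isOpenEmbedding.injective ?_⟩
  exact (congrArg (fun q : piece (A k) _ ⟶ M => q.hom.left.left ⟨u, hu'⟩) hl).trans hu

/-- Sections over objects lying in a set of points. -/
def inSet (A : Set (Points X.obj)) : Dom (Bound.point X) :=
  ⟨fun Z _ => Bound.Lies A Z, fun {_ _} g _ h => Bound.lies_of_hom g h⟩

/-- Maps agreeing at all points outside an open set agree locally there. -/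
theorem exists_eq_nhd {P Z : EtOver X.obj} {A : Set (Points X.obj)} (u v : Z ⟶ P)
    (huv : ∀ (T : Over S) (a : T ⟶ Z.obj.left), (∀ o, Points.ofPt ((yon S).map a ≫ Z.obj.hom) o ∉ A) →
      a ≫ u.hom.left = a ≫ v.hom.left)
    (z : Z.obj.left.left) (hz : Points.ofPt Z.obj.hom z ∉ A) :
    ∃ (Z' : EtOver X.obj) (g : Z' ⟶ Z), g ≫ v = g ≫ u ∧ z ∈ Set.range g.hom.left.left := by
  let Q := EtOver.prodObj P P
  let m : Z ⟶ Q := (EtOver.prodIsLimit P P).lift (BinaryFan.mk u v)
  let δ : P ⟶ Q := (EtOver.prodIsLimit P P).lift (BinaryFan.mk (𝟙 P) (𝟙 P))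
  have hm1 : m ≫ EtOver.prodFst P P = u :=
    (EtOver.prodIsLimit P P).fac (BinaryFan.mk u v) ⟨WalkingPair.left⟩
  have hm2 : m ≫ EtOver.prodSnd P P = v :=
    (EtOver.prodIsLimit P P).fac (BinaryFan.mk u v) ⟨WalkingPair.right⟩
  have hd1 : δ ≫ EtOver.prodFst P P = 𝟙 P :=
    (EtOver.prodIsLimit P P).fac (BinaryFan.mk (𝟙 P) (𝟙 P)) ⟨WalkingPair.left⟩
  have hd2 : δ ≫ EtOver.prodSnd P P = 𝟙 P :=
    (EtOver.prodIsLimit P P).fac (BinaryFan.mk (𝟙 P) (𝟙 P)) ⟨WalkingPair.right⟩
  obtain ⟨q, hq, l, hl, hqz⟩ := AlgSpD.exists_geometric_lift X Z z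
  have hc : l.1 ≫ u.hom.left = l.1 ≫ v.hom.left :=
    huv q.pt l.1 fun o => by
      rw [l.2, Points.ofPt_toHom, hqz]
      exact hz
  have hpt : l.1 ≫ m.hom.left = (l.1 ≫ u.hom.left) ≫ δ.hom.left := by
    refine Functor.relativelyRepresentable.hom_ext' _ ?_ ?_
    · change (l.1 ≫ m.hom.left) ≫ (EtOver.prodSnd P P).hom.left =
        ((l.1 ≫ u.hom.left) ≫ δ.hom.left) ≫ (EtOver.prodSnd P P).hom.left
      have e1 : m.hom.left ≫ (EtOver.prodSnd P P).hom.left = v.hom.left := congrArg (fun k => k.hom.left) hm2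
      have e2 : δ.hom.left ≫ (EtOver.prodSnd P P).hom.left = 𝟙 _ := congrArg (fun k => k.hom.left) hd2
      rw [Category.assoc, e1, Category.assoc, e2, Category.comp_id, hc]
    · change (l.1 ≫ m.hom.left) ≫ (EtOver.prodFst P P).hom.left =
        ((l.1 ≫ u.hom.left) ≫ δ.hom.left) ≫ (EtOver.prodFst P P).hom.left
      have e1 : m.hom.left ≫ (EtOver.prodFst P P).hom.left = u.hom.left := congrArg (fun k => k.hom.left) hm1
      have e2 : δ.hom.left ≫ (EtOver.prodFst P P).hom.left = 𝟙 _ := congrArg (fun k => k.hom.left) hd1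
      rw [Category.assoc, e1, Category.assoc, e2, Category.comp_id]
  have sq := EtOver.isPullback m δ
  obtain ⟨y, hy, -⟩ := Scheme.exists_preimage_of_isPullback (sq.map (EtOver.toScheme X.obj)) z
    ((l.1 ≫ u.hom.left).left (IsLocalRing.closedPoint q.K)) (by
      rw [← hl]
      exact congrArg (fun k : q.pt ⟶ Q.obj.left => k.left (IsLocalRing.closedPoint q.K)) hpt)
  refine ⟨_, EtOver.pullbackFst m δ, ?_, y, hy⟩
  rw [← hm1, ← hm2, ← Category.assoc, ← Category.assoc, sq.w, Category.assoc, Category.assoc, hd1, hd2]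

/-- A perfect object is good on the whole space. -/
theorem good_univ [QuasiSeparatedSpace ↥S] (hXc : IsQuasiCompactSp X.obj) (hXs : IsQuasiSeparatedSp X.obj)
    (hK : IsPerfectEtD (DerivedCategory.Q.obj K : DModEt X.obj)) :
    Good (inSet (Set.univ : Set (Points X.obj))) K := by
  obtain ⟨U, p, hU, hp, hps⟩ := exists_affine_atlas X hXc
  refine openInduction X hXc hXs ∅ isOpen_empty isCompact_empty (fun A => Good (inSet A) K) ?_ ?_
  · refine good_of_subsingleton fun Z x hx I => ?_
    have := Bound.isEmpty_of_lies_empty hx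
    exact sect_subsingleton_of_isEmpty ((toAbEt X.obj).obj I) Z
  intro A V f hA hAc _ hV hf hinj hgood
  let E : EtOver X.obj := EtOver.mk f hf
  have : IsAffine E.obj.left.left := hV
  have hlift : ∀ {Z Z' : EtOver X.obj} (g : Z' ⟶ Z), Bound.Lies A Z → Bound.Lies A Z' := fun g h => Bound.lies_of_hom g h
  refine good_step_mono (Q := E) (DA := inSet A) PUnit.unit (fun Z _ h => h.trans Set.subset_union_left)
    (fun Z v => Bound.lies_of_hom v (show Bound.Lies (A ∪ Set.range (Points.ofPt f)) E from Set.subset_union_right))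
    ?_ ?_ hgood (goodOver_of_isPerfect hK E E (𝟙 _) hV) ?_
  · intro Z x hx
    refine exists_sieve_of_local _ (fun {Z' Z''} h k hk => hk.elim (fun h1 => Or.inl (hlift h h1))
      fun ⟨v, _⟩ => Or.inr ⟨h ≫ v, rfl⟩) fun z => ?_
    by_cases hz : Points.ofPt Z.obj.hom z ∈ A
    · obtain ⟨W, j, -, hW, hr, -⟩ := Bound.exists_piece_lift hA Z
      exact ⟨W, j, Or.inl hW, hr ▸ hz⟩
    · exact ⟨_, EtOver.prodFst Z E, Or.inr ⟨EtOver.prodSnd Z E, rfl⟩,
        Bound.exists_prod_cover E Z z ((hx ⟨z, rfl⟩).resolve_left hz)⟩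
  · intro Z v v' _
    refine exists_sieve_of_local _ (fun {Z' Z''} h k hk => hk.elim (fun h1 => Or.inl (hlift h h1))
      fun h2 => Or.inr (by simp only [Category.assoc, h2])) fun z => ?_
    by_cases hz : Points.ofPt Z.obj.hom z ∈ A
    · obtain ⟨W, j, -, hW, hr, -⟩ := Bound.exists_piece_lift hA Z
      exact ⟨W, j, Or.inl hW, hr ▸ hz⟩
    · obtain ⟨Z', g, hg, hzg⟩ := exists_eq_nhd v v' (fun T a ho => by
        have h : ∀ g : Z ⟶ E, (yon S).map (a ≫ g.hom.left) ≫ E.obj.hom = (yon S).map a ≫ Z.obj.hom := fun g => by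
          rw [Functor.map_comp, Category.assoc, EtOver.w g]
        exact hinj T _ _ ((h v).trans (h v').symm) fun o => by
          change Points.ofPt ((yon S).map (a ≫ v.hom.left) ≫ E.obj.hom) o ∉ A
          rw [h v]; exact ho o) z hz
      exact ⟨Z', g, Or.inr hg, hzg⟩
  · let O : E.obj.left.left.Opens := ⟨Points.ofPt f ⁻¹' A, hA.preimage (Points.continuous_ofPt f)⟩
    have hpt : ∀ (Z : EtOver X.obj) (v : Z ⟶ E) (z : Z.obj.left.left),
        Points.ofPt f (v.hom.left.left z) = Points.ofPt Z.obj.hom z := fun Z v z =>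
      (AlgSpB.ofPt_map_comp v.hom.left f z).symm.trans (congrArg (fun t => Points.ofPt t z) (EtOver.w v))
    refine good_of_iff (D := inOpen E (O : Set E.obj.left.left)) (fun Z v => ⟨fun h => ?_, fun h z => ?_⟩)
      (good_compact (goodOver_of_isPerfect hK E) O ?_)
    · rintro _ ⟨z, rfl⟩
      rw [← hpt Z v z]
      exact h z
    · change Points.ofPt f (v.hom.left.left z) ∈ A
      rw [hpt]
      exact h ⟨z, rfl⟩
    · obtain ⟨P, π₁, π₂, sq⟩ := AlgSpB.exists_pullback_yon hp.1 f
      have : QuasiCompact π₁.left := (repWith_quasiCompact_chart X hXs f).2 _ _ _ sq.flip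
      exact AlgSpB.IdealApprox.isCompact_preimage_ofPt sq A hAc hA hp (AlgSpB.surjective_ofPt hps)

/-- A global family as a map of modules. -/
def toGlobal {G I : ModEt X.obj} (h : Fam (inSet (Set.univ : Set (Points X.obj))) G I) : G ⟶ I :=
  ⟨PresheafOfModules.homMk (M₁ := G.val) (M₂ := I.val)
    { app := fun Y => AddCommGrpCat.ofHom (ap h Y.unop PUnit.unit (Set.subset_univ _)).toAddMonoidHom
      naturality := fun Y Y' f => by
        ext m
        exact (h.2 _ _ f.unop PUnit.unit (Set.subset_univ _) m).symm }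
    (fun Y r m => by
      obtain ⟨a⟩ := r
      exact (ap h Y.unop PUnit.unit (Set.subset_univ _)).map_smul (show gr Y.unop from a) m)⟩

/-- A map of modules as a global family. -/
def ofGlobal {G I : ModEt X.obj} : (G ⟶ I) →+ Fam (inSet (Set.univ : Set (Points X.obj))) G I :=
  AddMonoidHom.mk' (fun f => ⟨fun Z _ => hs f Z, fun _ _ g _ _ m => (hs_rs f g m).symm⟩)
    fun _ _ => fam_ext fun _ _ _ _ => rfl

theorem ofGlobal_injective {G I : ModEt X.obj} : Function.Injective (ofGlobal (G := G) (I := I)) := fun f f' h =>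
  SheafOfModules.hom_ext (PresheafOfModules.hom_ext fun Y => ModuleCat.hom_ext (LinearMap.ext fun m =>
    congrArg (fun k : Fam (inSet (Set.univ : Set (Points X.obj))) G I =>
      ap k Y.unop PUnit.unit (Set.subset_univ _) m) h))

theorem ofGlobal_toGlobal {G I : ModEt X.obj} (h : Fam (inSet (Set.univ : Set (Points X.obj))) G I) :
    ofGlobal (toGlobal h) = h :=
  fam_ext fun _ _ _ _ => rfl

/-- Complexes of global maps: high cocycles are coboundaries. -/
theorem exists_coboundary_bound [QuasiSeparatedSpace ↥S] (hXc : IsQuasiCompactSp X.obj)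
    (hXs : IsQuasiSeparatedSp X.obj) (hK : IsPerfectEtD (DerivedCategory.Q.obj K : DModEt X.obj)) :
    ∃ c : ℤ, 0 ≤ c ∧ ∀ (J : CochainComplex (ModEt X.obj) ℤ), IsRes J → ∀ n, c < n →
      ∀ z : Cocycle K J n, z ∈ coboundaries K J n := by
  obtain ⟨c, hc, hg⟩ := good_univ hXc hXs hK
  refine ⟨c, hc, fun J hJ n hn z => ?_⟩
  let φ : Coch (inSet (Set.univ : Set (Points X.obj))) K J := fun p q =>
    if h : p + n = q then ofGlobal (z.1.v p q h) else 0
  have hφ : IsCocycle n φ := fun p q hpq => by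
    have e := Cochain.congr_v (z.δ_eq_zero (n + 1)) p q (by omega)
    rw [δ_v n (n + 1) rfl z.1 p q (by omega) (q - 1) (p + 1) rfl rfl, Cochain.zero_v] at e
    refine Eq.trans ?_ ((congrArg ofGlobal e).trans (map_zero ofGlobal))
    simp only [del, φ, dif_pos (show p + n = q - 1 by omega), dif_pos (show p + 1 + n = q by omega), map_add,
      Units.smul_def, map_zsmul]
    rfl
  obtain ⟨h, hh⟩ := hg J hJ n hn φ hφ
  refine ⟨n - 1, by omega, Cochain.mk fun p q _ => toGlobal (h p q), Cochain.ext _ _ fun p q hpq => ?_⟩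
  refine ofGlobal_injective ?_
  rw [δ_v (n - 1) n (by omega) _ p q hpq (q - 1) (p + 1) rfl rfl, Cochain.mk_v, Cochain.mk_v]
  have e := hh p q hpq.symm
  simp only [φ, dif_pos hpq] at e
  refine Eq.trans ?_ e.symm
  simp only [del, map_add, Units.smul_def, map_zsmul]
  exact congrArg₂ (fun a b => a + (n.negOnePow : ℤ) • b) (congrArg (post (J.d (q - 1) q)) (ofGlobal_toGlobal _))
    (congrArg (pre (K.d p (p + 1))) (ofGlobal_toGlobal _))

end Groth.Agent.AlgSpEN.FamHom
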