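import Groth.Agent.AlgSpD.RelDim
import Groth.Agent.AlgSpD.BaseChangeChart
import Groth.Agent.AlgSpD.FibreDimBC
import Groth.Agent.AlgSpCov.LocP
import Groth.Agent.AlgSpCov.Instances
import Groth.Agent.AlgSp.Space
import Groth.Agent.AlgSpB.Open
import Groth.Prelude.Def_AlgSpDec
import Groth.Agent.S5792
import Groth.Agent.AlgSpEN.StrataSq
import Groth.Agent.AlgSp.QCMor
import Mathlib.RingTheory.KrullDimension.Polynomial
import Groth.Agent.S0402
import Groth.Agent.S0404

/-!
# The dimension of the fibres of a morphism of algebraic spaces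
-/

universe u

open CategoryTheory CategoryTheory.Limits AlgebraicGeometry

set_option backward.isDefEq.respectTransparency false
set_option backward.isDefEq.respectTransparency.types false
set_option autoImplicit false

namespace Groth.Agent.AlgSpEN

open Groth.Agent Groth.Agent.AlgSpD

variable {S : Scheme.{u}}

/-- Fibre dimension at most `d`. -/
abbrev DimLe (d : WithBot ℕ∞) : ∀ (U V : Scheme.{u}), (U ⟶ V) → ↥U → Prop :=
  fun _ _ h u => FlatMor.fibreDimAt h u ≤ d

theorem morEtaleInv_dimLe (d : WithBot ℕ∞) : MorEtaleInv.{u} (DimLe d) :=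
  fun _ _ _ _ p q h' h _ _ w u => by
    show FlatMor.fibreDimAt h' u ≤ d ↔ FlatMor.fibreDimAt h (p u) ≤ d
    rw [fibreDimAt_inv p q h' h w u]

/-- The relative dimension is invariant under base change. -/
theorem hasAtMor_dimLe_baseChange {X Y Y' X' : AlgSp.Space S} (f : X ⟶ Y) (g : Y' ⟶ Y) (g' : X' ⟶ X)
    (f' : X' ⟶ Y') (sq : IsPullback g'.hom f'.hom f.hom g.hom) (hf : AlgSp.LocP @LocallyOfFiniteType f.hom)
    (d : WithBot ℕ∞) (x' : AlgSp.Points X'.obj) :
    AlgSp.HasAtMor (DimLe d) f'.hom x' ↔ AlgSp.HasAtMor (DimLe d) f.hom (AlgSp.Points.map g'.hom x') := by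
  obtain ⟨U, V, V', W, a, b, c, e, h, h', k, fst, r, ha, hb, hc, he, w, w', hpb, hr, hr'⟩ :=
    exists_baseChange_diagram f g g' f' sq x'
  have := hf a b h ha hb w
  rw [← hr', ← hr, hasAtMor_iff_chart (morEtaleInv_dimLe d) f ha hb w,
    hasAtMor_iff_chart (morEtaleInv_dimLe d) f' he hc w']
  show FlatMor.fibreDimAt h'.left r ≤ d ↔ _
  rw [fibreDimAt_of_isPullback h.left hpb r]

/-- Over a field the fibre dimension is the local dimension. -/
theorem fibreDimAt_field {Z : Scheme.{u}} {K : Type u} [Field K] (s : Z ⟶ Spec (CommRingCat.of K)) (z : Z) :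
    FlatMor.fibreDimAt s z = FlatMor.localDim Z z := by
  have : IsIso ((Spec (CommRingCat.of K)).fromSpecResidueField (s z)) := by
    have : Subsingleton ↥(Spec (CommRingCat.of K)) := inferInstanceAs (Subsingleton (PrimeSpectrum K))
    have : Surjective ((Spec (CommRingCat.of K)).fromSpecResidueField (s z)) :=
      ⟨fun x => ⟨IsLocalRing.closedPoint _, Subsingleton.elim _ _⟩⟩
    have : IsReduced (Spec (CommRingCat.of K)) := inferInstance
    have : IsClosedImmersion ((Spec (CommRingCat.of K)).fromSpecResidueField (s z)) :=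
      IsClosedImmersion.of_isPreimmersion _ (isClosed_discrete _)
    exact isIso_of_isClosedImmersion_of_surjective _
  have : IsOpenImmersion (s.fiberι (s z)) := MorphismProperty.pullback_fst (P := @IsOpenImmersion) _ _ inferInstance
  exact (localDim_apply_eq (s.fiberι (s z)) (s.asFiber z)).symm.trans
    (congrArg (FlatMor.localDim ↥Z) (s.fiberι_asFiber z))

/-- The dimension of a fibre is at most `d` exactly when the relative dimension is so over the point. -/
theorem dim_fibre_le_iff {X Y : AlgSp.Space S} (f : X ⟶ Y) (hf : AlgSp.LocP @LocallyOfFiniteType f.hom)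
    (k : AlgSp.FieldPt Y.obj) (Xk : AlgSp.Sp S) (fst : Xk ⟶ X.obj) (snd : Xk ⟶ (AlgSp.yon S).obj k.pt)
    (h : IsPullback fst snd f.hom k.toHom) (d : WithBot ℕ∞) :
    AlgSp.dim Xk ≤ d ↔
      ∀ x, AlgSp.Points.map f.hom x = AlgSp.Points.mk k → AlgSp.HasAtMor (DimLe d) f.hom x := by
  let K : AlgSp.Space S := ⟨(AlgSp.yon S).obj k.pt, AlgSp.IsAlgSpace.yon_obj _⟩
  let F : AlgSp.Space S :=
    ⟨Xk, AlgSp.isAlgSpace_of_isPullback' Y.property X.property (AlgSp.IsAlgSpace.yon_obj _) h⟩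
  let p : F ⟶ K := ObjectProperty.homMk snd
  let q : F ⟶ X := ObjectProperty.homMk fst
  let g : K ⟶ Y := ObjectProperty.homMk k.toHom
  have key : ∀ x' : AlgSp.Points Xk,
      AlgSp.HasAtMor (DimLe d) snd x' ↔ AlgSp.HasAtMor (DimLe d) f.hom (AlgSp.Points.map fst x') :=
    hasAtMor_dimLe_baseChange f g q p h hf d
  have hid : AlgSp.RepWith @Etale (𝟙 ((AlgSp.yon S).obj k.pt)) := AlgSp.repWith_id _ _
  have chart : ∀ {W : Over S} (a : (AlgSp.yon S).obj W ⟶ Xk), AlgSp.RepWith @Etale a → ∀ w,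
      (AlgSp.HasAtMor (DimLe d) snd (AlgSp.Points.ofPt a w) ↔ FlatMor.localDim W.left w ≤ d) := by
    intro W a ha w
    obtain ⟨c, hc⟩ := (AlgSp.yon S).map_surjective (a ≫ snd)
    rw [show AlgSp.HasAtMor (DimLe d) snd (AlgSp.Points.ofPt a w) ↔ DimLe d W.left k.pt.left c.left w from
      hasAtMor_iff_chart (morEtaleInv_dimLe d) p ha hid (by rw [Category.comp_id, hc]; rfl) w]
    show FlatMor.fibreDimAt c.left w ≤ d ↔ _
    rw [fibreDimAt_field (K := k.K) c.left w]
  constructor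
  · intro hd x hx
    obtain ⟨x', rfl, -⟩ := AlgSpB.exists_of_isPullback h x
      (AlgSp.Points.ofScheme k.pt (IsLocalRing.closedPoint k.K))
      (by rw [hx, ← AlgSp.Points.ofPt_eq_map_ofScheme, AlgSp.Points.ofPt_toHom])
    rw [← key]
    obtain ⟨W, a, w, ha, rfl⟩ := exists_chart F x'
    rw [chart a ha w]
    refine le_trans ?_ hd
    refine le_iSup_of_le W (le_iSup_of_le a (le_iSup_of_le ha ?_))
    rw [Groth.Agent.S5792.result]
    exact le_iSup (fun z => FlatMor.localDim W.left z) w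
  · intro H
    refine iSup_le fun W => iSup_le fun a => iSup_le fun ha => ?_
    rw [Groth.Agent.S5792.result]
    refine iSup_le fun w => (chart a ha w).1 ((key _).2 (H _ ?_))
    rw [← AlgSp.Points.map_comp, h.w, AlgSp.Points.map_comp]
    obtain ⟨s, hs⟩ : ∃ s, AlgSp.Points.ofScheme k.pt s = AlgSp.Points.map snd (AlgSp.Points.ofPt a w) :=
      ⟨_, AlgSp.Points.ofScheme_toScheme k.pt _⟩
    rw [← hs, ← AlgSp.Points.ofPt_eq_map_ofScheme, AlgSp.Points.ofPt_toHom]

/-- The fibre is empty exactly when the point is outside the image. -/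
theorem dim_fibre_eq_bot_iff {X Y : AlgSp.Space S} (f : X ⟶ Y)
    (k : AlgSp.FieldPt Y.obj) (Xk : AlgSp.Sp S) (fst : Xk ⟶ X.obj) (snd : Xk ⟶ (AlgSp.yon S).obj k.pt)
    (h : IsPullback fst snd f.hom k.toHom) :
    AlgSp.dim Xk = ⊥ ↔ AlgSp.Points.mk k ∉ Set.range (AlgSp.Points.map f.hom) := by
  constructor
  · rintro hd ⟨x, hx⟩
    obtain ⟨x', -, -⟩ := AlgSpB.exists_of_isPullback h x
      (AlgSp.Points.ofScheme k.pt (IsLocalRing.closedPoint k.K))
      (by rw [hx, ← AlgSp.Points.ofPt_eq_map_ofScheme, AlgSp.Points.ofPt_toHom])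
    obtain ⟨W, a, w, ha, -⟩ := exists_chart
      (⟨Xk, AlgSp.isAlgSpace_of_isPullback' Y.property X.property (AlgSp.IsAlgSpace.yon_obj _) h⟩ : AlgSp.Space S) x'
    have h1 : topologicalKrullDim W.left ≤ ⊥ :=
      hd ▸ le_iSup_of_le W (le_iSup_of_le a (le_iSup_of_le ha le_rfl))
    have : IsEmpty (TopologicalSpace.IrreducibleCloseds W.left) := Order.krullDim_eq_bot_iff.1 (le_bot_iff.1 h1)
    exact IsEmpty.false (⟨closure {w}, isIrreducible_singleton.closure, isClosed_closure⟩ :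
      TopologicalSpace.IrreducibleCloseds W.left)
  · intro hno
    refine le_bot_iff.1 (iSup_le fun W => iSup_le fun a => iSup_le fun _ => ?_)
    have : IsEmpty W.left := ⟨fun w => hno ⟨AlgSp.Points.map fst (AlgSp.Points.ofPt a w), by
      rw [← AlgSp.Points.map_comp, h.w, AlgSp.Points.map_comp]
      obtain ⟨s, hs⟩ : ∃ s, AlgSp.Points.ofScheme k.pt s = AlgSp.Points.map snd (AlgSp.Points.ofPt a w) :=
        ⟨_, AlgSp.Points.ofScheme_toScheme k.pt _⟩
      rw [← hs, ← AlgSp.Points.ofPt_eq_map_ofScheme, AlgSp.Points.ofPt_toHom]⟩⟩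
    rw [Groth.Agent.S5792.result]
    exact iSup_le fun w => isEmptyElim w

end Groth.Agent.AlgSpEN

namespace Groth.Agent.AlgSpEN

open Groth.Agent Groth.Agent.AlgSpD

variable {S : Scheme.{u}}

theorem exists_lt_dim_of_lt {X Y : AlgSp.Space S} (f : X ⟶ Y) (hf : AlgSp.LocP @LocallyOfFiniteType f.hom)
    (k : AlgSp.FieldPt Y.obj) (Xk : AlgSp.Sp S) (fst : Xk ⟶ X.obj) (snd : Xk ⟶ (AlgSp.yon S).obj k.pt)
    (h : IsPullback fst snd f.hom k.toHom) (d : WithBot ℕ∞) :
    d < AlgSp.dim Xk ↔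
      ∃ x, AlgSp.Points.map f.hom x = AlgSp.Points.mk k ∧ ¬ AlgSp.HasAtMor (DimLe d) f.hom x := by
  rw [← not_le, dim_fibre_le_iff f hf k Xk fst snd h d]
  push Not
  rfl

/-- The set of points with fibre dimension more than `d` is the image of the locus. -/
theorem setOf_lt_dim_eq {X Y : AlgSp.Space S} (f : X ⟶ Y) (hf : AlgSp.LocP @LocallyOfFiniteType f.hom)
    (d : WithBot ℕ∞) :
    {y : AlgSp.Points Y.obj | ∀ (k : AlgSp.FieldPt Y.obj), AlgSp.Points.mk k = y →
      ∀ (Xk : AlgSp.Sp S) (fst : Xk ⟶ X.obj) (snd : Xk ⟶ (AlgSp.yon S).obj k.pt),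
        IsPullback fst snd f.hom k.toHom → d < AlgSp.dim Xk} =
      AlgSp.Points.map f.hom '' {x | AlgSp.HasAtMor (DimLe d) f.hom x}ᶜ := by
  refine Set.ext fun y => ⟨fun H => ?_, ?_⟩
  · obtain ⟨k, rfl⟩ := AlgSp.Points.mk_surjective y
    obtain ⟨x, hx, hd⟩ := (exists_lt_dim_of_lt f hf k _ _ _ (IsPullback.of_hasPullback _ _) d).1
      (H k rfl _ _ _ (IsPullback.of_hasPullback _ _))
    exact ⟨x, hd, hx⟩
  · rintro ⟨x, hd, rfl⟩ k hk Xk fst snd h
    exact (exists_lt_dim_of_lt f hf k Xk fst snd h d).2 ⟨x, hk.symm, hd⟩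

/-- The set of points with fibre dimension at most `d` is the complement of that image. -/
theorem setOf_dim_le_eq {X Y : AlgSp.Space S} (f : X ⟶ Y) (hf : AlgSp.LocP @LocallyOfFiniteType f.hom)
    (d : WithBot ℕ∞) :
    {y : AlgSp.Points Y.obj | ∀ (k : AlgSp.FieldPt Y.obj), AlgSp.Points.mk k = y →
      ∀ (Xk : AlgSp.Sp S) (fst : Xk ⟶ X.obj) (snd : Xk ⟶ (AlgSp.yon S).obj k.pt),
        IsPullback fst snd f.hom k.toHom → AlgSp.dim Xk ≤ d} =
      (AlgSp.Points.map f.hom '' {x | AlgSp.HasAtMor (DimLe d) f.hom x}ᶜ)ᶜ := by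
  refine Set.ext fun y => ⟨?_, fun H k hk Xk fst snd h => ?_⟩
  · rintro H ⟨x, hd, rfl⟩
    obtain ⟨k, hk⟩ := AlgSp.Points.mk_surjective (AlgSp.Points.map f.hom x)
    exact hd ((dim_fibre_le_iff f hf k _ _ _ (IsPullback.of_hasPullback _ _) d).1
      (H k hk _ _ _ (IsPullback.of_hasPullback _ _)) x hk.symm)
  · exact (dim_fibre_le_iff f hf k Xk fst snd h d).2 fun x hx =>
      by_contra fun hd => H ⟨x, hd, hx.trans hk⟩

theorem hasAtMor_mono {X Y : AlgSp.Space S} (f : X ⟶ Y) {d e : WithBot ℕ∞} (hde : d ≤ e)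
    {x : AlgSp.Points X.obj} (h : AlgSp.HasAtMor (DimLe d) f.hom x) : AlgSp.HasAtMor (DimLe e) f.hom x := by
  obtain ⟨U, V, a, b, g, u, ha, hb, w, hu, hd⟩ := h
  exact ⟨U, V, a, b, g, u, ha, hb, w, hu, hd.trans hde⟩

/-- Below any finite bound the relative dimension locus is open. -/
theorem isOpen_hasAtMor_dimLe {X Y : AlgSp.Space S} (f : X ⟶ Y) (hf : AlgSp.LocP @LocallyOfFiniteType f.hom)
    (n : ℕ) : IsOpen {x | AlgSp.HasAtMor (DimLe n) f.hom x} := by
  rw [isOpen_iff_forall_mem_open]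
  rintro x ⟨U, V, a, b, g, u, ha, hb, w, rfl, hu⟩
  have := hf a b g ha hb w
  refine ⟨AlgSp.Points.ofPt a '' {t | FlatMor.fibreDimAt g.left t ≤ n}, ?_,
    AlgSpB.isOpenMap_ofPt ha _ (Groth.Agent.S0402.result g.left n), u, hu, rfl⟩
  rintro _ ⟨t, ht, rfl⟩
  exact ⟨U, V, a, b, g, t, ha, hb, w, rfl, ht⟩

/-- Over an algebraic space the locus of positive fibre dimension has open image for flat morphisms. -/
theorem isOpen_image_not_dimLe {X Y : AlgSp.Space S} (f : X ⟶ Y)
    (hfl : AlgSp.LocP @Flat f.hom) (hfp : AlgSp.LocP @LocallyOfFinitePresentation f.hom) (d : WithBot ℕ∞) :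
    IsOpen (AlgSp.Points.map f.hom '' {x | AlgSp.HasAtMor (DimLe d) f.hom x}ᶜ) := by
  rw [isOpen_iff_forall_mem_open]
  rintro _ ⟨x, hx, rfl⟩
  obtain ⟨U₀, V₀, a₀, b₀, h₀, u₀, ha₀, hb₀, w₀, rfl⟩ := exists_diagram f x
  obtain ⟨V', hV', hvV, -⟩ := exists_isAffineOpen_mem_and_subset (x := h₀.left u₀) (U := ⊤) trivial
  obtain ⟨U', hU', huU, hU'V⟩ := exists_isAffineOpen_mem_and_subset (x := u₀) (U := h₀.left ⁻¹ᵁ V') hvV
  let U : Over S := Over.mk (U'.ι ≫ U₀.hom)
  let V : Over S := Over.mk (V'.ι ≫ V₀.hom)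
  let oU : U ⟶ U₀ := Over.homMk U'.ι rfl
  let oV : V ⟶ V₀ := Over.homMk V'.ι rfl
  let h : U ⟶ V := Over.homMk (h₀.left.resLE V' U' hU'V) (by
    change _ ≫ V'.ι ≫ V₀.hom = U'.ι ≫ U₀.hom
    rw [Scheme.Hom.resLE_comp_ι_assoc, Over.w h₀])
  have : Etale oU.left := inferInstanceAs (Etale U'.ι)
  have : Etale oV.left := inferInstanceAs (Etale V'.ι)
  have ha := AlgSpB.repWith_etale_map_comp oU ha₀
  have hb := AlgSpB.repWith_etale_map_comp oV hb₀
  have w : ((AlgSp.yon S).map oU ≫ a₀) ≫ f.hom = (AlgSp.yon S).map h ≫ (AlgSp.yon S).map oV ≫ b₀ := by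
    rw [Category.assoc, w₀, ← Functor.map_comp_assoc, ← Functor.map_comp_assoc]
    congr 2
    exact Over.OverMorphism.ext (Scheme.Hom.resLE_comp_ι _ _).symm
  have : Flat h.left := hfl _ _ h ha hb w
  have : LocallyOfFinitePresentation h.left := hfp _ _ h ha hb w
  have : IsAffine U.left := hU'
  have : IsAffine V.left := hV'
  have hh := fun t => hasAtMor_iff_chart (morEtaleInv_dimLe d) f ha hb w t
  have e : AlgSp.Points.ofPt ((AlgSp.yon S).map oU ≫ a₀) ⟨u₀, huU⟩ = AlgSp.Points.ofPt a₀ u₀ :=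
    AlgSpB.ofPt_map_comp oU a₀ _
  have hfib : ∀ (v : V.left) (z : h.left.fiber v), h.left (h.left.fiberι v z) = v := fun v z =>
    ((h.left.range_fiberι v).le (Set.mem_range_self z) :)
  have key : ∀ (v : V.left) (z : h.left.fiber v),
      FlatMor.fibreDimAt h.left (h.left.fiberι v z) = FlatMor.localDim (h.left.fiber v) z := by
    have gen : ∀ (t : U.left) (v : V.left) (z : h.left.fiber v), h.left t = v → h.left.fiberι v z = t →
        FlatMor.fibreDimAt h.left t = FlatMor.localDim (h.left.fiber v) z := by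
      rintro t v z rfl hz
      rw [show z = h.left.asFiber t from
        (h.left.fiberι _).isEmbedding.injective (hz.trans (h.left.fiberι_asFiber t).symm)]
      rfl
    exact fun v z => gen _ v z (hfib v z) rfl
  refine ⟨AlgSp.Points.ofPt ((AlgSp.yon S).map oV ≫ b₀) '' {v | d < topologicalKrullDim (h.left.fiber v)}, ?_,
    AlgSpB.isOpenMap_ofPt hb _ (Groth.Agent.S0404.result h.left d), h.left ⟨u₀, huU⟩, ?_, ?_⟩
  · rintro _ ⟨v, hv, rfl⟩
    rw [Set.mem_setOf_eq, Groth.Agent.S5792.result] at hv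
    obtain ⟨z, hz⟩ := lt_iSup_iff.1 hv
    rw [← key] at hz
    refine ⟨AlgSp.Points.ofPt ((AlgSp.yon S).map oU ≫ a₀) (h.left.fiberι v z), fun hd => hz.not_ge ((hh _).1 hd), ?_⟩
    rw [AlgSp.Points.map_ofPt, w, AlgSpB.ofPt_map_comp]
    congr 1
    exact hfib v z
  · show d < topologicalKrullDim _
    rw [Groth.Agent.S5792.result]
    refine lt_of_lt_of_le (not_le.1 fun hd => hx ?_) (le_iSup _ (h.left.asFiber ⟨u₀, huU⟩))
    rw [Set.mem_setOf_eq, ← e]
    exact (hh _).2 hd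
  · rw [← e, AlgSp.Points.map_ofPt, w]
    exact (AlgSpB.ofPt_map_comp h _ _).symm

end Groth.Agent.AlgSpEN

namespace Groth.Agent.AlgSpEN

open Groth.Agent Groth.Agent.AlgSpD

variable {S : Scheme.{u}}

/-- An affine scheme of finite type over a field has finite dimension. -/
theorem exists_krullDim_le {W : Scheme.{u}} [IsAffine W] {K : Type u} [Field K]
    (c : W ⟶ Spec (CommRingCat.of K)) [LocallyOfFiniteType c] :
    ∃ n : ℕ, topologicalKrullDim W ≤ n := by
  obtain ⟨φ, hφ⟩ := Spec.map_surjective (W.isoSpec.inv ≫ c)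
  have : φ.hom.FiniteType := (HasRingHomProperty.Spec_iff (P := @LocallyOfFiniteType)).1 (by rw [hφ]; infer_instance)
  algebraize [φ.hom]
  obtain ⟨n, g, hg⟩ := Algebra.FiniteType.iff_quotient_mvPolynomial''.1 ‹Algebra.FiniteType K Γ(W, ⊤)›
  refine ⟨n, ?_⟩
  rw [IsHomeomorph.topologicalKrullDim_eq _ W.isoSpec.hom.homeomorph.isHomeomorph]
  refine (PrimeSpectrum.topologicalKrullDim_eq_ringKrullDim Γ(W, ⊤)).trans_le
    ((ringKrullDim_le_of_surjective g.toRingHom hg).trans ?_)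
  rw [MvPolynomial.ringKrullDim_of_isNoetherianRing, ringKrullDim_eq_zero_of_field, zero_add]
  simp

/-- A surjective etale chart bounds the dimension. -/
theorem dim_le_of_atlas (F : AlgSp.Space S) {W : Over S} (a : (AlgSp.yon S).obj W ⟶ F.obj)
    (ha : AlgSp.RepWith @Etale a) (hs : AlgSp.RepWith @Surjective a) :
    AlgSp.dim F.obj ≤ topologicalKrullDim W.left := by
  refine iSup_le fun V => iSup_le fun b => iSup_le fun hb => ?_
  rw [Groth.Agent.S5792.result V.left, Groth.Agent.S5792.result W.left]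
  refine iSup_le fun v => ?_
  obtain ⟨w, hw⟩ := AlgSpB.surjective_ofPt hs (AlgSp.Points.ofPt b v)
  obtain ⟨R, p, q, r, -, hp, hq, hrp, hrq⟩ := exists_common_chart ha hb hw
  rw [← hrq, localDim_apply_eq q.left r, ← localDim_apply_eq p.left r, hrp]
  exact le_iSup (fun z => FlatMor.localDim W.left z) w

/-- Fibres of morphisms of finite type have finite dimension. -/
theorem exists_dim_fibre_le {X Y : AlgSp.Space S} (f : X ⟶ Y) (hf : AlgSp.LocP @LocallyOfFiniteType f.hom)
    (hqc : AlgSp.IsQuasiCompactMor f.hom)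
    (k : AlgSp.FieldPt Y.obj) (Xk : AlgSp.Sp S) (fst : Xk ⟶ X.obj) (snd : Xk ⟶ (AlgSp.yon S).obj k.pt)
    (h : IsPullback fst snd f.hom k.toHom) : ∃ n : ℕ, AlgSp.dim Xk ≤ (n : WithBot ℕ∞) := by
  let F : AlgSp.Space S :=
    ⟨Xk, AlgSp.isAlgSpace_of_isPullback' Y.property X.property (AlgSp.IsAlgSpace.yon_obj _) h⟩
  have : CompactSpace k.pt.left := inferInstanceAs (CompactSpace (PrimeSpectrum k.K))
  have hq : AlgSp.IsQuasiCompactSp F.obj :=
    hqc (AlgSp.IsAlgSpace.yon_obj _) (AlgSp.isQuasiCompactSp_yon k.pt) k.toHom fst snd h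
  obtain ⟨W, a, hW, ha, hs⟩ := exists_affine_atlas F hq
  obtain ⟨c, hc⟩ := (AlgSp.yon S).map_surjective (a ≫ snd)
  have : LocallyOfFiniteType (c.left : W.left ⟶ Spec (CommRingCat.of k.K)) :=
    (AlgSpCov.locP_baseChange AlgSpCov.etaleLocal_locallyOfFiniteType X.property Y.property h hf) a
      (𝟙 _) c ha (AlgSp.repWith_id _ _) (by rw [Category.comp_id]; exact hc.symm)
  obtain ⟨n, hn⟩ := exists_krullDim_le (c.left : W.left ⟶ Spec (CommRingCat.of k.K))
  exact ⟨n, (dim_le_of_atlas F a ha hs).trans hn⟩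

theorem lft_and_closed_of_proper {X Y : AlgSp.Space S} (f : X ⟶ Y) (hf : AlgSp.IsProperMor f.hom) :
    AlgSp.LocP @LocallyOfFiniteType f.hom ∧ AlgSp.IsClosedMor f.hom :=
  ⟨hf.2.1.1, hf.2.2 Y.property (𝟙 _) (𝟙 _) f.hom (IsPullback.of_horiz_isIso ⟨by simp⟩)⟩

theorem isOpen_setOf_dim_eq_bot {X Y : AlgSp.Space S} (f : X ⟶ Y) (hcl : AlgSp.IsClosedMor f.hom) :
    IsOpen {y : AlgSp.Points Y.obj | ∀ (k : AlgSp.FieldPt Y.obj), AlgSp.Points.mk k = y →
      ∀ (Xk : AlgSp.Sp S) (fst : Xk ⟶ X.obj) (snd : Xk ⟶ (AlgSp.yon S).obj k.pt),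
        IsPullback fst snd f.hom k.toHom → AlgSp.dim Xk = ⊥} := by
  convert (hcl Set.univ isClosed_univ).isOpen_compl using 1
  refine Set.ext fun y => ⟨?_, fun H k hk Xk fst snd h => ?_⟩
  · rintro H ⟨x, -, hx⟩
    obtain ⟨k, hk⟩ := AlgSp.Points.mk_surjective y
    exact (dim_fibre_eq_bot_iff f k _ _ _ (IsPullback.of_hasPullback _ _)).1
      (H k hk _ _ _ (IsPullback.of_hasPullback _ _)) ⟨x, hx.trans hk.symm⟩
  · rw [dim_fibre_eq_bot_iff f k Xk fst snd h]
    rintro ⟨x, hx⟩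
    exact H ⟨x, trivial, hx.trans hk⟩

/-- Upper semicontinuity of the fibre dimension for closed morphisms. -/
theorem isOpen_setOf_dim_lt {X Y : AlgSp.Space S} (f : X ⟶ Y) (hf : AlgSp.LocP @LocallyOfFiniteType f.hom)
    (hcl : AlgSp.IsClosedMor f.hom) (d : WithBot ℕ∞) :
    IsOpen {y : AlgSp.Points Y.obj | ∀ (k : AlgSp.FieldPt Y.obj), AlgSp.Points.mk k = y →
      ∀ (Xk : AlgSp.Sp S) (fst : Xk ⟶ X.obj) (snd : Xk ⟶ (AlgSp.yon S).obj k.pt),
        IsPullback fst snd f.hom k.toHom → AlgSp.dim Xk < d} := by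
  have hle : ∀ n : ℕ, IsOpen {y : AlgSp.Points Y.obj | ∀ (k : AlgSp.FieldPt Y.obj), AlgSp.Points.mk k = y →
      ∀ (Xk : AlgSp.Sp S) (fst : Xk ⟶ X.obj) (snd : Xk ⟶ (AlgSp.yon S).obj k.pt),
        IsPullback fst snd f.hom k.toHom → AlgSp.dim Xk ≤ (n : WithBot ℕ∞)} := fun n => by
    rw [setOf_dim_le_eq f hf]
    exact (hcl _ (isOpen_hasAtMor_dimLe f hf n).isClosed_compl).isOpen_compl
  induction d using WithBot.recBotCoe with
  | bot =>
    convert isOpen_empty using 1
    refine Set.eq_empty_iff_forall_notMem.2 fun y H => ?_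
    obtain ⟨k, hk⟩ := AlgSp.Points.mk_surjective y
    exact not_lt_bot (H k hk _ _ _ (IsPullback.of_hasPullback _ _))
  | coe d =>
    induction d using ENat.recTopCoe with
    | top =>
      rw [isOpen_iff_forall_mem_open]
      intro y H
      obtain ⟨k, hk⟩ := AlgSp.Points.mk_surjective y
      have h1 := H k hk _ _ _ (IsPullback.of_hasPullback f.hom k.toHom)
      obtain ⟨n, hn⟩ : ∃ n : ℕ, AlgSp.dim (pullback f.hom k.toHom) ≤ (n : WithBot ℕ∞) := by
        revert h1
        generalize AlgSp.dim (pullback f.hom k.toHom) = e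
        induction e using WithBot.recBotCoe with
        | bot => exact fun _ => ⟨0, bot_le⟩
        | coe e =>
          intro h1
          exact ⟨e.toNat, by exact_mod_cast (ENat.coe_toNat (WithBot.coe_lt_coe.1 h1).ne).ge⟩
      refine ⟨_, fun y' H' k' hk' Xk fst snd h => (H' k' hk' Xk fst snd h).trans_lt
        (by exact WithBot.coe_lt_coe.2 (ENat.coe_lt_top n)), hle n, fun k' hk' Xk fst snd h => ?_⟩
      refine (dim_fibre_le_iff f hf k' Xk fst snd h _).2 fun x hx => ?_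
      exact (dim_fibre_le_iff f hf k _ _ _ (IsPullback.of_hasPullback _ _) _).1 hn x (hx.trans (hk'.trans hk.symm))
    | coe n =>
      obtain _ | n := n
      · convert isOpen_setOf_dim_eq_bot f hcl using 1
        refine Set.ext fun y => forall₂_congr fun k _ => forall₄_congr fun Xk fst snd _ => ?_
        generalize AlgSp.dim Xk = e
        induction e using WithBot.recBotCoe with
        | bot => simp
        | coe e => simp
      · convert hle n using 1
        refine Set.ext fun y => forall₂_congr fun k _ => forall₄_congr fun Xk fst snd _ => ?_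
        generalize AlgSp.dim Xk = e
        induction e using WithBot.recBotCoe with
        | bot => simp
        | coe e =>
          have h1 : (((n + 1 : ℕ) : ℕ∞) : WithBot ℕ∞) = ((n : ℕ∞) + 1 : ℕ∞) := by push_cast; rfl
          rw [h1, WithBot.coe_lt_coe, ENat.lt_add_one_iff (ENat.coe_ne_top n),
            show ((n : WithBot ℕ∞)) = ((n : ℕ∞) : WithBot ℕ∞) from rfl, WithBot.coe_le_coe]

/-- The fibre dimension is locally constant for closed flat morphisms of finite presentation. -/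
theorem isOpen_setOf_dim_eq {X Y : AlgSp.Space S} (f : X ⟶ Y) (hf : AlgSp.LocP @LocallyOfFiniteType f.hom)
    (hcl : AlgSp.IsClosedMor f.hom) (hfl : AlgSp.LocP @Flat f.hom)
    (hfp : AlgSp.LocP @LocallyOfFinitePresentation f.hom) (hqc : AlgSp.IsQuasiCompactMor f.hom)
    (d : WithBot ℕ∞) :
    IsOpen {y : AlgSp.Points Y.obj | ∀ (k : AlgSp.FieldPt Y.obj), AlgSp.Points.mk k = y →
      ∀ (Xk : AlgSp.Sp S) (fst : Xk ⟶ X.obj) (snd : Xk ⟶ (AlgSp.yon S).obj k.pt),
        IsPullback fst snd f.hom k.toHom → AlgSp.dim Xk = d} := by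
  induction d using WithBot.recBotCoe with
  | bot => exact isOpen_setOf_dim_eq_bot f hcl
  | coe d =>
    induction d using ENat.recTopCoe with
    | top =>
      convert isOpen_empty using 1
      refine Set.eq_empty_iff_forall_notMem.2 fun y H => ?_
      obtain ⟨k, hk⟩ := AlgSp.Points.mk_surjective y
      obtain ⟨n, hn⟩ := exists_dim_fibre_le f hf hqc k _ _ _ (IsPullback.of_hasPullback f.hom k.toHom)
      rw [H k hk _ _ _ (IsPullback.of_hasPullback _ _)] at hn
      exact (WithBot.coe_lt_coe.2 (ENat.coe_lt_top n)).not_ge hn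
    | coe n =>
      have hlow : ∀ c : WithBot ℕ∞, IsOpen {y : AlgSp.Points Y.obj | ∀ (k : AlgSp.FieldPt Y.obj),
          AlgSp.Points.mk k = y → ∀ (Xk : AlgSp.Sp S) (fst : Xk ⟶ X.obj) (snd : Xk ⟶ (AlgSp.yon S).obj k.pt),
            IsPullback fst snd f.hom k.toHom → c < AlgSp.dim Xk} := fun c => by
        rw [setOf_lt_dim_eq f hf c]
        exact isOpen_image_not_dimLe f hfl hfp c
      obtain ⟨c, hc⟩ : ∃ c : WithBot ℕ∞, ∀ e : WithBot ℕ∞,
          e = ((n : ℕ∞) : WithBot ℕ∞) ↔ c < e ∧ e < (((n + 1 : ℕ) : ℕ∞) : WithBot ℕ∞) := by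
        obtain _ | m := n
        · refine ⟨⊥, fun e => ?_⟩
          induction e using WithBot.recBotCoe with
          | bot => simp
          | coe e => simp
        · refine ⟨((m : ℕ∞) : WithBot ℕ∞), fun e => ?_⟩
          induction e using WithBot.recBotCoe with
          | bot => exact iff_of_false WithBot.bot_ne_coe (fun h => not_lt_bot h.1)
          | coe e =>
            induction e using ENat.recTopCoe with
            | top =>
              exact iff_of_false (fun h => (ENat.coe_ne_top (m + 1)) (WithBot.coe_inj.1 h).symm)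
                fun h => not_top_lt (WithBot.coe_lt_coe.1 h.2)
            | coe e =>
              simp only [WithBot.coe_inj, WithBot.coe_lt_coe, Nat.cast_inj, Nat.cast_lt]
              omega
      convert (hlow c).inter (isOpen_setOf_dim_lt f hf hcl (((n + 1 : ℕ) : ℕ∞) : WithBot ℕ∞)) using 1
      refine Set.ext fun y => ⟨fun H => ⟨fun k hk Xk fst snd h => ((hc _).1 (H k hk Xk fst snd h)).1,
        fun k hk Xk fst snd h => ((hc _).1 (H k hk Xk fst snd h)).2⟩,
        fun H k hk Xk fst snd h => (hc _).2 ⟨H.1 k hk Xk fst snd h, H.2 k hk Xk fst snd h⟩⟩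

end Groth.Agent.AlgSpEN
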