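import Groth.Agent.AlgSpEN.Action
import Groth.Agent.AlgSp.GaloisData
import Groth.Agent.AlgSpB.LqfLocal
import Mathlib.FieldTheory.Normal.Closure
import Mathlib.RingTheory.FinitePresentation

/-!
# Field valued points of algebraic spaces lift to affine etale charts
-/

universe u

open CategoryTheory CategoryTheory.Limits AlgebraicGeometry

set_option backward.isDefEq.respectTransparency false
set_option backward.isDefEq.respectTransparency.types false
set_option autoImplicit false

namespace Groth.Agent.AlgSpEN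

open _root_.AlgSp
open Groth.Agent.AlgSpB Groth.Agent.AlgSpB.Art

variable {S : Scheme.{u}}

/-- A point with values in a field of an algebraic space factors through an affine scheme etale over it, without
extending the field; no separation condition on the space is needed. -/
theorem exists_affine_chart_field {F : Sp S} (hF : IsAlgSpace F) {k : Type u} [Field k]
    (σ : Spec (CommRingCat.of k) ⟶ S) (x : (yon S).obj (Over.mk σ) ⟶ F) :
    ∃ (Z : Over S) (p : (yon S).obj Z ⟶ F) (g : Over.mk σ ⟶ Z),
      IsAffine Z.left ∧ RepWith @Etale p ∧ (yon S).map g ≫ p = x := by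
  classical
  obtain ⟨U₀, a₀, ha₀, hs₀⟩ := hF.atlas
  -- an affine chart meeting the point
  obtain ⟨u₀, hu₀⟩ := surjective_ofPt hs₀ (Points.ofPt x (default : Spec (CommRingCat.of k)))
  obtain ⟨O, hO, huO, -⟩ := exists_isAffineOpen_mem_and_subset (x := u₀) (U := ⊤) trivial
  let U : Over S := Over.mk (O.ι ≫ U₀.hom)
  let j₀ : U ⟶ U₀ := Over.homMk O.ι rfl
  have : Etale j₀.left := inferInstanceAs (Etale O.ι)
  let p : (yon S).obj U ⟶ F := (yon S).map j₀ ≫ a₀
  have hp : RepWith @Etale p := repWith_etale_map_comp j₀ ha₀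
  have : IsAffine U.left := hO
  obtain ⟨P, f, j, sq⟩ := exists_pullback_yon hp.1 x
  have hje : Etale j.left := hp.2 _ _ _ sq
  obtain ⟨v, -, -⟩ := (ofPt_eq_ofPt_iff sq (⟨u₀, huO⟩ : O) (default : Spec (CommRingCat.of k))).1 (by
    rw [ofPt_map_comp]; exact hu₀)
  let K : Type u := P.left.residueField v
  let q : Spec (CommRingCat.of K) ⟶ P.left := P.left.fromSpecResidueField v
  have : Mono q := inferInstanceAs (Mono (P.left.fromSpecResidueField v))
  let i : CommRingCat.of k ⟶ CommRingCat.of K := Spec.preimage (q ≫ j.left)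
  let _ : Algebra k K := i.hom.toAlgebra
  have hi : Spec.map (CommRingCat.ofHom (algebraMap k K)) = q ≫ j.left := Spec.map_preimage _
  obtain ⟨hft, hfu⟩ := Groth.Agent.AlgSp.finite_separable_of_etale j.left v (Iso.refl _) i hi
  have : Algebra.FiniteType k K := hft
  have : Algebra.FormallyUnramified k K := hfu
  have : FiniteDimensional k K := finite_of_finite_type_of_isJacobsonRing k K
  have : Algebra.IsSeparable k K := Algebra.FormallyUnramified.isSeparable k K
  -- a finite Galois extension receiving all embeddings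
  let L : Type u := IntermediateField.normalClosure k K (AlgebraicClosure K)
  have : Algebra.IsSeparable k L := by
    rw [← le_separableClosure_iff]
    refine normalClosure_le_iff.2 fun e => ?_
    rw [le_separableClosure_iff]
    exact AlgEquiv.Algebra.isSeparable (AlgEquiv.ofInjectiveField e)
  have : IsGalois k L := ⟨⟩
  have : FiniteDimensional k L := inferInstance
  let I : Type u := K →ₐ[k] L
  have : Nonempty I := ⟨(IsScalarTower.toAlgHom k K (AlgebraicClosure K)).codRestrict
    (IntermediateField.normalClosure k K (AlgebraicClosure K)).toSubalgebra fun y =>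
      AlgHom.fieldRange_le_normalClosure (IsScalarTower.toAlgHom k K (AlgebraicClosure K)) ⟨y, rfl⟩⟩
  have : Finite I := inferInstance
  let A : Over S := Over.mk (Spec.map (CommRingCat.ofHom (algebraMap k L)) ≫ σ)
  let jL : A ⟶ Over.mk σ := Over.homMk (Spec.map (CommRingCat.ofHom (algebraMap k L))) rfl
  let xP : I → (A ⟶ P) := fun α => Over.homMk (Spec.map (CommRingCat.ofHom α.toRingHom) ≫ q) (by
    have hw : P.hom = j.left ≫ σ := (Over.w j).symm
    change (Spec.map _ ≫ q) ≫ P.hom = Spec.map _ ≫ σ
    rw [hw, Category.assoc, ← Category.assoc q, ← hi, ← Spec.map_comp_assoc, ← CommRingCat.ofHom_comp]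
    congr 3
    exact α.comp_algebraMap)
  have hxj : ∀ α, xP α ≫ j = jL := fun α => Over.OverMorphism.ext (by
    change (Spec.map _ ≫ q) ≫ j.left = Spec.map _
    rw [Category.assoc, ← hi, ← Spec.map_comp, ← CommRingCat.ofHom_comp]
    congr 2
    exact α.comp_algebraMap)
  let a : I → (A ⟶ U) := fun α => xP α ≫ f
  have ha' : ∀ α, (yon S).map (a α) ≫ p = (yon S).map jL ≫ x := fun α => by
    rw [← hxj α]
    simp only [a, Functor.map_comp, Category.assoc, sq.w]
  have hsub : Subsingleton A.left := inferInstanceAs (Subsingleton (PrimeSpectrum L))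
  have hne : Nonempty A.left := inferInstanceAs (Nonempty (PrimeSpectrum L))
  have hd : ∀ (T' : Over S) (κ : T' ⟶ A) (α β : I), Nonempty T'.left → α ≠ β → κ ≫ a α ≠ κ ≫ a β := by
    intro T' κ α β hT hαβ h
    obtain ⟨C, -, hC⟩ := exists_eqLocus hp (a α) (a β) ((ha' α).trans (ha' β).symm)
    obtain ⟨t⟩ := hT
    have h1 : ∀ z : A.left, (𝟙 A : A ⟶ A).left z ∈ C := fun z => by
      rw [Subsingleton.elim ((𝟙 A : A ⟶ A).left z) (κ.left t)]
      exact (hC T' κ).1 h t
    have h2 : a α = a β := by simpa using (hC A (𝟙 A)).2 h1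
    have h3 : xP α = xP β := (yon S).map_injective (sq.hom_ext
      (by rw [← Functor.map_comp, ← Functor.map_comp]; exact congrArg _ h2)
      (by rw [← Functor.map_comp, ← Functor.map_comp, hxj, hxj]))
    have h4 : Spec.map (CommRingCat.ofHom α.toRingHom) = Spec.map (CommRingCat.ofHom β.toRingHom) :=
      (cancel_mono q).1 (congrArg (fun m : A ⟶ P => m.left) h3)
    exact hαβ (AlgHom.coe_ringHom_injective (congrArg CommRingCat.Hom.hom (Spec.map_injective h4)))
  obtain ⟨M, m, μ, hm, hμ, hinv⟩ := exists_sym_chart hF hp I a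
    (fun α β => (ha' α).trans (ha' β).symm) hd
  -- Galois invariance
  let θ : (L ≃ₐ[k] L) → (A ⟶ A) := fun γ => Over.homMk (Spec.map (CommRingCat.ofHom γ.toRingEquiv.toRingHom)) (by
    change Spec.map _ ≫ Spec.map _ ≫ σ = Spec.map _ ≫ σ
    rw [← Spec.map_comp_assoc, ← CommRingCat.ofHom_comp]
    congr 3
    exact RingHom.ext γ.commutes)
  have hθ : ∀ γ : L ≃ₐ[k] L, θ γ ≫ μ = μ := fun γ => by
    let e : Equiv.Perm I :=
      ⟨fun α => γ.toAlgHom.comp α, fun α => γ.symm.toAlgHom.comp α,
        fun α => AlgHom.ext fun y => γ.symm_apply_apply (α y),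
        fun α => AlgHom.ext fun y => γ.apply_symm_apply (α y)⟩
    refine hinv (θ γ) e fun α => ?_
    simp only [a, ← Category.assoc]
    congr 1
    apply Over.OverMorphism.ext
    change Spec.map _ ≫ Spec.map _ ≫ q = Spec.map _ ≫ q
    rw [← Category.assoc, ← Spec.map_comp, ← CommRingCat.ofHom_comp]
    rfl
  obtain ⟨z₀⟩ := hne
  let y : M.left := μ.left z₀
  have hmd : μ.left (default : Spec (CommRingCat.of L)) = y :=
    congrArg (fun w => μ.left w) (Subsingleton.elim _ _)
  obtain ⟨b, hb⟩ := Groth.Agent.AlgSp.exists_fac_residueField μ.left y hmd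
  have hbγ : ∀ (γ : L ≃ₐ[k] L) (r : M.left.residueField y), γ (b r) = b r := by
    intro γ r
    have h1 : Spec.map (b ≫ CommRingCat.ofHom γ.toRingEquiv.toRingHom) = Spec.map b := by
      rw [← cancel_mono (M.left.fromSpecResidueField y), Spec.map_comp, Category.assoc, hb]
      exact congrArg (fun m : A ⟶ M => m.left) (hθ γ)
    exact congrArg (fun φ : M.left.residueField y ⟶ CommRingCat.of L => φ r) (Spec.map_injective h1)
  have hmem : ∀ r, ∃ c : k, algebraMap k L c = b r := fun r =>
    IntermediateField.mem_bot.1 ((IsGalois.mem_bot_iff_fixed _).2 fun γ => hbγ γ r)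
  choose b₀ hb₀ using hmem
  have hinj := (algebraMap k L).injective
  let b₁ : M.left.residueField y ⟶ CommRingCat.of k := CommRingCat.ofHom
    { toFun := b₀
      map_one' := hinj (by rw [hb₀, map_one, map_one])
      map_mul' := fun r s => hinj (by rw [hb₀, map_mul, map_mul, hb₀, hb₀])
      map_zero' := hinj (by rw [hb₀, map_zero, map_zero])
      map_add' := fun r s => hinj (by rw [hb₀, map_add, map_add, hb₀, hb₀]) }
  have hb₁ : b₁ ≫ CommRingCat.ofHom (algebraMap k L) = b := CommRingCat.hom_ext (RingHom.ext hb₀)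
  let g₁ : Spec (CommRingCat.of k) ⟶ M.left := Spec.map b₁ ≫ M.left.fromSpecResidueField y
  have hg₁ : Spec.map (CommRingCat.ofHom (algebraMap k L)) ≫ g₁ = μ.left := by
    rw [← hb, ← hb₁, Spec.map_comp, Category.assoc]
  have : Surjective (Spec.map (CommRingCat.ofHom (algebraMap k L))) := ⟨fun w => ⟨default, Subsingleton.elim _ _⟩⟩
  have : Flat (Spec.map (CommRingCat.ofHom (algebraMap k L))) := by
    rw [HasRingHomProperty.Spec_iff (P := @Flat)]
    exact RingHom.flat_algebraMap_iff.2 inferInstance
  have : LocallyOfFinitePresentation (Spec.map (CommRingCat.ofHom (algebraMap k L))) := by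
    rw [HasRingHomProperty.Spec_iff (P := @LocallyOfFinitePresentation)]
    exact RingHom.finitePresentation_algebraMap.2 (Algebra.FinitePresentation.of_finiteType.1 inferInstance)
  have : Epi (Spec.map (CommRingCat.ofHom (algebraMap k L))) := Flat.epi_of_flat_of_surjective _
  let g : Over.mk σ ⟶ M := Over.homMk g₁ (by
    change g₁ ≫ M.hom = σ
    rw [← cancel_epi (Spec.map (CommRingCat.ofHom (algebraMap k L))), reassoc_of% hg₁]
    exact Over.w μ)
  have hg : jL ≫ g = μ := Over.OverMorphism.ext hg₁
  have hgx : (yon S).map g ≫ m = x := by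
    have : Flat jL.left := ‹Flat (Spec.map (CommRingCat.ofHom (algebraMap k L)))›
    have : Surjective jL.left := ‹Surjective (Spec.map (CommRingCat.ofHom (algebraMap k L)))›
    have : LocallyOfFinitePresentation jL.left :=
      ‹LocallyOfFinitePresentation (Spec.map (CommRingCat.ofHom (algebraMap k L)))›
    have := epi_yon jL
    rw [← cancel_epi ((yon S).map jL), ← Category.assoc, ← Functor.map_comp, hg, hμ (Classical.arbitrary I), ha']
  -- an affine open around the point
  obtain ⟨O₁, hO₁, hyO, -⟩ := exists_isAffineOpen_mem_and_subset (x := y) (U := ⊤) trivial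
  let Z : Over S := Over.mk (O₁.ι ≫ M.hom)
  let ι : Z ⟶ M := Over.homMk O₁.ι rfl
  have : Etale ι.left := inferInstanceAs (Etale O₁.ι)
  obtain ⟨g', hg'⟩ := exists_lift_opens O₁ g fun w => by
    change (Spec.map b₁ ≫ M.left.fromSpecResidueField y) w ∈ O₁
    rw [Scheme.Hom.comp_apply, Scheme.fromSpecResidueField_apply]
    exact hyO
  exact ⟨Z, (yon S).map ι ≫ m, g', hO₁, repWith_etale_map_comp ι hm,
    by rw [← Category.assoc, ← Functor.map_comp, hg', hgx]⟩

end Groth.Agent.AlgSpEN
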