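import Groth.Agent.AlgSpD.RelDim
import Groth.Agent.AlgSpB.Open
import Groth.Agent.AlgSp.PointsMor
import Groth.Prelude.Def_AlgSpMor5
import Mathlib.AlgebraicGeometry.Morphisms.Flat

/-!
# Flatness on points of morphisms of algebraic spaces
-/

universe u

open CategoryTheory CategoryTheory.Limits AlgebraicGeometry

set_option backward.isDefEq.respectTransparency false
set_option backward.isDefEq.respectTransparency.types false
set_option autoImplicit false

namespace Groth.Agent.AlgSpEN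

open Groth.Agent

variable {S : Scheme.{u}}

/-- Flat means flat at every point. -/
theorem locP_flat_iff_forall {X Y : AlgSp.Sp S} (f : X ⟶ Y) :
    AlgSp.LocP @Flat f ↔ ∀ x, AlgSp.IsFlatAtMor f x := by
  constructor
  · intro hf x U V a b h u ha hb w _
    have : Flat h.left := hf a b h ha hb w
    exact Flat.stalkMap _ u
  · intro H U V a b h ha hb w
    exact (Flat.iff_flat_stalkMap _).2 fun u => H _ a b h u ha hb w rfl

/-- The image of the flat locus of a morphism locally of finite presentation is open. -/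
theorem isOpen_image_flatLocus {X Y : AlgSp.Space S} (f : X ⟶ Y)
    (hf : AlgSp.LocP @LocallyOfFinitePresentation f.hom)
    (ho : IsOpen {x | AlgSp.IsFlatAtMor f.hom x}) :
    IsOpen (AlgSp.Points.map f.hom '' {x | AlgSp.IsFlatAtMor f.hom x}) := by
  rw [isOpen_iff_forall_mem_open]
  rintro _ ⟨x, hx, rfl⟩
  obtain ⟨U, V, a, b, h, u, ha, hb, w, rfl⟩ := AlgSpD.exists_diagram f x
  have := hf a b h ha hb w
  let W : U.left.Opens := ⟨AlgSp.Points.ofPt a ⁻¹' {x | AlgSp.IsFlatAtMor f.hom x},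
    ho.preimage (AlgSp.Points.continuous_ofPt a)⟩
  have : Flat (W.ι ≫ h.left) := (Flat.iff_flat_stalkMap _).2 fun t => by
    rw [Scheme.Hom.stalkMap_comp]
    exact RingHom.Flat.comp (t.2 a b h _ ha hb w rfl) (Flat.stalkMap W.ι t)
  have key : ∀ t, AlgSp.Points.map f.hom (AlgSp.Points.ofPt a t) = AlgSp.Points.ofPt b (h.left t) := fun t => by
    rw [AlgSp.Points.map_ofPt, w, AlgSpB.ofPt_map_comp]
  refine ⟨AlgSp.Points.ofPt b '' Set.range (W.ι ≫ h.left), ?_,
    AlgSpB.isOpenMap_ofPt hb _ (W.ι ≫ h.left).isOpenMap.isOpen_range, h.left u, ⟨⟨u, hx⟩, rfl⟩, (key u).symm⟩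
  rintro _ ⟨_, ⟨t, rfl⟩, rfl⟩
  exact ⟨_, t.2, key _⟩

end Groth.Agent.AlgSpEN
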