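import Groth.Agent.AlgSpCov.Covers
import Groth.Agent.AlgSpCov.FlatLocus
import Groth.Agent.AlgSpCov.LocPBasic
import Groth.Agent.AlgSp.QCMor
import Groth.Agent.AlgSp.PointsMor
import Groth.Agent.AlgSpB.Open
import Groth.Agent.AlgSpB.Points
import Groth.Agent.AlgSpEN.StrataSq
import Groth.Agent.FlatOpen.CMAffine
import Groth.Prelude.Def_AlgSpMor5

/-!
# The fpqc covering attached to a formal glueing datum

For `f : Y ⟶ X` quasi-compact and flat along the preimage of a closed subspace `Z` of finite
presentation which it maps isomorphically onto `Z`, the complement of `Z` and the localisations of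
charts of `Y` along `Z` form an fpqc covering of `X` refining `{U ⟶ X, Y ⟶ X}`.
-/

set_option autoImplicit false
set_option backward.isDefEq.respectTransparency false
set_option backward.isDefEq.respectTransparency.types false

universe u

open CategoryTheory CategoryTheory.Limits AlgebraicGeometry Opposite Topology

namespace Groth.Agent.AlgSpEN

open _root_.AlgSp

/-- An algebra flat over the base at all primes over `I` gives, after localising at `1 + I B`, a flat
algebra whose spectrum contains all primes over `I`. -/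
theorem flat_localization_one_add {A B : Type u} [CommRing A] [CommRing B] [Algebra A B] (J : Ideal B)
    (hflat : ∀ P : PrimeSpectrum B, J ≤ P.asIdeal → Module.Flat A (Localization.AtPrime P.asIdeal)) :
    ∃ (M : Submonoid B), Module.Flat A (Localization M) ∧
      ∀ P : PrimeSpectrum B, J ≤ P.asIdeal → Disjoint (M : Set B) P.asIdeal := by
  let M : Submonoid B :=
    { carrier := {b | b - 1 ∈ J}
      one_mem' := by simp
      mul_mem' := fun {a b} ha hb => by
        have : a * b - 1 = a * (b - 1) + (a - 1) := by ring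
        simp only [Set.mem_setOf_eq] at *
        rw [this]
        exact J.add_mem (J.mul_mem_left a hb) ha }
  refine ⟨M, ?_, fun P hP => Set.disjoint_left.2 fun b hb hbP => P.2.ne_top ((Ideal.eq_top_iff_one _).2
    (by simpa using P.asIdeal.sub_mem hbP (hP hb)))⟩
  refine Module.flat_of_isLocalized_maximal (R := A) (Localization M) (Localization M)
    (fun Q => Localization.AtPrime Q) (fun Q => Algebra.linearMap (Localization M) (Localization.AtPrime Q))
    fun Q _ => ?_
  let P : Ideal B := Q.comap (algebraMap B (Localization M))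
  have hPd := (IsLocalization.isPrime_iff_isPrime_disjoint M (Localization M) Q).1 (Ideal.IsMaximal.isPrime ‹_›)
  have : P.IsPrime := hPd.1
  have hJP : J ≤ P := by
    intro b hb
    by_contra hbP
    have hbQ : algebraMap B (Localization M) b ∉ Q := hbP
    obtain ⟨r, hr⟩ := Ideal.IsMaximal.exists_inv inferInstance hbQ
    obtain ⟨i, hi, hsum⟩ := hr
    obtain ⟨c, m, rfl⟩ := IsLocalization.exists_mk'_eq M r
    have hmem : (m : B) - c * b ∈ P := by
      change algebraMap B (Localization M) ((m : B) - c * b) ∈ Q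
      have h2 := congrArg (fun z => z * algebraMap B (Localization M) (m : B)) hsum
      simp only [add_mul, one_mul, mul_right_comm _ (algebraMap B (Localization M) b),
        IsLocalization.mk'_spec, ← map_mul] at h2
      rw [map_sub, ← h2, add_sub_cancel_left]
      exact Q.mul_mem_right _ hi
    refine Set.disjoint_left.1 hPd.2 (show ((m : B) - c * b) - 1 ∈ J from ?_) hmem
    convert J.sub_mem (show (m : B) - 1 ∈ J from m.2) (J.mul_mem_left c hb) using 1
    ring
  let e := IsLocalization.localizationLocalizationAtPrimeIsoLocalization M Q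
  have := hflat ⟨P, ‹_›⟩ hJP
  exact Module.Flat.of_linearEquiv (e.symm.restrictScalars A).toLinearEquiv

open Groth.Agent.AlgSpCov (etaleLocal_flat etaleLocal_locallyOfFinitePresentation)

/-- A finite jointly surjective flat family of affine schemes is an fpqc covering. -/
theorem isFpqcCover_yon_family {S : Scheme.{u}} {T : Over S} {κ : Type u} [Finite κ] [IsAffine T.left]
    (W : κ → Over S) (w : ∀ k, W k ⟶ T) [∀ k, IsAffine (W k).left] (hw : ∀ k, Flat (w k).left)
    (hs : ∀ t : T.left, ∃ k, t ∈ Set.range (w k).left) :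
    IsFpqcCover (fun k => (yon S).obj (W k)) (fun k => (yon S).map (w k)) := by
  refine ⟨fun k => AlgSpCov.locP_of_repWith etaleLocal_flat ((repWith_yon_map_iff _ (w k)).2 (hw k)), fun Z hZ h => ?_⟩
  obtain ⟨h, rfl⟩ := (yon S).map_surjective h
  have hp := fun k => AlgSpCov.isPullback_over_left (IsPullback.of_hasPullback (w k) h)
  obtain ⟨n, ⟨e⟩⟩ := Finite.exists_equiv_fin κ
  refine ⟨n, fun r => pullback (w (e.symm r)) h, fun r => pullback.snd (w (e.symm r)) h,
    fun r => IsAffine.of_isIso (hp _).isoPullback.hom,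
    fun r => MorphismProperty.of_isPullback (P := @Flat) (hp _) (hw _),
    fun z => ?_, fun r => ⟨e.symm r, (yon S).map (pullback.fst _ _), by
      rw [← Functor.map_comp, ← Functor.map_comp, pullback.condition]⟩⟩
  obtain ⟨k, v, hv⟩ := hs (h.left z)
  obtain ⟨x, -, hx⟩ := Scheme.exists_preimage_of_isPullback (hp k) v z hv
  obtain ⟨r, rfl⟩ := e.symm.surjective k
  exact ⟨r, x, hx⟩

/-- Over an affine scheme mapping to `X`, a closed subspace of finite presentation is cut out by
finitely many functions. -/
theorem exists_ideal_of_closed {S : Scheme.{u}} {X Z : Space S} (i : Z ⟶ X)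
    (hi : RepWith @IsClosedImmersion i.hom) (hifp : LocP @LocallyOfFinitePresentation i.hom)
    {A : CommRingCat.{u}} (str : Spec A ⟶ S) (z : (yon S).obj (Over.mk str) ⟶ X.obj) :
    ∃ s : Finset A, (∀ t : (Over.mk str).left, Points.ofPt z t ∈ Set.range (Points.map i.hom) ↔
        (s : Set A) ⊆ PrimeSpectrum.asIdeal t) ∧
      ∀ {D : CommRingCat.{u}} (φ : A ⟶ D), (∀ g ∈ s, φ.hom g = 0) →
        ∃ l : (yon S).obj (Over.mk (Spec.map φ ≫ str)) ⟶ Z.obj,
          l ≫ i.hom = (yon S).map (Over.homMk (Spec.map φ) rfl : Over.mk (Spec.map φ ≫ str) ⟶ Over.mk str) ≫ z := by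
  obtain ⟨Z₀, c, π, hsq⟩ : ∃ (Z₀ : Over S) (c : Z₀ ⟶ Over.mk str) (π : (yon S).obj Z₀ ⟶ Z.obj),
      IsPullback π ((yon S).map c) i.hom z := ⟨_, _, _, hi.1.isPullback z⟩
  have hcl : IsClosedImmersion (c.left : Z₀.left ⟶ Spec A) := hi.2 _ _ _ hsq
  have hfp : LocallyOfFinitePresentation (c.left : Z₀.left ⟶ Spec A) :=
    (AlgSpCov.repWith_of_locP etaleLocal_locallyOfFinitePresentation Z.property X.property hi.1 hifp).2 _ _ _ hsq
  have : IsAffine (Over.mk str).left := inferInstanceAs (IsAffine (Spec A))
  obtain ⟨haff, -⟩ := IsClosedImmersion.isAffine_surjective_of_isAffine (c.left : Z₀.left ⟶ Spec A)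
  obtain ⟨ψ, hψ⟩ := Spec.map_surjective (Z₀.left.isoSpec.inv ≫ c.left)
  have hcl' : IsClosedImmersion (Spec.map ψ) := by rw [hψ]; infer_instance
  have hψs : Function.Surjective ψ.hom := by
    rw [← (show (Scheme.ΓSpecIso A).inv ≫ (Spec.map ψ).appTop ≫ (Scheme.ΓSpecIso _).hom = ψ from by
      rw [Scheme.ΓSpecIso_naturality, Iso.inv_hom_id_assoc]), CommRingCat.hom_comp, CommRingCat.hom_comp,
      RingHom.coe_comp, RingHom.coe_comp]
    exact ((ConcreteCategory.bijective_of_isIso (Scheme.ΓSpecIso _).hom).2.comp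
      (IsClosedImmersion.isAffine_surjective_of_isAffine (Spec.map ψ)).2).comp
      (ConcreteCategory.bijective_of_isIso (Scheme.ΓSpecIso A).inv).2
  have hψfp : ψ.hom.FinitePresentation := by
    rw [← HasRingHomProperty.Spec_iff (P := @LocallyOfFinitePresentation), hψ]
    infer_instance
  have hker : (RingHom.ker ψ.hom).FG := by
    algebraize [ψ.hom]
    exact Algebra.FinitePresentation.ker_fG_of_surjective (Algebra.ofId A _) hψs
  obtain ⟨s, hs⟩ := hker
  refine ⟨s, ?_, fun {D} φ hφ => ?_⟩
  swap
  · have hle : RingHom.ker ψ.hom ≤ RingHom.ker φ.hom := by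
      rw [← hs]
      exact Ideal.span_le.2 fun g hg => RingHom.mem_ker.2 (hφ g hg)
    let χ := CommRingCat.ofHom (RingHom.liftOfSurjective ψ.hom hψs ⟨φ.hom, hle⟩)
    have hχ : ψ ≫ χ = φ := CommRingCat.hom_ext (RingHom.liftOfRightInverse_comp ψ.hom (Function.surjInv hψs)
      (Function.rightInverse_surjInv hψs) ⟨φ.hom, hle⟩)
    refine ⟨(yon S).map (Over.homMk (Spec.map χ ≫ Z₀.left.isoSpec.inv) ?_) ≫ π, ?_⟩
    · rw [← Over.w c]
      change (Spec.map χ ≫ Z₀.left.isoSpec.inv) ≫ c.left ≫ str = Spec.map φ ≫ str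
      rw [← hχ, Spec.map_comp, hψ]
      simp only [Category.assoc]
    · rw [Category.assoc, hsq.w, ← Category.assoc, ← Functor.map_comp]
      congr 2
      ext1
      change (Spec.map χ ≫ Z₀.left.isoSpec.inv) ≫ c.left = Spec.map φ
      rw [← hχ, Spec.map_comp, hψ, Category.assoc]
  intro t
  have h1 : (Points.ofPt z t ∈ Set.range (Points.map i.hom)) ↔ t ∈ Set.range c.left := by
    rw [AlgSpB.range_snd_eq hsq]
    rfl
  rw [h1, ← Ideal.span_le, show Ideal.span (s : Set A) = RingHom.ker ψ.hom from hs]
  have h2 : Set.range c.left = Set.range (Spec.map ψ) := by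
    rw [hψ, Scheme.Hom.comp_base, TopCat.coe_comp, Set.range_comp,
      Set.range_eq_univ.2 Z₀.left.isoSpec.inv.surjective, Set.image_univ]
    rfl
  rw [h2]
  exact Set.ext_iff.1 (range_comap_of_surjective _ ψ.hom hψs) t

/-- A morphism of spaces, quasi-compact and flat along the preimage of a closed subspace of finite
presentation which is mapped isomorphically, gives with the complement an fpqc covering. -/
theorem exists_formalGlue_cover {S : Scheme.{u}} {X Y Z FZ U : Space S} (f : Y ⟶ X)
    (hqc : IsQuasiCompactMor f.hom) (i : Z ⟶ X)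
    (hi : RepWith @IsClosedImmersion i.hom) (hifp : LocP @LocallyOfFinitePresentation i.hom)
    (iY : FZ ⟶ Y) (fZ : FZ ⟶ Z) (hFZ : IsPullback iY.hom fZ.hom f.hom i.hom) [IsIso fZ]
    (hflat : ∀ y ∈ Set.range (Points.map iY.hom), IsFlatAtMor f.hom y) (j : U ⟶ X)
    (hj : RepWith @IsOpenImmersion j.hom)
    (hU : Set.range (Points.map j.hom) = (Set.range (Points.map i.hom))ᶜ) :
    ∃ (κ : Type u) (W : κ → Over S) (g : ∀ k, (yon S).obj (W k) ⟶ X.obj),
      IsFpqcCover (fun k => (yon S).obj (W k)) g ∧
      ∀ k, (∃ l, l ≫ j.hom = g k) ∨ (∃ l, l ≫ f.hom = g k ∧ LocP @Flat l) := by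
  obtain ⟨P, p, hp, hps⟩ := X.property.atlas
  let 𝒰 := P.left.affineOpenCover
  let T : 𝒰.I₀ → Over S := fun k => Over.mk (𝒰.f k ≫ P.hom)
  let e : ∀ k, T k ⟶ P := fun k => Over.homMk (𝒰.f k) rfl
  let z : ∀ k, (yon S).obj (T k) ⟶ X.obj := fun k => (yon S).map (e k) ≫ p
  have hz : ∀ k, RepWith @Etale (z k) := fun k => (RepWith @Etale).comp_mem _ _
    ((repWith_yon_map_iff _ (e k)).2 (inferInstanceAs (Etale (𝒰.f k)))) hp
  have hzc : IsFpqcCover (fun k => (yon S).obj (T k)) z := by
    refine AlgSpCov.isFpqcCover_of_isFppfCover X.property (fun _ => IsAlgSpace.yon_obj _) ⟨fun k => ?_, fun x => ?_⟩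
    · exact ⟨AlgSpCov.locP_of_repWith etaleLocal_flat
        (AlgSp.repWith_mono (Q := @Flat) (fun φ (hφ : Etale φ) => inferInstanceAs (Flat φ)) (hz k)),
        AlgSpCov.locP_of_repWith etaleLocal_locallyOfFinitePresentation
        (AlgSp.repWith_mono (Q := @LocallyOfFinitePresentation) (fun φ (hφ : Etale φ) => inferInstanceAs (LocallyOfFinitePresentation φ)) (hz k))⟩
    · obtain ⟨v, hv⟩ := AlgSpB.surjective_ofPt hps x
      obtain ⟨k, w, rfl⟩ := 𝒰.openCover.exists_eq v
      refine ⟨k, Points.ofScheme (T k) w, ?_⟩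
      rw [← hv, Points.ofPt_eq_map_ofScheme p, Points.map_comp]
      exact congrArg _ (Points.map_yon_map_apply (e k) w)
  have hpiece : ∀ k, ∃ (κ : Type u) (_ : Finite κ) (W : κ → Over S) (w : ∀ r, W r ⟶ T k),
      (∀ r, IsAffine (W r).left) ∧ (∀ r, Flat (w r).left) ∧
      (∀ t : (T k).left, ∃ r, t ∈ Set.range (w r).left) ∧
      ∀ r, (∃ l, l ≫ j.hom = (yon S).map (w r) ≫ z k) ∨
        (∃ l, l ≫ f.hom = (yon S).map (w r) ≫ z k ∧ LocP @Flat l) := by
    intro k
    have : IsAffine (T k).left := inferInstanceAs (IsAffine (Spec _))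
    let A : CommRingCat := 𝒰.X k
    obtain ⟨s, hmem, -⟩ := exists_ideal_of_closed i hi hifp (T k).hom (z k)
    -- charts of `Y` over `T k`
    let Q : Space S := ⟨pullback f.hom (z k), AlgSp.isAlgSpace_pullback X.property Y.property (IsAlgSpace.yon_obj _) _ _⟩
    have : CompactSpace (T k).left := inferInstanceAs (CompactSpace (Spec A))
    have hQqc : IsQuasiCompactSp Q.obj := hqc (IsAlgSpace.yon_obj (T k)) (AlgSp.isQuasiCompactSp_yon (T k)) (z k)
      _ _ (IsPullback.of_hasPullback f.hom (z k))
    obtain ⟨V, q, hV, hq, hqs⟩ := exists_affine_atlas Q hQqc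
    obtain ⟨v, hv⟩ := (yon S).map_surjective (q ≫ pullback.snd f.hom (z k))
    obtain ⟨φ, hφ⟩ := Spec.map_surjective (V.left.isoSpec.inv ≫ (v.left : V.left ⟶ Spec A))
    let B : CommRingCat := Γ(V.left, ⊤)
    letI : Algebra A B := φ.hom.toAlgebra
    let a : (yon S).obj V ⟶ Y.obj := q ≫ pullback.fst f.hom (z k)
    have ha : RepWith @Etale a := (RepWith @Etale).comp_mem _ _ hq
      (MorphismProperty.of_isPullback (IsPullback.of_hasPullback f.hom (z k)).flip (hz k))
    have haw : a ≫ f.hom = (yon S).map v ≫ z k := by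
      rw [hv, Category.assoc, Category.assoc, pullback.condition]
    let J : Ideal B := Ideal.map φ.hom (Ideal.span (s : Set A))
    have hJ : ∀ P' : PrimeSpectrum B, J ≤ P'.asIdeal ↔
        (s : Set A) ⊆ PrimeSpectrum.asIdeal (Spec.map φ P') := by
      intro P'
      rw [Ideal.map_le_iff_le_comap, Ideal.span_le]
      rfl
    have hflatB : ∀ P' : PrimeSpectrum B, J ≤ P'.asIdeal → Module.Flat A (Localization.AtPrime P'.asIdeal) := by
      intro P' hP'
      let t : V.left := V.left.isoSpec.inv P'
      have ht : v.left t = Spec.map φ P' := by rw [hφ]; rfl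
      have h1 : Points.ofPt (z k) (v.left t) ∈ Set.range (Points.map i.hom) :=
        (hmem _).2 (by rw [ht]; exact (hJ P').1 hP')
      have h2 : Points.map f.hom (Points.ofPt a t) = Points.ofPt (z k) (v.left t) := by
        rw [Points.map_ofPt, haw, Points.ofPt_eq_map_ofScheme, Points.ofPt_eq_map_ofScheme, Points.map_comp]
        exact congrArg _ (Points.map_yon_map_apply v t)
      obtain ⟨w, hw⟩ := h1
      obtain ⟨y, hy, -⟩ := AlgSpB.exists_of_isPullback hFZ (Points.ofPt a t) w (h2.trans hw.symm)
      have hfl := hflat (Points.ofPt a t) ⟨y, hy⟩ a (z k) v t ha (hz k) haw rfl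
      refine (FlatOpen.CMAffine.stalkMap_flat_iff_Spec φ P').1 ?_
      rw [hφ]
      exact (AlgSpCov.FlatLocus.flat_stalkMap_precomp V.left.isoSpec.inv _ P').2 hfl
    obtain ⟨M, hMflat, hMdisj⟩ := flat_localization_one_add (A := A) J hflatB
    let φ' : A ⟶ CommRingCat.of (Localization M) := φ ≫ CommRingCat.ofHom (algebraMap B (Localization M))
    have hφ'flat : φ'.hom.Flat := by
      change (algebraMap B (Localization M)).comp (algebraMap A B) |>.Flat
      rw [← IsScalarTower.algebraMap_eq, RingHom.flat_algebraMap_iff]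
      exact hMflat
    let D : s → Over S := fun r => Over.mk (Spec.map (CommRingCat.ofHom (algebraMap A (Localization.Away r.1))) ≫ (T k).hom)
    let W₀ : Over S := Over.mk (Spec.map φ' ≫ (T k).hom)
    refine ⟨Option s, inferInstance, fun r => r.elim W₀ D, fun r => match r with
      | none => Over.homMk (Spec.map φ') rfl
      | some r => Over.homMk (Spec.map (CommRingCat.ofHom (algebraMap A (Localization.Away r.1)))) rfl,
      fun r => ?_, fun r => ?_, fun t => ?_, fun r => ?_⟩
    · cases r
      · exact inferInstanceAs (IsAffine (Spec _))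
      · exact inferInstanceAs (IsAffine (Spec _))
    · cases r with
      | none => exact (HasRingHomProperty.Spec_iff (P := @Flat)).2 hφ'flat
      | some r =>
        exact (HasRingHomProperty.Spec_iff (P := @Flat)).2
          ((RingHom.flat_algebraMap_iff).2 (IsLocalization.flat _ (Submonoid.powers r.1)))
    · by_cases hin : (s : Set A) ⊆ PrimeSpectrum.asIdeal t
      · obtain ⟨w, hw⟩ := (hmem t).2 hin
        let y₀ : Points Y.obj := Points.map iY.hom (Points.map (inv fZ).hom w)
        have hfy : Points.map f.hom y₀ = Points.ofPt (z k) t := by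
          rw [← hw, ← Points.map_comp, hFZ.w, Points.map_comp]
          congr 1
          rw [← Points.map_comp, ← InducedCategory.comp_hom, IsIso.inv_hom_id]
          exact Points.map_id _
        obtain ⟨x, hx1, hx2⟩ := AlgSpB.exists_of_isPullback (IsPullback.of_hasPullback f.hom (z k)) y₀
          (Points.ofScheme (T k) t) (hfy.trans (Points.ofPt_eq_map_ofScheme _ _))
        obtain ⟨u, hu⟩ := AlgSpB.surjective_ofPt hqs x
        have hvu : v.left u = t := by
          refine (Points.schemeHomeo (T k)).injective ?_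
          change Points.ofScheme (T k) (v.left u) = Points.ofScheme (T k) t
          rw [← hx2, ← hu, Points.map_ofPt, ← hv, Points.ofPt_eq_map_ofScheme]
          exact (Points.map_yon_map_apply v u).symm
        let P' : PrimeSpectrum B := V.left.isoSpec.hom u
        have hP't : Spec.map φ P' = t := by
          rw [hφ, ← hvu]
          exact congrArg v.left (((Scheme.Hom.comp_apply _ _ u).symm).trans
            (congrArg (fun m : V.left ⟶ V.left => m u) V.left.isoSpec.hom_inv_id))
        have hd := hMdisj P' ((hJ P').2 (by rw [hP't]; exact hin))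
        obtain ⟨P'', hP''⟩ := ((PrimeSpectrum.localization_comap_range (Localization M) M).ge hd)
        refine ⟨none, P'', ?_⟩
        change Spec.map φ' P'' = t
        rw [← hP't, ← hP'', Spec.map_comp]
        rfl
      · obtain ⟨g₀, hg₀, hgt⟩ := Set.not_subset.1 hin
        obtain ⟨P'', hP''⟩ := (PrimeSpectrum.localization_away_comap_range (Localization.Away g₀) g₀).ge
          (show t ∈ PrimeSpectrum.basicOpen g₀ from hgt)
        exact ⟨some ⟨g₀, hg₀⟩, P'', hP''⟩
    · cases r with
      | none =>
        refine Or.inr ⟨(yon S).map (Over.homMk (Spec.map (CommRingCat.ofHom (algebraMap B (Localization M))) ≫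
          V.left.isoSpec.inv) ?_ : W₀ ⟶ V) ≫ a, ?_, ?_⟩
        · change (Spec.map _ ≫ V.left.isoSpec.inv) ≫ V.hom = Spec.map φ' ≫ (T k).hom
          rw [Spec.map_comp, hφ, Category.assoc, Category.assoc, Category.assoc, ← Over.w v]

        · rw [Category.assoc, haw, ← Category.assoc, ← Functor.map_comp]
          congr 2
          ext1
          change (Spec.map _ ≫ V.left.isoSpec.inv) ≫ v.left = Spec.map φ'
          rw [Spec.map_comp, hφ, Category.assoc]
        · refine AlgSpCov.locP_of_repWith etaleLocal_flat ((RepWith @Flat).comp_mem _ _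
            ((repWith_yon_map_iff _ _).2 ?_)
            (AlgSp.repWith_mono (Q := @Flat) (fun φ (hφ : Etale φ) => inferInstanceAs (Flat φ)) ha))
          have : Flat (Spec.map (CommRingCat.ofHom (algebraMap B (Localization M)))) :=
            (HasRingHomProperty.Spec_iff (P := @Flat)).2
              ((RingHom.flat_algebraMap_iff).2 (IsLocalization.flat _ M))
          exact inferInstanceAs (Flat (Spec.map (CommRingCat.ofHom (algebraMap B (Localization M))) ≫ V.left.isoSpec.inv))
      | some r =>
        refine Or.inl (AlgSpB.exists_lift_yon_of_isOpenImmersion hj _ ?_)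
        rintro _ ⟨w, rfl⟩
        rw [hU, Set.mem_compl_iff, Points.ofPt_eq_map_ofScheme, Points.map_comp]
        erw [Points.map_yon_map_apply, ← Points.ofPt_eq_map_ofScheme, hmem]
        intro hsub
        have hD := (PrimeSpectrum.localization_away_comap_range (Localization.Away r.1) r.1).le ⟨w, rfl⟩
        exact hD (hsub r.2)
  choose κ hκ W w hW hw hs hl using hpiece
  refine ⟨Σ k, κ k, fun r => W r.1 r.2, fun r => (yon S).map (w r.1 r.2) ≫ z r.1,
    AlgSpCov.isFpqcCover_comp (Xij := fun k r => (yon S).obj (W k r)) (gij := fun k r => (yon S).map (w k r))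
      X.property (fun _ => IsAlgSpace.yon_obj _) hzc fun k => ?_, fun r => hl r.1 r.2⟩
  have : IsAffine (T k).left := inferInstanceAs (IsAffine (Spec _))
  have := hW k
  have := hκ k
  exact isFpqcCover_yon_family (W k) (w k) (hw k) (hs k)

end Groth.Agent.AlgSpEN
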