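import Groth.Agent.AlgSpCov.Covers
import Groth.Agent.AlgSpCov.FpqcDiag
import Groth.Agent.AlgSp.AffineMor
import Groth.Agent.AlgSpB.Open
import Groth.Agent.AlgSp.InfGlue
import Groth.Agent.GrpdLib.IdealFamDescent
import Groth.Agent.AlgSpEN.FormalGlueCover

/-!
# Descent of morphisms of algebraic spaces along fpqc coverings

Morphisms into any algebraic space are determined on an fpqc covering, and morphisms over `X` into a
space separated over `X` descend.
-/

set_option autoImplicit false
set_option backward.isDefEq.respectTransparency false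
set_option backward.isDefEq.respectTransparency.types false

universe u

open CategoryTheory CategoryTheory.Limits AlgebraicGeometry Opposite Topology

namespace Groth.Agent.AlgSpEN

open _root_.AlgSp

variable {S : Scheme.{u}}

/-- Morphisms of algebraic spaces agreeing on an fpqc covering are equal. -/
theorem hom_ext_fpqc {ι : Type u} {T B : Sp S} (hT : IsAlgSpace T) (hB : IsAlgSpace B) {Ti : ι → Sp S}
    (hTi : ∀ i, IsAlgSpace (Ti i)) {g : ∀ i, Ti i ⟶ T} (hg : IsFpqcCover Ti g) {a b : T ⟶ B}
    (h : ∀ i, g i ≫ a = g i ≫ b) : a = b := by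
  have sqE := IsPullback.of_hasPullback (Limits.diag B) (prod.lift a b)
  have hr : Representable (pullback.snd (Limits.diag B) (prod.lift a b)) :=
    MorphismProperty.of_isPullback (P := Representable) sqE hB.diag
  have hE := AlgSpB.isAlgSpace_of_mono_representable hT (pullback.snd (Limits.diag B) (prod.lift a b)) hr
  have hEi : ∀ i, IsAlgSpace (pullback (pullback.snd (Limits.diag B) (prod.lift a b)) (g i)) := fun i =>
    AlgSp.isAlgSpace_pullback hT hE (hTi i) _ _
  have : IsIso (pullback.snd (Limits.diag B) (prod.lift a b)) := by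
    refine AlgSpCov.isIso_of_fpqc hT hTi hg hE hEi (fun i => IsPullback.of_hasPullback _ _) fun i => ?_
    have : IsSplitEpi (pullback.snd (pullback.snd (Limits.diag B) (prod.lift a b)) (g i)) :=
      IsSplitEpi.mk' ⟨pullback.lift (sqE.lift (g i ≫ a) (g i) (by
        ext
        · simp
        · simp [h i])) (𝟙 _) (by simp), pullback.lift_snd _ _ _⟩
    exact isIso_of_mono_of_isSplitEpi _
  have e := sqE.w
  rw [← cancel_epi (pullback.snd (Limits.diag B) (prod.lift a b))]
  have e₁ := congrArg (· ≫ prod.fst) e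
  have e₂ := congrArg (· ≫ prod.snd) e
  simp only [Category.assoc, prod.lift_fst, prod.lift_snd, Category.comp_id] at e₁ e₂
  exact e₁.symm.trans e₂

/-- A property of sections which is stable and local defines a subsheaf. -/
theorem exists_subsheaf_of_local (P : Sp S) (Q : ∀ (Z : Over S), ((yon S).obj Z ⟶ P) → Prop)
    (hmap : ∀ {Z Z' : Over S} (z : Z' ⟶ Z) (t : (yon S).obj Z ⟶ P), Q Z t → Q Z' ((yon S).map z ≫ t))
    (hloc : ∀ (Z : Over S) (t : (yon S).obj Z ⟶ P) (R : Sieve Z), R ∈ AlgSp.J S Z →
      (∀ ⦃Z' : Over S⦄ (z : Z' ⟶ Z), R z → Q Z' ((yon S).map z ≫ t)) → Q Z t) :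
    ∃ (F : Sp S) (j : F ⟶ P), Mono j ∧
      ∀ (Z : Over S) (t : (yon S).obj Z ⟶ P), (∃ y, y ≫ j = t) ↔ Q Z t := by
  let G : Subfunctor P.obj :=
    { obj := fun T => {s | Q T.unop (AlgSp.yEquiv.symm s)}
      map := fun {T T'} f s hs => by
        have e : (AlgSp.yEquiv.symm (P.obj.map f s) : (yon S).obj T'.unop ⟶ P) =
            (yon S).map f.unop ≫ AlgSp.yEquiv.symm s := by
          apply AlgSp.yEquiv.injective
          rw [AlgSp.yEquiv_map, Equiv.apply_symm_apply, Equiv.apply_symm_apply]
          rfl
        show Q T'.unop _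
        rw [e]
        exact hmap f.unop _ hs }
  have hG : Presheaf.IsSheaf (J S) G.toFunctor := by
    rw [isSheaf_iff_isSheaf_of_type, Subfunctor.isSheaf_iff _
      ((isSheaf_iff_isSheaf_of_type _ _).1 P.property)]
    intro T s hs
    refine hloc _ _ _ hs fun Z' z hz => ?_
    have e : (AlgSp.yEquiv.symm (P.obj.map z.op s) : (yon S).obj Z' ⟶ P) =
        (yon S).map z ≫ AlgSp.yEquiv.symm s := by
      apply AlgSp.yEquiv.injective
      rw [AlgSp.yEquiv_map, Equiv.apply_symm_apply, Equiv.apply_symm_apply]
    exact e ▸ (hz : Q Z' (AlgSp.yEquiv.symm (P.obj.map z.op s)))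
  let F : Sp S := ⟨G.toFunctor, hG⟩
  let j : F ⟶ P := ObjectProperty.homMk G.ι
  refine ⟨F, j, AlgSp.mono_of_yon _ fun T a b e => AlgSp.yEquiv.injective (Subtype.ext ?_), fun Z t => ⟨?_, fun h => ?_⟩⟩
  · have := congrArg AlgSp.yEquiv e
    rwa [AlgSp.yEquiv_comp, AlgSp.yEquiv_comp] at this
  · rintro ⟨y, rfl⟩
    have h := (AlgSp.yEquiv y).2
    have e : (AlgSp.yEquiv.symm (AlgSp.yEquiv y).1 : (yon S).obj Z ⟶ P) = y ≫ j :=
      AlgSp.yEquiv.injective (by rw [Equiv.apply_symm_apply, AlgSp.yEquiv_comp]; rfl)
    exact e ▸ (h : Q Z (AlgSp.yEquiv.symm (AlgSp.yEquiv y).1))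
  · refine ⟨AlgSp.yEquiv.symm ⟨AlgSp.yEquiv t, show Q Z (AlgSp.yEquiv.symm (AlgSp.yEquiv t)) by rwa [Equiv.symm_apply_apply]⟩, AlgSp.yEquiv.injective ?_⟩
    rw [AlgSp.yEquiv_comp, Equiv.apply_symm_apply]
    rfl

/-- A square with a monomorphism and a closed subscheme is cartesian if it has the lifting property. -/
theorem isPullback_of_yon_mono {F P : Sp S} {Z₀ Z : Over S} {j : F ⟶ P} {t : (yon S).obj Z ⟶ P} {ι₀ : Z₀ ⟶ Z}
    [Mono ι₀] {y₀ : (yon S).obj Z₀ ⟶ F} (hw : y₀ ≫ j = (yon S).map ι₀ ≫ t) [Mono j]
    (h : ∀ (Z' : Over S) (y : (yon S).obj Z' ⟶ F) (z : (yon S).obj Z' ⟶ (yon S).obj Z), y ≫ j = z ≫ t →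
      ∃ w, w ≫ (yon S).map ι₀ = z) : IsPullback y₀ ((yon S).map ι₀) j t := by
  have : IsIso (pullback.lift y₀ ((yon S).map ι₀) hw) := by
    refine AlgSpB.isIso_of_forall_yon _ fun T x => ?_
    obtain ⟨w, hw'⟩ := h T (x ≫ pullback.fst j t) (x ≫ pullback.snd j t) (by simp [pullback.condition])
    refine ⟨w, pullback.hom_ext ?_ (by simpa using hw'), fun w' hw'' => ?_⟩
    · rw [← cancel_mono j]
      simp [hw, reassoc_of% hw', pullback.condition]
    · obtain ⟨w₁, rfl⟩ := (yon S).map_surjective w
      obtain ⟨w₂, rfl⟩ := (yon S).map_surjective w'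
      have h2 := congrArg (· ≫ pullback.snd j t) hw''
      simp only [Category.assoc, pullback.lift_snd] at h2
      rw [← hw', ← Functor.map_comp, ← Functor.map_comp] at h2
      exact congrArg _ ((cancel_mono ι₀).1 ((yon S).map_injective h2))
  exact IsPullback.of_iso_pullback ⟨hw⟩ (asIso (pullback.lift y₀ ((yon S).map ι₀) hw))
    (pullback.lift_fst _ _ _) (pullback.lift_snd _ _ _)

/-- Morphisms over `X` into a space separated over `X` descend along fpqc coverings. -/
theorem exists_hom_of_fpqc {ι : Type u} {T B X : Sp S} (hT : IsAlgSpace T) (hB : IsAlgSpace B) (hX : IsAlgSpace X)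
    (pT : T ⟶ X) (pB : B ⟶ X) (hsep : RepWith @IsClosedImmersion (pullback.diagonal pB))
    {Ti : ι → Sp S} (hTi : ∀ i, IsAlgSpace (Ti i)) {g : ∀ i, Ti i ⟶ T} (hg : IsFpqcCover Ti g)
    (bi : ∀ i, Ti i ⟶ B) (hbi : ∀ i, bi i ≫ pB = g i ≫ pT)
    (hc : ∀ i j (Z : Over S) (x : (yon S).obj Z ⟶ Ti i) (y : (yon S).obj Z ⟶ Ti j),
      x ≫ g i = y ≫ g j → x ≫ bi i = y ≫ bi j) :
    ∃ b : T ⟶ B, b ≫ pB = pT ∧ ∀ i, g i ≫ b = bi i := by
  let P := pullback pT pB
  have hP : IsAlgSpace P := AlgSp.isAlgSpace_pullback hX hT hB pT pB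
  let Q : ∀ (Z : Over S), ((yon S).obj Z ⟶ P) → Prop := fun Z t => ∀ (i : ι) (Z' : Over S) (z : Z' ⟶ Z)
    (l : (yon S).obj Z' ⟶ Ti i), l ≫ g i = (yon S).map z ≫ t ≫ pullback.fst pT pB →
      (yon S).map z ≫ t ≫ pullback.snd pT pB = l ≫ bi i
  obtain ⟨F, j, hmono, hF⟩ := exists_subsheaf_of_local P Q
    (fun z t ht i Z' z' l hl => by
      have := ht i Z' (z' ≫ z) l (by simpa only [Functor.map_comp, Category.assoc] using hl)
      simpa only [Functor.map_comp, Category.assoc] using this)
    (fun Z t R hR h i Z' z l hl => by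
      refine (J S).uliftYonedaEquiv.injective
        ((((isSheaf_iff_isSheaf_of_type _ _).1 B.property).isSeparated _ ((J S).pullback_stable z hR)).ext ?_)
      intro Y f hf
      rw [(J S).uliftYonedaEquiv_naturality, (J S).uliftYonedaEquiv_naturality]
      congr 1
      have := h (f ≫ z) hf i Y (𝟙 Y) ((yon S).map f ≫ l) (by
        simp only [CategoryTheory.Functor.map_id, Category.id_comp, Category.assoc, Functor.map_comp, hl])
      simpa only [CategoryTheory.Functor.map_id, Category.id_comp, Category.assoc, Functor.map_comp] using this)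
  -- on an affine scheme the condition cuts out a closed subscheme
  have hrep : RepWith @IsClosedImmersion j := by
    refine AlgSp.repWith_of_affine_baseChange j fun Z hZ t Q' fst snd hQ' => ?_
    obtain ⟨m, W, c, hW, hc', hs, hl⟩ := hg.2 Z hZ (t ≫ pullback.fst pT pB)
    choose iv l hl using hl
    have hagree : ∀ k, ((yon S).map (c k) ≫ t ≫ pullback.snd pT pB) ≫ pB = (l k ≫ bi (iv k)) ≫ pB := fun k => by
      simp only [Category.assoc, ← pullback.condition, hbi, reassoc_of% (hl k)]
    choose E e eB hE using fun k => (⟨_, _, _, hsep.1.isPullback (pullback.lift _ _ (hagree k))⟩ :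
      ∃ (E : Over S) (e : E ⟶ W k) (eB : (yon S).obj E ⟶ B),
        IsPullback eB ((yon S).map e) (pullback.diagonal pB) (pullback.lift _ _ (hagree k)))
    have hcl : ∀ k, IsClosedImmersion (e k).left := fun k => hsep.2 _ _ _ (hE k)
    -- membership in `E k`
    have hEiff : ∀ k {Z' : Over S} (x : Z' ⟶ W k), (e k).left.ker.comap x.left = ⊥ ↔
        (yon S).map x ≫ (yon S).map (c k) ≫ t ≫ pullback.snd pT pB = (yon S).map x ≫ l k ≫ bi (iv k) := by
      intro k Z' x
      constructor
      · intro h
        have := hcl k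
        have hle : (e k).left.ker ≤ x.left.ker := by
          have h1 := Scheme.IdealSheafData.le_map_iff_comap_le.mpr h.le
          rwa [Scheme.IdealSheafData.map, Scheme.Hom.ker_comp_of_isIso] at h1
        let y : Z' ⟶ E k := Over.homMk (IsClosedImmersion.lift (e k).left x.left hle) (by
          rw [← Over.w (e k), IsClosedImmersion.lift_fac_assoc, Over.w x])
        have hy : y ≫ e k = x := Over.OverMorphism.ext (IsClosedImmersion.lift_fac _ _ hle)
        have h1 := congrArg (fun q => q ≫ pullback.fst pB pB) (hE k).w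
        have h2 := congrArg (fun q => q ≫ pullback.snd pB pB) (hE k).w
        simp only [Category.assoc, pullback.diagonal_fst, pullback.diagonal_snd, pullback.lift_fst,
          pullback.lift_snd, Category.comp_id] at h1 h2
        rw [← hy, Functor.map_comp]
        simp only [Category.assoc] at h1 h2 ⊢
        rw [← h1, ← h2]
      · intro h
        obtain ⟨y, -, hy⟩ := (hE k).exists_lift ((yon S).map x ≫ (yon S).map (c k) ≫ t ≫ pullback.snd pT pB)
          ((yon S).map x) (by
            ext1
            · simp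
            · simp [h])
        obtain ⟨y, rfl⟩ := (yon S).map_surjective y
        have hy' : y ≫ e k = x := (yon S).map_injective (by rw [Functor.map_comp]; exact hy)
        refine le_bot_iff.1 (Scheme.IdealSheafData.le_map_iff_comap_le.mp ?_)
        rw [Scheme.IdealSheafData.map, Scheme.Hom.ker_comp_of_isIso, ← hy']
        exact (Scheme.Hom.le_ker_comp y.left (e k).left)
    have hcompat : ∀ {T' : Scheme.{u}} (p q : Fin m) (x : T' ⟶ (W p).left) (y : T' ⟶ (W q).left),
        x ≫ (c p).left = y ≫ (c q).left → (e p).left.ker.comap x = (e q).left.ker.comap y := by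
      intro T' p q x y hxy
      have key : ∀ (p q : Fin m) (x : T' ⟶ (W p).left) (y : T' ⟶ (W q).left), x ≫ (c p).left = y ≫ (c q).left →
          (e q).left.ker.comap y ≤ (e p).left.ker.comap x := by
        intro p q x y hxy
        let J := (e p).left.ker.comap x
        let X' : Over S := Over.mk (J.subschemeι ≫ x ≫ (W p).hom)
        let x' : X' ⟶ W p := Over.homMk (J.subschemeι ≫ x) (by simp [X'])
        let y' : X' ⟶ W q := Over.homMk (J.subschemeι ≫ y) (by
          change (J.subschemeι ≫ y) ≫ (W q).hom = J.subschemeι ≫ x ≫ (W p).hom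
          rw [← Over.w (c q), ← Over.w (c p), Category.assoc, reassoc_of% hxy])
        have he : x' ≫ c p = y' ≫ c q := by
          ext1
          simp [x', y', hxy]
        have h0 : J.comap J.subschemeι = ⊥ := by
          refine le_bot_iff.mp (Scheme.IdealSheafData.le_map_iff_comap_le.mp ?_)
          rw [Scheme.IdealSheafData.map, Scheme.Hom.ker_comp_of_isIso, Scheme.IdealSheafData.ker_subschemeι]
        have hp' : (e p).left.ker.comap x'.left = ⊥ := by
          change (e p).left.ker.comap (J.subschemeι ≫ x) = ⊥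
          rw [Scheme.IdealSheafData.comap_comp]
          exact h0
        have hll : ((yon S).map x' ≫ l p) ≫ g (iv p) = ((yon S).map y' ≫ l q) ≫ g (iv q) := by
          rw [Category.assoc, Category.assoc, hl, hl, ← Functor.map_comp_assoc, ← Functor.map_comp_assoc, he]
        have hq' : (e q).left.ker.comap y'.left = ⊥ := by
          rw [hEiff] at hp' ⊢
          rw [← Functor.map_comp_assoc, ← he, Functor.map_comp_assoc, hp']
          simpa only [Category.assoc] using hc _ _ _ _ _ hll
        have h1 := Scheme.IdealSheafData.le_map_iff_comap_le.mpr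
          (show ((e q).left.ker.comap y).comap J.subschemeι ≤ ⊥ from by
            rw [← Scheme.IdealSheafData.comap_comp]; exact hq'.le)
        rwa [Scheme.IdealSheafData.map, Scheme.Hom.ker_comp_of_isIso, Scheme.IdealSheafData.ker_subschemeι] at h1
      exact le_antisymm (key q p y x hxy.symm) (key p q x y hxy)
    have : IsAffine Z.left := hZ
    have := hW
    obtain ⟨J, hJ⟩ := GrpdLib.IdealFamDescent.exists_comap_eq_of_finite (fun k => (c k).left) hc'
      (fun k => (e k).left.ker) hcompat
    -- the closed subscheme represents the subsheaf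
    let Z₀ : Over S := Over.mk (J.subschemeι ≫ Z.hom)
    let ι₀ : Z₀ ⟶ Z := Over.homMk J.subschemeι rfl
    have hQiff : ∀ {Z' : Over S} (z : Z' ⟶ Z), Q Z' ((yon S).map z ≫ t) ↔ J ≤ z.left.ker := by
      intro Z' z
      constructor
      · intro h
        have hfs : GrpdLib.IdealFamDescent.IsFlatJointlySurj (fun k => (c k).left) := ⟨hc', fun x => hs x⟩
        have hb : J.comap z.left = ⊥ := by
          refine GrpdLib.IdealFamDescent.eq_bot_of_comap_eq_bot (hfs.pullback z.left) _ fun k => ?_
          rw [← Scheme.IdealSheafData.comap_comp, pullback.condition, Scheme.IdealSheafData.comap_comp, hJ]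
          let P' : Over S := Over.mk (pullback.snd z.left (c k).left ≫ (W k).hom)
          let x : P' ⟶ W k := Over.homMk (pullback.snd z.left (c k).left) rfl
          let z' : P' ⟶ Z' := Over.homMk (pullback.fst z.left (c k).left) (by
            change pullback.fst z.left (c k).left ≫ Z'.hom = pullback.snd z.left (c k).left ≫ (W k).hom
            rw [← Over.w z, ← Over.w (c k), pullback.condition_assoc])
          have he : z' ≫ z = x ≫ c k := Over.OverMorphism.ext pullback.condition
          refine (hEiff k x).2 ?_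
          have := h (iv k) P' z' ((yon S).map x ≫ l k) (by
            rw [Category.assoc, hl, Category.assoc, ← Functor.map_comp_assoc, ← he, Functor.map_comp_assoc])
          simp only [Category.assoc, ← Functor.map_comp_assoc, he] at this ⊢
          exact this
        have h1 := Scheme.IdealSheafData.le_map_iff_comap_le.mpr hb.le
        rwa [Scheme.IdealSheafData.map, Scheme.Hom.ker_comp_of_isIso] at h1
      · intro h i Z'' z' l' hl'
        have : IsAlgSpace ((yon S).obj Z'') := IsAlgSpace.yon_obj _
        have hpc : IsFpqcCover (fun k : ULift.{u} (Fin m) => (yon S).obj (pullback (z' ≫ z) (c k.down)))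
            (fun k => (yon S).map (pullback.fst (z' ≫ z) (c k.down))) :=
          AlgSpCov.isFpqcCover_baseChange (IsAlgSpace.yon_obj Z) (fun _ => IsAlgSpace.yon_obj _)
            (fun k => (IsPullback.of_hasPullback (z' ≫ z) (c k.down)).map (yon S))
            (isFpqcCover_yon_family (fun k : ULift.{u} (Fin m) => W k.down) (fun k => c k.down) (fun k => hc' k.down)
              (fun x => by obtain ⟨k, hk⟩ := hs x; exact ⟨⟨k⟩, hk⟩))
        refine hom_ext_fpqc this hB (fun _ => IsAlgSpace.yon_obj _) hpc fun k => ?_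
        have he : pullback.fst (z' ≫ z) (c k.down) ≫ z' ≫ z = pullback.snd (z' ≫ z) (c k.down) ≫ c k.down :=
          pullback.condition
        have hb : (e k.down).left.ker.comap (pullback.snd (z' ≫ z) (c k.down)).left = ⊥ := by
          rw [← hJ, ← Scheme.IdealSheafData.comap_comp, ← Over.comp_left, ← he, Over.comp_left, Over.comp_left,
            Scheme.IdealSheafData.comap_comp, Scheme.IdealSheafData.comap_comp]
          have hzb : J.comap z.left = ⊥ := le_bot_iff.mp (Scheme.IdealSheafData.le_map_iff_comap_le.mp (by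
            rw [Scheme.IdealSheafData.map, Scheme.Hom.ker_comp_of_isIso]; exact h))
          rw [hzb, Scheme.IdealSheafData.comap_bot, Scheme.IdealSheafData.comap_bot]
        rw [hEiff] at hb
        simp only [Category.assoc] at hl' ⊢
        rw [← Functor.map_comp_assoc, ← Functor.map_comp_assoc, Category.assoc, he, Functor.map_comp_assoc, hb]
        have hll : ((yon S).map (pullback.snd (z' ≫ z) (c k.down)) ≫ l k.down) ≫ g (iv k.down) =
            ((yon S).map (pullback.fst (z' ≫ z) (c k.down)) ≫ l') ≫ g i := by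
          rw [Category.assoc, Category.assoc, hl, hl', ← Functor.map_comp_assoc, ← Functor.map_comp_assoc,
            ← Functor.map_comp_assoc, Category.assoc, he]
        simpa only [Category.assoc] using hc _ _ _ _ _ hll
    obtain ⟨y₀, hy₀⟩ := (hF Z₀ ((yon S).map ι₀ ≫ t)).2 ((hQiff ι₀).2 J.ker_subschemeι.ge)
    have sq : IsPullback y₀ ((yon S).map ι₀) j t := by
      have : Mono ι₀ := Functor.mono_of_mono_map (Over.forget S) (inferInstanceAs (Mono J.subschemeι))
      refine isPullback_of_yon_mono hy₀ fun Z' y z hz => ?_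
      obtain ⟨z, rfl⟩ := (yon S).map_surjective z
      have hle := (hQiff z).1 ((hF Z' _).1 ⟨y, hz⟩)
      let w : Z' ⟶ Z₀ := Over.homMk (IsClosedImmersion.lift J.subschemeι z.left (by rwa [J.ker_subschemeι])) (by
        change IsClosedImmersion.lift J.subschemeι z.left _ ≫ J.subschemeι ≫ Z.hom = _
        rw [IsClosedImmersion.lift_fac_assoc, Over.w z])
      exact ⟨(yon S).map w, by
        rw [← Functor.map_comp]
        exact congrArg _ (Over.OverMorphism.ext (IsClosedImmersion.lift_fac _ _ _))⟩
    rw [← hQ'.isoIsPullback_hom_snd _ _ sq]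
    exact (MorphismProperty.cancel_left_of_respectsIso _ _ _).2 ((repWith_yon_map_iff _ ι₀).2
      (inferInstanceAs (IsClosedImmersion J.subschemeι)))
  -- the subsheaf is the graph
  have hFs := AlgSpB.isAlgSpace_of_mono_representable hP j hrep.1
  have : IsIso (j ≫ pullback.fst pT pB) := by
    refine AlgSpCov.isIso_of_fpqc hT hTi hg hFs
      (fun i => AlgSp.isAlgSpace_pullback hT hFs (hTi i) _ _) (fun i => IsPullback.of_hasPullback _ _) fun i => ?_
    have hlift : ∀ (Z : Over S) (x : (yon S).obj Z ⟶ Ti i),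
        ∃ y, y ≫ j = x ≫ pullback.lift (g i) (bi i) (hbi i).symm := by
      intro Z x
      refine (hF Z _).2 fun i' Z' z l hl => ?_
      simp only [Category.assoc, pullback.lift_fst, pullback.lift_snd] at hl ⊢
      simpa only [Category.assoc] using (hc i' i Z' l ((yon S).map z ≫ x) (by simpa only [Category.assoc] using hl)).symm
    obtain ⟨sec, hsec⟩ := AlgSpB.exists_factor_of_forall_yon j (pullback.lift (g i) (bi i) (hbi i).symm) hlift
    have hright : pullback.lift sec (𝟙 _) (by rw [reassoc_of% hsec]; simp) ≫ pullback.snd (j ≫ pullback.fst pT pB) (g i) = 𝟙 _ :=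
      pullback.lift_snd _ _ _
    refine ⟨pullback.lift sec (𝟙 _) (by rw [reassoc_of% hsec]; simp), AlgSp.hom_ext_yon fun Z x => ?_, hright⟩
    rw [Category.comp_id]
    have hx : (x ≫ pullback.fst (j ≫ pullback.fst pT pB) (g i) ≫ j) ≫ pullback.fst pT pB =
        (x ≫ pullback.snd (j ≫ pullback.fst pT pB) (g i)) ≫ g i := by
      simp only [Category.assoc, pullback.condition]
    have hq := (hF Z (x ≫ pullback.fst (j ≫ pullback.fst pT pB) (g i) ≫ j)).1 ⟨x ≫ pullback.fst _ _, by simp⟩
      i Z (𝟙 Z) (x ≫ pullback.snd (j ≫ pullback.fst pT pB) (g i)) (by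
        rw [CategoryTheory.Functor.map_id, Category.id_comp, hx])
    rw [CategoryTheory.Functor.map_id, Category.id_comp] at hq
    refine pullback.hom_ext ?_ (by simp)
    rw [← cancel_mono j]
    simp only [Category.assoc, pullback.lift_fst, hsec]
    apply pullback.hom_ext
    · simp only [Category.assoc, pullback.lift_fst, pullback.condition]
    · simp only [Category.assoc, pullback.lift_snd] at hq ⊢
      exact hq.symm
  refine ⟨inv (j ≫ pullback.fst pT pB) ≫ j ≫ pullback.snd pT pB, ?_, fun i => ?_⟩
  · rw [Category.assoc, Category.assoc, ← pullback.condition, ← Category.assoc j, IsIso.inv_hom_id_assoc]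
  · have hlift : ∀ (Z : Over S) (x : (yon S).obj Z ⟶ Ti i),
        ∃ y, y ≫ j = x ≫ pullback.lift (g i) (bi i) (hbi i).symm := by
      intro Z x
      refine (hF Z _).2 fun i' Z' z l hl => ?_
      simp only [Category.assoc, pullback.lift_fst, pullback.lift_snd] at hl ⊢
      simpa only [Category.assoc] using (hc i' i Z' l ((yon S).map z ≫ x) (by simpa only [Category.assoc] using hl)).symm
    obtain ⟨sec, hsec⟩ := AlgSpB.exists_factor_of_forall_yon j (pullback.lift (g i) (bi i) (hbi i).symm) hlift
    have : sec = g i ≫ inv (j ≫ pullback.fst pT pB) := by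
      rw [IsIso.eq_comp_inv, reassoc_of% hsec, pullback.lift_fst]
    rw [← Category.assoc (g i), ← this, reassoc_of% hsec, pullback.lift_snd]

end Groth.Agent.AlgSpEN
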