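import Groth.Prelude.Def_Neron
import Groth.Agent.AlgSp.KerFlat
import Groth.Agent.FlatCx.Dedekind

/-!
# Schematic closures from the generic fibre over a Dedekind domain
-/

set_option autoImplicit false
set_option backward.isDefEq.respectTransparency false
set_option backward.isDefEq.respectTransparency.types false

universe u

open CategoryTheory CategoryTheory.Limits AlgebraicGeometry

namespace Groth.Agent.AlgSpEN.GenClosure

variable {R : Type u} [CommRing R] [IsDedekindDomain R]

instance mono_genPt : Mono (Neron.genPt R) := by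
  have : Epi (CommRingCat.ofHom (algebraMap R (FractionRing R))) :=
    ⟨fun {A} a b e => CommRingCat.hom_ext (IsLocalization.ringHom_ext (nonZeroDivisors R)
      (congrArg CommRingCat.Hom.hom e))⟩
  have : Mono (Scheme.Spec.map (CommRingCat.ofHom (algebraMap R (FractionRing R))).op) := inferInstance
  exact this

theorem flat_genPt : Flat (Neron.genPt R) := by
  refine (HasRingHomProperty.Spec_iff (P := @Flat)).2 ?_
  exact RingHom.flat_algebraMap_iff.2 (IsLocalization.flat _ (nonZeroDivisors R))

theorem ker_genPt : (Neron.genPt R).ker = ⊥ := by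
  have hinj : Function.Injective (Neron.genPt R).appTop.hom := by
    have e : (Neron.genPt R).appTop =
        (Scheme.ΓSpecIso _).hom ≫ CommRingCat.ofHom (algebraMap R (FractionRing R)) ≫ (Scheme.ΓSpecIso _).inv := by
      rw [← Scheme.ΓSpecIso_naturality_assoc, Iso.hom_inv_id, Category.comp_id]
    rw [e]
    exact ((Scheme.ΓSpecIso _).commRingCatIsoToRingEquiv.symm.injective.comp
      (IsFractionRing.injective R (FractionRing R))).comp
      (Scheme.ΓSpecIso _).commRingCatIsoToRingEquiv.injective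
  refine eq_bot_iff.2 ?_
  refine Scheme.IdealSheafData.le_of_isAffine ?_
  intro x hx
  rw [Scheme.Hom.ker_apply, RingHom.mem_ker] at hx
  have : x = 0 := hinj (hx.trans (map_zero _).symm)
  simp [this]

/-- The kernel of `f ≫ ι` is the ideal of the closed immersion if `f` has zero kernel. -/
theorem ker_comp_subschemeι {X V : Scheme.{u}} (J : V.IdealSheafData) (f : X ⟶ J.subscheme) [QuasiCompact f]
    (h : f.ker = ⊥) : (f ≫ J.subschemeι).ker = J := by
  refine le_antisymm ?_ (J.ker_subschemeι.ge.trans (Scheme.Hom.le_ker_comp _ _))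
  intro U x hx
  rw [Scheme.Hom.ker_apply, RingHom.mem_ker] at hx
  rw [← J.ker_subschemeι_app U, RingHom.mem_ker]
  have hU : IsAffineOpen (J.subschemeι ⁻¹ᵁ U.1) := U.2.preimage J.subschemeι
  have h1 : J.subschemeι.app U.1 x ∈ f.ker.ideal ⟨_, hU⟩ := by
    rw [Scheme.Hom.ker_apply, RingHom.mem_ker]
    exact hx
  rwa [h, Scheme.IdealSheafData.ideal_bot, Pi.bot_apply, Ideal.mem_bot] at h1

/-- The kernel of a composite only depends on the ideal of a closed immersion. -/
theorem ker_comp_eq_map {H W V : Scheme.{u}} (c : H ⟶ W) [IsClosedImmersion c] (p : W ⟶ V) :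
    (c ≫ p).ker = c.ker.map p := by
  rw [Scheme.IdealSheafData.map]
  conv_lhs => rw [← c.toImage_imageι, Category.assoc]
  exact Scheme.Hom.ker_comp_of_isIso _ _

/-- The scheme theoretic image of a morphism factoring through the generic point is flat. -/
theorem flat_imageι {V H : Scheme.{u}} (q : H ⟶ V) [QuasiCompact q]
    (g : V ⟶ Spec (CommRingCat.of R)) (s : H ⟶ Spec (CommRingCat.of (FractionRing R)))
    (hs : q ≫ g = s ≫ Neron.genPt R) : Flat (q.imageι ≫ g) := by
  refine HasRingHomProperty.of_iSup_eq_top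
    (fun U : V.affineOpens => (⟨q.imageι ⁻¹ᵁ U.1, U.2.preimage q.imageι⟩ : q.image.affineOpens)) ?_ fun U => ?_
  · change ⨆ U : V.affineOpens, q.imageι ⁻¹ᵁ U.1 = ⊤
    rw [← Scheme.Hom.preimage_iSup, iSup_affineOpens_eq_top, Scheme.Hom.preimage_top]
  let φ := (q.imageι ≫ g).appLE ⊤ (q.imageι ⁻¹ᵁ U.1) le_top
  let ψ : CommRingCat.of R ⟶ Γ(q.image, q.imageι ⁻¹ᵁ U.1) := (Scheme.ΓSpecIso (CommRingCat.of R)).inv ≫ φ
  suffices hψ : ψ.hom.Flat by
    have e : φ = (Scheme.ΓSpecIso (CommRingCat.of R)).hom ≫ ψ := by simp [ψ]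
    change φ.hom.Flat
    rw [e, CommRingCat.hom_comp]
    exact RingHom.Flat.comp (RingHom.Flat.of_bijective
      (Scheme.ΓSpecIso (CommRingCat.of R)).commRingCatIsoToRingEquiv.bijective) hψ
  letI := ψ.hom.toAlgebra
  change Module.Flat R Γ(q.image, q.imageι ⁻¹ᵁ U.1)
  rw [FlatCx.flat_iff_smul]
  intro a x ha hx
  rw [Algebra.smul_def] at hx
  change ψ.hom a * x = 0 at hx
  refine (q.toImage_app_injective U) ?_
  rw [map_zero]
  have hu : IsUnit (q.toImage.app (q.imageι ⁻¹ᵁ U.1) (ψ.hom a)) := by
    have e : ψ ≫ q.toImage.app (q.imageι ⁻¹ᵁ U.1) =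
        CommRingCat.ofHom (algebraMap R (FractionRing R)) ≫ (Scheme.ΓSpecIso _).inv ≫
          s.appLE ⊤ (q.toImage ⁻¹ᵁ (q.imageι ⁻¹ᵁ U.1)) le_top := by
      simp only [ψ, φ, Category.assoc, Scheme.Hom.app_eq_appLE, Scheme.Hom.appLE_comp_appLE]
      rw [Scheme.ΓSpecIso_inv_naturality_assoc]
      simp only [Scheme.Hom.app_eq_appLE, Scheme.Hom.appLE_comp_appLE, Category.assoc]
      congr 1
      have hh : q.toImage ≫ q.imageι ≫ g = s ≫ Neron.genPt R := by rw [Scheme.Hom.toImage_imageι_assoc, hs]
      simp only [hh]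
      exact (Scheme.Hom.appLE_comp_appLE s (Neron.genPt R) ⊤ ⊤ _ le_top le_top).symm
    have := congrArg (fun m => m.hom a) e
    simp only [CommRingCat.hom_comp, RingHom.comp_apply] at this
    change IsUnit ((q.toImage.app (q.imageι ⁻¹ᵁ U.1)).hom (ψ.hom a))
    rw [this]
    exact (((IsUnit.mk0 _ ((IsFractionRing.injective R (FractionRing R)).ne_iff' (map_zero _) |>.2 ha)).map _).map _)
  have := congrArg (q.toImage.app (q.imageι ⁻¹ᵁ U.1)).hom hx
  rw [map_mul, map_zero] at this
  exact (hu.mul_right_eq_zero).1 this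

variable {V W : Scheme.{u}} {g : V ⟶ Spec (CommRingCat.of R)} {pV : W ⟶ V}
  {qW : W ⟶ Spec (CommRingCat.of (FractionRing R))}

/-- The generic fibre of the closure is the given closed subscheme. -/
theorem ker_comp_comap (sqK : IsPullback pV qW g (Neron.genPt R)) {H : Scheme.{u}} (c : H ⟶ W)
    [IsClosedImmersion c] : (c ≫ pV).ker.comap pV = c.ker := by
  have : Flat pV := MorphismProperty.of_isPullback sqK.flip flat_genPt
  have : Mono pV := sqK.mono_fst_of_mono
  have : QuasiCompact pV := MorphismProperty.of_isPullback sqK.flip inferInstance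
  have sq : IsPullback (𝟙 H) c (c ≫ pV) pV :=
    ⟨⟨Category.id_comp _⟩, ⟨PullbackCone.IsLimit.mk _ (fun t => t.fst) (fun t => Category.comp_id _)
      (fun t => (cancel_mono pV).1 (by rw [Category.assoc]; exact t.condition))
      (fun t l h1 _ => (Category.comp_id l).symm.trans h1)⟩⟩
  exact (AlgSp.KerFlat.ker_of_isPullback sq).symm

/-- A flat closed subscheme is the closure of its generic fibre. -/
theorem eq_ker_of_flat (sqK : IsPullback pV qW g (Neron.genPt R)) {H : Scheme.{u}} (c : H ⟶ W)
    [IsClosedImmersion c] (J : V.IdealSheafData) [Flat (J.subschemeι ≫ g)] (h : J.comap pV = c.ker) :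
    J = (c ≫ pV).ker := by
  have : QuasiCompact pV := MorphismProperty.of_isPullback sqK.flip inferInstance
  have sqP := IsPullback.of_hasPullback J.subschemeι pV
  have hker : (pullback.fst J.subschemeι pV).ker = ⊥ := by
    have := AlgSp.KerFlat.ker_of_isPullback ((sqP.flip.paste_horiz sqK.flip).flip.flip)
    rw [ker_genPt, Scheme.IdealSheafData.comap_bot] at this
    exact this
  have : IsClosedImmersion (pullback.snd J.subschemeι pV) := MorphismProperty.of_isPullback sqP inferInstance
  have hsnd : (pullback.snd J.subschemeι pV).ker = c.ker := by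
    rw [← h, Scheme.IdealSheafData.comap, ← Scheme.Hom.ker_comp_of_isIso (pullbackSymmetry _ _).hom]
    simp
  calc J = (pullback.fst J.subschemeι pV ≫ J.subschemeι).ker := (ker_comp_subschemeι J _ hker).symm
    _ = (pullback.snd J.subschemeι pV ≫ pV).ker := by rw [pullback.condition]
    _ = (c ≫ pV).ker := by rw [ker_comp_eq_map, ker_comp_eq_map, hsnd]

end Groth.Agent.AlgSpEN.GenClosure
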