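import Groth.Agent.FBase.BC
import Groth.Agent.AlgSp.Space
import Groth.Agent.AlgSp.PointsMor
import Groth.Agent.AlgSpB.Points
import Groth.Prelude.Def_AlgSpDec

/-!
# Connected components of geometric fibres
-/

set_option autoImplicit false
set_option backward.isDefEq.respectTransparency false
set_option backward.isDefEq.respectTransparency.types false

universe u

open CategoryTheory CategoryTheory.Limits AlgebraicGeometry

namespace Groth.Agent.AlgSpEN.GeomConnComp

variable {S : Scheme.{u}}

/-- Extension of an algebraically closed base field gives a bijection on connected components. -/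
theorem card_eq_of_fieldExtension {K L : Type u} [Field K] [IsAlgClosed K] [Field L]
    {sK : Spec (CommRingCat.of K) ⟶ S} {sL : Spec (CommRingCat.of L) ⟶ S} (c : Over.mk sL ⟶ Over.mk sK)
    {F G : AlgSp.Sp S} (hF : AlgSp.IsAlgSpace F) (hG : AlgSp.IsAlgSpace G) {π : F ⟶ G} {bL : F ⟶ (AlgSp.yon S).obj (Over.mk sL)}
    {bK : G ⟶ (AlgSp.yon S).obj (Over.mk sK)} (sq : IsPullback π bL bK ((AlgSp.yon S).map c)) :
    ENat.card (_root_.ConnectedComponents (AlgSp.Points F)) = ENat.card (_root_.ConnectedComponents (AlgSp.Points G)) := by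
  have hopen : IsOpenMap (AlgSp.Points.map π) :=
    AlgSp.isUnivOpenMor_to_field (AlgSp.IsAlgSpace.yon_obj (Over.mk sL)) sK ((AlgSp.yon S).map c) hG bK bL π sq.flip
  have hcont : Continuous (AlgSp.Points.map π) := _root_.AlgSp.Points.continuous_map π
  have hfib : ∀ x : AlgSp.Points G, _root_.IsConnected (AlgSp.Points.map π ⁻¹' {x}) := by
    intro x
    obtain ⟨p, rfl⟩ := AlgSp.Points.mk_surjective x
    obtain ⟨v, hv⟩ := (AlgSp.yon S).map_surjective (p.toHom ≫ bK)
    have sqR := (IsPullback.of_hasPullback v c).map (AlgSp.yon S)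
    rw [hv] at sqR
    obtain ⟨m, hm₁, hm₂⟩ := sq.exists_lift ((AlgSp.yon S).map (pullback.fst v c) ≫ p.toHom)
      ((AlgSp.yon S).map (pullback.snd v c)) (by rw [Category.assoc]; exact sqR.w)
    have sqm : IsPullback ((AlgSp.yon S).map (pullback.fst v c)) m p.toHom π :=
      IsPullback.of_bot (by rw [hm₂]; exact sqR) hm₁.symm sq
    have key := AlgSp.preimage_image_map sqm Set.univ
    simp only [Set.preimage_univ, Set.image_univ] at key
    have hrange : Set.range (AlgSp.Points.map p.toHom) = {AlgSp.Points.mk p} := by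
      ext y
      constructor
      · rintro ⟨z, rfl⟩
        rw [Set.mem_singleton_iff, ← AlgSp.Points.ofScheme_toScheme p.pt z, ← AlgSp.Points.ofPt_eq_map_ofScheme]
        exact AlgSp.Points.ofPt_toHom p _
      · rintro rfl
        let s : p.pt.left := (⟨⊥, Ideal.isPrime_bot⟩ : PrimeSpectrum p.K)
        exact ⟨AlgSp.Points.ofScheme p.pt s, by rw [← AlgSp.Points.ofPt_eq_map_ofScheme]; exact AlgSp.Points.ofPt_toHom p s⟩
    rw [hrange] at key
    rw [key]
    obtain ⟨φ, hφ⟩ := Spec.map_surjective (c.left : Spec (CommRingCat.of L) ⟶ Spec (CommRingCat.of K))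
    letI := φ.hom.toAlgebra
    have hgc : GeometricallyConnected (c.left : Spec (CommRingCat.of L) ⟶ Spec (CommRingCat.of K)) := by
      rw [← hφ]
      exact FBase.BC.geometricallyConnected_specMap_of_isSepClosed (k := K) (K := L)
    have : ConnectedSpace (pullback v c).left := hgc.geometrically_connectedSpace (K := p.K) v.left _ _
      (((IsPullback.of_hasPullback v c).map (Over.forget S)).flip)
    have : ConnectedSpace (AlgSp.Points ((AlgSp.yon S).obj (pullback v c))) :=
      (AlgSp.Points.schemeHomeo (pullback v c)).surjective.connectedSpace (AlgSp.Points.schemeHomeo _).continuous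
    exact isConnected_range (_root_.AlgSp.Points.continuous_map m)
  have hsurj : Function.Surjective (AlgSp.Points.map π) := fun x => (hfib x).nonempty
  exact ENat.card_congr (Equiv.ofBijective _
    ((hopen.isQuotientMap hcont hsurj).isCoinducing.connectedComponentsMap_bijective hfib))

/-- Geometric fibres over the same point have the same number of connected components. -/
theorem card_eq_of_mk_eq {X Y : AlgSp.Space S} (f : X ⟶ Y) {p q : AlgSp.FieldPt Y.obj} (hp : p.IsGeometric)
    (hq : q.IsGeometric) (h : AlgSp.Points.mk p = AlgSp.Points.mk q)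
    {Xp : AlgSp.Sp S} {ap : Xp ⟶ X.obj} {bp : Xp ⟶ (AlgSp.yon S).obj p.pt} (sp : IsPullback ap bp f.hom p.toHom)
    {Xq : AlgSp.Sp S} {aq : Xq ⟶ X.obj} {bq : Xq ⟶ (AlgSp.yon S).obj q.pt} (sq : IsPullback aq bq f.hom q.toHom) :
    ENat.card (_root_.ConnectedComponents (AlgSp.Points Xp)) = ENat.card (_root_.ConnectedComponents (AlgSp.Points Xq)) := by
  obtain ⟨Ω, _, w, a, b, hab⟩ := AlgSp.Points.mk_eq_mk_iff.1 h
  have hhom : (AlgSp.yon S).map a ≫ p.toHom = (AlgSp.yon S).map b ≫ q.toHom := by
    apply (AlgSp.J S).uliftYonedaEquiv.injective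
    rw [← GrothendieckTopology.uliftYonedaEquiv_naturality, ← GrothendieckTopology.uliftYonedaEquiv_naturality,
      AlgSp.FieldPt.uliftYonedaEquiv_toHom, AlgSp.FieldPt.uliftYonedaEquiv_toHom]
    exact hab
  let z := (AlgSp.yon S).map a ≫ p.toHom
  have s0 := IsPullback.of_hasPullback f.hom z
  have hXo := AlgSp.isAlgSpace_pullback Y.property X.property (AlgSp.IsAlgSpace.yon_obj (Over.mk w)) f.hom z
  have key : ∀ (r : AlgSp.FieldPt Y.obj) (_ : r.IsGeometric) (c : Over.mk w ⟶ r.pt) (_ : (AlgSp.yon S).map c ≫ r.toHom = z)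
      (Xr : AlgSp.Sp S) (ar : Xr ⟶ X.obj) (br : Xr ⟶ (AlgSp.yon S).obj r.pt) (_ : IsPullback ar br f.hom r.toHom),
      ENat.card (_root_.ConnectedComponents (AlgSp.Points (pullback f.hom z))) =
        ENat.card (_root_.ConnectedComponents (AlgSp.Points Xr)) := by
    intro r hr c hc Xr ar br sr
    have : IsAlgClosed r.K := hr
    obtain ⟨π, hπ₁, hπ₂⟩ := sr.exists_lift (pullback.fst f.hom z) (pullback.snd f.hom z ≫ (AlgSp.yon S).map c) (by
      rw [Category.assoc, hc, s0.w])
    have hXr : AlgSp.IsAlgSpace Xr :=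
      (AlgSp.isAlgSpace_pullback Y.property X.property (AlgSp.IsAlgSpace.yon_obj r.pt) f.hom r.toHom).of_iso
        ((IsPullback.of_hasPullback f.hom r.toHom).isoIsPullback _ _ sr)
    exact card_eq_of_fieldExtension c hXo hXr
      (IsPullback.of_right (by rw [hπ₁, hc]; exact s0) hπ₂ sr)
  exact (key p hp a rfl _ _ _ sp).symm.trans (key q hq b hhom.symm _ _ _ sq)

end Groth.Agent.AlgSpEN.GeomConnComp
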