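import Groth.Agent.AlgSp.JshriekEquiv
import Groth.Agent.AlgSpB.FieldPoints
import Groth.Agent.AlgSpCov.GeomConn.Field
import Groth.Agent.FlatMor.FiniteEtaleSpread
import Groth.Agent.AlgSp.GaloisData
import Mathlib.RingTheory.Etale.StandardEtale

/-!
# Connectedness of fibres read over an auxiliary field base; etale neighbourhoods with prescribed residue field
-/

set_option autoImplicit false
set_option backward.isDefEq.respectTransparency false
set_option backward.isDefEq.respectTransparency.types false

universe u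

open CategoryTheory CategoryTheory.Limits AlgebraicGeometry Polynomial

namespace Groth.Agent.AlgSpEN.GeomConnEtale

open _root_.AlgSp
open Groth.Agent.AlgSp.Jshriek
open Groth.Agent.AlgSpCov.GeomConn (connectedSpace_of_surjective KT)

/-- Transfer of connectedness between two quotients of one space. -/
theorem connectedSpace_of_quot {ι α β : Type*} [TopologicalSpace ι] [TopologicalSpace α] [TopologicalSpace β]
    {q₁ : ι → α} {q₂ : ι → β} (h₁ : IsOpenQuotientMap q₁) (h₂ : IsOpenQuotientMap q₂)
    (hk : ∀ x y, q₁ x = q₁ y → q₂ x = q₂ y) [ConnectedSpace α] : ConnectedSpace β := by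
  let φ : α → β := fun a => q₂ (Function.surjInv h₁.surjective a)
  have hφ : φ ∘ q₁ = q₂ := funext fun x => hk _ _ (Function.surjInv_eq h₁.surjective _)
  refine connectedSpace_of_surjective (f := φ) ?_ fun b => ?_
  · rw [h₁.isQuotientMap.continuous_iff, hφ]
    exact h₂.continuous
  · obtain ⟨x, rfl⟩ := h₂.surjective b
    exact ⟨q₁ x, congrFun hφ x⟩

variable {S₀ S : Scheme.{u}} (g : S₀ ⟶ S)

/-- `j_!` does not change connectedness of the space of points. -/
theorem connectedSpace_jlow_iff {P : Sp S₀} (hP : IsAlgSpace P) :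
    ConnectedSpace (Points ((jlow g).obj P)) ↔ ConnectedSpace (Points P) := by
  obtain ⟨U, R, p, t, s, hls, hE, sq, hpe, hps⟩ := exists_presentation hP
  obtain ⟨hsq, -⟩ := isPullback_tilde g p hE sq
  have : IsIso (tilde g (𝟙 ((yon S₀).obj U))) := isIso_tilde_id g U
  have hpe' : RepWith (S := S) @Etale (tilde g p) := by
    rw [tilde_eq]
    exact (MorphismProperty.cancel_left_of_respectsIso (RepWith (S := S) @Etale) _ _).2
      ((repWith_jlow_map_iff g hP p @Etale).2 hpe)
  have hps' : RepWith (S := S) @Surjective (tilde g p) := by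
    rw [tilde_eq]
    exact (MorphismProperty.cancel_left_of_respectsIso (RepWith (S := S) @Surjective) _ _).2
      ((repWith_jlow_map_iff g hP p @Surjective).2 hps)
  have h₁ := AlgSpB.isOpenQuotientMap_ofPt hpe hps
  have h₂ := AlgSpB.isOpenQuotientMap_ofPt hpe' hps'
  have hk : ∀ x y : ↥U.left, Points.ofPt p x = Points.ofPt p y ↔
      Points.ofPt (tilde g p) x = Points.ofPt (tilde g p) y := by
    intro x y
    rw [AlgSpB.ofPt_eq_ofPt_iff sq x y,
      AlgSpB.ofPt_eq_ofPt_iff (U := (Over.map g).obj U) (V := (Over.map g).obj U) hsq x y]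
    exact Iff.rfl
  exact ⟨fun h => connectedSpace_of_quot h₂ h₁ fun x y => (hk x y).2,
    fun h => connectedSpace_of_quot h₁ h₂ fun x y => (hk x y).1⟩

/-- `j_!` takes products to fibre products over `h_{S₀}`. -/
theorem isPullback_jlow_prod {F : Sp S₀} (hF : IsAlgSpace F) (T : Over S₀) :
    ∃ q : (jlow g).obj (F ⨯ (yon S₀).obj T) ⟶ (yon S).obj ((Over.map g).obj T),
      IsPullback ((jlow g).map Limits.prod.fst) q (aF g F) ((yon S).map (str g T)) := by
  obtain ⟨β, hβ, hβ'⟩ := exists_comp_tilde_id g T
  refine ⟨(jlow g).map Limits.prod.snd ≫ β, ?_⟩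
  have hβa : β ≫ (yon S).map (str g T) = aF g _ := by
    rw [← tilde_aF g (𝟙 ((yon S₀).obj T)), ← Category.assoc, hβ', Category.id_comp]
  have hw : (jlow g).map (Limits.prod.fst : F ⨯ (yon S₀).obj T ⟶ F) ≫ aF g F =
      ((jlow g).map Limits.prod.snd ≫ β) ≫ (yon S).map (str g T) := by
    rw [Category.assoc, hβa, map_aF, map_aF]
  let θ := pullback.lift (f := aF g F) (g := (yon S).map (str g T)) _ _ hw
  have hP : IsAlgSpace (F ⨯ (yon S₀).obj T) :=
    Groth.Agent.AlgSp.isAlgSpace_of_isPullback' (IsAlgSpace.yon_obj (Over.mk (𝟙 S₀))) hF (IsAlgSpace.yon_obj T)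
      (AlgSpCov.GeomConn.prod_isPullback F ((yon S₀).obj T))
  have : IsIso θ := by
    refine isIso_of_points θ fun Z z => ?_
    obtain ⟨x, hx⟩ : ∃ x, x = z ≫ pullback.fst (aF g F) ((yon S).map (str g T)) := ⟨_, rfl⟩
    obtain ⟨y, hy⟩ := (yon S).map_surjective (z ≫ pullback.snd (aF g F) ((yon S).map (str g T)))
    have hxy : x ≫ aF g F = (yon S).map y ≫ (yon S).map (str g T) := by
      rw [hx, hy, Category.assoc, Category.assoc, pullback.condition]
    let W : Over S₀ := Over.mk (y.left ≫ T.hom)
    let c : (Over.map g).obj W ≅ Z := Over.isoMk (Iso.refl _) (by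
      change 𝟙 _ ≫ Z.hom = (y.left ≫ T.hom) ≫ g
      rw [Category.id_comp, Category.assoc]; exact (Over.w y).symm)
    let y₀ : W ⟶ T := Over.homMk y.left rfl
    have hcy : c.hom ≫ y = (Over.map g).map y₀ := Over.OverMorphism.ext (Category.id_comp _)
    obtain ⟨x₀, hx₀, hx₀u⟩ := existsUnique_tilde g hF (W := W) ((yon S).map c.hom ≫ x) (by
      rw [Category.assoc, hxy, ← Functor.map_comp, ← Functor.map_comp, ← Category.assoc, hcy, map_str])
    let q₀ : (yon S₀).obj W ⟶ F ⨯ (yon S₀).obj T := prod.lift x₀ ((yon S₀).map y₀)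
    have hq₁ : tilde g q₀ ≫ (jlow g).map Limits.prod.fst = (yon S).map c.hom ≫ x := by
      rw [← tilde_comp, prod.lift_fst, hx₀]
    have hsnd : ∀ m : W ⟶ T, tilde g ((yon S₀).map m) ≫ β = (yon S).map ((Over.map g).map m) := fun m => by
      rw [← Category.comp_id ((yon S₀).map m), tilde_map, Category.assoc, hβ, Category.comp_id]
    refine ⟨(yon S).map c.inv ≫ tilde g q₀, ?_, fun w hw' => ?_⟩
    · change ((yon S).map c.inv ≫ tilde g q₀) ≫ θ = z
      apply pullback.hom_ext
      · rw [← hx, Category.assoc, Category.assoc, pullback.lift_fst, hq₁, ← Functor.map_comp_assoc,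
          Iso.inv_hom_id, CategoryTheory.Functor.map_id, Category.id_comp]
      · rw [← hy, Category.assoc, Category.assoc, pullback.lift_snd, ← Category.assoc (tilde g q₀), ← tilde_comp,
          prod.lift_snd, hsnd, ← hcy, ← Functor.map_comp, Iso.inv_hom_id_assoc]
    · have hw₁ : ((yon S).map c.hom ≫ w) ≫ (jlow g).map Limits.prod.fst = (yon S).map c.hom ≫ x := by
        rw [Category.assoc, hx, ← hw', Category.assoc, pullback.lift_fst]
      have hw₂ : ((yon S).map c.hom ≫ w) ≫ (jlow g).map Limits.prod.snd ≫ β = (yon S).map ((Over.map g).map y₀) := by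
        rw [← hcy, Functor.map_comp, hy, ← hw', Category.assoc, Category.assoc, pullback.lift_snd]
      obtain ⟨q₁, hq, -⟩ := existsUnique_tilde g hP (W := W) ((yon S).map c.hom ≫ w) (by
        rw [← map_aF g (Limits.prod.fst : F ⨯ (yon S₀).obj T ⟶ F), ← Category.assoc, hw₁, Category.assoc, hxy,
          ← Functor.map_comp, ← Functor.map_comp, ← Category.assoc, hcy, map_str])
      have e : q₁ = q₀ := by
        apply prod.hom_ext
        · rw [prod.lift_fst]
          exact hx₀u _ (by beta_reduce; rw [tilde_comp, hq, hw₁])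
        · rw [prod.lift_snd]
          obtain ⟨y₁, hy₁⟩ := (yon S₀).map_surjective (q₁ ≫ Limits.prod.snd)
          rw [← hy₁]
          refine congrArg _ (map_injective g ((yon S).map_injective ?_))
          rw [← hsnd, hy₁, tilde_comp, hq, Category.assoc, hw₂]
      rw [← e, hq, ← Functor.map_comp_assoc, Iso.inv_hom_id, CategoryTheory.Functor.map_id, Category.id_comp]
  exact IsPullback.of_iso_pullback ⟨hw⟩ (asIso θ) (pullback.lift_fst _ _ _) (pullback.lift_snd _ _ _)

/-- Connectedness is invariant under isomorphism of sheaves. -/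
theorem connectedSpace_of_iso {F G : Sp S} (e : F ≅ G) [ConnectedSpace (Points F)] : ConnectedSpace (Points G) :=
  connectedSpace_of_surjective (Points.continuous_map e.hom) fun x =>
    ⟨Points.map e.inv x, by rw [← Points.map_comp, e.inv_hom_id, Points.map_id]⟩

/-- The field point `Spec L` over `Spec k` over `S`. -/
noncomputable abbrev fld {k : Type u} [Field k] (g : Spec (CommRingCat.of k) ⟶ S) (L : Type u) [Field L]
    [Algebra k L] : Over S := (Over.map g).obj (KT k L)

/-- Connectedness after all finite separable extensions gives connectedness after every extension. -/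
theorem connectedSpace_of_stages {k : Type u} [Field k] (g : Spec (CommRingCat.of k) ⟶ S) {G : Sp S}
    (hG : IsAlgSpace G) (a : G ⟶ (yon S).obj (Over.mk g))
    (h : ∀ (k' : Type u) [Field k'] [Algebra k k'], Module.Finite k k' → Algebra.IsSeparable k k' →
      ∀ {P : Sp S} (p₁ : P ⟶ G) (p₂ : P ⟶ (yon S).obj (fld g k')),
        IsPullback p₁ p₂ a ((yon S).map (str g (KT k k'))) → ConnectedSpace (Points P))
    (L : Type u) [Field L] [Algebra k L] {P : Sp S} (p₁ : P ⟶ G) (p₂ : P ⟶ (yon S).obj (fld g L))
    (sq : IsPullback p₁ p₂ a ((yon S).map (str g (KT k L)))) : ConnectedSpace (Points P) := by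
  obtain ⟨F, e, hF, he⟩ := exists_preimage g hG a
  have sqs : ∀ (T : Over (Spec (CommRingCat.of k))), ∃ q, IsPullback ((jlow g).map
      (Limits.prod.fst : F ⨯ (yon (Spec (CommRingCat.of k))).obj T ⟶ F) ≫ e.hom) q a ((yon S).map (str g T)) := fun T => by
    obtain ⟨q, hq⟩ := isPullback_jlow_prod g hF T
    exact ⟨q, hq.of_iso (Iso.refl _) e (Iso.refl _) (Iso.refl _) (by simp) (by simp) (by simp [he]) (by simp)⟩
  have hA : ∀ (T : Over (Spec (CommRingCat.of k))), IsAlgSpace (F ⨯ (yon (Spec (CommRingCat.of k))).obj T) := fun T =>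
    Groth.Agent.AlgSp.isAlgSpace_of_isPullback' (IsAlgSpace.yon_obj (Over.mk (𝟙 _))) hF (IsAlgSpace.yon_obj T)
      (AlgSpCov.GeomConn.prod_isPullback F _)
  have h₀ : ∀ (k' : Type u) [Field k'] [Algebra k k'], Module.Finite k k' → Algebra.IsSeparable k k' →
      ConnectedSpace (Points (F ⨯ (yon (Spec (CommRingCat.of k))).obj (KT k k'))) := fun k' _ _ hf hs => by
    obtain ⟨q, hq⟩ := sqs (KT k k')
    exact (connectedSpace_jlow_iff g (hA _)).1 (h k' hf hs _ _ hq)
  have := AlgSpCov.GeomConn.connectedSpace_sepClosure_of_stages ⟨F, hF⟩ h₀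
  have := AlgSpCov.GeomConn.connectedSpace_of_sepClosed ⟨F, hF⟩ (SeparableClosure k) L
  have := (connectedSpace_jlow_iff g (hA (KT k L))).2 this
  obtain ⟨q, hq⟩ := sqs (KT k L)
  exact connectedSpace_of_iso (hq.isoIsPullback _ _ sq)

variable {A : Type u} [CommRing A] (p : Ideal A) [p.IsPrime]

/-- An etale algebra with a point whose residue field is a prescribed finite separable extension. -/
theorem exists_etale_generating (K : Type u) [Field K] [Algebra p.ResidueField K]
    [Module.Finite p.ResidueField K] [Algebra.IsSeparable p.ResidueField K] :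
    ∃ (E : Type u) (_ : CommRing E) (_ : Algebra A E) (_ : Algebra.Etale A E) (ψ : E →+* K),
      ψ.comp (algebraMap A E) = (algebraMap p.ResidueField K).comp (algebraMap A p.ResidueField) ∧
        Subfield.closure (Set.range ψ) = ⊤ := by
  obtain ⟨β, Q, hQ, hQβ, hadj⟩ := FlatMor.FiniteEtaleSpread.exists_generator p K
  letI : Algebra A K := ((algebraMap p.ResidueField K).comp (algebraMap A p.ResidueField)).toAlgebra
  have : IsScalarTower A p.ResidueField K := IsScalarTower.of_algebraMap_eq fun _ => rfl
  let P : StandardEtalePair A :=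
    { f := Q, monic_f := hQ, g := derivative Q, cond := ⟨1, 0, 1, by simp⟩ }
  have hsep : (minpoly p.ResidueField β).Separable := Algebra.IsSeparable.isSeparable _ β
  have hmap : P.HasMap β := by
    constructor
    · rw [← aeval_map_algebraMap p.ResidueField, hQβ]
      exact minpoly.aeval _ _
    · rw [← aeval_map_algebraMap p.ResidueField, ← derivative_map, hQβ, isUnit_iff_ne_zero]
      exact hsep.aeval_derivative_ne_zero (minpoly.aeval _ _)
  refine ⟨P.Ring, inferInstance, inferInstance, inferInstance, (P.lift β hmap).toRingHom, (P.lift β hmap).comp_algebraMap, ?_⟩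
  rw [eq_top_iff]
  intro x _
  have hA : ∀ a : A, algebraMap p.ResidueField K (algebraMap A p.ResidueField a) ∈
      Subfield.closure (Set.range (P.lift β hmap).toRingHom) := fun a =>
    Subfield.subset_closure ⟨algebraMap A P.Ring a, (P.lift β hmap).commutes a⟩
  have hκ : ∀ c : p.ResidueField, algebraMap p.ResidueField K c ∈
      Subfield.closure (Set.range (P.lift β hmap).toRingHom) := fun c => by
    obtain ⟨n, d, -, rfl⟩ := IsFractionRing.div_surjective (A := A ⧸ p) c
    obtain ⟨n, rfl⟩ := Ideal.Quotient.mk_surjective n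
    obtain ⟨d, rfl⟩ := Ideal.Quotient.mk_surjective d
    rw [map_div₀]
    exact div_mem (hA n) (hA d)
  let F : IntermediateField p.ResidueField K :=
    (Subfield.closure (Set.range (P.lift β hmap).toRingHom)).toIntermediateField hκ
  have : IntermediateField.adjoin p.ResidueField {β} ≤ F := IntermediateField.adjoin_simple_le_iff.mpr
    (Subfield.subset_closure ⟨P.X, P.lift_X β hmap⟩)
  rw [hadj] at this
  exact this (IntermediateField.mem_top : x ∈ ⊤)

/-- A field-valued point of an affine scheme generating its field is the residue field point. -/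
theorem exists_iso_residueField {E L : Type u} [CommRing E] [Field L] (ψ : E →+* L)
    (hψ : Subfield.closure (Set.range ψ) = ⊤) :
    ∃ (v : ↥(Spec (CommRingCat.of E))) (j : Spec (CommRingCat.of L) ≅ Spec ((Spec (CommRingCat.of E)).residueField v)),
      j.hom ≫ (Spec (CommRingCat.of E)).fromSpecResidueField v = Spec.map (CommRingCat.ofHom ψ) := by
  obtain ⟨a, ha⟩ := Groth.Agent.AlgSp.exists_fac_residueField (Spec.map (CommRingCat.ofHom ψ))
    (Spec.map (CommRingCat.ofHom ψ) default) rfl
  obtain ⟨ν, hν⟩ := Spec.map_surjective ((Spec (CommRingCat.of E)).fromSpecResidueField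
    (Spec.map (CommRingCat.ofHom ψ) default))
  have e : ν ≫ a = CommRingCat.ofHom ψ := Spec.map_injective (by rw [Spec.map_comp, hν, ha])
  have hsur : Function.Surjective a.hom := fun x => by
    have hx : x ∈ (⊤ : Subfield L) := Subfield.mem_top x
    rw [← hψ] at hx
    refine (Subfield.closure_le (t := a.hom.fieldRange)).2 ?_ hx
    rintro _ ⟨y, rfl⟩
    exact ⟨ν y, congr($(e).hom y)⟩
  have : IsIso a := (ConcreteCategory.isIso_iff_bijective a).2 ⟨a.hom.injective, hsur⟩
  exact ⟨_, asIso (Spec.map a), ha⟩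

end Groth.Agent.AlgSpEN.GeomConnEtale
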