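import Groth.Agent.AlgSpCov.FppfDescentProps
import Groth.Agent.AlgSpCov.Covers
import Groth.Agent.AlgSp.SchImageRep
import Groth.Agent.AlgSp.PointsMor
import Groth.Agent.AlgSp.Space
import Groth.Agent.AlgSpB.Points
import Groth.Prelude.Def_AlgSpDec
import Groth.Prelude.Def_FDesc

/-!
# Geometrically reduced fibres of a morphism of algebraic spaces through charts
-/

set_option autoImplicit false
set_option backward.isDefEq.respectTransparency false
set_option backward.isDefEq.respectTransparency.types false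

universe u

open CategoryTheory CategoryTheory.Limits AlgebraicGeometry
open Groth.Agent

namespace Groth.Agent.AlgSpEN.GeomRedFibre

/-- All field extensions of the fibre of `f` at `y` are reduced. -/
def FibGeomRed {S : Scheme.{u}} {X Y : AlgSp.Space S} (f : X ⟶ Y) (y : AlgSp.Points Y.obj) : Prop :=
  ∀ (k : AlgSp.FieldPt Y.obj), AlgSp.Points.mk k = y →
    ∀ (k' : Type u) [Field k'] (φ : k.K →+* k') (Xk' : AlgSp.Sp S) (a : Xk' ⟶ X.obj)
      (b : Xk' ⟶ (AlgSp.yon S).obj (Over.mk (Spec.map (CommRingCat.ofHom φ) ≫ k.str))),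
      IsPullback a b f.hom ((AlgSp.yon S).map (Over.homMk (Spec.map (CommRingCat.ofHom φ)) rfl :
        Over.mk (Spec.map (CommRingCat.ofHom φ) ≫ k.str) ⟶ k.pt) ≫ k.toHom) →
      AlgSp.EtaleLocally (fun U => IsReduced U) Xk'

/-- The base change of the fibre at `w` is the base change of the morphism along `Spec K ⟶ W`. -/
theorem isPullback_bc {U W : Scheme.{u}} (h : U ⟶ W) (w : W) (K : Type u) [Field K] [Algebra (IsLocalRing.ResidueField (W.presheaf.stalk w)) K] :
    IsPullback (FBase.bcπ (h.fiberToSpecResidueField w) K ≫ h.fiberι w)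
      (FBase.bcStr (h.fiberToSpecResidueField w) K)
      h (Spec.map (CommRingCat.ofHom (algebraMap (IsLocalRing.ResidueField (W.presheaf.stalk w)) K)) ≫ W.fromSpecResidueField w) :=
  (IsPullback.of_hasPullback (h.fiberToSpecResidueField w) (Spec.map (CommRingCat.ofHom (algebraMap (IsLocalRing.ResidueField (W.presheaf.stalk w)) K)))).paste_horiz
    (IsPullback.of_hasPullback h (W.fromSpecResidueField w))

/-- Over a geometrically reduced fibre every chart has geometrically reduced fibre. -/
theorem isReduced_bc_of_fibGeomRed {S : Scheme.{u}} {X Y : AlgSp.Space S} (f : X ⟶ Y)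
    {W U : Over S} (b : (AlgSp.yon S).obj W ⟶ Y.obj) (m : (AlgSp.yon S).obj U ⟶ pullback f.hom b)
    (hm : AlgSp.RepWith @Etale m) (h : U ⟶ W) (hh : (AlgSp.yon S).map h = m ≫ pullback.snd f.hom b) (w : W.left)
    (H : FibGeomRed f (AlgSp.Points.ofPt b w)) (K : Type u) [Field K]
    [Algebra (IsLocalRing.ResidueField (W.left.presheaf.stalk w)) K] :
    IsReduced (FBase.bc (h.left.fiberToSpecResidueField w) K) := by
  have hbc := isPullback_bc h.left (w) K
  let φ : W.left.residueField w →+* K := algebraMap (IsLocalRing.ResidueField (W.left.presheaf.stalk w)) K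
  let k := AlgSp.FieldPt.ofPt b w
  let K' : Over S := Over.mk (Spec.map (CommRingCat.ofHom φ) ≫ k.str)
  let z : (AlgSp.yon S).obj K' ⟶ Y.obj := (AlgSp.yon S).map (Over.homMk (Spec.map (CommRingCat.ofHom φ)) rfl :
    K' ⟶ k.pt) ≫ k.toHom
  have hred := H k rfl K φ (pullback f.hom z) _ _ (IsPullback.of_hasPullback f.hom z)
  let lW : K' ⟶ W := Over.homMk (Spec.map (CommRingCat.ofHom φ) ≫ W.left.fromSpecResidueField w) (by
    simp [K', k, AlgSp.FieldPt.ofPt])
  have hz : z = (AlgSp.yon S).map lW ≫ b := by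
    simp only [z, k, AlgSp.FieldPt.toHom_ofPt]
    rw [← Functor.map_comp_assoc]
    congr 1
  have hQA := Groth.Agent.AlgSp.isAlgSpace_pullback Y.property X.property (AlgSp.IsAlgSpace.yon_obj K') f.hom z
  have sqU := (IsPullback.of_hasPullback h lW).map (AlgSp.yon S)
  rw [hh] at sqU
  have sqP := IsPullback.of_hasPullback (pullback.snd f.hom b) ((AlgSp.yon S).map lW)
  obtain ⟨c, hc₁, hc₂⟩ := sqP.exists_lift ((AlgSp.yon S).map (pullback.fst h lW) ≫ m)
    ((AlgSp.yon S).map (pullback.snd h lW)) (by rw [Category.assoc]; exact sqU.w)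
  have sqc : IsPullback ((AlgSp.yon S).map (pullback.fst h lW)) c m (pullback.fst (pullback.snd f.hom b) ((AlgSp.yon S).map lW)) :=
    IsPullback.of_bot (by rw [hc₂]; exact sqU) hc₁.symm sqP
  have big := sqP.paste_horiz (IsPullback.of_hasPullback f.hom b)
  rw [← hz] at big
  let ε := (IsPullback.of_hasPullback f.hom z).isoIsPullback _ _ big
  have : IsReduced (pullback h lW).left :=
    Groth.Agent.AlgSp.SchImageRep.isReduced_chart hQA hred (c ≫ ε.inv)
      ((MorphismProperty.cancel_right_of_respectsIso (AlgSp.RepWith @Etale) c ε.inv).2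
        (MorphismProperty.of_isPullback sqc hm))
  have hl := ((IsPullback.of_hasPullback h lW).map (Over.forget S))
  have : IsReduced ((Over.forget S).obj (pullback h lW)) := ‹IsReduced (pullback h lW).left›
  have : IsReduced (FBase.bc (h.left.fiberToSpecResidueField (w)) K) :=
    AlgebraicGeometry.isReduced_of_isOpenImmersion (hl.isoIsPullback _ _ hbc).inv
  infer_instance

/-- A fibre covered by a chart with geometrically reduced fibre is geometrically reduced. -/
theorem fibGeomRed_of_chart {S : Scheme.{u}} {X Y : AlgSp.Space S} (f : X ⟶ Y)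
    {W U : Over S} (b : (AlgSp.yon S).obj W ⟶ Y.obj) (hb : AlgSp.RepWith @Etale b)
    (m : (AlgSp.yon S).obj U ⟶ pullback f.hom b)
    (hm : AlgSp.RepWith @Etale m) (h : U ⟶ W) (hh : (AlgSp.yon S).map h = m ≫ pullback.snd f.hom b) (w : W.left)
    (hcov : ∀ x : AlgSp.Points (pullback f.hom b),
      AlgSp.Points.map (pullback.snd f.hom b) x = AlgSp.Points.ofScheme W w → x ∈ Set.range (AlgSp.Points.map m))
    (hred : ∀ (L : Type u) [Field L] [Algebra (IsLocalRing.ResidueField (W.left.presheaf.stalk w)) L],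
      IsReduced (pullback h.left (Spec.map (CommRingCat.ofHom
        (algebraMap (IsLocalRing.ResidueField (W.left.presheaf.stalk w)) L)) ≫ W.left.fromSpecResidueField w))) :
    FibGeomRed f (AlgSp.Points.ofPt b w) := by
  have hPA := Groth.Agent.AlgSp.isAlgSpace_pullback Y.property X.property (AlgSp.IsAlgSpace.yon_obj W) f.hom b
  intro k hk k' _ φ Xk' a' b' hsq'
  let K' : Over S := Over.mk (Spec.map (CommRingCat.ofHom φ) ≫ k.str)
  let z : (AlgSp.yon S).obj K' ⟶ Y.obj := (AlgSp.yon S).map (Over.homMk (Spec.map (CommRingCat.ofHom φ)) rfl :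
    K' ⟶ k.pt) ≫ k.toHom
  let t₀ : K'.left := (⟨⊥, Ideal.isPrime_bot⟩ : PrimeSpectrum k')
  obtain ⟨R, rK, rW, hR⟩ : ∃ (R : Over S) (rK : R ⟶ K') (rW : (AlgSp.yon S).obj R ⟶ (AlgSp.yon S).obj W),
      IsPullback rW ((AlgSp.yon S).map rK) b z := ⟨_, _, _, hb.1.isPullback z⟩
  obtain ⟨rW, rfl⟩ := (AlgSp.yon S).map_surjective rW
  have hzy : AlgSp.Points.ofPt b w = AlgSp.Points.map z (AlgSp.Points.ofScheme K' t₀) := by
    rw [← hk, AlgSp.Points.map_comp, ← AlgSp.Points.ofPt_toHom k ((Over.homMk (Spec.map (CommRingCat.ofHom φ)) rfl : K' ⟶ k.pt).left t₀),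
      AlgSp.Points.ofPt_eq_map_ofScheme]
    exact (congrArg _ (AlgSp.Points.map_yon_map_apply _ t₀)).symm
  obtain ⟨q, hq, -⟩ := Groth.Agent.AlgSpB.exists_of_isPullback hR (AlgSp.Points.ofScheme W w) (AlgSp.Points.ofScheme K' t₀)
    (by rw [← AlgSp.Points.ofPt_eq_map_ofScheme]; exact hzy)
  let r := AlgSp.Points.toScheme R q
  have hrw : rW.left r = w := by
    refine (AlgSp.Points.schemeHomeo W).injective ?_
    change AlgSp.Points.ofScheme W _ = AlgSp.Points.ofScheme W w
    rw [← hq, ← AlgSp.Points.ofScheme_toScheme R q]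
    exact (AlgSp.Points.map_yon_map_apply rW r).symm
  let L := R.left.residueField r
  let TL : Over S := Over.mk (R.left.fromSpecResidueField r ≫ R.hom)
  let σ : TL ⟶ R := Over.homMk (R.left.fromSpecResidueField r) rfl
  let lW : TL ⟶ W := σ ≫ rW
  have hzL : (AlgSp.yon S).map (σ ≫ rK) ≫ z = (AlgSp.yon S).map lW ≫ b := by
    simp only [lW, Functor.map_comp, Category.assoc, hR.w]
  -- the base change to `L`
  let XL := pullback (pullback.snd f.hom b) ((AlgSp.yon S).map lW)
  have hXL : AlgSp.IsAlgSpace XL :=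
    Groth.Agent.AlgSp.isAlgSpace_pullback (AlgSp.IsAlgSpace.yon_obj W) hPA (AlgSp.IsAlgSpace.yon_obj TL) _ _
  have sqP := IsPullback.of_hasPullback (pullback.snd f.hom b) ((AlgSp.yon S).map lW)
  have big := sqP.paste_horiz (IsPullback.of_hasPullback f.hom b)
  rw [← hzL] at big
  obtain ⟨d, hd₁, hd₂⟩ := hsq'.exists_lift _ (pullback.snd (pullback.snd f.hom b) ((AlgSp.yon S).map lW) ≫
    (AlgSp.yon S).map (σ ≫ rK)) (big.w.trans (Category.assoc _ _ _).symm)
  have sqd : IsPullback d (pullback.snd (pullback.snd f.hom b) ((AlgSp.yon S).map lW)) b' ((AlgSp.yon S).map (σ ≫ rK)) :=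
    IsPullback.of_right (by rw [hd₁]; exact big) hd₂ hsq'
  have sqU := (IsPullback.of_hasPullback h lW).map (AlgSp.yon S)
  rw [hh] at sqU
  obtain ⟨c, hc₁, hc₂⟩ := sqP.exists_lift ((AlgSp.yon S).map (pullback.fst h lW) ≫ m)
    ((AlgSp.yon S).map (pullback.snd h lW)) (by rw [Category.assoc]; exact sqU.w)
  have sqc : IsPullback c ((AlgSp.yon S).map (pullback.fst h lW))
      (pullback.fst (pullback.snd f.hom b) ((AlgSp.yon S).map lW)) (m) :=
    (IsPullback.of_bot (by rw [hc₂]; exact sqU) hc₁.symm sqP).flip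
  have hce : AlgSp.RepWith @Etale c := MorphismProperty.of_isPullback sqc.flip hm
  have hcs : AlgSp.RepWith @Surjective c := by
    refine (Groth.Agent.AlgSp.repWith_surjective_iff _ hce.1).2 fun x => ?_
    have key := Groth.Agent.AlgSp.preimage_image_map sqc.flip Set.univ
    simp only [Set.preimage_univ, Set.image_univ] at key
    refine key.le (hcov _ ?_)
    rw [← AlgSp.Points.map_comp, sqP.w, AlgSp.Points.map_comp,
      ← AlgSp.Points.ofScheme_toScheme TL (AlgSp.Points.map (pullback.snd _ _) x)]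
    refine (AlgSp.Points.map_yon_map_apply lW _).trans (congrArg _ ?_)
    change rW.left (R.left.fromSpecResidueField r _) = w
    rw [Scheme.fromSpecResidueField_apply, hrw]
  have hQred : IsReduced (pullback h lW).left := by
    subst hrw
    let ψ : W.left.residueField (rW.left r) ⟶ CommRingCat.of L := rW.left.residueFieldMap r
    letI : Algebra (IsLocalRing.ResidueField (W.left.presheaf.stalk (rW.left r))) L := ψ.hom.toAlgebra
    have : lW.left = Spec.map (CommRingCat.ofHom (algebraMap (IsLocalRing.ResidueField (W.left.presheaf.stalk (rW.left r))) L)) ≫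
        W.left.fromSpecResidueField (rW.left r) := (rW.left.SpecMap_residueFieldMap_fromSpecResidueField r).symm
    have hl := (IsPullback.of_hasPullback h lW).map (Over.forget S)
    change IsPullback (pullback.fst h lW).left (pullback.snd h lW).left h.left lW.left at hl
    rw [this] at hl
    have := hred L
    exact AlgebraicGeometry.isReduced_of_isOpenImmersion hl.isoPullback.hom
  have hXLred : AlgSp.IsReducedSp XL := ⟨_, c, hce, hcs, hQred⟩
  have hXk' : AlgSp.IsAlgSpace Xk' := (Groth.Agent.AlgSp.isAlgSpace_pullback Y.property X.property (AlgSp.IsAlgSpace.yon_obj K') f.hom z).of_iso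
    ((IsPullback.of_hasPullback f.hom z).isoIsPullback _ _ hsq')
  have hσflat : Flat (σ ≫ rK).left := by
    obtain ⟨χ, hχ⟩ := Spec.map_surjective (R.left.fromSpecResidueField r ≫ rK.left :
      Spec L ⟶ Spec (CommRingCat.of k'))
    change Flat (R.left.fromSpecResidueField r ≫ rK.left)
    rw [← hχ, HasRingHomProperty.Spec_iff (P := @Flat)]
    letI := χ.hom.toAlgebra
    exact RingHom.flat_algebraMap_iff.2 inferInstance
  have hσsurj : Surjective (σ ≫ rK).left := ⟨fun t => ⟨(⟨⊥, Ideal.isPrime_bot⟩ : PrimeSpectrum L),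
    @Subsingleton.elim _ (inferInstanceAs (Subsingleton (PrimeSpectrum k'))) _ _⟩⟩
  refine Groth.Agent.AlgSpCov.isReducedSp_of_flat_surjective (X := ⟨XL, hXL⟩) (Y := ⟨Xk', hXk'⟩)
    (ObjectProperty.homMk d) ?_ ?_ hXLred
  · exact Groth.Agent.AlgSpCov.locP_baseChange Groth.Agent.AlgSpCov.etaleLocal_flat (AlgSp.IsAlgSpace.yon_obj TL)
      (AlgSp.IsAlgSpace.yon_obj K') sqd.flip (Groth.Agent.AlgSpCov.locP_of_repWith
        Groth.Agent.AlgSpCov.etaleLocal_flat ((AlgSp.repWith_yon_map_iff _ _).2 hσflat))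
  · intro x
    have key := Groth.Agent.AlgSp.preimage_image_map sqd.flip Set.univ
    simp only [Set.preimage_univ, Set.image_univ] at key
    refine key.le ?_
    obtain ⟨t, ht⟩ := hσsurj.surj (AlgSp.Points.toScheme K' (AlgSp.Points.map b' x))
    refine ⟨AlgSp.Points.ofScheme TL t, ?_⟩
    rw [← AlgSp.Points.ofScheme_toScheme K' (AlgSp.Points.map b' x), ← ht]
    exact AlgSp.Points.map_yon_map_apply _ t

end Groth.Agent.AlgSpEN.GeomRedFibre
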