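import Mathlib.RingTheory.Flat.FaithfullyFlat.Algebra
import Mathlib.RingTheory.Flat.Equalizer
import Mathlib.RingTheory.TensorProduct.Quotient
import Mathlib.Algebra.Module.Torsion.Basic
import Mathlib.LinearAlgebra.TensorProduct.Pi

/-!
# Torsion over a finitely generated ideal in a pair of flat algebras

If `R ⟶ R'` is a map of flat `C`-algebras which is faithfully flat modulo an ideal `I` of `C`, then
an element of `R` killed by a power of `I` and by `R ⟶ R'` vanishes.
-/

set_option autoImplicit false

universe u

open TensorProduct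

namespace Groth.Agent.AlgSpEN

variable {C R R' : Type u} [CommRing C] [CommRing R] [CommRing R'] [Algebra C R] [Algebra C R'] [Algebra R R']
  [IsScalarTower C R R'] [Module.Flat C R] [Module.Flat C R'] {s : Finset C}

/-- The case of elements killed by `I`. -/
theorem eq_zero_of_smul_eq_zero
    [Module.FaithfullyFlat (R ⧸ (Ideal.span (s : Set C)).map (algebraMap C R))
      ((R ⧸ (Ideal.span (s : Set C)).map (algebraMap C R)) ⊗[R] R')]
    (x : R) (hs : ∀ g ∈ s, g • x = 0) (hx : algebraMap R R' x = 0) : x = 0 := by
  let J : Ideal R := (Ideal.span (s : Set C)).map (algebraMap C R)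
  let v : C →ₗ[C] (s → C) := LinearMap.pi fun g => LinearMap.toSpanSingleton C C g.1 |>.comp LinearMap.id
  have hv : ∀ c g, v c g = c * (g : C) := fun c g => by simp [v, LinearMap.toSpanSingleton_apply]
  let N := R ⊗[C] LinearMap.ker v
  -- `x` comes from the torsion of `C`
  have hex : Function.Exact ((LinearMap.ker v).subtype.lTensor R) (v.lTensor R) :=
    Module.Flat.lTensor_exact R (LinearMap.exact_subtype_ker_map v)
  obtain ⟨ξ, hξ⟩ := (hex (x ⊗ₜ (1 : C))).1 (by
    classical
    refine (TensorProduct.piScalarRight C C R s).injective ?_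
    rw [map_zero, LinearMap.lTensor_tmul]
    funext g
    simpa [hv, TensorProduct.piScalarRight_apply] using hs g.1 g.2)
  have hk : ∀ r ∈ J, ∀ n : N, r • n = 0 := by
    intro r hr n
    induction hr using Submodule.span_induction with
    | mem r hr =>
      obtain ⟨c, hc, rfl⟩ := hr
      rw [algebraMap_smul]
      induction n using TensorProduct.induction_on with
      | zero => simp
      | tmul a m =>
        rw [← tmul_smul]
        have : c • m = 0 := by
          induction hc using Submodule.span_induction with
          | mem g hg =>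
            refine Subtype.ext ?_
            have h := congrFun (LinearMap.mem_ker.1 m.2) ⟨g, hg⟩
            rw [hv] at h
            change g * (m : C) = 0
            rw [mul_comm]
            exact h
          | zero => simp
          | add a b _ _ ha hb => rw [add_smul, ha, hb, add_zero]
          | smul a b _ hb => rw [smul_assoc, hb, smul_zero]
        rw [this, tmul_zero]
      | add a b ha hb => rw [smul_add, ha, hb, add_zero]
    | zero => simp
    | add a b _ _ ha hb => rw [add_smul, ha, hb, add_zero]
    | smul a b _ hb => rw [smul_assoc, hb, smul_zero]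
  letI : Module (R ⧸ J) N := Module.IsTorsionBySet.module (I := J) (fun {n} r => hk r.1 r.2 n)
  haveI : IsScalarTower R (R ⧸ J) N := ⟨fun r a n => by
    obtain ⟨b, rfl⟩ := Ideal.Quotient.mk_surjective a
    exact mul_smul r b n⟩
  let B := (R ⧸ J) ⊗[R] R'
  have : Module.FaithfullyFlat (R ⧸ J) B := ‹_›
  have hinj : Function.Injective fun n : N => (1 : R') ⊗ₜ[R] n := by
    intro a b hab
    refine Module.FaithfullyFlat.tensorProduct_mk_injective (A := R ⧸ J) (B := B) N ?_
    let e : R' ⊗[R] N →ₗ[R] B ⊗[R ⧸ J] N := TensorProduct.lift (LinearMap.mk₂ R (fun r n => ((1 : R ⧸ J) ⊗ₜ[R] r) ⊗ₜ[R ⧸ J] n)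
      (fun r r' n => by rw [tmul_add, add_tmul]) (fun c r n => by rw [tmul_smul, ← smul_tmul'])
      (fun r n n' => tmul_add ..) (fun c r n => by rw [← algebraMap_smul (R ⧸ J) c n, tmul_smul, algebraMap_smul]))
    exact congrArg e hab
  -- the image in `R'` is injective on `R' ⊗ ker v`
  have hinj' : Function.Injective ((LinearMap.ker v).subtype.lTensor R') :=
    Module.Flat.lTensor_preserves_injective_linearMap _ (Submodule.injective_subtype _)
  let φ : R →ₗ[C] R' := (IsScalarTower.toAlgHom C R R').toLinearMap
  have hφ : φ.rTensor (LinearMap.ker v) ξ = 0 := by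
    refine hinj' ?_
    rw [map_zero, ← LinearMap.comp_apply, LinearMap.lTensor_comp_rTensor, ← LinearMap.rTensor_comp_lTensor,
      LinearMap.comp_apply, hξ, LinearMap.rTensor_tmul]
    simp [φ, hx]
  have hξ0 : ξ = 0 := by
    refine hinj ?_
    let e := TensorProduct.AlgebraTensorModule.cancelBaseChange C R R R' (LinearMap.ker v)
    refine e.injective ?_
    have he : ∀ z : R ⊗[C] LinearMap.ker v, e ((1 : R') ⊗ₜ[R] z) = φ.rTensor (LinearMap.ker v) z := by
      intro z
      induction z using TensorProduct.induction_on with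
      | zero => simp
      | tmul a m => simp [e, φ, Algebra.smul_def]
      | add a b ha hb => rw [tmul_add, map_add, ha, hb, map_add]
    rw [he, hφ]
    simp
  rw [hξ0, map_zero] at hξ
  have := congrArg (TensorProduct.rid C R) hξ
  simpa using this.symm

/-- Elements killed by powers of finitely many generators of `I` and by `R ⟶ R'` vanish. -/
theorem eq_zero_of_pow_smul_eq_zero
    [Module.FaithfullyFlat (R ⧸ (Ideal.span (s : Set C)).map (algebraMap C R))
      ((R ⧸ (Ideal.span (s : Set C)).map (algebraMap C R)) ⊗[R] R')]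
    (x : R) (hs : ∀ g ∈ s, ∃ n : ℕ, g ^ n • x = 0) (hx : algebraMap R R' x = 0) : x = 0 := by
  suffices h : ∀ N : ℕ, ∀ x : R, algebraMap R R' x = 0 → (∀ c ∈ Ideal.span (s : Set C) ^ N, c • x = 0) → x = 0 by
    classical
    choose n hn using hs
    let m := s.attach.sup fun g => n g.1 g.2
    have hle : (Ideal.span ((fun g => g ^ m) '' (s : Set C)) : Ideal C) ≤
        (Submodule.span C {x}).annihilator := by
      rw [Ideal.span_le]
      rintro _ ⟨g, hg, rfl⟩
      rw [SetLike.mem_coe, Submodule.mem_annihilator_span_singleton]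
      obtain ⟨k, hk⟩ := Nat.exists_eq_add_of_le (Finset.le_sup (f := fun g : s => n g.1 g.2) (Finset.mem_attach s ⟨g, hg⟩))
      change g ^ m • x = 0
      rw [show m = n g hg + k from hk, add_comm, pow_add, mul_smul, hn g hg, smul_zero]
    have hrad : Ideal.span (s : Set C) ≤ (Ideal.span ((fun g => g ^ m) '' (s : Set C))).radical :=
      Ideal.span_le.2 fun g hg => ⟨m, Ideal.subset_span ⟨g, hg, rfl⟩⟩
    obtain ⟨N, hN⟩ := Ideal.exists_pow_le_of_le_radical_of_fg hrad ⟨s, rfl⟩
    exact h N x hx fun c hc => (Submodule.mem_annihilator_span_singleton _ _).1 (hle (hN hc))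
  intro N
  induction N with
  | zero => exact fun x _ h => by simpa using h 1 (by simp)
  | succ N ih =>
    intro x hx h
    refine eq_zero_of_smul_eq_zero (C := C) (R' := R') (s := s) x (fun g hg => ?_) hx
    refine ih (g • x) (((IsScalarTower.toAlgHom C R R').toLinearMap.map_smul g x).trans (by simp [hx])) fun c hc => ?_
    rw [← mul_smul]
    exact h _ (by rw [pow_succ]; exact Ideal.mul_mem_mul hc (Ideal.subset_span hg))

end Groth.Agent.AlgSpEN
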