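import Groth.Agent.AlgSpEN.FormalGlueCover
import Groth.Agent.AlgSpEN.TorsionInj
import Groth.Agent.AlgSp.InfSpace

/-!
# Morphisms into separated spaces agree along a formal glueing datum

If two maps `r, r' : O ⟶ Y` agree after `f : Y ⟶ X`, then two maps from `O` to a separated space which agree
where `r = r'` and over the complement of `Z` are equal, provided `O` and the locus `r = r'` are flat over
some space `N` over `X`.
-/

set_option autoImplicit false
set_option backward.isDefEq.respectTransparency false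
set_option backward.isDefEq.respectTransparency.types false

universe u

open CategoryTheory CategoryTheory.Limits AlgebraicGeometry Opposite Topology
open TensorProduct

namespace Groth.Agent.AlgSpEN

open _root_.AlgSp

/-- A flat surjective pullback to a closed subscheme gives faithful flatness modulo the ideal. -/
theorem faithfullyFlat_quotient_of_isPullback {R R' : Type u} [CommRing R] [CommRing R'] [Algebra R R'] (I : Ideal R)
    {P : Scheme.{u}} {p₁ : P ⟶ Spec (CommRingCat.of (R ⧸ I))} {p₂ : P ⟶ Spec (CommRingCat.of R')}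
    (h : IsPullback p₁ p₂ (Spec.map (CommRingCat.ofHom (algebraMap R (R ⧸ I))))
      (Spec.map (CommRingCat.ofHom (algebraMap R R')))) [Flat p₁] [Surjective p₁] :
    Module.FaithfullyFlat (R ⧸ I) ((R ⧸ I) ⊗[R] R') := by
  have e : (pullbackSpecIso R (R ⧸ I) R').inv ≫ h.isoPullback.inv ≫ p₁ =
      Spec.map (CommRingCat.ofHom (algebraMap (R ⧸ I) ((R ⧸ I) ⊗[R] R'))) := by
    rw [h.isoPullback_inv_fst, pullbackSpecIso_inv_fst']
  rw [← RingHom.faithfullyFlat_algebraMap_iff, RingHom.FaithfullyFlat.iff_flat_and_comap_surjective]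
  constructor
  · have : Flat (Spec.map (CommRingCat.ofHom (algebraMap (R ⧸ I) ((R ⧸ I) ⊗[R] R')))) := e ▸ inferInstance
    exact (HasRingHomProperty.Spec_iff (P := @Flat)).1 this
  · have : Surjective (Spec.map (CommRingCat.ofHom (algebraMap (R ⧸ I) ((R ⧸ I) ⊗[R] R')))) := e ▸ inferInstance
    exact this.surj

variable {S : Scheme.{u}}

/-- Maps to a separated space which agree where `r = r'` and away from `Z` agree on an affine chart. -/
theorem eq_of_agree_affine {X Y Z FZ U X₂ : Space S} {f : Y ⟶ X} (hqs : IsQuasiSeparatedMor f.hom) {i : Z ⟶ X}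
    (hi : RepWith @IsClosedImmersion i.hom) (hifp : LocP @LocallyOfFinitePresentation i.hom)
    {iY : FZ ⟶ Y} {fZ : FZ ⟶ Z} (hFZ : IsPullback iY.hom fZ.hom f.hom i.hom) [IsIso fZ] {j : U ⟶ X}
    (hj : RepWith @IsOpenImmersion j.hom)
    (hU : Set.range (Points.map j.hom) = (Set.range (Points.map i.hom))ᶜ)
    {p₂ : X₂ ⟶ X} (hp₂ : IsSeparatedMor p₂.hom)
    {O N O' : Sp S} (o : O ⟶ N) (ho : LocP @Flat o) (n : N ⟶ X.obj) (r r' : O ⟶ Y.obj)
    (hr : r ≫ f.hom = o ≫ n) (hr' : r' ≫ f.hom = o ≫ n) (δ : O' ⟶ O) (e : O' ⟶ Y.obj)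
    (hδ : IsPullback e δ (pullback.diagonal f.hom) (pullback.lift r r' (hr.trans hr'.symm)))
    (hδflat : LocP @Flat (δ ≫ o)) (u v : O ⟶ X₂.obj) (huv : u ≫ p₂.hom = v ≫ p₂.hom)
    (hO' : δ ≫ u = δ ≫ v)
    (hUU : ∀ (T : Over S) (t : (yon S).obj T ⟶ O) (l : (yon S).obj T ⟶ U.obj),
      l ≫ j.hom = t ≫ o ≫ n → t ≫ u = t ≫ v)
    {C R : CommRingCat.{u}} (str : Spec C ⟶ S) (z : (yon S).obj (Over.mk str) ⟶ N) (hz : RepWith @Etale z)
    (ρ : C ⟶ R) (tR : (yon S).obj (Over.mk (Spec.map ρ ≫ str)) ⟶ O) (htR : RepWith @Etale tR)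
    (hw : tR ≫ o = (yon S).map (Over.homMk (Spec.map ρ) rfl : Over.mk (Spec.map ρ ≫ str) ⟶ Over.mk str) ≫ z) :
    tR ≫ u = tR ≫ v := by
  let TR : Over S := Over.mk (Spec.map ρ ≫ str)
  let ρo : TR ⟶ Over.mk str := Over.homMk (Spec.map ρ) rfl
  have hflatR : ρ.hom.Flat := (HasRingHomProperty.Spec_iff (P := @Flat)).1 (ho tR z ρo htR hz hw)
  obtain ⟨s, hmem, hlift⟩ := exists_ideal_of_closed i hi hifp str (z ≫ n)
  -- the locus where `r = r'` on the chart
  obtain ⟨D, d, eD, hD⟩ : ∃ (D : Over S) (d : D ⟶ TR) (eD : (yon S).obj D ⟶ Y.obj),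
      IsPullback eD ((yon S).map d) (pullback.diagonal f.hom) (tR ≫ pullback.lift r r' (hr.trans hr'.symm)) :=
    ⟨_, _, _, hqs.1.isPullback _⟩
  have hdqc : QuasiCompact (d.left : D.left ⟶ Spec R) := hqs.2 _ _ _ hD
  have : CompactSpace ↥(Spec R) := inferInstance
  have : CompactSpace D.left := QuasiCompact.compactSpace_of_compactSpace (Y := Spec R) (d.left : D.left ⟶ Spec R)
  obtain ⟨δD, hδD₁, hδD₂⟩ := hδ.exists_lift eD ((yon S).map d ≫ tR) (by rw [hD.w, Category.assoc])
  have hDsq : IsPullback δD ((yon S).map d) δ tR := IsPullback.of_right (by rw [hδD₁]; exact hD) hδD₂ hδ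
  obtain ⟨W, q, hWa, hq, hqsur⟩ := exists_affine_atlas (⟨_, IsAlgSpace.yon_obj D⟩ : Space S)
    (AlgSp.isQuasiCompactSp_yon D)
  obtain ⟨q, rfl⟩ := (yon S).map_surjective q
  have hqet : Etale q.left := (repWith_yon_map_iff _ q).1 hq
  have hqsj : Surjective q.left := (repWith_yon_map_iff _ q).1 hqsur
  obtain ⟨φ, hφ⟩ := Spec.map_surjective (W.left.isoSpec.inv ≫ q.left ≫ (d.left : D.left ⟶ Spec R))
  let R' : CommRingCat := Γ(W.left, ⊤)
  have hflatR' : (ρ ≫ φ).hom.Flat := by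
    refine (HasRingHomProperty.Spec_iff (P := @Flat)).1 ?_
    have h1 : Flat (q ≫ d ≫ ρo).left := hδflat ((yon S).map q ≫ δD) z (q ≫ d ≫ ρo)
      ((RepWith @Etale).comp_mem _ _ hq (MorphismProperty.of_isPullback hDsq.flip htR)) hz
      (by rw [Category.assoc, ← Category.assoc δD, hδD₂, Category.assoc, hw, Functor.map_comp, Functor.map_comp,
        Category.assoc, Category.assoc])
    have h2 : Flat ((q.left ≫ (d.left : D.left ⟶ Spec R)) ≫ Spec.map ρ) := by
      rw [Category.assoc]; exact h1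
    rw [Spec.map_comp, hφ, Category.assoc]
    exact inferInstance
  -- the locus of agreement
  obtain ⟨E, c, eE, hE⟩ : ∃ (E : Over S) (c : E ⟶ TR) (eE : (yon S).obj E ⟶ X₂.obj),
      IsPullback eE ((yon S).map c) (pullback.diagonal p₂.hom)
        (pullback.lift (tR ≫ u) (tR ≫ v) (by rw [Category.assoc, Category.assoc, huv])) :=
    ⟨_, _, _, hp₂.1.isPullback _⟩
  have hcl : IsClosedImmersion (c.left : E.left ⟶ Spec R) := hp₂.2 _ _ _ hE
  have hagree : ∀ {T : Over S} (t : T ⟶ TR), (yon S).map t ≫ tR ≫ u = (yon S).map t ≫ tR ≫ v →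
      ∃ l : T ⟶ E, l ≫ c = t := fun {T} t ht => by
    obtain ⟨l, -, hl⟩ := hE.exists_lift ((yon S).map t ≫ tR ≫ u) ((yon S).map t) (by
      ext1
      · simp
      · simp [ht])
    obtain ⟨l, rfl⟩ := (yon S).map_surjective l
    exact ⟨l, (yon S).map_injective (by rw [Functor.map_comp]; exact hl)⟩
  have hEagree : (yon S).map c ≫ tR ≫ u = (yon S).map c ≫ tR ≫ v := by
    have h1 := congrArg (fun m => m ≫ pullback.fst p₂.hom p₂.hom) hE.w
    have h2 := congrArg (fun m => m ≫ pullback.snd p₂.hom p₂.hom) hE.w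
    simp only [Category.assoc, pullback.diagonal_fst, pullback.diagonal_snd, pullback.lift_fst, pullback.lift_snd,
      Category.comp_id] at h1 h2
    exact h1.symm.trans h2
  have : IsAffine TR.left := inferInstanceAs (IsAffine (Spec R))
  obtain ⟨haff, -⟩ := IsClosedImmersion.isAffine_surjective_of_isAffine (c.left : E.left ⟶ Spec R)
  obtain ⟨ψ, hψ⟩ := Spec.map_surjective (E.left.isoSpec.inv ≫ c.left)
  have hker : ∀ {R₁ : CommRingCat.{u}} (χ : R ⟶ R₁),
      (yon S).map (Over.homMk (Spec.map χ) rfl : Over.mk (Spec.map χ ≫ TR.hom) ⟶ TR) ≫ tR ≫ u =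
        (yon S).map (Over.homMk (Spec.map χ) rfl : Over.mk (Spec.map χ ≫ TR.hom) ⟶ TR) ≫ tR ≫ v →
      ∀ x, ψ.hom x = 0 → χ.hom x = 0 := fun {R₁} χ h x hx => by
    obtain ⟨l, hl⟩ := hagree _ h
    obtain ⟨ω, hω⟩ := Spec.map_surjective (l.left ≫ E.left.isoSpec.hom)
    have : ψ ≫ ω = χ := Spec.map_injective (by
      rw [Spec.map_comp, hω, hψ, Category.assoc, Iso.hom_inv_id_assoc]
      exact congrArg (fun m => m.left) hl)
    rw [← this, CommRingCat.comp_apply, hx, map_zero]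
  -- every function vanishing on the locus of agreement is zero
  have hinj : Function.Injective ψ.hom := by
    rw [injective_iff_map_eq_zero]
    intro x hx
    algebraize [ρ.hom, φ.hom, (ρ ≫ φ).hom]
    have : IsScalarTower C R R' := IsScalarTower.of_algebraMap_eq fun _ => rfl
    let J : Ideal R := (Ideal.span (s : Set C)).map (algebraMap C R)
    let φ₀ : C ⟶ CommRingCat.of (R ⧸ J) := ρ ≫ CommRingCat.ofHom (algebraMap R (R ⧸ J))
    obtain ⟨l₀, hl₀⟩ := hlift φ₀ fun g hg => Ideal.Quotient.eq_zero_iff_mem.2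
      (Ideal.mem_map_of_mem _ (Ideal.subset_span hg))
    let T₀ : Over S := Over.mk (Spec.map φ₀ ≫ str)
    let m : T₀ ⟶ TR := Over.homMk (Spec.map (CommRingCat.ofHom (algebraMap R (R ⧸ J)))) (by
      simp [TR, T₀, φ₀])
    have hm : (yon S).map m ≫ tR ≫ o ≫ n = l₀ ≫ i.hom := by
      rw [hl₀, reassoc_of% hw, ← Category.assoc ((yon S).map m), ← Functor.map_comp]
      congr 2
      ext1
      simp [φ₀, m, Spec.map_comp]
    have hlY : ∀ rr : O ⟶ Y.obj, rr ≫ f.hom = o ≫ n → (yon S).map m ≫ tR ≫ rr = (l₀ ≫ (inv fZ).hom) ≫ iY.hom := by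
      intro rr hrr
      obtain ⟨w, hw₁, hw₂⟩ := hFZ.exists_lift ((yon S).map m ≫ tR ≫ rr) l₀ (by
        rw [Category.assoc, Category.assoc, hrr, hm])
      have hinv : fZ.hom ≫ (inv fZ).hom = 𝟙 _ := congrArg InducedCategory.Hom.hom (IsIso.hom_inv_id fZ)
      rw [← hw₁, ← hw₂, Category.assoc, Category.assoc, reassoc_of% hinv]
    obtain ⟨σ, -, hσ⟩ := hD.exists_lift ((yon S).map m ≫ tR ≫ r) ((yon S).map m) (by
      ext1
      · simp
      · simp [hlY r hr, hlY r' hr'])
    obtain ⟨σ, rfl⟩ := (yon S).map_surjective σ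
    have hσd : σ.left ≫ (d.left : D.left ⟶ Spec R) = Spec.map (CommRingCat.ofHom (algebraMap R (R ⧸ J))) :=
      congrArg (fun m => m.left) ((yon S).map_injective (by rw [Functor.map_comp]; exact hσ) : σ ≫ d = m)
    have : Mono (pullback.diagonal f.hom) := inferInstance
    have hdm : Mono d := ⟨fun {T} a b hab => (yon S).map_injective (hD.hom_ext
      ((cancel_mono (pullback.diagonal f.hom)).1 (by
        rw [Category.assoc, Category.assoc, hD.w, ← Functor.map_comp_assoc, ← Functor.map_comp_assoc, hab]))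
      (by rw [← Functor.map_comp, ← Functor.map_comp, hab]))⟩
    have : Mono d.left := inferInstanceAs (Mono ((Over.forget S).map d))
    have hsq₀ : IsPullback σ.left (𝟙 _) (d.left : D.left ⟶ Spec R) (Spec.map (CommRingCat.ofHom (algebraMap R (R ⧸ J)))) :=
      IsPullback.of_vert_isIso_mono ⟨by simp [hσd]⟩
    have hqq := (IsPullback.of_hasPullback (W.left.isoSpec.inv ≫ q.left) σ.left).flip.paste_horiz hsq₀.flip
    rw [Category.assoc, ← hφ] at hqq
    have : Flat (W.left.isoSpec.inv ≫ q.left) := inferInstance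
    have : Surjective (W.left.isoSpec.inv ≫ q.left) := inferInstance
    have : Flat (pullback.snd (W.left.isoSpec.inv ≫ q.left) σ.left) := inferInstance
    have : Surjective (pullback.snd (W.left.isoSpec.inv ≫ q.left) σ.left) := inferInstance
    rw [Category.comp_id] at hqq
    have hff := faithfullyFlat_quotient_of_isPullback J hqq
    refine eq_zero_of_pow_smul_eq_zero (C := C) (R' := R') (s := s) x (fun g hg => ?_) ?_
    · have hU' : ∀ y, Points.ofPt ((yon S).map (Over.homMk (Spec.map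
          (CommRingCat.ofHom (algebraMap R (Localization.Away (ρ.hom g))))) rfl :
            Over.mk (Spec.map (CommRingCat.ofHom (algebraMap R (Localization.Away (ρ.hom g)))) ≫ TR.hom) ⟶ TR) ≫
            tR ≫ o ≫ n) y ∈ Set.range (Points.map j.hom) := by
        intro y
        rw [hU, Set.mem_compl_iff, reassoc_of% hw, ← Category.assoc, ← Functor.map_comp,
          Points.ofPt_eq_map_ofScheme, Points.map_comp]
        erw [Points.map_yon_map_apply, ← Points.ofPt_eq_map_ofScheme, hmem]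
        intro hsub
        have hD := (PrimeSpectrum.localization_away_comap_range (Localization.Away (ρ.hom g)) (ρ.hom g)).le ⟨y, rfl⟩
        exact hD (hsub hg)
      obtain ⟨l, hl⟩ := AlgSpB.exists_lift_yon_of_isOpenImmersion hj _ (by rintro _ ⟨y, rfl⟩; exact hU' y)
      have hx0 := hker _ (by
        simpa only [Category.assoc] using hUU _ (_ ≫ tR) l (by simpa only [Category.assoc] using hl)) x hx
      obtain ⟨⟨_, k, rfl⟩, hk⟩ := (IsLocalization.map_eq_zero_iff (Submonoid.powers (ρ.hom g))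
        (Localization.Away (ρ.hom g)) x).1 hx0
      refine ⟨k, ?_⟩
      rw [Algebra.smul_def, map_pow]
      exact hk
    · refine hker φ ?_ x hx
      have : (Over.homMk (Spec.map φ) rfl : Over.mk (Spec.map φ ≫ TR.hom) ⟶ TR) =
          (Over.homMk W.left.isoSpec.inv (by
            change W.left.isoSpec.inv ≫ W.hom = Spec.map φ ≫ TR.hom
            rw [hφ, Category.assoc, Category.assoc, ← Over.w q, ← Over.w d]) :
              Over.mk (Spec.map φ ≫ TR.hom) ⟶ W) ≫ q ≫ d := by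
        ext1
        exact hφ
      rw [this, Functor.map_comp, Functor.map_comp]
      simp only [Category.assoc]
      rw [← reassoc_of% hδD₂, ← reassoc_of% hδD₂, hO']
  have hψs : Function.Surjective ψ.hom := by
    have : IsClosedImmersion (Spec.map ψ) := by rw [hψ]; infer_instance
    rw [← (show (Scheme.ΓSpecIso R).inv ≫ (Spec.map ψ).appTop ≫ (Scheme.ΓSpecIso _).hom = ψ from by
      rw [Scheme.ΓSpecIso_naturality, Iso.inv_hom_id_assoc]), CommRingCat.hom_comp, CommRingCat.hom_comp,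
      RingHom.coe_comp, RingHom.coe_comp]
    exact ((ConcreteCategory.bijective_of_isIso (Scheme.ΓSpecIso _).hom).2.comp
      (IsClosedImmersion.isAffine_surjective_of_isAffine (Spec.map ψ)).2).comp
      (ConcreteCategory.bijective_of_isIso (Scheme.ΓSpecIso R).inv).2
  have : IsIso ψ := (ConcreteCategory.isIso_iff_bijective ψ).2 ⟨hinj, hψs⟩
  have : IsIso (E.left.isoSpec.inv ≫ c.left) := by rw [← hψ]; infer_instance
  have : IsIso c.left := IsIso.of_isIso_comp_left E.left.isoSpec.inv c.left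
  have : IsIso ((Over.forget S).map c) := ‹IsIso c.left›
  have : IsIso c := isIso_of_reflects_iso c (Over.forget S)
  exact (cancel_epi ((yon S).map c)).1 hEagree

/-- Maps to a separated space which agree where `r = r'` and away from `Z` agree. -/
theorem eq_of_agree {X Y Z FZ U X₂ : Space S} {f : Y ⟶ X} (hqs : IsQuasiSeparatedMor f.hom) {i : Z ⟶ X}
    (hi : RepWith @IsClosedImmersion i.hom) (hifp : LocP @LocallyOfFinitePresentation i.hom)
    {iY : FZ ⟶ Y} {fZ : FZ ⟶ Z} (hFZ : IsPullback iY.hom fZ.hom f.hom i.hom) [IsIso fZ] {j : U ⟶ X}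
    (hj : RepWith @IsOpenImmersion j.hom)
    (hU : Set.range (Points.map j.hom) = (Set.range (Points.map i.hom))ᶜ)
    {p₂ : X₂ ⟶ X} (hp₂ : IsSeparatedMor p₂.hom)
    {O N O' : Sp S} (hO : IsAlgSpace O) (hN : IsAlgSpace N) (o : O ⟶ N) (ho : LocP @Flat o) (n : N ⟶ X.obj)
    (r r' : O ⟶ Y.obj)
    (hr : r ≫ f.hom = o ≫ n) (hr' : r' ≫ f.hom = o ≫ n) (δ : O' ⟶ O) (e : O' ⟶ Y.obj)
    (hδ : IsPullback e δ (pullback.diagonal f.hom) (pullback.lift r r' (hr.trans hr'.symm)))
    (hδflat : LocP @Flat (δ ≫ o)) (u v : O ⟶ X₂.obj) (huv : u ≫ p₂.hom = v ≫ p₂.hom)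
    (hO' : δ ≫ u = δ ≫ v)
    (hUU : ∀ (T : Over S) (t : (yon S).obj T ⟶ O) (l : (yon S).obj T ⟶ U.obj),
      l ≫ j.hom = t ≫ o ≫ n → t ≫ u = t ≫ v) : u = v := by
  obtain ⟨PN, pN, hpN, hpNs⟩ := hN.atlas
  obtain ⟨M, qM, hqM, hqMs⟩ := (AlgSp.isAlgSpace_pullback hN hO (IsAlgSpace.yon_obj PN) o pN).atlas
  have he : RepWith @Etale (qM ≫ pullback.fst o pN) :=
    (RepWith @Etale).comp_mem _ _ hqM (MorphismProperty.of_isPullback (IsPullback.of_hasPullback o pN).flip hpN)
  have hs : RepWith @Surjective (qM ≫ pullback.fst o pN) :=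
    (RepWith @Surjective).comp_mem _ _ hqMs (MorphismProperty.of_isPullback (IsPullback.of_hasPullback o pN).flip hpNs)
  refine AlgSp.InfSpace.hom_ext_cover_sp he hs ?_
  obtain ⟨w, hw⟩ := (yon S).map_surjective (qM ≫ pullback.snd o pN)
  let 𝒰 := PN.left.affineOpenCover
  let Q : 𝒰.I₀ → Scheme.{u} := fun c => pullback w.left (𝒰.f c)
  let κ := Σ c, (Q c).affineOpenCover.I₀
  let g : κ → M.left.Opens := fun _ => ⊤
  have hpc : ∀ k : κ, ∃ ρ : 𝒰.X k.1 ⟶ (Q k.1).affineOpenCover.X k.2,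
      Spec.map ρ = (Q k.1).affineOpenCover.f k.2 ≫ pullback.snd w.left (𝒰.f k.1) := fun k => Spec.map_surjective _
  choose ρ hρ using hpc
  let gR : ∀ k : κ, Over.mk (Spec.map (ρ k) ≫ 𝒰.f k.1 ≫ PN.hom) ⟶ M := fun k =>
    Over.homMk ((Q k.1).affineOpenCover.f k.2 ≫ pullback.fst w.left (𝒰.f k.1)) (by
      change ((Q k.1).affineOpenCover.f k.2 ≫ pullback.fst w.left (𝒰.f k.1)) ≫ M.hom = Spec.map (ρ k) ≫ 𝒰.f k.1 ≫ PN.hom
      rw [hρ, Category.assoc, Category.assoc, ← pullback.condition_assoc, Over.w w])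
  refine AlgSp.InfGlue.hom_ext_cover gR (fun k => ?_) (fun x => ?_) _ _ fun k => ?_
  · exact inferInstanceAs (Etale ((Q k.1).affineOpenCover.f k.2 ≫ pullback.fst w.left (𝒰.f k.1)))
  · obtain ⟨c, y, hy⟩ := 𝒰.openCover.exists_eq (w.left x)
    obtain ⟨q, hq, -⟩ := Scheme.Pullback.exists_preimage_pullback x y hy.symm
    obtain ⟨a, b, hb⟩ := (Q c).affineOpenCover.openCover.exists_eq q
    exact ⟨⟨c, a⟩, b, by rw [← hq, ← hb]; exact Scheme.Hom.comp_apply _ _ _⟩
  · let e₁ : Over.mk (𝒰.f k.1 ≫ PN.hom) ⟶ PN := Over.homMk (𝒰.f k.1) rfl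
    have hgR : RepWith @Etale ((yon S).map (gR k) ≫ qM ≫ pullback.fst o pN) :=
      (RepWith @Etale).comp_mem _ _ ((repWith_yon_map_iff _ _).2
        (inferInstanceAs (Etale ((Q k.1).affineOpenCover.f k.2 ≫ pullback.fst w.left (𝒰.f k.1))))) he
    have key := eq_of_agree_affine hqs hi hifp hFZ hj hU hp₂ o ho n r r' hr hr' δ e hδ hδflat u v huv hO' hUU
      (𝒰.f k.1 ≫ PN.hom) ((yon S).map e₁ ≫ pN)
      ((RepWith @Etale).comp_mem _ _ ((repWith_yon_map_iff _ e₁).2 (inferInstanceAs (Etale (𝒰.f k.1)))) hpN)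
      (ρ k) ((yon S).map (gR k) ≫ qM ≫ pullback.fst o pN) hgR (by
        have h : gR k ≫ w = (Over.homMk (Spec.map (ρ k)) rfl :
            Over.mk (Spec.map (ρ k) ≫ 𝒰.f k.1 ≫ PN.hom) ⟶ Over.mk (𝒰.f k.1 ≫ PN.hom)) ≫ e₁ := by
          ext1
          change ((Q k.1).affineOpenCover.f k.2 ≫ pullback.fst w.left (𝒰.f k.1)) ≫ w.left = Spec.map (ρ k) ≫ 𝒰.f k.1
          rw [hρ, Category.assoc, Category.assoc, pullback.condition]
        rw [Category.assoc, Category.assoc, pullback.condition, ← Category.assoc qM, ← hw,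
          ← Functor.map_comp_assoc, ← Functor.map_comp_assoc]
        exact congrArg (fun m => (yon S).map m ≫ pN) h)
    simpa only [Category.assoc] using key

end Groth.Agent.AlgSpEN
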