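import Groth.Prelude.Def_EtGlue
import Mathlib.AlgebraicGeometry.Morphisms.Etale
import Mathlib.AlgebraicGeometry.Morphisms.ClosedImmersion
import Mathlib.AlgebraicGeometry.Morphisms.Finite
import Mathlib.RingTheory.Ideal.IdempotentFG
import Mathlib.RingTheory.Etale.Basic
import Groth.Agent.AlgSp.Diag
import Groth.Agent.S9778

/-!
# Monomorphisms which are isomorphisms over both parts of a glueing pair
-/

universe u

open CategoryTheory CategoryTheory.Limits AlgebraicGeometry TensorProduct

set_option backward.isDefEq.respectTransparency false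

namespace Groth.Agent.AlgSpEN

/-- A closed subscheme of an affine scheme which is open is cut out by an idempotent. -/
theorem exists_idempotent_of_isOpenImmersion {B : Type u} [CommRing B] (J : Ideal B)
    [IsOpenImmersion (Spec.map (CommRingCat.ofHom (Ideal.Quotient.mk J)))] :
    ∃ ε : B, IsIdempotentElem ε ∧ J = Ideal.span {ε} := by
  have h : (Ideal.Quotient.mk J).Etale :=
    (HasRingHomProperty.Spec_iff (P := @Etale)).1 (inferInstance : Etale (Spec.map (CommRingCat.ofHom (Ideal.Quotient.mk J))))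
  rw [← Ideal.Quotient.algebraMap_eq, RingHom.etale_algebraMap] at h
  have hk : RingHom.ker (algebraMap B (B ⧸ J)) = J := Ideal.mk_ker
  have hfg : J.FG := by
    rw [← hk]
    exact Algebra.FinitePresentation.ker_fG_of_surjective (Algebra.ofId B (B ⧸ J)) Ideal.Quotient.mk_surjective
  have hi : IsIdempotentElem J := by
    rw [← hk]
    exact (Algebra.FormallyEtale.iff_of_surjective (R := B) (S := B ⧸ J) Ideal.Quotient.mk_surjective).1 inferInstance
  exact (Ideal.isIdempotentElem_iff_of_fg J hfg).1 hi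

variable {R R' : Type u} [CommRing R] [CommRing R'] [Algebra R R'] {f : R} {A : Type u} [CommRing A] [Algebra R A]

/-- Two idempotent generators of one ideal are equal. -/
theorem idempotent_unique {B : Type u} [CommRing B] {a b : B} (ha : IsIdempotentElem a) (hb : IsIdempotentElem b)
    (h : Ideal.span {a} = Ideal.span {b}) : a = b := by
  obtain ⟨c, hc⟩ := Ideal.mem_span_singleton.1 (h ▸ Ideal.mem_span_singleton_self a : a ∈ Ideal.span {b})
  obtain ⟨d, hd⟩ := Ideal.mem_span_singleton.1 (h.symm ▸ Ideal.mem_span_singleton_self b : b ∈ Ideal.span {a})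
  have h1 : b * a = a := by rw [hc, ← mul_assoc, hb.eq]
  have h2 : a * b = b := by rw [hd, ← mul_assoc, ha.eq]
  rw [← h1, mul_comm, h2]

theorem mul_one_sub_eq_zero {B : Type u} [CommRing B] {a x : B} (ha : IsIdempotentElem a)
    (hx : x ∈ Ideal.span {a}) : x * (1 - a) = 0 := by
  obtain ⟨c, rfl⟩ := Ideal.mem_span_singleton.1 hx
  rw [show a * c * (1 - a) = c * (a - a * a) by ring, ha.eq, sub_self, mul_zero]

/-- Idempotents glue for a glueable algebra. -/
theorem exists_glued_idempotent (hG : EtGlue.IsGlueable R R' f A) (I : Ideal A)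
    (ε₁ : R' ⊗[R] A) (hε₁ : IsIdempotentElem ε₁)
    (hI₁ : I.map (Algebra.TensorProduct.includeRight : A →ₐ[R] R' ⊗[R] A) = Ideal.span {ε₁})
    (ε₂ : Localization.Away (algebraMap R A f)) (hε₂ : IsIdempotentElem ε₂)
    (hI₂ : I.map (algebraMap A (Localization.Away (algebraMap R A f))) = Ideal.span {ε₂}) :
    ∃ e : A, (∀ x ∈ I, x * (1 - e) = 0) ∧ (1 : R') ⊗ₜ[R] e ∈ Ideal.span {ε₁} ∧
      algebraMap A (Localization.Away (algebraMap R A f)) e ∈ Ideal.span {ε₂} := by
  let inc : A →ₐ[R] R' ⊗[R] A := Algebra.TensorProduct.includeRight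
  let L := Localization.Away (algebraMap R (R' ⊗[R] A) f)
  let A₂ := Localization.Away (algebraMap R A f)
  let φ : A₂ →+* L := IsLocalization.Away.lift (algebraMap R A f)
    (g := (algebraMap (R' ⊗[R] A) L).comp inc.toRingHom) (by
      rw [RingHom.comp_apply, AlgHom.toRingHom_eq_coe, RingHom.coe_coe, inc.commutes]
      exact IsLocalization.Away.algebraMap_isUnit _)
  have hφ : ∀ a, φ (algebraMap A A₂ a) = algebraMap (R' ⊗[R] A) L (inc a) := fun a =>
    IsLocalization.Away.lift_eq _ _ a
  have hloc : ∀ (M : Type u) [CommRing M] [Algebra R M], IsLocalizedModule (Submonoid.powers f)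
      (IsScalarTower.toAlgHom R M (Localization.Away (algebraMap R M f))).toLinearMap := fun M _ _ => by
    rw [isLocalizedModule_iff_isLocalization, Algebra.algebraMapSubmonoid, Submonoid.map_powers]
    infer_instance
  have := hloc A
  have := hloc (R' ⊗[R] A)
  let eA := IsLocalizedModule.iso (Submonoid.powers f) (IsScalarTower.toAlgHom R A A₂).toLinearMap
  let eL := IsLocalizedModule.iso (Submonoid.powers f) (IsScalarTower.toAlgHom R (R' ⊗[R] A) L).toLinearMap
  have hA : ∀ a, eA.symm (algebraMap A A₂ a) = LocalizedModule.mkLinearMap (Submonoid.powers f) A a := fun a =>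
    eA.injective (by rw [LinearEquiv.apply_symm_apply]; exact (IsLocalizedModule.iso_mk_one (Submonoid.powers f) (IsScalarTower.toAlgHom R A A₂).toLinearMap a).symm)
  have key : ∀ y, eL (EtGlue.tensorOfLoc R R' f A (eA.symm y)) = φ y := by
    intro y
    obtain ⟨⟨a, s⟩, hy⟩ := IsLocalizedModule.surj (Submonoid.powers f) (IsScalarTower.toAlgHom R A A₂).toLinearMap y
    obtain ⟨n, hn⟩ := s.2
    have hu : IsUnit (algebraMap R L (s : R)) := by
      rw [← hn, map_pow, IsScalarTower.algebraMap_apply R (R' ⊗[R] A) L]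
      exact (IsLocalization.Away.algebraMap_isUnit _).pow n
    refine hu.mul_left_cancel ?_
    have hsm : ∀ r : R, φ (r • y) = algebraMap R L r * φ y := fun r => by
      rw [Algebra.smul_def, map_mul, IsScalarTower.algebraMap_apply R A A₂, hφ, inc.commutes,
        ← IsScalarTower.algebraMap_apply R (R' ⊗[R] A) L]
    rw [← hsm, ← Algebra.smul_def, ← map_smul, ← map_smul, ← map_smul]
    rw [show (s : R) • y = algebraMap A A₂ a from hy, hA, hφ]
    rw [IsLocalizedModule.map_apply]
    exact IsLocalizedModule.iso_mk_one _ _ _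
  have hinj : ∀ a b : A, inc a = inc b → algebraMap A A₂ a = algebraMap A A₂ b → a = b := fun a b h1 h2 =>
    hG.1 (Prod.ext h1 ((hA a).symm.trans ((congrArg eA.symm h2).trans (hA b))))
  have heq : algebraMap (R' ⊗[R] A) L ε₁ = φ ε₂ := by
    refine idempotent_unique (hε₁.map _) (hε₂.map _) ?_
    rw [← Set.image_singleton, ← Ideal.map_span, ← Set.image_singleton, ← Ideal.map_span]
    rw [← hI₁, ← hI₂]
    change (Ideal.map inc.toRingHom I).map (algebraMap (R' ⊗[R] A) L) = (I.map (algebraMap A A₂)).map φ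
    rw [Ideal.map_map, Ideal.map_map]
    congr 1
    exact RingHom.ext fun a => (hφ a).symm
  obtain ⟨e, he₁, he₂⟩ := hG.2 ε₁ (eA.symm ε₂) (eL.injective (by
    rw [key]
    exact (IsLocalizedModule.iso_mk_one _ _ _).trans heq))
  have he₂' : algebraMap A A₂ e = ε₂ := eA.symm.injective ((hA e).trans he₂)
  refine ⟨e, fun x hx => hinj _ _ ?_ ?_, he₁ ▸ Ideal.mem_span_singleton_self _,
    he₂' ▸ Ideal.mem_span_singleton_self _⟩
  · rw [map_mul, map_sub, map_one, map_zero, show inc e = ε₁ from he₁]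
    exact mul_one_sub_eq_zero hε₁ (hI₁ ▸ Ideal.mem_map_of_mem _ hx)
  · rw [map_mul, map_sub, map_one, map_zero, he₂']
    exact mul_one_sub_eq_zero hε₂ (hI₂ ▸ Ideal.mem_map_of_mem _ hx)

/-- The two parts of a glueing pair cover every algebra. -/
theorem exists_prime_over (hq : EtGlue.QuotPowBijective R R' f) (q : PrimeSpectrum A) :
    (∃ P : PrimeSpectrum (R' ⊗[R] A),
        PrimeSpectrum.comap (Algebra.TensorProduct.includeRight : A →ₐ[R] R' ⊗[R] A).toRingHom P = q) ∨
      ∃ P : PrimeSpectrum (Localization.Away (algebraMap R A f)),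
        PrimeSpectrum.comap (algebraMap A _) P = q := by
  by_cases hf : algebraMap R A f ∈ q.asIdeal
  swap
  · exact Or.inr ((PrimeSpectrum.localization_away_comap_range (Localization.Away (algebraMap R A f))
      (algebraMap R A f)).ge hf)
  left
  let K : Ideal R := Ideal.span {f ^ 1}
  have hK : K ≤ (q.asIdeal).comap (algebraMap R A) :=
    Ideal.span_le.2 (Set.singleton_subset_iff.2 (by simpa using hf))
  let e : R ⧸ K ≃+* R' ⧸ Ideal.map (algebraMap R R') K := RingEquiv.ofBijective _ (hq 1 one_pos)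
  let π : R' →+* A ⧸ q.asIdeal :=
    ((Ideal.quotientMap q.asIdeal (algebraMap R A) hK).comp e.symm.toRingHom).comp (Ideal.Quotient.mk _)
  let π' : R' →ₐ[R] A ⧸ q.asIdeal :=
    { π with
      commutes' := fun r => by
        have : e.symm (Ideal.Quotient.mk _ (algebraMap R R' r)) = Ideal.Quotient.mk K r :=
          e.injective (by rw [RingEquiv.apply_symm_apply]; rfl)
        change Ideal.quotientMap q.asIdeal (algebraMap R A) hK (e.symm (Ideal.Quotient.mk _ (algebraMap R R' r))) = _
        rw [this]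
        rfl }
  let Φ : R' ⊗[R] A →ₐ[R] A ⧸ q.asIdeal :=
    Algebra.TensorProduct.lift π' (Ideal.Quotient.mkₐ R q.asIdeal) fun _ _ => .all _ _
  have : (RingHom.ker Φ.toRingHom).IsPrime := RingHom.ker_isPrime _
  refine ⟨⟨RingHom.ker Φ.toRingHom, this⟩, PrimeSpectrum.ext (Ideal.ext fun a => ?_)⟩
  change Φ ((1 : R') ⊗ₜ[R] a) = 0 ↔ a ∈ q.asIdeal
  rw [Algebra.TensorProduct.lift_tmul, map_one, one_mul]
  exact Ideal.Quotient.eq_zero_iff_mem

theorem isIso_snd_comp {X Y T T' : Scheme.{u}} (h : X ⟶ Y) (a : T ⟶ Y) [IsIso (pullback.snd h a)]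
    {b : T' ⟶ Y} (s : T' ⟶ T) (hb : s ≫ a = b) : IsIso (pullback.snd h b) := by
  subst hb
  have : IsIso (pullback.snd (pullback.snd h a) s) :=
    MorphismProperty.pullback_snd (P := MorphismProperty.isomorphisms Scheme) _ _ ‹_›
  rw [← pullbackLeftPullbackSndIso_inv_snd_snd h a s]
  infer_instance

/-- The base change of a closed subscheme being open, its ideal becomes generated by an idempotent. -/
theorem exists_idempotent_generator {A₁ : Type u} [CommRing A₁] (I : Ideal A₁) {C : Scheme.{u}}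
    {π : C ⟶ Spec (CommRingCat.of A₁)} (e : C ≅ Spec (CommRingCat.of (A₁ ⧸ I)))
    (he : π = e.hom ≫ Spec.map (CommRingCat.ofHom (Ideal.Quotient.mk I))) (B : Type u) [CommRing B]
    [Algebra A₁ B] (h4 : IsOpenImmersion (pullback.snd π (Spec.map (CommRingCat.ofHom (algebraMap A₁ B))))) :
    ∃ ε : B, IsIdempotentElem ε ∧ I.map (algebraMap A₁ B) = Ideal.span {ε} := by
  let t := Spec.map (CommRingCat.ofHom (algebraMap A₁ B))
  have h5 : IsOpenImmersion
      (pullback.fst t (Spec.map (CommRingCat.ofHom (algebraMap A₁ (A₁ ⧸ I))))) := by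
    have h6 : IsOpenImmersion (pullback.snd (e.hom ≫ Spec.map (CommRingCat.ofHom (Ideal.Quotient.mk I))) t) := by
      rw [← he]; exact h4
    rw [← (Iso.inv_comp_eq _).2 (pullbackRightPullbackFstIso_hom_snd
      (Spec.map (CommRingCat.ofHom (Ideal.Quotient.mk I))) t e.hom).symm] at h6
    rw [MorphismProperty.cancel_left_of_respectsIso @IsOpenImmersion,
      MorphismProperty.cancel_left_of_respectsIso @IsOpenImmersion] at h6
    rw [← pullbackSymmetry_hom_comp_snd, MorphismProperty.cancel_left_of_respectsIso @IsOpenImmersion]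
    exact h6
  rw [← MorphismProperty.cancel_left_of_respectsIso @IsOpenImmersion (pullbackSpecIso _ _ _).inv,
    pullbackSpecIso_inv_fst] at h5
  let η := (Algebra.TensorProduct.quotIdealMapEquivTensorQuot B I).toRingEquiv
  have : IsOpenImmersion (Spec.map (CommRingCat.ofHom (Ideal.Quotient.mk (I.map (algebraMap A₁ B))))) := by
    have e1 : CommRingCat.ofHom (Ideal.Quotient.mk (I.map (algebraMap A₁ B))) =
        CommRingCat.ofHom (Algebra.TensorProduct.includeLeftRingHom : B →+* B ⊗[A₁] (A₁ ⧸ I)) ≫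
          η.toCommRingCatIso.inv := by
      ext b
      change _ = η.symm (b ⊗ₜ 1)
      exact (RingEquiv.eq_symm_apply η).2 (Algebra.TensorProduct.quotIdealMapEquivTensorQuot_mk B I b)
    rw [e1, Spec.map_comp, MorphismProperty.cancel_left_of_respectsIso @IsOpenImmersion]
    exact h5
  obtain ⟨ε, hε, hJ⟩ := exists_idempotent_of_isOpenImmersion (I.map (algebraMap A₁ B))
  exact ⟨ε, hε, hJ⟩


theorem exists_away_map {A₁ : Type u} [CommRing A₁] [Algebra R A₁] (ψ : A →ₐ[R] A₁) :
    ∃ s : Localization.Away (algebraMap R A f) →+* Localization.Away (algebraMap R A₁ f),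
      s.comp (algebraMap A _) = (algebraMap A₁ _).comp ψ.toRingHom := by
  have hu : IsUnit (((algebraMap A₁ (Localization.Away (algebraMap R A₁ f))).comp ψ.toRingHom)
      (algebraMap R A f)) := by
    rw [RingHom.comp_apply, AlgHom.toRingHom_eq_coe, RingHom.coe_coe, ψ.commutes]
    exact IsLocalization.Away.algebraMap_isUnit _
  exact ⟨IsLocalization.Away.lift (algebraMap R A f) hu, IsLocalization.Away.lift_comp (algebraMap R A f) hu⟩

/-- A monomorphism which becomes an isomorphism over both parts of a glueing pair has local sections. -/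
theorem exists_etale_section (hq : EtGlue.QuotPowBijective R R' f) {X : Scheme.{u}}
    (h : X ⟶ Spec (CommRingCat.of A)) [Mono h] [LocallyOfFiniteType h]
    (h₁ : IsIso (pullback.snd h (Spec.map (CommRingCat.ofHom
      (Algebra.TensorProduct.includeRight : A →ₐ[R] R' ⊗[R] A).toRingHom))))
    (h₂ : IsIso (pullback.snd h (Spec.map (CommRingCat.ofHom
      (algebraMap A (Localization.Away (algebraMap R A f)))))))
    (hG : ∀ (A₁ : Type u) [CommRing A₁] [Algebra R A₁] (ψ : A →ₐ[R] A₁), ψ.toRingHom.Etale →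
      EtGlue.IsGlueable R R' f A₁) (q : ↥(Spec (CommRingCat.of A))) :
    ∃ (T : Scheme.{u}) (_ : IsAffine T) (g : T ⟶ Spec (CommRingCat.of A)) (σ : T ⟶ X),
      Etale g ∧ σ ≫ h = g ∧ q ∈ Set.range g := by
  obtain ⟨x, hx⟩ : ∃ x, h x = q := by
    rcases exists_prime_over hq q with ⟨P, hP⟩ | ⟨P, hP⟩
    · let a := Spec.map (CommRingCat.ofHom (Algebra.TensorProduct.includeRight : A →ₐ[R] R' ⊗[R] A).toRingHom)
      refine ⟨(inv (pullback.snd h a) ≫ pullback.fst h a) P, ?_⟩
      rw [← Scheme.Hom.comp_apply, Category.assoc, pullback.condition, IsIso.inv_hom_id_assoc]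
      exact hP
    · let a := Spec.map (CommRingCat.ofHom (algebraMap A (Localization.Away (algebraMap R A f))))
      refine ⟨(inv (pullback.snd h a) ≫ pullback.fst h a) P, ?_⟩
      rw [← Scheme.Hom.comp_apply, Category.assoc, pullback.condition, IsIso.inv_hom_id_assoc]
      exact hP
  have : LocallyQuasiFinite h := Groth.Agent.AlgSp.locallyQuasiFinite_of_mono h inferInstance inferInstance
  obtain ⟨U, g, u, hg, hgu, J, -, V, v, -, -, hV, hw⟩ := Groth.Agent.S9778.result (ι := Unit) h q (fun _ => x)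
    (fun _ _ _ => rfl) (fun _ => hx) (fun _ => h.quasiFiniteAt x)
  obtain ⟨w, hw₁, hw₂⟩ := Scheme.Pullback.exists_preimage_pullback x u (hx.trans hgu.symm)
  obtain ⟨j, hwV⟩ := hw w () hw₂ hw₁
  obtain ⟨hv, hfin, hvu, -, -, -⟩ := hV () j
  let c := (V () j).ι ≫ pullback.snd h g
  have : IsFinite c := hfin
  have : IsClosedImmersion c := (IsClosedImmersion.iff_isFinite_and_mono c).2 ⟨hfin, inferInstance⟩
  obtain ⟨O, hO, huO, -⟩ := exists_isAffineOpen_mem_and_subset (x := u) (U := ⊤) trivial
  let ψ := Spec.preimage (hO.fromSpec ≫ g)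
  have hψ : Spec.map ψ = hO.fromSpec ≫ g := Spec.map_preimage _
  let _ : Algebra A Γ(U, O) := ψ.hom.toAlgebra
  let _ : Algebra R Γ(U, O) := Algebra.compHom _ (algebraMap R A)
  have : IsScalarTower R A Γ(U, O) := .of_algebraMap_eq' rfl
  have hψe : (IsScalarTower.toAlgHom R A Γ(U, O)).toRingHom.Etale := by
    have : Etale (Spec.map ψ) := by rw [hψ]; exact MorphismProperty.comp_mem @Etale _ _ inferInstance hg
    exact (HasRingHomProperty.Spec_iff (P := @Etale)).1 this
  obtain ⟨I, e, he⟩ := IsClosedImmersion.Spec_iff.1 (inferInstance : IsClosedImmersion (pullback.snd c hO.fromSpec))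
  have hopen : ∀ (B : Type u) [CommRing B] [Algebra Γ(U, O) B],
      IsIso (pullback.snd h (Spec.map (CommRingCat.ofHom (algebraMap Γ(U, O) B)) ≫ hO.fromSpec ≫ g)) →
      ∃ ε : B, IsIdempotentElem ε ∧ I.map (algebraMap Γ(U, O) B) = Ideal.span {ε} := by
    intro B _ _ hB
    let t := Spec.map (CommRingCat.ofHom (algebraMap Γ(U, O) B))
    let t' := t ≫ hO.fromSpec
    have hiso : IsIso (pullback.snd (pullback.snd h g) t') := by
      rw [← pullbackLeftPullbackSndIso_hom_snd h g t']
      have : IsIso (pullback.snd h (t' ≫ g)) := by rw [Category.assoc]; exact hB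
      infer_instance
    have h3 : IsOpenImmersion (pullback.snd c t') := by
      change IsOpenImmersion (pullback.snd ((V () j).ι ≫ pullback.snd h g) t')
      rw [← (Iso.inv_comp_eq _).2 (pullbackRightPullbackFstIso_hom_snd (pullback.snd h g) t' (V () j).ι).symm]
      infer_instance
    have h4 : IsOpenImmersion (pullback.snd (pullback.snd c hO.fromSpec) t) := by
      rw [← pullbackLeftPullbackSndIso_hom_snd c hO.fromSpec t]
      infer_instance
    exact exists_idempotent_generator I e he B h4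
  let ψ' := IsScalarTower.toAlgHom R A Γ(U, O)
  let _ : Algebra Γ(U, O) (R' ⊗[R] Γ(U, O)) := Algebra.TensorProduct.rightAlgebra
  obtain ⟨ε₁, hε₁, hI₁⟩ := hopen (R' ⊗[R] Γ(U, O)) (isIso_snd_comp h
    (Spec.map (CommRingCat.ofHom (Algebra.TensorProduct.includeRight : A →ₐ[R] R' ⊗[R] A).toRingHom))
    (Spec.map (CommRingCat.ofHom (Algebra.TensorProduct.map (AlgHom.id R R') ψ').toRingHom)) (by
      rw [← hψ, ← Spec.map_comp, ← Spec.map_comp]
      congr 1))
  obtain ⟨s, hs⟩ := exists_away_map (f := f) ψ'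
  obtain ⟨ε₂, hε₂, hI₂⟩ := hopen (Localization.Away (algebraMap R Γ(U, O) f)) (isIso_snd_comp h
    (Spec.map (CommRingCat.ofHom (algebraMap A (Localization.Away (algebraMap R A f)))))
    (Spec.map (CommRingCat.ofHom s)) (by
      rw [← hψ, ← Spec.map_comp, ← Spec.map_comp]
      exact congrArg Spec.map (CommRingCat.hom_ext hs)))
  obtain ⟨η, hη, hη₁, hη₂⟩ := exists_glued_idempotent (hG Γ(U, O) ψ' hψe) I ε₁ hε₁ hI₁ ε₂ hε₂ hI₂
  -- the point lies where the idempotent vanishes
  obtain ⟨z, hz₁, hz₂⟩ := Scheme.Pullback.exists_preimage_pullback (f := c) (g := hO.fromSpec)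
    (⟨v () j, hv⟩ : ((V () j) : Scheme)) (hO.primeIdealOf ⟨u, huO⟩) (by
      rw [hO.fromSpec_primeIdealOf]
      change pullback.snd h g (v () j) = u
      exact hvu)
  let p₁ := hO.primeIdealOf ⟨u, huO⟩
  have hIp : I ≤ p₁.asIdeal := by
    intro a ha
    have : pullback.snd c hO.fromSpec z = p₁ := hz₂
    rw [he, Scheme.Hom.comp_apply] at this
    rw [← this]
    let Q : PrimeSpectrum (Γ(U, O) ⧸ I) := e.hom z
    show Ideal.Quotient.mk I a ∈ Q.asIdeal
    rw [Ideal.Quotient.eq_zero_iff_mem.2 ha]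
    exact zero_mem _
  have hηp : η ∈ p₁.asIdeal := by
    rcases exists_prime_over hq p₁ with ⟨P, hP⟩ | ⟨P, hP⟩
    · rw [← hP]
      refine (hI₁.symm.trans_le (Ideal.map_le_iff_le_comap.2 ?_)) hη₁
      exact (hP ▸ hIp :)
    · rw [← hP]
      refine (hI₂.symm.trans_le (Ideal.map_le_iff_le_comap.2 ?_)) hη₂
      exact (hP ▸ hIp :)
  let A₂ := Localization.Away (1 - η)
  let τ := Spec.map (CommRingCat.ofHom (algebraMap Γ(U, O) A₂))
  let lift : Γ(U, O) ⧸ I →+* A₂ := Ideal.Quotient.lift I (algebraMap Γ(U, O) A₂) fun a ha =>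
    (IsLocalization.Away.algebraMap_isUnit (S := A₂) (1 - η)).mul_left_eq_zero.1 (by
      rw [← map_mul, hη a ha, map_zero])
  refine ⟨Spec (CommRingCat.of A₂), inferInstance, τ ≫ hO.fromSpec ≫ g,
    Spec.map (CommRingCat.ofHom lift) ≫ e.inv ≫ pullback.fst c hO.fromSpec ≫ (V () j).ι ≫ pullback.fst h g,
    ?_, ?_, ?_⟩
  · have : IsOpenImmersion τ := IsOpenImmersion.of_isLocalization (1 - η)
    exact MorphismProperty.comp_mem @Etale _ _ inferInstance (MorphismProperty.comp_mem @Etale _ _ inferInstance hg)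
  · have hl : Spec.map (CommRingCat.ofHom lift) ≫ Spec.map (CommRingCat.ofHom (Ideal.Quotient.mk I)) = τ := by
      rw [← Spec.map_comp]
      rfl
    simp only [Category.assoc]
    rw [pullback.condition, ← Category.assoc (V () j).ι, pullback.condition_assoc, he]
    simp only [Category.assoc, Iso.inv_hom_id_assoc]
    rw [reassoc_of% hl]
  · obtain ⟨P, hP⟩ : p₁ ∈ Set.range τ := by
      change p₁ ∈ Set.range (PrimeSpectrum.comap (algebraMap Γ(U, O) A₂))
      rw [PrimeSpectrum.localization_away_comap_range A₂ (1 - η)]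
      intro h1
      exact p₁.2.ne_top ((Ideal.eq_top_iff_one _).2 (by simpa using add_mem h1 hηp))
    refine ⟨P, ?_⟩
    rw [Scheme.Hom.comp_apply, Scheme.Hom.comp_apply, hP]
    exact (congrArg g (hO.fromSpec_primeIdealOf ⟨u, huO⟩)).trans hgu

end Groth.Agent.AlgSpEN
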