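import Groth.Agent.AlgSpQC.Finite
import Groth.Agent.AlgSpQC.Hom
import Groth.Agent.AlgSpQC.PullSheaf
import Groth.Agent.AlgSpQC.Push

/-!
# The sheaf of homomorphisms between modules on the small etale site
-/

set_option autoImplicit false
universe u

open CategoryTheory CategoryTheory.Limits AlgebraicGeometry Opposite TensorProduct

set_option backward.isDefEq.respectTransparency false
set_option backward.isDefEq.respectTransparency.types false

noncomputable section

namespace Groth.Agent.AlgSpEN.HomC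

open _root_.AlgSp Groth.Agent.AlgSpQC

/-- Homomorphisms out of a finite module over a Noetherian ring commute with flat base change. -/
theorem isBC_hom {A W : Type u} [CommRing A] [IsNoetherianRing A] [CommRing W] (p : A →+* W) (hp : p.Flat)
    {G G' M M' : Type (u + 1)} [AddCommGroup G] [Module A G] [Module.Finite A G] [AddCommGroup G'] [Module W G']
    [AddCommGroup M] [Module A M] [AddCommGroup M'] [Module W M'] (α : G →+ G')
    (hα : ∀ a x, α (a • x) = p a • α x) (hαb : IsBC p α) (β : M →+ M') (hβ : ∀ a x, β (a • x) = p a • β x)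
    (hβb : IsBC p β) {H H' : Type (u + 1)} [AddCommGroup H] [Module A H] [AddCommGroup H'] [Module W H']
    (ev : H → G → M) (ev' : H' → G' → M') (eH : H ≃ₗ[A] (G →ₗ[A] M)) (heH : ∀ h x, eH h x = ev h x)
    (eH' : H' ≃ₗ[W] (G' →ₗ[W] M')) (heH' : ∀ h x, eH' h x = ev' h x) (Θ : H →+ H')
    (hΘ : ∀ a h, Θ (a • h) = p a • Θ h) (hev : ∀ h x, ev' (Θ h) (α x) = β (ev h x)) : IsBC p Θ := by
  classical
  let _ : Algebra A W := p.toAlgebra
  have : Module.Flat A W := RingHom.flat_algebraMap_iff.1 hp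
  obtain ⟨n, s, hs⟩ := Module.Finite.exists_fin (R := A) (M := G)
  let L : (Fin n → A) →ₗ[A] G := Fintype.linearCombination A s
  have hL : Function.Surjective L := LinearMap.range_eq_top.1 ((Fintype.range_linearCombination A s).trans hs)
  obtain ⟨m, r, hr⟩ := Submodule.fg_iff_exists_fin_generating_family.1 (IsNoetherian.noetherian (LinearMap.ker L))
  let κ := ULift.{u} (Fin n)
  let μ := ULift.{u} (Fin m)
  let η : H →ₗ[A] (κ → M) := LinearMap.pi fun i => (LinearMap.applyₗ (s i.down)) ∘ₗ eH.toLinearMap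
  let δ : (κ → M) →ₗ[A] (μ → M) :=
    LinearMap.pi fun j => ∑ i : Fin n, r j.down i • LinearMap.proj (ULift.up i)
  have hηi : Function.Injective η := (injective_iff_map_eq_zero η).2 fun h hh => by
    apply eH.injective
    rw [map_zero]
    refine LinearMap.ext_on_range hs fun i => ?_
    simpa [η] using congrFun hh ⟨i⟩
  have hex : Function.Exact η δ := fun x => by
    constructor
    · intro hx
      let Lx : (Fin n → A) →ₗ[A] M := Fintype.linearCombination A fun i => x ⟨i⟩
      have hker : LinearMap.ker L ≤ LinearMap.ker Lx := by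
        rw [← hr, Submodule.span_le]
        rintro _ ⟨j, rfl⟩
        simpa [δ, Lx, Fintype.linearCombination_apply, LinearMap.proj] using congrFun hx ⟨j⟩
      let φ : G →ₗ[A] M := ((LinearMap.ker L).liftQ Lx hker) ∘ₗ (L.quotKerEquivOfSurjective hL).symm.toLinearMap
      refine ⟨eH.symm φ, funext fun i => ?_⟩
      obtain ⟨i⟩ := i
      have e : L (Pi.single i 1) = s i := by simp [L, Fintype.linearCombination_apply_single]
      have : φ (s i) = x ⟨i⟩ := by
        rw [← e]
        simp [φ, Lx, Fintype.linearCombination_apply_single]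
      simpa [η] using this
    · rintro ⟨h, rfl⟩
      funext j
      have hmem : L (r j.down) = 0 := LinearMap.mem_ker.1 (hr.le (Submodule.subset_span ⟨j.down, rfl⟩))
      have := congrArg (eH h) hmem
      simpa [δ, η, L, Fintype.linearCombination_apply, LinearMap.proj] using this
  have hβb' := (isBC_iff (A := A) β hβ).1 hβb
  let Φ₁ : W ⊗[A] (κ → M) →+ (κ → M') := bcPi fun _ => (bc β hβ).toAddMonoidHom
  let Φ₂ : W ⊗[A] (μ → M) →+ (μ → M') := bcPi fun _ => (bc β hβ).toAddMonoidHom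
  let ρ : H' →+ (κ → M') :=
    { toFun := fun h i => eH' h (α (s i.down))
      map_zero' := by ext i; simp
      map_add' := fun a b => by ext i; simp }
  let σ : (κ → M') → (μ → M') := fun x j => ∑ i : Fin n, p (r j.down i) • x ⟨i⟩
  have hgen : Submodule.span W (Set.range fun i => α (s i)) = ⊤ := by
    rw [eq_top_iff]
    intro y _
    obtain ⟨c, rfl⟩ := hαb.1 y
    rw [Finsupp.linearCombination_apply]
    refine Submodule.sum_mem _ fun x _ => Submodule.smul_mem _ _ ?_
    obtain ⟨d, rfl⟩ := hL x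
    simp only [L, Fintype.linearCombination_apply, map_sum, hα]
    exact Submodule.sum_mem _ fun i _ => Submodule.smul_mem _ _ (Submodule.subset_span ⟨i, rfl⟩)
  refine (isBC_iff (A := A) Θ hΘ).2 (bijective_of_exact η δ hηi hex ρ σ ?_ ?_ (bc Θ hΘ).toAddMonoidHom Φ₁ Φ₂
    (bcPi_bijective _ fun _ => hβb') (bcPi_bijective _ fun _ => hβb').1 ?_ ?_)
  · refine (injective_iff_map_eq_zero ρ).2 fun h hh => ?_
    apply eH'.injective
    rw [map_zero]
    exact LinearMap.ext_on_range hgen fun i => congrFun hh ⟨i⟩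
  · intro h
    funext j
    have hmem : L (r j.down) = 0 := LinearMap.mem_ker.1 (hr.le (Submodule.subset_span ⟨j.down, rfl⟩))
    have := congrArg (fun y => eH' h (α y)) hmem
    simpa [L, Fintype.linearCombination_apply, hα, σ, ρ] using this
  · intro x
    induction x using TensorProduct.induction_on with
    | zero => simp
    | add a b ha hb => simp only [map_add, ha, hb]
    | tmul w h =>
      funext i
      simp only [Φ₁, ρ, bcPi, η]
      simp [heH, ← hev, ← heH', map_smul]
  · intro y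
    induction y using TensorProduct.induction_on with
    | zero => funext j; simp [σ]
    | add a b ha hb =>
      rw [map_add, map_add, ha, hb, map_add]
      funext j
      simp [σ, smul_add, Finset.sum_add_distrib]
    | tmul w x =>
      funext j
      simp [Φ₁, Φ₂, bcPi, δ, σ, map_sum, hβ, smul_smul, mul_comm w, Finset.smul_sum, LinearMap.proj]

variable {S : Scheme.{u}} {X : Space S} (G M : ModEt X.obj) {E E' : EtOver X.obj}

/-- Components of a homomorphism on the affine objects over an object. -/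
abbrev Comp (E : EtOver X.obj) : Type (u + 1) :=
  ∀ (j : Σ V : {V : EtOver X.obj // IsAffine V.obj.left.left}, V.1 ⟶ E), sectModEt G j.1.1 →+ sectModEt M j.1.1

/-- Compatible linear maps on the affine objects over an object. -/
def LinFam (E : EtOver X.obj) : AddSubgroup (Comp G M E) where
  carrier := {h | (∀ V (v : V ⟶ E) hV (a : gr V) (x : sectModEt G V),
      h ⟨⟨V, hV⟩, v⟩ (a • x) = a • h ⟨⟨V, hV⟩, v⟩ x) ∧
    ∀ V W (v : V ⟶ E) (g : W ⟶ V) hV hW (x : sectModEt G V),
      rs M g (h ⟨⟨V, hV⟩, v⟩ x) = h ⟨⟨W, hW⟩, g ≫ v⟩ (rs G g x)}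
  add_mem' := fun {h h'} hh hh' => ⟨fun V v hV a x => by
      simp only [Pi.add_apply, AddMonoidHom.add_apply, hh.1, hh'.1, smul_add],
    fun V W v g hV hW x => by
      simp only [Pi.add_apply, AddMonoidHom.add_apply, map_add, hh.2 _ _ _ _ hV hW, hh'.2 _ _ _ _ hV hW]⟩
  zero_mem' := ⟨fun V v hV a x => by simp, fun V W v g hV hW x => by simp⟩
  neg_mem' := fun {h} hh => ⟨fun V v hV a x => by simp only [Pi.neg_apply, AddMonoidHom.neg_apply, hh.1, smul_neg],
    fun V W v g hV hW x => by simp only [Pi.neg_apply, AddMonoidHom.neg_apply, map_neg, hh.2 _ _ _ _ hV hW]⟩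

variable {G M}

/-- The component of a family. -/
def cmp (h : LinFam G M E) {V : EtOver X.obj} (v : V ⟶ E) (hV : IsAffine V.obj.left.left) (x : sectModEt G V) :
    sectModEt M V := h.1 ⟨⟨V, hV⟩, v⟩ x

theorem cmp_map_add (h : LinFam G M E) {V : EtOver X.obj} (v : V ⟶ E) (hV : IsAffine V.obj.left.left)
    (x x' : sectModEt G V) : cmp h v hV (x + x') = cmp h v hV x + cmp h v hV x' := (h.1 ⟨⟨V, hV⟩, v⟩).map_add x x'

theorem cmp_map_zero (h : LinFam G M E) {V : EtOver X.obj} (v : V ⟶ E) (hV : IsAffine V.obj.left.left) :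
    cmp h v hV 0 = 0 := (h.1 ⟨⟨V, hV⟩, v⟩).map_zero

theorem fam_ext {h h' : LinFam G M E}
    (e : ∀ (V : EtOver X.obj) (v : V ⟶ E) (hV : IsAffine V.obj.left.left) x, cmp h v hV x = cmp h' v hV x) :
    h = h' :=
  Subtype.ext (funext fun j => AddMonoidHom.ext (e j.1.1 j.2 j.1.2))

theorem cmp_smul' (h : LinFam G M E) {V : EtOver X.obj} (v : V ⟶ E) (hV : IsAffine V.obj.left.left) (a : gr V)
    (x : sectModEt G V) : cmp h v hV (a • x) = a • cmp h v hV x := h.2.1 V v hV a x

theorem cmp_rs (h : LinFam G M E) {V W : EtOver X.obj} (v : V ⟶ E) (g : W ⟶ V) (hV : IsAffine V.obj.left.left)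
    (hW : IsAffine W.obj.left.left) (x : sectModEt G V) :
    rs M g (cmp h v hV x) = cmp h (g ≫ v) hW (rs G g x) := h.2.2 V W v g hV hW x

instance : SMul (gr E) (LinFam G M E) where
  smul c h := ⟨fun j => (DistribSMul.toAddMonoidHom _ (gm j.2 c)).comp (h.1 ⟨j.1, j.2⟩),
    fun V v hV a x => by
      change gm v c • cmp h v hV (a • x) = a • gm v c • cmp h v hV x
      rw [cmp_smul', smul_comm],
    fun V W v g hV hW x => by
      change rs M g (gm v c • cmp h v hV x) = gm (g ≫ v) c • cmp h (g ≫ v) hW (rs G g x)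
      rw [rs_smul, cmp_rs h v g hV hW, gm_comp]⟩

theorem cmp_smul (c : gr E) (h : LinFam G M E) {V : EtOver X.obj} (v : V ⟶ E) (hV : IsAffine V.obj.left.left)
    (x : sectModEt G V) : cmp (c • h) v hV x = gm v c • cmp h v hV x := rfl

theorem cmp_add (h h' : LinFam G M E) {V : EtOver X.obj} (v : V ⟶ E) (hV : IsAffine V.obj.left.left)
    (x : sectModEt G V) : cmp (h + h') v hV x = cmp h v hV x + cmp h' v hV x := rfl

theorem cmp_zero {V : EtOver X.obj} (v : V ⟶ E) (hV : IsAffine V.obj.left.left)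
    (x : sectModEt G V) : cmp (0 : LinFam G M E) v hV x = 0 := rfl

theorem one_smul' (h : LinFam G M E) : (1 : gr E) • h = h := fam_ext fun V v hV x =>
  (cmp_smul 1 h v hV x).trans ((congrArg (· • cmp h v hV x) (map_one (gm v))).trans (one_smul _ _))

theorem mul_smul' (a b : gr E) (h : LinFam G M E) : (a * b) • h = a • b • h := fam_ext fun V v hV x =>
  ((cmp_smul (a * b) h v hV x).trans ((congrArg (· • cmp h v hV x) (map_mul (gm v) a b)).trans
    (mul_smul _ _ _))).trans
      ((cmp_smul a (b • h) v hV x).trans (congrArg (gm v a • ·) (cmp_smul b h v hV x))).symm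

theorem smul_zero' (a : gr E) : a • (0 : LinFam G M E) = 0 := fam_ext fun V v hV x =>
  (cmp_smul a 0 v hV x).trans ((congrArg (gm v a • ·) (cmp_zero v hV x)).trans (smul_zero _))

theorem smul_add' (a : gr E) (h h' : LinFam G M E) : a • (h + h') = a • h + a • h' := fam_ext fun V v hV x =>
  ((cmp_smul a (h + h') v hV x).trans ((congrArg (gm v a • ·) (cmp_add h h' v hV x)).trans (smul_add _ _ _))).trans
    ((cmp_add (a • h) (a • h') v hV x).trans
      (congrArg₂ (· + ·) (cmp_smul a h v hV x) (cmp_smul a h' v hV x))).symm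

theorem add_smul' (a b : gr E) (h : LinFam G M E) : (a + b) • h = a • h + b • h := fam_ext fun V v hV x =>
  ((cmp_smul (a + b) h v hV x).trans ((congrArg (· • cmp h v hV x) (map_add (gm v) a b)).trans
    (add_smul _ _ _))).trans
      ((cmp_add (a • h) (b • h) v hV x).trans
        (congrArg₂ (· + ·) (cmp_smul a h v hV x) (cmp_smul b h v hV x))).symm

theorem zero_smul' (h : LinFam G M E) : (0 : gr E) • h = 0 := fam_ext fun V v hV x =>
  ((cmp_smul 0 h v hV x).trans ((congrArg (· • cmp h v hV x) (map_zero (gm v))).trans (zero_smul _ _))).trans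
    (cmp_zero v hV x).symm

instance : Module (gr E) (LinFam G M E) where
  one_smul := one_smul'
  mul_smul := mul_smul'
  smul_zero := smul_zero'
  smul_add := smul_add'
  add_smul := add_smul'
  zero_smul := zero_smul'

/-- Restriction of families. -/
def linRes (g : E' ⟶ E) : LinFam G M E →+ LinFam G M E' where
  toFun h := ⟨fun j => h.1 ⟨j.1, j.2 ≫ g⟩, fun V v hV a x => cmp_smul' h _ hV a x,
    fun V W v w hV hW x => by
      change rs M w (cmp h (v ≫ g) hV x) = cmp h ((w ≫ v) ≫ g) hW (rs G w x)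
      rw [cmp_rs h _ w hV hW, Category.assoc]⟩
  map_zero' := rfl
  map_add' _ _ := rfl

theorem cmp_linRes (g : E' ⟶ E) (h : LinFam G M E) {V : EtOver X.obj} (v : V ⟶ E')
    (hV : IsAffine V.obj.left.left) (x : sectModEt G V) : cmp (linRes g h) v hV x = cmp h (v ≫ g) hV x := rfl

theorem linRes_id (h : LinFam G M E) : linRes (𝟙 E) h = h :=
  fam_ext fun V v hV x =>
    (cmp_linRes (𝟙 E) h v hV x).trans (congrArg (fun q => cmp h q hV x) (Category.comp_id v))

theorem linRes_comp {E'' : EtOver X.obj} (g : E' ⟶ E) (g' : E'' ⟶ E') (h : LinFam G M E) :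
    linRes (g' ≫ g) h = linRes g' (linRes g h) :=
  fam_ext fun V v hV x =>
    ((cmp_linRes (g' ≫ g) h v hV x).trans (congrArg (fun q => cmp h q hV x) (Category.assoc v g' g).symm)).trans
      ((cmp_linRes g' (linRes g h) v hV x).trans (cmp_linRes g h (v ≫ g') hV x)).symm

theorem linRes_smul (g : E' ⟶ E) (c : gr E) (h : LinFam G M E) : linRes g (c • h) = gm g c • linRes g h :=
  fam_ext fun V v hV x =>
    ((cmp_linRes g (c • h) v hV x).trans ((cmp_smul c h (v ≫ g) hV x).trans
      (congrArg (· • cmp h (v ≫ g) hV x) (gm_comp g v c)))).trans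
      ((cmp_smul (gm g c) (linRes g h) v hV x).trans (congrArg (gm v (gm g c) • ·) (cmp_linRes g h v hV x))).symm

instance instModuleLinLift (W : (EtOver X.obj)ᵒᵖ) : Module ((OEtRing X.obj).obj.obj W) (LinFam G M W.unop) :=
  Module.compHom _ (dnΓ W.unop)

variable (G M)

/-- The presheaf of homomorphisms. -/
def homPre : (EtOver X.obj)ᵒᵖ ⥤ AddCommGrpCat.{u + 1} where
  obj W := AddCommGrpCat.of (LinFam G M W.unop)
  map g := AddCommGrpCat.ofHom (linRes g.unop)
  map_id _ := AddCommGrpCat.hom_ext (AddMonoidHom.ext fun x => linRes_id x)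
  map_comp g g' := AddCommGrpCat.hom_ext (AddMonoidHom.ext fun x => linRes_comp g.unop g'.unop x)

instance instModuleHomPre (W : (EtOver X.obj)ᵒᵖ) : Module ((OEtRing X.obj).obj.obj W) ((homPre G M).obj W) :=
  instModuleLinLift W

/-- The presheaf of modules of homomorphisms. -/
def homPreMod : PresheafOfModules.{u + 1} (OEtRing X.obj).obj :=
  PresheafOfModules.ofPresheaf (homPre G M) fun W W' g r m => by
    obtain ⟨a⟩ := r
    exact linRes_smul g.unop (show gr W.unop from a) m

theorem isSheaf_homPreMod : Presheaf.IsSheaf (etTop X.obj) (homPreMod G M).presheaf := by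
  rw [Presheaf.isSheaf_iff_isSheaf_forget _ _ (CategoryTheory.forget AddCommGrpCat.{u + 1}),
    isSheaf_iff_isSheaf_of_type]
  intro W T hT y hy
  have hP : Presieve.IsSheaf (etTop X.obj) (M.val.presheaf ⋙ CategoryTheory.forget AddCommGrpCat) :=
    (isSheaf_iff_isSheaf_of_type _ _).1
      (Presheaf.isSheaf_comp_of_isSheaf (etTop X.obj) M.val.presheaf (CategoryTheory.forget AddCommGrpCat) M.isSheaf)
  have hTv : ∀ {V : EtOver X.obj} (v : V ⟶ W), ∃ T' ∈ etTop X.obj V, ∀ (Z : EtOver X.obj) (a : Z ⟶ V),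
      T' a → T (a ≫ v) ∧ IsAffine Z.obj.left.left ∨ ∃ (Z' : EtOver X.obj) (b : Z ⟶ Z') (a' : Z' ⟶ V),
        IsAffine Z'.obj.left.left ∧ T (a' ≫ v) ∧ b ≫ a' = a := fun {V} v => by
    refine ⟨{ arrows := fun Z a => ∃ (Z' : EtOver X.obj) (b : Z ⟶ Z') (a' : Z' ⟶ V),
        IsAffine Z'.obj.left.left ∧ T (a' ≫ v) ∧ b ≫ a' = a
              downward_closed := ?_ }, ?_, fun Z a h => Or.inr h⟩
    · rintro Z Z₁ a ⟨Z', b, a', h1, h2, rfl⟩ c
      exact ⟨Z', c ≫ b, a', h1, h2, Category.assoc _ _ _⟩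
    · refine (AlgSpD.mem_etTop_iff _).2 fun x => ?_
      obtain ⟨E₁, g, hg, z, rfl⟩ := (AlgSpD.mem_etTop_iff _).1 ((etTop X.obj).pullback_stable v hT) x
      obtain ⟨E₂, g', hE₂, -, w, rfl⟩ := exists_affine_subObj (E := E₁) isOpen_univ (Set.mem_univ z)
      refine ⟨E₂, g' ≫ g, ⟨E₂, 𝟙 _, g' ≫ g, hE₂, ?_, Category.id_comp _⟩, w, rfl⟩
      rw [Category.assoc]
      exact T.downward_closed hg g'
  choose T' hT' hT'' using @hTv
  have hT3 : ∀ {V : EtOver X.obj} (v : V ⟶ W) (Z : EtOver X.obj) (a : Z ⟶ V), T' v a →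
      ∃ (Z' : EtOver X.obj) (b : Z ⟶ Z') (a' : Z' ⟶ V), IsAffine Z'.obj.left.left ∧ T (a' ≫ v) ∧ b ≫ a' = a := by
    intro V v Z a h
    obtain ⟨h1, h2⟩ | h := hT'' v Z a h
    · exact ⟨Z, 𝟙 _, a, h2, h1, Category.id_comp _⟩
    · exact h
  let val : ∀ {V : EtOver X.obj} (a' : V ⟶ W) (_ : T a'), LinFam G M V := fun a' h => y a' h
  have hval : ∀ {V V' : EtOver X.obj} (a : V ⟶ W) (a' : V' ⟶ W) (ha : T a) (ha' : T a') (Z : EtOver X.obj)
      (b : Z ⟶ V) (b' : Z ⟶ V'), b ≫ a = b' ≫ a' → linRes b (val a ha) = linRes b' (val a' ha') :=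
    fun a a' ha ha' Z b b' e => hy b b' ha ha' e
  choose Z' b a' hZ' hTa hba using @hT3
  -- the value of the glued family
  let x' : ∀ (V : EtOver X.obj) (v : V ⟶ W) (_ : IsAffine V.obj.left.left) (x : sectModEt G V),
      Presieve.FamilyOfElements (M.val.presheaf ⋙ CategoryTheory.forget AddCommGrpCat) (T' v).arrows :=
    fun V v _ x Z a h => rs M (b v Z a h) (cmp (val _ (hTa v Z a h)) (𝟙 _) (hZ' v Z a h) (rs G (a' v Z a h) x))
  have key : ∀ {V Q Q' Z : EtOver X.obj} (v : V ⟶ W) (q : Q ⟶ V) (q' : Q' ⟶ V) (hq : T (q ≫ v)) (hq' : T (q' ≫ v))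
      (hQ : IsAffine Q.obj.left.left) (hQ' : IsAffine Q'.obj.left.left) (r : Z ⟶ Q) (r' : Z ⟶ Q') (_ : r ≫ q = r' ≫ q')
      (x : sectModEt G V), rs M r (cmp (val _ hq) (𝟙 _) hQ (rs G q x)) =
        rs M r' (cmp (val _ hq') (𝟙 _) hQ' (rs G q' x)) := by
    intro V Q Q' Z v q q' hq hq' hQ hQ' r r' e x
    refine eq_of_sieve (T := Sieve.generate (fun Z' (c : Z' ⟶ Z) => IsAffine Z'.obj.left.left)) ?_ ?_
    · refine (AlgSpD.mem_etTop_iff _).2 fun z => ?_
      obtain ⟨E₂, g', hE₂, -, w, rfl⟩ := exists_affine_subObj (E := Z) isOpen_univ (Set.mem_univ z)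
      exact ⟨E₂, g', Sieve.le_generate _ _ _ hE₂, w, rfl⟩
    · rintro Z₁ c ⟨Z₂, c₁, c₂, hc, rfl⟩
      simp only [rs_comp c₂ c₁]
      congr 1
      rw [← rs_comp, ← rs_comp, cmp_rs _ _ _ hQ hc, cmp_rs _ _ _ hQ' hc, ← rs_comp, ← rs_comp]
      have e' : (c₂ ≫ r) ≫ q = (c₂ ≫ r') ≫ q' := by rw [Category.assoc, Category.assoc, e]
      have h := hval _ _ hq hq' Z₂ (c₂ ≫ r) (c₂ ≫ r') (by rw [← Category.assoc, e', Category.assoc])
      rw [e']
      have := congrArg (fun l => cmp l (𝟙 _) hc (rs G ((c₂ ≫ r') ≫ q') x)) h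
      simpa [cmp_linRes] using this
  have hx' : ∀ V v hV x, (x' V v hV x).Compatible := fun V v hV x Y₁ Y₂ Z g₁ g₂ f₁ f₂ h₁ h₂ e => by
    change rs M g₁ (rs M _ _) = rs M g₂ (rs M _ _)
    rw [← rs_comp, ← rs_comp]
    exact key v _ _ _ _ _ _ _ _ (by rw [Category.assoc, Category.assoc, hba, hba, e]) x
  let amal : ∀ (V : EtOver X.obj) (v : V ⟶ W) (_ : IsAffine V.obj.left.left) (x : sectModEt G V), sectModEt M V :=
    fun V v hV x => (hP _ (hT' v)).amalgamate (x' V v hV x) (hx' V v hV x)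
  have hamal : ∀ {V : EtOver X.obj} (v : V ⟶ W) hV x {Q Z : EtOver X.obj} (q : Q ⟶ V) (hq : T (q ≫ v))
      (hQ : IsAffine Q.obj.left.left) (r : Z ⟶ Q), rs M (r ≫ q) (amal V v hV x) =
        rs M r (cmp (val _ hq) (𝟙 _) hQ (rs G q x)) := by
    intro V v hV x Q Z q hq hQ r
    refine eq_of_sieve ((etTop X.obj).pullback_stable (r ≫ q) (hT' v)) fun Z₁ c hc => ?_
    rw [← rs_comp]
    refine ((hP _ (hT' v)).valid_glue (hx' V v hV x) (c ≫ r ≫ q) hc).trans ?_
    change rs M _ _ = _
    rw [← rs_comp]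
    exact key v _ _ _ _ _ _ _ _ (by rw [hba, Category.assoc]) x
  have hadd : ∀ V v hV x x', amal V v hV (x + x') = amal V v hV x + amal V v hV x' := fun V v hV x x' => by
    refine eq_of_sieve (hT' v) fun Z a h => ?_
    rw [map_add, ← hba v Z a h, hamal v hV _ _ (hTa v Z a h) (hZ' v Z a h),
      hamal v hV _ _ (hTa v Z a h) (hZ' v Z a h), hamal v hV _ _ (hTa v Z a h) (hZ' v Z a h)]
    simp only [map_add, cmp_map_add]
  let h0 : LinFam G M W := ⟨fun j => AddMonoidHom.mk' (amal j.1.1 j.2 j.1.2) (hadd j.1.1 j.2 j.1.2), fun V v hV c x => by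
      change amal V v hV (c • x) = c • amal V v hV x
      refine eq_of_sieve (hT' v) fun Z a h => ?_
      rw [rs_smul, ← hba v Z a h, hamal v hV _ _ (hTa v Z a h) (hZ' v Z a h),
        hamal v hV _ _ (hTa v Z a h) (hZ' v Z a h), rs_smul, cmp_smul', rs_smul, gm_comp],
    fun V V' v g hV hV' x => by
      change rs M g (amal V v hV x) = amal V' (g ≫ v) hV' (rs G g x)
      refine eq_of_sieve (hT' (g ≫ v)) fun Z a h => ?_
      rw [← hba (g ≫ v) Z a h, hamal (g ≫ v) hV' _ _ (hTa (g ≫ v) Z a h) (hZ' (g ≫ v) Z a h), ← rs_comp,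
        Category.assoc]
      have hq : T ((a' (g ≫ v) Z a h ≫ g) ≫ v) := by rw [Category.assoc]; exact hTa (g ≫ v) Z a h
      refine (hamal v hV x _ hq (hZ' (g ≫ v) Z a h) (b (g ≫ v) Z a h)).trans ?_
      rw [← rs_comp]
      have e : val _ hq = val _ (hTa (g ≫ v) Z a h) := by congr 1
      rw [e]⟩
  refine ⟨h0, fun V v hv => fam_ext fun Q q hQ x => ?_, fun t ht => fam_ext fun V v hV x => ?_⟩
  · change amal Q (q ≫ v) hQ x = cmp (val v hv) q hQ x
    have hq : T (𝟙 Q ≫ q ≫ v) := by rw [Category.id_comp]; exact T.downward_closed hv q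
    have e1 := hamal (q ≫ v) hQ x (𝟙 Q) hq hQ (𝟙 Q)
    rw [Category.id_comp, rs_id, rs_id, rs_id] at e1
    rw [e1]
    have e2 := congrArg (fun l => cmp l (𝟙 Q) hQ x) (hval _ v hq hv Q (𝟙 Q) q (by simp))
    simpa [cmp_linRes] using e2
  · change cmp t v hV x = amal V v hV x
    refine eq_of_sieve (hT' v) fun Z a h => ?_
    rw [← hba v Z a h, hamal v hV x _ (hTa v Z a h) (hZ' v Z a h), rs_comp, cmp_rs t v _ hV (hZ' v Z a h)]
    congr 1
    have e3 := congrArg (fun l => cmp l (𝟙 _) (hZ' v Z a h) (rs G (a' v Z a h) x))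
      (ht (a' v Z a h ≫ v) (hTa v Z a h))
    refine Eq.trans ?_ e3
    change _ = cmp t (𝟙 _ ≫ a' v Z a h ≫ v) _ _
    rw [Category.id_comp]

/-- The sheaf of homomorphisms. -/
def homMod : ModEt X.obj := ⟨homPreMod G M, isSheaf_homPreMod G M⟩

theorem exists_affine_eval [G.IsQuasicoherent] [IsAffine E.obj.left.left] :
    ∃ e : sectModEt (homMod G M) E ≃ₗ[gr E] (sectModEt G E →ₗ[gr E] sectModEt M E),
      ∀ h x, e h x = cmp (h : LinFam G M E) (𝟙 E) ‹_› x := by
  let ev : sectModEt (homMod G M) E →ₗ[gr E] (sectModEt G E →ₗ[gr E] sectModEt M E) :=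
    { toFun := fun h =>
        { toFun := cmp (h : LinFam G M E) (𝟙 E) ‹_›
          map_add' := fun x y => cmp_map_add _ _ _ x y
          map_smul' := fun c x => cmp_smul' (h : LinFam G M E) (𝟙 E) ‹_› c x }
      map_add' := fun h h' => LinearMap.ext fun x => rfl
      map_smul' := fun c h => LinearMap.ext fun x => by
        change gm (𝟙 E) c • cmp (h : LinFam G M E) (𝟙 E) ‹_› x = c • cmp (h : LinFam G M E) (𝟙 E) ‹_› x
        rw [gm_id] }
  refine ⟨LinearEquiv.ofBijective ev ⟨(injective_iff_map_eq_zero _).2 fun h hh => ?_, fun φ => ?_⟩, fun h x => rfl⟩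
  · refine fam_ext (h' := (0 : LinFam G M E)) fun V v hV x => ?_
    rw [cmp_zero]
    have := hV
    have hx := rs_mem_span_range v x
    induction hx using Submodule.span_induction with
    | mem y hy =>
      obtain ⟨z, rfl⟩ := hy
      have e := cmp_rs (h : LinFam G M E) (𝟙 E) v ‹_› hV z
      rw [Category.comp_id] at e
      rw [← e, show cmp (h : LinFam G M E) (𝟙 E) ‹_› z = 0 from LinearMap.congr_fun hh z, map_zero]
    | zero => exact cmp_map_zero _ _ _
    | add y y' _ _ hy hy' => rw [cmp_map_add, hy, hy', add_zero]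
    | smul c y _ hy => rw [cmp_smul', hy, smul_zero]
  · have hex : ∀ (V : EtOver X.obj) (v : V ⟶ E) (_ : IsAffine V.obj.left.left),
        ∃ ψ : sectModEt G V →ₗ[gr V] sectModEt M V, ∀ z, ψ (rs G v z) = rs M v (φ z) := by
      intro V v hV
      let _ : Algebra (gr E) (gr V) := (gm v).toAlgebra
      have hG := (isBC_iff (A := gr E) (rs G v) (rs_smul v)).1 (bc_of_isQuasicoherent v)
      let eG := LinearEquiv.ofBijective (bc (rs G v) (rs_smul v)) hG
      let χ : sectModEt G E →+ sectModEt M V := (rs M v).comp φ.toAddMonoidHom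
      have hχ : ∀ c z, χ (c • z) = algebraMap (gr E) (gr V) c • χ z := fun c z => by
        change rs M v (φ (c • z)) = _
        rw [map_smul, rs_smul]
        rfl
      refine ⟨bc χ hχ ∘ₗ eG.symm.toLinearMap, fun z => ?_⟩
      have : eG.symm (rs G v z) = (1 : gr V) ⊗ₜ z := eG.injective (by simp [eG])
      simp [this, χ]
    choose ψ hψ using hex
    refine ⟨(⟨fun j => (ψ j.1.1 j.2 j.1.2).toAddMonoidHom, fun V v hV c x => (ψ V v hV).map_smul c x,
      fun V W v g hV hW x => ?_⟩ : LinFam G M E), LinearMap.ext fun x => ?_⟩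
    · change rs M g (ψ V v hV x) = ψ W (g ≫ v) hW (rs G g x)
      have := hV
      have hx := rs_mem_span_range v x
      induction hx using Submodule.span_induction with
      | mem y hy =>
        obtain ⟨z, rfl⟩ := hy
        rw [hψ, ← rs_comp, ← rs_comp, hψ]
      | zero => simp only [map_zero]
      | add y y' _ _ hy hy' => simp only [map_add, hy, hy']
      | smul c y _ hy => rw [map_smul, rs_smul, rs_smul, map_smul, hy]
    · have h1 := hψ E (𝟙 E) ‹_› x
      rw [rs_id, rs_id] at h1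
      exact h1

theorem isQuasicoherent_homMod (hN : IsLocNoethSp X.obj) [G.IsFinitePresentation] [M.IsQuasicoherent] :
    (homMod G M).IsQuasicoherent := by
  refine isQuasicoherent_of_bc fun E W g hE hW => ?_
  have := isNoetherianRing_gr hN E
  have := finite_sections (M := G) E
  obtain ⟨e, he⟩ := exists_affine_eval G M (E := E)
  obtain ⟨e', he'⟩ := exists_affine_eval G M (E := W)
  refine isBC_hom (gm g) (flat_gm g) (rs G g) (rs_smul g) (bc_of_isQuasicoherent g) (rs M g) (rs_smul g)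
    (bc_of_isQuasicoherent g) _ _ e he e' he' (rs (homMod G M) g) (rs_smul g) fun h x => ?_
  change cmp (h : LinFam G M E) (𝟙 W ≫ g) hW (rs G g x) = _
  have := cmp_rs (h : LinFam G M E) (𝟙 E) g hE hW x
  rw [Category.comp_id] at this
  rw [Category.id_comp]
  exact this.symm

/-- A homomorphism of modules from linear maps on affine objects. -/
theorem exists_hom_of_sections (σ : (homMod G M).sections) :
    ∃ φ : G ⟶ M, ∀ (E : EtOver X.obj) (hE : IsAffine E.obj.left.left) x,
      hs φ E x = cmp (sec σ E : LinFam G M E) (𝟙 E) hE x := by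
  have hcomp : ∀ (E : EtOver X.obj), ∃ ψ : sectModEt G E →ₗ[gr E] sectModEt M E,
      ∀ (V : EtOver X.obj) (v : V ⟶ E) hV x, rs M v (ψ x) = cmp (sec σ V : LinFam G M V) (𝟙 V) hV (rs G v x) := by
    intro E
    have hP : Presieve.IsSheaf (etTop X.obj) (M.val.presheaf ⋙ CategoryTheory.forget AddCommGrpCat) :=
      (isSheaf_iff_isSheaf_of_type _ _).1
        (Presheaf.isSheaf_comp_of_isSheaf (etTop X.obj) M.val.presheaf (CategoryTheory.forget AddCommGrpCat) M.isSheaf)
    let P : Presieve E := fun V _ => IsAffine V.obj.left.left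
    have hcov : Sieve.generate P ∈ etTop X.obj E := (AlgSpD.mem_etTop_iff _).2 fun z => by
      obtain ⟨E₂, g', hE₂, -, w, rfl⟩ := exists_affine_subObj (E := E) isOpen_univ (Set.mem_univ z)
      exact ⟨E₂, g', Sieve.le_generate _ _ _ hE₂, w, rfl⟩
    have hsf : P.IsSheafFor (M.val.presheaf ⋙ CategoryTheory.forget AddCommGrpCat) :=
      (Presieve.isSheafFor_iff_generate _).2 (hP _ hcov)
    let y : sectModEt G E → Presieve.FamilyOfElements (M.val.presheaf ⋙ CategoryTheory.forget AddCommGrpCat) P :=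
      fun x V v hV => cmp (sec σ V : LinFam G M V) (𝟙 V) hV (rs G v x)
    have hσ : ∀ {V W : EtOver X.obj} (g : W ⟶ V) (hV : IsAffine V.obj.left.left) (hW : IsAffine W.obj.left.left)
        (x : sectModEt G V), rs M g (cmp (sec σ V : LinFam G M V) (𝟙 V) hV x) =
          cmp (sec σ W : LinFam G M W) (𝟙 W) hW (rs G g x) := fun {V W} g hV hW x => by
      rw [cmp_rs _ _ _ hV hW, ← show linRes g (sec σ V : LinFam G M V) = (sec σ W : LinFam G M W) from res_sec σ g,
        cmp_linRes, Category.comp_id, Category.id_comp]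
    have hy : ∀ x, (y x).Compatible := fun x V₁ V₂ Z g₁ g₂ f₁ f₂ h₁ h₂ e => by
      change rs M g₁ _ = rs M g₂ _
      refine eq_of_sieve (T := Sieve.generate (fun Z' (_ : Z' ⟶ Z) => IsAffine Z'.obj.left.left)) ?_ ?_
      · refine (AlgSpD.mem_etTop_iff _).2 fun z => ?_
        obtain ⟨E₂, g', hE₂, -, w, rfl⟩ := exists_affine_subObj (E := Z) isOpen_univ (Set.mem_univ z)
        exact ⟨E₂, g', Sieve.le_generate _ _ _ hE₂, w, rfl⟩
      · rintro Z₁ c ⟨Z₂, c₁, c₂, hc, rfl⟩
        simp only [rs_comp c₂ c₁]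
        congr 1
        rw [← rs_comp, ← rs_comp, hσ _ h₁ hc, hσ _ h₂ hc, ← rs_comp, ← rs_comp, Category.assoc, Category.assoc, e]
    have hu : ∀ x (V : EtOver X.obj) (v : V ⟶ E) hV, rs M v (hsf.amalgamate (y x) (hy x)) =
        cmp (sec σ V : LinFam G M V) (𝟙 V) hV (rs G v x) := fun x V v hV => hsf.valid_glue (hy x) v hV
    refine ⟨{ toFun := fun x => hsf.amalgamate (y x) (hy x)
              map_add' := fun x x' => hsf.isSeparatedFor.ext fun V v hV => ?_
              map_smul' := fun c x => hsf.isSeparatedFor.ext fun V v hV => ?_ }, fun V v hV x => hu x V v hV⟩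
    · change rs M v _ = rs M v _
      rw [map_add, hu _ V v hV, hu _ V v hV, hu _ V v hV, map_add, cmp_map_add]
    · change rs M v _ = rs M v _
      rw [RingHom.id_apply, rs_smul, hu _ V v hV, hu _ V v hV, rs_smul, cmp_smul']
  choose ψ hψ using hcomp
  have hnat : ∀ (E E' : EtOver X.obj) (g : E' ⟶ E) x, rs M g (ψ E x) = ψ E' (rs G g x) := fun E E' g x => by
    refine eq_of_sieve (T := Sieve.generate (fun Z' (_ : Z' ⟶ E') => IsAffine Z'.obj.left.left)) ?_ ?_
    · refine (AlgSpD.mem_etTop_iff _).2 fun z => ?_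
      obtain ⟨E₂, g', hE₂, -, w, rfl⟩ := exists_affine_subObj (E := E') isOpen_univ (Set.mem_univ z)
      exact ⟨E₂, g', Sieve.le_generate _ _ _ hE₂, w, rfl⟩
    · rintro Z₁ c ⟨Z₂, c₁, c₂, hc, rfl⟩
      simp only [rs_comp c₂ c₁]
      congr 1
      rw [← rs_comp, hψ E Z₂ (c₂ ≫ g) hc x, hψ E' Z₂ c₂ hc, ← rs_comp]
  refine ⟨⟨PresheafOfModules.homMk
    { app := fun E => AddCommGrpCat.ofHom (ψ E.unop).toAddMonoidHom
      naturality := fun E E' g => AddCommGrpCat.hom_ext (AddMonoidHom.ext fun x =>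
        (hnat E.unop E'.unop g.unop x).symm) }
    (fun E r m => by
      obtain ⟨a⟩ := r
      exact (ψ E.unop).map_smul (show gr E.unop from a) m)⟩, fun E hE x => ?_⟩
  have := hψ E E (𝟙 E) hE x
  rw [rs_id, rs_id] at this
  exact this

end Groth.Agent.AlgSpEN.HomC
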