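import Groth.Agent.AlgSpEN.Field
import Groth.Agent.S5038

/-!
# Lifting points with values in henselian local rings along smooth charts
-/

universe u

open CategoryTheory CategoryTheory.Limits AlgebraicGeometry

set_option backward.isDefEq.respectTransparency false
set_option backward.isDefEq.respectTransparency.types false
set_option autoImplicit false

namespace Groth.Agent.AlgSpEN

open _root_.AlgSp
open Groth.Agent.AlgSpB Groth.Agent.AlgSpB.Art

variable {S : Scheme.{u}}

/-- The closed point of the spectrum of a local ring over `S`. -/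
noncomputable abbrev resPt (A : Type u) [CommRing A] [IsLocalRing A] (str : Spec (CommRingCat.of A) ⟶ S) :
    Over.mk (Spec.map (CommRingCat.ofHom (IsLocalRing.residue A)) ≫ str) ⟶ Over.mk str :=
  Over.homMk (Spec.map (CommRingCat.ofHom (IsLocalRing.residue A))) rfl

/-- A point with values in a henselian local ring lifts along a smooth chart as soon as its closed point does. -/
theorem exists_lift_henselian {F : Sp S} {Z : Over S} {p : (yon S).obj Z ⟶ F} (hp : RepWith @Smooth p)
    (A : Type u) [CommRing A] [HenselianLocalRing A] (str : Spec (CommRingCat.of A) ⟶ S)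
    (x : (yon S).obj (Over.mk str) ⟶ F)
    (g₀ : Over.mk (Spec.map (CommRingCat.ofHom (IsLocalRing.residue A)) ≫ str) ⟶ Z)
    (h₀ : (yon S).map g₀ ≫ p = (yon S).map (resPt A str) ≫ x) :
    ∃ g : Over.mk str ⟶ Z, (yon S).map g ≫ p = x ∧ resPt A str ≫ g = g₀ := by
  obtain ⟨V, f, j, sq⟩ := exists_pullback_yon hp.1 x
  have : Smooth j.left := hp.2 _ _ _ sq
  obtain ⟨t, ht1, ht2⟩ := sq.exists_lift ((yon S).map g₀) ((yon S).map (resPt A str)) h₀
  obtain ⟨t, rfl⟩ := (yon S).map_surjective t
  rw [← Functor.map_comp] at ht1 ht2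
  replace ht1 := (yon S).map_injective ht1
  replace ht2 := (yon S).map_injective ht2
  obtain ⟨v, hv1, hv2⟩ := Groth.Agent.S5038.result A j.left t.left
    (congrArg (fun k : _ ⟶ Over.mk str => k.left) ht2)
  let v' : Over.mk str ⟶ V := Over.homMk v (by
    change v ≫ V.hom = str
    rw [show V.hom = j.left ≫ str from (Over.w j).symm, reassoc_of% hv1])
  have hv' : v' ≫ j = 𝟙 _ := Over.OverMorphism.ext hv1
  have hv'' : resPt A str ≫ v' = t := Over.OverMorphism.ext hv2
  refine ⟨v' ≫ f, ?_, ?_⟩
  · rw [Functor.map_comp, Category.assoc, sq.w, ← Category.assoc, ← Functor.map_comp, hv',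
      CategoryTheory.Functor.map_id, Category.id_comp]
  · rw [reassoc_of% hv'', ht1]

/-- A point with values in a henselian local ring factors through an affine etale chart. -/
theorem exists_affine_chart_henselian {F : Sp S} (hF : IsAlgSpace F) (A : Type u) [CommRing A]
    [HenselianLocalRing A] (str : Spec (CommRingCat.of A) ⟶ S) (x : (yon S).obj (Over.mk str) ⟶ F) :
    ∃ (Z : Over S) (p : (yon S).obj Z ⟶ F) (g : Over.mk str ⟶ Z),
      IsAffine Z.left ∧ RepWith @Etale p ∧ (yon S).map g ≫ p = x := by
  obtain ⟨Z, p, g₀, hZ, hp, h⟩ := exists_affine_chart_field hF (k := IsLocalRing.ResidueField A)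
    (Spec.map (CommRingCat.ofHom (IsLocalRing.residue A)) ≫ str) ((yon S).map (resPt A str) ≫ x)
  obtain ⟨g, hg, -⟩ := exists_lift_henselian
    (Groth.Agent.AlgSp.repWith_mono (Q := @Smooth) (fun f hf => have : Etale f := hf; (inferInstance : Smooth f)) hp) A str x g₀ h
  exact ⟨Z, p, g, hZ, hp, hg⟩

end Groth.Agent.AlgSpEN
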