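import Groth.Agent.AlgSpEN.RelBound

/-!
# Sections of cosyzygies extend from quasi-compact opens in degrees above the dimension

Let `E` be affine with function ring `R` and let `S` be a submonoid of `R` with fewer than `n + 1` specialisations
among the primes disjoint from it. A section of the `k`-th cosyzygy over a finite union of principal opens extends
to some `D(g)` with `g ∈ S` after restricting to `D(g)`, when `n ≤ k + 1`. The proof inducts on `n`, passing from `S` to
the monoid of `s f ^ i (s' + a f)`.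
-/

set_option autoImplicit false
universe u

open CategoryTheory CategoryTheory.Limits AlgebraicGeometry Opposite

set_option backward.isDefEq.respectTransparency false
set_option backward.isDefEq.respectTransparency.types false

noncomputable section

namespace Groth.Agent.AlgSpEN.Bound

open _root_.AlgSp Groth.Agent.AlgSpEN.PushIntegral

section Ring

variable {R : Type u} [CommRing R]

/-- Every chain of primes disjoint from the monoid has length less than `n`. -/
def LtDim (M : Submonoid R) (n : ℕ) : Prop :=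
  ∀ l : LTSeries {p : PrimeSpectrum R // Disjoint (M : Set R) (p.asIdeal : Set R)}, l.length < n

/-- The monoid cutting out the boundary of `f`. -/
def bdry (M : Submonoid R) (f : R) : Submonoid R where
  carrier := {x | ∃ s ∈ M, ∃ i : ℕ, ∃ s' ∈ M, ∃ a : R, x = s * f ^ i * (s' + a * f)}
  one_mem' := ⟨1, M.one_mem, 0, 1, M.one_mem, 0, by simp⟩
  mul_mem' := by
    rintro _ _ ⟨s, hs, i, s', hs', a, rfl⟩ ⟨t, ht, j, t', ht', b, rfl⟩
    exact ⟨s * t, M.mul_mem hs ht, i + j, s' * t', M.mul_mem hs' ht', s' * b + a * t' + a * b * f, by ring⟩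

theorem ltDim_bdry {M : Submonoid R} {n : ℕ} (h : LtDim M (n + 1)) (f : R) : LtDim (bdry M f) n := by
  intro l
  have hle : ∀ x ∈ M, x ∈ bdry M f := fun x hx => ⟨x, hx, 0, 1, M.one_mem, 0, by simp⟩
  let T := {p : PrimeSpectrum R // Disjoint (M : Set R) (p.asIdeal : Set R)}
  let T' := {p : PrimeSpectrum R // Disjoint (bdry M f : Set R) (p.asIdeal : Set R)}
  let φ : T' → T := fun p => ⟨p.1, p.2.mono_left fun x hx => hle x hx⟩
  let P := φ l.last
  have hP : Disjoint (bdry M f : Set R) (P.1.asIdeal : Set R) := l.last.2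
  have hd : Disjoint ((P.1.asIdeal ⊔ Ideal.span {f} : Ideal R) : Set R) (M : Set R) := by
    refine Set.disjoint_left.2 fun x hx hxM => ?_
    obtain ⟨p, hp, y, hy, rfl⟩ := Submodule.mem_sup.1 hx
    obtain ⟨a, rfl⟩ := Ideal.mem_span_singleton'.1 hy
    exact Set.disjoint_left.1 hP
      (show p ∈ (bdry M f : Set R) from ⟨1, M.one_mem, 0, p + a * f, hxM, -a, by ring⟩) hp
  obtain ⟨Q, hQp, hle', hQd⟩ := Ideal.exists_le_prime_disjoint _ M hd
  have hf : f ∉ P.1.asIdeal := fun hf =>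
    Set.disjoint_left.1 hP (show f ∈ (bdry M f : Set R) from ⟨1, M.one_mem, 1, 1, M.one_mem, 0, by simp⟩) hf
  let Q' : T := ⟨⟨Q, hQp⟩, hQd.symm⟩
  have hlt : P < Q' := by
    refine lt_of_le_of_ne (le_sup_left.trans hle' : P.1.asIdeal ≤ Q) fun e => hf ?_
    rw [e]
    exact hle' (Ideal.mem_sup_right (Ideal.mem_span_singleton_self f))
  have := h ((l.map φ fun a b hab => hab).snoc Q' (by rwa [LTSeries.last_map]))
  simp at this
  omega

theorem zero_mem_of_ltDim {M : Submonoid R} (h : LtDim M 0) : (0 : R) ∈ M := by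
  by_contra h0
  have hd : Disjoint ((⊥ : Ideal R) : Set R) (M : Set R) := by
    refine Set.disjoint_left.2 fun x hx hxM => h0 ?_
    obtain rfl : x = 0 := Ideal.mem_bot.1 hx
    exact hxM
  obtain ⟨Q, hQp, -, hQd⟩ := Ideal.exists_le_prime_disjoint _ M hd
  exact absurd (h (RelSeries.singleton _ ⟨⟨Q, hQp⟩, hQd.symm⟩)) (Nat.not_lt_zero _)

end Ring

variable {S : Scheme.{u}} {X : AlgSp.Space S} {E : EtOver X.obj}

/-- Restriction maps between open pieces. -/
def pieceMap {O O' : E.obj.left.left.Opens} (h : O ≤ O') : piece E O ⟶ piece E O' :=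
  (Amitsur.exists_hom_over (pieceHom E O) (pieceHom E O') (E.obj.left.left.homOfLE h)
    (E.obj.left.left.homOfLE_ι h)).choose

theorem pieceMap_comp_hom {O O' : E.obj.left.left.Opens} (h : O ≤ O') : pieceMap h ≫ pieceHom E O' = pieceHom E O :=
  (Amitsur.exists_hom_over (pieceHom E O) (pieceHom E O') (E.obj.left.left.homOfLE h)
    (E.obj.left.left.homOfLE_ι h)).choose_spec

instance mono_pieceHom (O : E.obj.left.left.Opens) : Mono (pieceHom E O) :=
  mono_of_isOpenImmersion _ (inferInstanceAs (IsOpenImmersion O.ι))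

theorem pieceMap_comp {O O' O'' : E.obj.left.left.Opens} (h : O ≤ O') (h' : O' ≤ O'') :
    pieceMap h ≫ pieceMap h' = pieceMap (h.trans h') := by
  rw [← cancel_mono (pieceHom E O''), Category.assoc, pieceMap_comp_hom, pieceMap_comp_hom, pieceMap_comp_hom]

theorem pieceMap_refl (O : E.obj.left.left.Opens) : pieceMap (le_refl O) = 𝟙 _ := by
  rw [← cancel_mono (pieceHom E O), pieceMap_comp_hom, Category.id_comp]

instance mono_pieceMap {O O' : E.obj.left.left.Opens} (h : O ≤ O') : Mono (pieceMap h) :=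
  mono_of_mono_fac (pieceMap_comp_hom h)

/-- Sections over an open piece. -/
abbrev sec (G : AbEt X.obj) (O : E.obj.left.left.Opens) : Type (u + 1) := G.obj.obj (op (piece E O))

/-- Restriction of sections over open pieces. -/
def res (G : AbEt X.obj) {O O' : E.obj.left.left.Opens} (h : O ≤ O') : sec G O' →+ sec G O :=
  (G.obj.map (pieceMap h).op).hom

theorem res_res (G : AbEt X.obj) {O O' O'' : E.obj.left.left.Opens} (h : O ≤ O') (h' : O' ≤ O'') (s : sec G O'') :
    res G h (res G h' s) = res G (h.trans h') s := by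
  change (G.obj.map _).hom ((G.obj.map _).hom s) = (G.obj.map _).hom s
  rw [← ConcreteCategory.comp_apply, ← Functor.map_comp, ← op_comp, pieceMap_comp]

theorem res_refl (G : AbEt X.obj) {O : E.obj.left.left.Opens} (h : O ≤ O) (s : sec G O) : res G h s = s := by
  change (G.obj.map (pieceMap h).op).hom s = s
  rw [pieceMap_refl]
  simp

theorem res_app {G H : AbEt X.obj} (a : G ⟶ H) {O O' : E.obj.left.left.Opens} (h : O ≤ O') (s : sec G O') :
    res H h ((a.hom.app _).hom s) = (a.hom.app _).hom (res G h s) :=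
  (NatTrans.naturality_apply a.hom (pieceMap h).op s).symm

theorem sec_subsingleton (G : AbEt X.obj) {O : E.obj.left.left.Opens} (h : O ≤ ⊥) : Subsingleton (sec G O) :=
  have : IsEmpty (piece E O).obj.left.left := ⟨fun z => (h z.2 : _)⟩
  sect_subsingleton_of_isEmpty G _

/-- Sections over two opens with equal restrictions glue. -/
theorem exists_glue (G : AbEt X.obj) {O₁ O₂ O : E.obj.left.left.Opens} (h₁ : O₁ ≤ O) (h₂ : O₂ ≤ O)
    (hO : O ≤ O₁ ⊔ O₂) (a : sec G O₁) (b : sec G O₂)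
    (h : res G (inf_le_left : O₁ ⊓ O₂ ≤ O₁) a = res G (inf_le_right : O₁ ⊓ O₂ ≤ O₂) b) :
    ∃ s : sec G O, res G h₁ s = a ∧ res G h₂ s = b := by
  let Wf : Bool → EtOver X.obj := fun i => cond i (piece E O₁) (piece E O₂)
  let inc : ∀ i, Wf i ⟶ piece E O := fun i => Bool.rec (pieceMap h₂) (pieceMap h₁) i
  have hcov : ∀ x : (piece E O).obj.left.left, x ∈ Set.range (inc true).hom.left.left ∨
      x ∈ Set.range (inc false).hom.left.left := fun x => by
    have hi : ∀ {O' : E.obj.left.left.Opens} (h' : O' ≤ O) (y : O'), O.ι ((pieceMap h').hom.left.left y) = O'.ι y :=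
      fun h' y => congrArg (fun k => k.hom.left.left y) (pieceMap_comp_hom h')
    rcases hO x.2 with hx | hx
    · exact Or.inl ⟨⟨x.1, hx⟩, O.ι.isOpenEmbedding.injective (hi h₁ _)⟩
    · exact Or.inr ⟨⟨x.1, hx⟩, O.ι.isOpenEmbedding.injective (hi h₂ _)⟩
  have hP : (Presieve.ofArrows Wf inc).IsSheafFor (G.obj ⋙ forget AddCommGrpCat.{u + 1}) := by
    rw [Presieve.isSheafFor_iff_generate]
    exact isSheaf_forget G _ (AlgSp.ofArrows_mem_etTop Wf inc fun x =>
      (hcov x).elim (fun h => ⟨true, h⟩) fun h => ⟨false, h⟩)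
  rw [Presieve.isSheafFor_arrows_iff] at hP
  have key : ∀ (Z : EtOver X.obj) (u : Z ⟶ piece E O₁) (v : Z ⟶ piece E O₂),
      u ≫ pieceMap h₁ = v ≫ pieceMap h₂ → (G.obj.map u.op).hom a = (G.obj.map v.op).hom b := by
    intro Z u v huv
    have huv' : u ≫ pieceHom E O₁ = v ≫ pieceHom E O₂ := by
      rw [← pieceMap_comp_hom h₁, ← pieceMap_comp_hom h₂, ← Category.assoc, huv, Category.assoc]
    have hr : Set.range (u.hom.left.left ≫ O₁.ι) ⊆ Set.range (O₁ ⊓ O₂).ι := by
      rw [Scheme.Opens.range_ι]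
      rintro _ ⟨z, rfl⟩
      refine ⟨(u.hom.left.left z).2, ?_⟩
      have e : O₁.ι (u.hom.left.left z) = O₂.ι (v.hom.left.left z) := congrArg (fun k => k.hom.left.left z) huv'
      exact (congrArg (· ∈ O₂) e).mpr (v.hom.left.left z).2
    obtain ⟨w, hw⟩ := Amitsur.exists_hom_over (u ≫ pieceHom E O₁) (pieceHom E (O₁ ⊓ O₂))
      (IsOpenImmersion.lift (O₁ ⊓ O₂).ι _ hr) (IsOpenImmersion.lift_fac _ _ _)
    have hu : w ≫ pieceMap inf_le_left = u := by
      rw [← cancel_mono (pieceHom E O₁), Category.assoc, pieceMap_comp_hom, hw]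
    have hv : w ≫ pieceMap inf_le_right = v := by
      rw [← cancel_mono (pieceHom E O₂), Category.assoc, pieceMap_comp_hom, hw, huv']
    rw [← hu, ← hv, op_comp, op_comp, Functor.map_comp, Functor.map_comp, ConcreteCategory.comp_apply,
      ConcreteCategory.comp_apply]
    exact congrArg _ h
  obtain ⟨s, hs, -⟩ := hP (fun i => Bool.rec b a i) fun i j Z gi gj e => by
    cases i <;> cases j
    · obtain rfl := (cancel_mono (pieceMap h₂)).1 e
      rfl
    · exact (key Z gj gi e.symm).symm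
    · exact key Z gi gj e
    · obtain rfl := (cancel_mono (pieceMap h₁)).1 e
      rfl
  exact ⟨s, hs true, hs false⟩

theorem eq_of_two (G : AbEt X.obj) {O₁ O₂ O : E.obj.left.left.Opens} (h₁ : O₁ ≤ O) (h₂ : O₂ ≤ O)
    (hO : O ≤ O₁ ⊔ O₂) (s t : sec G O) (e₁ : res G h₁ s = res G h₁ t) (e₂ : res G h₂ s = res G h₂ t) : s = t := by
  refine G.property.isSeparated _ (Presheaf.equalizerSieve s t) ((AlgSpD.mem_etTop_iff _).2 fun x => ?_) _ _
    fun Z g hg => hg
  have hi : ∀ {O' : E.obj.left.left.Opens} (h' : O' ≤ O) (y : O'), O.ι ((pieceMap h').hom.left.left y) = O'.ι y :=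
    fun h' y => congrArg (fun k => k.hom.left.left y) (pieceMap_comp_hom h')
  rcases hO x.2 with hx | hx
  · exact ⟨_, pieceMap h₁, e₁, ⟨x.1, hx⟩, O.ι.isOpenEmbedding.injective (hi h₁ _)⟩
  · exact ⟨_, pieceMap h₂, e₂, ⟨x.1, hx⟩, O.ι.isOpenEmbedding.injective (hi h₂ _)⟩

variable (E) in
/-- The function ring of the object. -/
abbrev fn : Type u := Γ(E.obj.left.left, ⊤)

/-- Principal opens. -/
abbrev D (g : fn E) : E.obj.left.left.Opens := E.obj.left.left.basicOpen g

/-- Finite unions of principal opens. -/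
def U : List (fn E) → E.obj.left.left.Opens
  | [] => ⊥
  | f :: L => D f ⊔ U L

theorem D_mul (a b : fn E) : D (a * b) = D a ⊓ D b := Scheme.basicOpen_mul _ a b

theorem isAffine_D [IsAffine E.obj.left.left] (g : fn E) : IsAffine (piece E (D g)).obj.left.left :=
  (isAffineOpen_top E.obj.left.left).basicOpen g

theorem D_zero : D (0 : fn E) = ⊥ := Scheme.basicOpen_zero _ _

theorem D_le_sup [IsAffine E.obj.left.left] (f s a : fn E) : D s ≤ D f ⊔ D (s + a * f) := by
  intro x hx
  by_contra h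
  have h1 : x ∉ D f := fun h' => h (Or.inl h')
  have h2 : x ∉ D (s + a * f) := fun h' => h (Or.inr h')
  have hx' : x ∈ D s := hx
  rw [Scheme.mem_basicOpen _ _ x (by trivial)] at h1 h2 hx'
  let φ : fn E →+* E.obj.left.left.presheaf.stalk x := (E.obj.left.left.presheaf.germ ⊤ x (by trivial)).hom
  have e : φ s = φ (s + a * f) + -(φ a * φ f) := by rw [map_add, map_mul, add_neg_cancel_right]
  obtain hu | hu := IsLocalRing.isUnit_or_isUnit_of_isUnit_add (a := φ (s + a * f)) (b := -(φ a * φ f))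
    (e ▸ (hx' : IsUnit (φ s)))
  · exact h2 hu
  · exact h1 (isUnit_of_mul_isUnit_right ((IsUnit.neg_iff _).1 hu))

theorem D_le_mul_pow (s f h : fn E) (i : ℕ) : D s ⊓ D f ⊓ D h ≤ D (s * f ^ i * h) := by
  rw [D_mul, D_mul]
  refine inf_le_inf (inf_le_inf le_rfl ?_) le_rfl
  rcases i with _ | i
  · intro x _
    rw [pow_zero]
    change x ∈ E.obj.left.left.basicOpen (1 : fn E)
    rw [Scheme.mem_basicOpen _ _ x (by trivial), map_one]
    exact isUnit_one
  · exact (Scheme.basicOpen_pow _ _ (Nat.succ_pos i)).ge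

theorem res_eq_zero (G : AbEt X.obj) {O O' O'' : E.obj.left.left.Opens} (h : O ≤ O') (h' : O' ≤ O'') (h'' : O ≤ O'')
    {s : sec G O''} (hs : res G h' s = 0) : res G h'' s = 0 := by
  rw [← res_res G h h' s, hs, map_zero]

theorem res_zero_iff_two (G : AbEt X.obj) {O₁ O₂ O : E.obj.left.left.Opens} (h₁ : O₁ ≤ O) (h₂ : O₂ ≤ O)
    (hO : O ≤ O₁ ⊔ O₂) (s : sec G O) (e₁ : res G h₁ s = 0) (e₂ : res G h₂ s = 0) : s = 0 :=
  eq_of_two G h₁ h₂ hO s 0 (by rw [e₁, map_zero]) (by rw [e₂, map_zero])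

/-- An extension over `D h` and the given section over `D f` glue. -/
theorem step_glue (G : AbEt X.obj) {L : List (fn E)} {f g g' h : fn E} (hgg' : D g' ≤ D g)
    (hcov : D g' ≤ D f ⊔ D h) (u : sec G (U (f :: L) ⊓ D g))
    (hu : ∀ hle : U L ⊓ D g ≤ U (f :: L) ⊓ D g, res G hle u = 0) (v₀ : sec G (D h ⊓ D g'))
    (hv₁ : ∀ hle : U L ⊓ (D h ⊓ D g') ≤ D h ⊓ D g', res G hle v₀ = 0)
    (hv₂ : ∀ hle hle', res G (hle : D f ⊓ (D h ⊓ D g') ≤ D h ⊓ D g') v₀ =
      res G (hle' : D f ⊓ (D h ⊓ D g') ≤ U (f :: L) ⊓ D g) u) :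
    ∃ v : sec G (D g'), res G (inf_le_right : U (f :: L) ⊓ D g' ≤ D g') v = res G (inf_le_inf le_rfl hgg') u := by
  have hL : U L ≤ U (f :: L) := le_sup_right
  have hf : D f ≤ U (f :: L) := le_sup_left
  obtain ⟨v, hv1, hv2⟩ := exists_glue G (O := D g') (inf_le_right : D h ⊓ D g' ≤ _) (inf_le_right : D f ⊓ D g' ≤ _)
    (by rw [← inf_sup_right, sup_comm]; exact le_inf hcov le_rfl)
    v₀ (res G (inf_le_inf hf hgg') u) (by
      have hle : (D h ⊓ D g') ⊓ (D f ⊓ D g') ≤ D f ⊓ (D h ⊓ D g') :=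
        le_inf (inf_le_right.trans inf_le_left) inf_le_left
      refine (res_res G hle inf_le_right v₀).symm.trans ?_
      rw [hv₂ _ (inf_le_inf hf (inf_le_right.trans hgg')), res_res, res_res])
  refine ⟨v, eq_of_two G (inf_le_inf hL le_rfl : U L ⊓ D g' ≤ _) (inf_le_inf hf le_rfl : D f ⊓ D g' ≤ _)
    (by rw [U, inf_sup_right, sup_comm]) _ _ ?_ ?_⟩
  · rw [res_res, res_res]
    have hu0 : res G (inf_le_inf hL hgg' : U L ⊓ D g' ≤ U (f :: L) ⊓ D g) u = 0 :=
      res_eq_zero G (inf_le_inf le_rfl hgg') (inf_le_inf hL le_rfl) _ (hu _)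
    refine Eq.trans ?_ hu0.symm
    refine res_zero_iff_two G (inf_le_inf le_rfl inf_le_right : U L ⊓ (D h ⊓ D g') ≤ _)
      (inf_le_inf le_rfl inf_le_right : U L ⊓ (D f ⊓ D g') ≤ _)
      (by rw [← inf_sup_left, ← inf_sup_right]; exact inf_le_inf le_rfl (le_inf (hcov.trans (sup_comm (D f) (D h)).le) le_rfl))
      _ ?_ ?_
    · rw [res_res, ← res_res G inf_le_right inf_le_right v, hv1, hv₁]
    · rw [res_res, ← res_res G inf_le_right inf_le_right v, hv2, res_res]
      exact res_eq_zero G (inf_le_inf le_rfl (inf_le_right.trans hgg')) (inf_le_inf hL le_rfl) _ (hu _)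
  · rw [res_res, hv2, res_res]

theorem step_zero [IsAffine E.obj.left.left] {G : AbEt X.obj} {M : Submonoid (fn E)} (hM : LtDim M 1)
    {L : List (fn E)} {f g : fn E} (hg : g ∈ M) (u : sec G (U (f :: L) ⊓ D g))
    (hu : ∀ hle : U L ⊓ D g ≤ U (f :: L) ⊓ D g, res G hle u = 0) :
    ∃ g' ∈ M, ∃ h : D g' ≤ D g, ∃ v : sec G (D g'),
      res G (inf_le_right : U (f :: L) ⊓ D g' ≤ D g') v = res G (inf_le_inf le_rfl h) u := by
  obtain ⟨s, hs, i, s', hs', a, h0⟩ := zero_mem_of_ltDim (ltDim_bdry hM f)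
  have hgg' : D (g * (s * s')) ≤ D g := by rw [D_mul]; exact inf_le_left
  refine ⟨_, M.mul_mem hg (M.mul_mem hs hs'), hgg', step_glue G (h := s' + a * f) hgg' ?_ u hu 0
    (fun _ => map_zero _) fun hle hle' => @Subsingleton.elim _ (sec_subsingleton G ?_) _ _⟩
  · rw [D_mul, D_mul]
    exact (inf_le_right.trans inf_le_right).trans (D_le_sup f s' a)
  · refine le_trans ?_ ((D_le_mul_pow s f (s' + a * f) i).trans (by rw [← h0, D_zero]))
    rw [D_mul, D_mul]
    exact le_inf (le_inf (inf_le_right.trans (inf_le_right.trans (inf_le_right.trans inf_le_left))) inf_le_left)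
      (inf_le_right.trans inf_le_left)

set_option maxHeartbeats 400000 in
theorem step_pos [IsAffine E.obj.left.left] {F : AbEt X.obj} (hF : Amitsur.Cech F) {n l : ℕ}
    {M : Submonoid (fn E)} (hM : LtDim M (n + 1))
    {L : List (fn E)} {f g : fn E} (hg : g ∈ M) (u : sec (cz (l + 1) F) (U (f :: L) ⊓ D g))
    (hu : ∀ hle : U L ⊓ D g ≤ U (f :: L) ⊓ D g, res (cz (l + 1) F) hle u = 0)
    (ih : ∀ (M' : Submonoid (fn E)), LtDim M' n → ∀ (g₁ : fn E), g₁ ∈ M' → ∀ c : sec (cz l F) (U L ⊓ D g₁),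
      ∃ g₂ ∈ M', ∃ h : D g₂ ≤ D g₁, ∃ e : sec (cz l F) (D g₂),
        res _ (inf_le_right : U L ⊓ D g₂ ≤ D g₂) e = res _ (inf_le_inf le_rfl h) c) :
    ∃ g' ∈ M, ∃ h : D g' ≤ D g, ∃ v : sec (cz (l + 1) F) (D g'),
      res _ (inf_le_right : U (f :: L) ⊓ D g' ≤ D g') v = res _ (inf_le_inf le_rfl h) u := by
  have hL : U L ≤ U (f :: L) := le_sup_right
  have hf : D f ≤ U (f :: L) := le_sup_left
  have := isAffine_D (f * g)
  let C := seq l F
  have hC : C.ShortExact := seq_shortExact l F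
  have hfg : D (f * g) ≤ U (f :: L) ⊓ D g := by rw [D_mul]; exact inf_le_inf hf le_rfl
  obtain ⟨b, hb⟩ : ∃ b : sec C.X₂ (D (f * g)), (C.g.hom.app _).hom b = res C.X₃ hfg u :=
    objBound_affine hF (piece E (D (f * g))) l (Nat.zero_le _) (res C.X₃ hfg u)
  obtain ⟨c, hc⟩ : ∃ c : sec C.X₁ (U L ⊓ D (f * g)),
      (C.f.hom.app _).hom c = res C.X₂ (inf_le_right : U L ⊓ D (f * g) ≤ _) b :=
    Amitsur.sections_exact C hC _ _ (by
      refine (res_app C.g _ b).symm.trans ((congrArg _ hb).trans ?_)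
      refine (res_res C.X₃ _ hfg u).trans ?_
      exact res_eq_zero C.X₃ (inf_le_inf le_rfl (hfg.trans inf_le_right)) (inf_le_inf hL le_rfl) _ (hu _))
  obtain ⟨_, ⟨s, hs, i, s', hs', a, rfl⟩, hg'', c', hc'⟩ :=
    ih (bdry M f) (ltDim_bdry hM f) (f * g) ⟨g, hg, 1, 1, M.one_mem, 0, by ring⟩ c
  have hgg' : D (g * (s * s')) ≤ D g := by rw [D_mul]; exact inf_le_left
  let h := s' + a * f
  have hin : D f ⊓ (D h ⊓ D (g * (s * s'))) ≤ D (s * f ^ i * h) := by
    refine le_trans ?_ (D_le_mul_pow s f h i)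
    rw [D_mul, D_mul]
    exact le_inf (le_inf (inf_le_right.trans (inf_le_right.trans (inf_le_right.trans inf_le_left))) inf_le_left)
      (inf_le_right.trans inf_le_left)
  let b' := res C.X₂ hg'' b - (C.f.hom.app _).hom c'
  have hb' : res C.X₂ (inf_le_right : U L ⊓ D (s * f ^ i * h) ≤ _) b' = 0 := by
    rw [map_sub, sub_eq_zero]
    refine (res_res C.X₂ _ hg'' b).trans ?_
    refine Eq.trans ?_ (res_app C.f _ c').symm
    refine Eq.trans ?_ (congrArg _ hc').symm
    refine Eq.trans ?_ (res_app C.f (inf_le_inf le_rfl hg'' : U L ⊓ D (s * f ^ i * h) ≤ U L ⊓ D (f * g)) c)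
    refine Eq.trans ?_ (congrArg _ hc).symm
    exact (res_res C.X₂ _ inf_le_right b).symm
  obtain ⟨B₀, hB1, hB2⟩ := exists_glue C.X₂ (O := U (f :: L) ⊓ (D h ⊓ D (g * (s * s'))))
    (inf_le_inf hL le_rfl : U L ⊓ _ ≤ _) (inf_le_inf hf le_rfl : D f ⊓ _ ≤ _)
    (by rw [U, inf_sup_right, sup_comm]) 0 (res C.X₂ hin b') (by
      rw [map_zero, res_res]
      exact (res_eq_zero C.X₂ (inf_le_inf inf_le_left hin) inf_le_right _ hb').symm)
  obtain ⟨B, hB⟩ := flasque C.X₂ (pieceMap (inf_le_right : U (f :: L) ⊓ (D h ⊓ D (g * (s * s'))) ≤ _)) B₀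
  have hB : res C.X₂ inf_le_right B = B₀ := hB
  refine ⟨_, M.mul_mem hg (M.mul_mem hs hs'), hgg', step_glue (cz (l + 1) F) (h := h) hgg' ?_ u hu
    ((C.g.hom.app _).hom B) (fun hle => ?_) fun hle hle' => ?_⟩
  · rw [D_mul, D_mul]
    exact (inf_le_right.trans inf_le_right).trans (D_le_sup f s' a)
  · refine (res_app C.g hle B).trans ?_
    rw [← res_res C.X₂ (inf_le_inf hL le_rfl) inf_le_right B, hB, hB1, map_zero]
  · refine (res_app C.g hle B).trans ?_
    rw [← res_res C.X₂ (inf_le_inf hf le_rfl) inf_le_right B, hB, hB2]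
    refine (res_app C.g hin b').symm.trans ?_
    have e : (C.g.hom.app _).hom b' = res C.X₃ hg'' (res C.X₃ hfg u) := by
      rw [map_sub, Amitsur.sections_zero C hC, sub_zero]
      exact (res_app C.g hg'' b).symm.trans (congrArg _ hb)
    refine (congrArg _ e).trans ?_
    exact (res_res C.X₃ hin hg'' _).trans (res_res C.X₃ _ hfg u)

theorem exists_extend_dim [IsAffine E.obj.left.left] {F : AbEt X.obj} (hF : Amitsur.Cech F) :
    ∀ (n : ℕ) (M : Submonoid (fn E)), LtDim M n → ∀ (k : ℕ), n ≤ k + 1 → ∀ (L : List (fn E)) (g₀ : fn E),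
      g₀ ∈ M → ∀ t : sec (cz k F) (U L ⊓ D g₀), ∃ g ∈ M, ∃ h : D g ≤ D g₀, ∃ e : sec (cz k F) (D g),
        res _ (inf_le_right : U L ⊓ D g ≤ D g) e = res _ (inf_le_inf le_rfl h) t := by
  intro n
  induction n with
  | zero =>
    intro M hM k _ L g₀ _ t
    refine ⟨0, zero_mem_of_ltDim hM, by rw [D_zero]; exact bot_le, 0, ?_⟩
    exact @Subsingleton.elim _ (sec_subsingleton _ (inf_le_right.trans D_zero.le)) _ _
  | succ n ih =>
    intro M hM k hk L
    induction L with
    | nil =>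
      intro g₀ hg₀ t
      exact ⟨g₀, hg₀, le_rfl, 0, @Subsingleton.elim _ (sec_subsingleton _ inf_le_left) _ _⟩
    | cons f L ihL =>
      intro g₀ hg₀ t
      have hL : U L ≤ U (f :: L) := le_sup_right
      have hf : D f ≤ U (f :: L) := le_sup_left
      obtain ⟨g, hg, hgg, e, he⟩ := ihL g₀ hg₀ (res _ (inf_le_inf hL le_rfl) t)
      rw [res_res] at he
      let u := res _ (inf_le_inf le_rfl hgg : U (f :: L) ⊓ D g ≤ _) t - res _ (inf_le_right : _ ≤ D g) e
      have hu : res _ (inf_le_inf hL le_rfl : U L ⊓ D g ≤ _) u = 0 := by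
        rw [map_sub, res_res, res_res, sub_eq_zero, he]
      -- it suffices to extend `u`
      suffices H : ∃ g' ∈ M, ∃ h : D g' ≤ D g, ∃ v : sec (cz k F) (D g'),
          res _ (inf_le_right : U (f :: L) ⊓ D g' ≤ D g') v = res _ (inf_le_inf le_rfl h) u by
        obtain ⟨g', hg', h, v, hv⟩ := H
        refine ⟨g', hg', h.trans hgg, res _ h e + v, ?_⟩
        rw [map_add, hv, map_sub, res_res, res_res, res_res]
        exact add_sub_cancel _ _
      rcases k with _ | l
      · obtain rfl : n = 0 := by omega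
        exact step_zero hM hg u fun _ => hu
      · exact step_pos hF hM hg u (fun _ => hu) fun M' hM' g₁ hg₁ c => ih M' hM' l (by omega) L g₁ hg₁ c

/-- Sections of a cosyzygy of degree at least the dimension extend from quasi-compact opens of an affine. -/
theorem surjective_restrict_of_dim [IsAffine E.obj.left.left] {F : AbEt X.obj} (hF : Amitsur.Cech F) (d : ℕ)
    (hd : topologicalKrullDim E.obj.left.left ≤ d) {W : EtOver X.obj} (j : W ⟶ E)
    (hj : IsOpenImmersion j.hom.left.left) (hc : IsCompact (Set.range j.hom.left.left)) (k : ℕ) (hk : d ≤ k) :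
    Function.Surjective ((cz k F).obj.map j.op).hom := by
  intro t
  classical
  have hM : LtDim (⊥ : Submonoid (fn E)) (d + 1) := fun l => by
    have h1 := Order.LTSeries.length_le_krullDim (l.map Subtype.val fun a b h => h)
    have h2 : ringKrullDim (fn E) ≤ d := by
      rw [← PrimeSpectrum.topologicalKrullDim_eq_ringKrullDim]
      exact ((Scheme.isoSpec E.obj.left.left).hom.homeomorph.isHomeomorph.topologicalKrullDim_eq).symm.trans_le hd
    have := h1.trans h2
    simp only [LTSeries.map_length, Nat.cast_le] at this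
    omega
  have : IsOpenImmersion j.hom.left.left := hj
  let O := j.hom.left.left.opensRange
  obtain ⟨L, hL⟩ : ∃ L : List (fn E), U L = O := by
    have h : ∀ x : O, ∃ f : fn E, D f ≤ O ∧ x.1 ∈ D f := fun x => by
      obtain ⟨f, hf, hxf⟩ := (isAffineOpen_top E.obj.left.left).exists_basicOpen_le x (trivial)
      exact ⟨f, hf, hxf⟩
    choose f hf hxf using h
    obtain ⟨s, hs⟩ := hc.elim_finite_subcover (fun x : O => (D (f x) : Set E.obj.left.left)) (fun x => (D (f x)).2)
      fun x hx => Set.mem_iUnion.2 ⟨⟨x, hx⟩, hxf _⟩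
    refine ⟨s.toList.map f, le_antisymm ?_ fun x hx => ?_⟩
    · induction s.toList with
      | nil => exact bot_le
      | cons a l ih => exact sup_le (hf a) ih
    · obtain ⟨y, hy, hxy⟩ := Set.mem_iUnion₂.1 (hs hx)
      have hy' : y ∈ s.toList := Finset.mem_toList.2 hy
      revert hy'
      induction s.toList with
      | nil => exact fun h => (List.not_mem_nil h).elim
      | cons a l ih =>
        intro h
        rcases List.mem_cons.1 h with rfl | h
        · exact Or.inl hxy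
        · exact Or.inr (ih h)
  obtain ⟨l₁, hl₁⟩ := Amitsur.exists_hom_over (pieceHom E (U L ⊓ D 1)) j
    (IsOpenImmersion.lift j.hom.left.left (U L ⊓ D 1).ι (by
      exact (Scheme.Opens.range_ι _).trans_subset fun x hx => hL.le hx.1)) (IsOpenImmersion.lift_fac _ _ _)
  obtain ⟨g, hg, h, e, he⟩ := exists_extend_dim hF (d + 1) ⊥ hM k (by omega) L 1 rfl
    (((cz k F).obj.map l₁.op).hom t)
  obtain rfl : g = 1 := hg
  obtain ⟨t', ht'⟩ := exists_glue_disjoint (cz k F) (fun _ : Unit => D (1 : fn E)) (fun a b hab => absurd rfl hab)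
    (fun x => ⟨(), by
      rw [Scheme.mem_basicOpen _ _ x (by trivial), map_one]
      exact isUnit_one⟩) (fun _ => e)
  refine ⟨t', ?_⟩
  obtain ⟨l₂, hl₂⟩ := Amitsur.exists_hom_over j (pieceHom E (U L ⊓ D 1))
    (IsOpenImmersion.lift (U L ⊓ D 1).ι j.hom.left.left (by
      refine Set.Subset.trans ?_ (Scheme.Opens.range_ι _).symm.subset
      rintro _ ⟨z, rfl⟩
      refine ⟨hL.ge ⟨z, rfl⟩, ?_⟩
      change _ ∈ D (1 : fn E)
      rw [Scheme.mem_basicOpen _ _ _ (by trivial), map_one]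
      exact isUnit_one)) (IsOpenImmersion.lift_fac _ _ _)
  have := mono_of_isOpenImmersion j hj
  have hl : l₂ ≫ l₁ = 𝟙 W := by rw [← cancel_mono j, Category.assoc, hl₁, hl₂, Category.id_comp]
  rw [res_refl] at he
  have h3 : ((cz k F).obj.map (pieceHom E (U L ⊓ D 1)).op).hom t' = ((cz k F).obj.map l₁.op).hom t := by
    rw [← pieceMap_comp_hom (inf_le_right : U L ⊓ D 1 ≤ D 1), op_comp, Functor.map_comp, ConcreteCategory.comp_apply]
    exact (congrArg _ (ht' ())).trans he
  rw [← hl₂, op_comp, Functor.map_comp, ConcreteCategory.comp_apply, h3, ← ConcreteCategory.comp_apply,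
    ← Functor.map_comp, ← op_comp, hl]
  simp

end Groth.Agent.AlgSpEN.Bound
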