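import Groth.Agent.AlgSpB.Art.Pieces
import Groth.Agent.AlgSpB.Art.Translate

/-!
# Fibre powers of an etale chart of a sheaf and the loci where two points of the chart agree
-/

universe u

open CategoryTheory CategoryTheory.Limits AlgebraicGeometry

set_option backward.isDefEq.respectTransparency false
set_option backward.isDefEq.respectTransparency.types false
set_option autoImplicit false

namespace Groth.Agent.AlgSpEN

open _root_.AlgSp
open Groth.Agent.AlgSpB Groth.Agent.AlgSpB.Art

variable {S : Scheme.{u}} {F : Sp S} {U : Over S} {p : (yon S).obj U ⟶ F}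

/-- A map of schemes over `S` with a given image in an open subscheme lifts uniquely. -/
theorem exists_lift_opens {T X : Over S} (O : X.left.Opens) (k : T ⟶ X) (h : ∀ t, k.left t ∈ O) :
    ∃ r : T ⟶ Over.mk (O.ι ≫ X.hom),
      r ≫ (Over.homMk O.ι rfl : Over.mk (O.ι ≫ X.hom) ⟶ X) = k := by
  let i : Over.mk (O.ι ≫ X.hom) ⟶ X := Over.homMk O.ι rfl
  have : IsOpenImmersion i.left := inferInstanceAs (IsOpenImmersion O.ι)
  exact exists_lift_of_forall_mem i k fun t => by
    change k.left t ∈ Set.range O.ι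
    rw [Scheme.Opens.range_ι]
    exact h t

/-- Two points of a separated etale chart with the same image agree on an open and closed subscheme. -/
theorem exists_eqLocus [IsAffine U.left] (hp : RepWith @Etale p) {T : Over S} (a b : T ⟶ U)
    (hab : (yon S).map a ≫ p = (yon S).map b ≫ p) :
    ∃ C : T.left.Opens, IsClopen (C : Set T.left) ∧
      ∀ (T' : Over S) (k : T' ⟶ T), k ≫ a = k ≫ b ↔ ∀ t, k.left t ∈ C := by
  obtain ⟨R, x₁, x₂, sq⟩ := exists_pullback_yon hp.1 p
  obtain ⟨δ, hδ1, hδ2⟩ := sq.exists_lift (𝟙 _) (𝟙 _) rfl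
  obtain ⟨δ, rfl⟩ := (yon S).map_surjective δ
  rw [← Functor.map_comp] at hδ1 hδ2
  have h1 : δ ≫ x₁ = 𝟙 U := (yon S).map_injective (hδ1.trans ((yon S).map_id U).symm)
  have h2 : δ ≫ x₂ = 𝟙 U := (yon S).map_injective (hδ2.trans ((yon S).map_id U).symm)
  have : Etale x₂.left := hp.2 _ _ _ sq
  have : IsSeparated x₂.left := isSeparated_snd sq
  have h2l : δ.left ≫ x₂.left = 𝟙 U.left := congrArg (fun k : U ⟶ U => k.left) h2
  have : Etale (δ.left ≫ x₂.left) := by rw [h2l]; infer_instance
  have : Etale δ.left := MorphismProperty.of_postcomp @Etale δ.left x₂.left ‹Etale x₂.left›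
    ‹Etale (δ.left ≫ x₂.left)›
  have : Mono δ.left := by
    have : Mono (δ.left ≫ x₂.left) := by rw [h2l]; infer_instance
    exact mono_of_mono δ.left x₂.left
  have : IsOpenImmersion δ.left := IsOpenImmersion.of_flat_of_mono _
  have : IsClosedImmersion (δ.left ≫ x₂.left) := by rw [h2l]; infer_instance
  have : IsClosedImmersion δ.left := IsClosedImmersion.of_comp δ.left x₂.left
  obtain ⟨l, hl1, hl2⟩ := sq.exists_lift ((yon S).map a) ((yon S).map b) hab
  obtain ⟨l, rfl⟩ := (yon S).map_surjective l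
  rw [← Functor.map_comp] at hl1 hl2
  replace hl1 := (yon S).map_injective hl1
  replace hl2 := (yon S).map_injective hl2
  refine ⟨l.left ⁻¹ᵁ δ.left.opensRange, ⟨?_, (l.left ⁻¹ᵁ δ.left.opensRange).2⟩,
    fun T' k => ⟨fun h t => ?_, fun h => ?_⟩⟩
  · exact (δ.left.isClosedMap.isClosed_range).preimage l.left.continuous
  · have e : k ≫ l = (k ≫ a) ≫ δ := (yon S).map_injective (sq.hom_ext
      (by simp only [← Functor.map_comp, Category.assoc, hl1, h1, Category.comp_id])
      (by simp only [← Functor.map_comp, Category.assoc, hl2, h2, Category.comp_id, h]))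
    exact ⟨(k ≫ a).left t, (congrArg (fun q : T' ⟶ R => q.left t) e).symm⟩
  · obtain ⟨c, hc⟩ := exists_lift_of_forall_mem δ (k ≫ l) h
    rw [← hl1, ← hl2, ← Category.assoc, ← Category.assoc, ← hc, Category.assoc, Category.assoc, h1, h2]

/-- The fibre powers of a chart over a sheaf. -/
theorem exists_power [IsAffine U.left] (hp : RepWith @Etale p) (n : ℕ) :
    ∃ (W : Over S) (r : Fin (n + 1) → (W ⟶ U)),
      (∀ i, (yon S).map (r i) ≫ p = (yon S).map (r 0) ≫ p) ∧
      Etale (r 0).left ∧ IsSeparated (r 0).left ∧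
      ((RepWith @QuasiCompact p → QuasiCompact (r 0).left) ∧ (RepWith @IsAffineHom p → IsAffine W.left)) ∧
      (∀ (T : Over S) (a : Fin (n + 1) → (T ⟶ U)), (∀ i, (yon S).map (a i) ≫ p = (yon S).map (a 0) ≫ p) →
        ∃ h : T ⟶ W, ∀ i, h ≫ r i = a i) ∧
      ∀ (T : Over S) (h h' : T ⟶ W), (∀ i, h ≫ r i = h' ≫ r i) → h = h' := by
  induction n with
  | zero =>
    refine ⟨U, fun _ => 𝟙 U, fun i => rfl, ?_, ?_, ⟨fun _ => inferInstanceAs (QuasiCompact (𝟙 U.left)), fun _ => inferInstance⟩,
      fun T a _ => ⟨a 0, fun i => ?_⟩, fun T h h' e => ?_⟩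
    · exact inferInstanceAs (Etale (𝟙 U.left))
    · exact inferInstanceAs (IsSeparated (𝟙 U.left))
    · rw [Category.comp_id, Subsingleton.elim (0 : Fin 1) i]
    · simpa using e 0
  | succ n ih =>
    obtain ⟨W, r, hr, hre, hrs, hrq, hlift, hext⟩ := ih
    obtain ⟨W', v, q, sq⟩ := exists_pullback_yon hp.1 ((yon S).map (r 0) ≫ p)
    have : Etale q.left := hp.2 _ _ _ sq
    have : IsSeparated q.left := isSeparated_snd sq
    let r' : Fin (n + 2) → (W' ⟶ U) := Fin.snoc (fun i => q ≫ r i) v
    have hr0 : r' 0 = q ≫ r 0 := Fin.snoc_castSucc (α := fun _ => W' ⟶ U) v (fun i => q ≫ r i) 0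
    have hi : ∀ i : Fin (n + 1), r' i.castSucc = q ≫ r i := fun i =>
      Fin.snoc_castSucc (α := fun _ => W' ⟶ U) v (fun i => q ≫ r i) i
    have hl : r' (Fin.last _) = v := Fin.snoc_last (α := fun _ => W' ⟶ U) v (fun i => q ≫ r i)
    have hr' : ∀ i, (yon S).map (r' i) ≫ p = (yon S).map (r' 0) ≫ p := by
      intro i
      induction i using Fin.lastCases with
      | last => rw [hl, hr0, sq.w, Functor.map_comp, Category.assoc]
      | cast i => rw [hi, hr0, Functor.map_comp, Functor.map_comp, Category.assoc, Category.assoc, hr i]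
    refine ⟨W', r', hr', ?_, ?_, ⟨fun hq => ?_, fun hq => ?_⟩, fun T a ha => ?_, fun T h h' e => ?_⟩
    · rw [hr0, Over.comp_left]; infer_instance
    · rw [hr0, Over.comp_left]; infer_instance
    · have : QuasiCompact q.left := hq.2 _ _ _ sq
      have := hrq.1 hq
      rw [hr0, Over.comp_left]; infer_instance
    · have : IsAffineHom q.left := hq.2 _ _ _ sq
      have := hrq.2 hq
      exact isAffine_of_isAffineHom q.left
    · obtain ⟨h, hh⟩ := hlift T (fun i => a i.castSucc) fun i => by
        rw [ha, ha (Fin.castSucc 0)]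
      obtain ⟨l, hl1, hl2⟩ := sq.exists_lift ((yon S).map (a (Fin.last _))) ((yon S).map h) (by
        rw [ha, ← Category.assoc, ← Functor.map_comp, hh]; rfl)
      obtain ⟨l, rfl⟩ := (yon S).map_surjective l
      rw [← Functor.map_comp] at hl1 hl2
      replace hl1 := (yon S).map_injective hl1
      replace hl2 := (yon S).map_injective hl2
      refine ⟨l, fun i => ?_⟩
      induction i using Fin.lastCases with
      | last => rw [hl]; exact hl1
      | cast i => rw [hi, reassoc_of% hl2]; exact hh i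
    · have e2 : h ≫ q = h' ≫ q := hext T _ _ fun i => by
        have := e i.castSucc
        rw [hi] at this
        simpa only [Category.assoc] using this
      have e1 : h ≫ v = h' ≫ v := by simpa only [hl] using e (Fin.last _)
      exact (yon S).map_injective (sq.hom_ext
        (by rw [← Functor.map_comp, ← Functor.map_comp, e1])
        (by rw [← Functor.map_comp, ← Functor.map_comp, e2]))

/-- The fibre power indexed by a finite type with a chosen element. -/
theorem exists_powerI [IsAffine U.left] (hp : RepWith @Etale p) (I : Type u) [Finite I] [Nonempty I] :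
    ∃ (W : Over S) (r : I → (W ⟶ U)) (i₀ : I),
      (∀ i, (yon S).map (r i) ≫ p = (yon S).map (r i₀) ≫ p) ∧
      Etale (r i₀).left ∧ IsSeparated (r i₀).left ∧
      ((RepWith @QuasiCompact p → QuasiCompact (r i₀).left) ∧ (RepWith @IsAffineHom p → IsAffine W.left)) ∧
      (∀ (T : Over S) (a : I → (T ⟶ U)), (∀ i j, (yon S).map (a i) ≫ p = (yon S).map (a j) ≫ p) →
        ∃ h : T ⟶ W, ∀ i, h ≫ r i = a i) ∧
      ∀ (T : Over S) (h h' : T ⟶ W), (∀ i, h ≫ r i = h' ≫ r i) → h = h' := by
  obtain ⟨n, ⟨e⟩⟩ := Finite.exists_equiv_fin I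
  obtain _ | n := n
  · exact (IsEmpty.false (e (Classical.arbitrary I))).elim
  obtain ⟨W, r, hr, hre, hrs, hrq, hlift, hext⟩ := exists_power hp n
  refine ⟨W, fun i => r (e i), e.symm 0, fun i => ?_, ?_, ?_, ⟨fun hq => ?_, hrq.2⟩, fun T a ha => ?_, fun T h h' hh => ?_⟩
  · simpa using hr (e i)
  · simpa using hre
  · simpa using hrs
  · simpa using hrq.1 hq
  · obtain ⟨h, hh⟩ := hlift T (fun i => a (e.symm i)) fun i => ha _ _
    exact ⟨h, fun i => by simpa using hh (e i)⟩
  · exact hext T h h' fun i => by simpa using hh (e.symm i)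

end Groth.Agent.AlgSpEN
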