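import Groth.Agent.AlgSpEN.PushVanish

/-!
# Cohomology of direct images along affine morphisms
-/

set_option autoImplicit false
universe w v v' u u'

open CategoryTheory CategoryTheory.Limits AlgebraicGeometry Opposite CategoryTheory.Abelian

noncomputable section

namespace Groth.Agent.AlgSpEN.PushExt

section Shift

variable {A : Type u} [Category.{v} A] [Abelian A] [HasExt.{v} A] {S : ShortComplex A} (hS : S.ShortExact)
  [Injective S.X₂] (Z : A)

include hS

/-- The boundary into positive degree at least two is bijective. -/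
theorem bijective_delta (n : ℕ) :
    Function.Bijective (hS.extClass.postcomp Z (rfl : n + 1 + 1 = n + 1 + 1)) := by
  refine ⟨(injective_iff_map_eq_zero _).2 fun x hx => ?_, fun x => ?_⟩
  · obtain ⟨y, rfl⟩ := Ext.covariant_sequence_exact₃ Z hS x rfl hx
    rw [Ext.eq_zero_of_injective y, Ext.zero_comp]
  · obtain ⟨y, hy⟩ := Ext.covariant_sequence_exact₁ Z hS x (Ext.eq_zero_of_injective _) rfl
    exact ⟨y, hy⟩

/-- The boundary from morphisms into degree one. -/
def delta₀ : (Z ⟶ S.X₃) →+ Ext Z S.X₁ 1 :=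
  (hS.extClass.postcomp Z (rfl : 0 + 1 = 1)).comp Ext.addEquiv₀.symm.toAddMonoidHom

theorem surjective_delta₀ : Function.Surjective (delta₀ hS Z) := fun x => by
  obtain ⟨y, hy⟩ := Ext.covariant_sequence_exact₁ Z hS x (Ext.eq_zero_of_injective _) rfl
  obtain ⟨g, rfl⟩ := (Ext.mk₀_bijective _ _).2 y
  exact ⟨g, hy⟩

omit [Injective S.X₂] in
theorem delta₀_eq_zero_iff (g : Z ⟶ S.X₃) : delta₀ hS Z g = 0 ↔ ∃ a : Z ⟶ S.X₂, a ≫ S.g = g := by
  refine ⟨fun h => ?_, fun ⟨a, ha⟩ => ?_⟩
  · obtain ⟨x, hx⟩ := Ext.covariant_sequence_exact₃ Z hS (Ext.mk₀ g) (rfl : 0 + 1 = 1) h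
    obtain ⟨a, rfl⟩ := (Ext.mk₀_bijective _ _).2 x
    rw [Ext.mk₀_comp_mk₀] at hx
    exact ⟨a, (Ext.mk₀_bijective _ _).1 hx⟩
  · subst ha
    exact Groth.Agent.SiteCoh.DimShift.delta_comp_eq_zero hS a rfl

end Shift

/-- Two compatible injective coresolutions have the same Ext groups. -/
theorem exists_ext_addEquiv {A : Type u} [Category.{v} A] [Abelian A] [HasExt.{v} A] {B : Type u'} [Category.{v'} B]
    [Abelian B] [HasExt.{v'} B] (R : A ⥤ B) [R.PreservesZeroMorphisms] {Z : A} {Z' : B} (Φ : ∀ G : A, (Z ⟶ G) ≃+ (Z' ⟶ R.obj G))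
    (hΦ : ∀ {G H : A} (f : G ⟶ H) (a : Z ⟶ G), Φ H (a ≫ f) = Φ G a ≫ R.map f)
    (c I : ℕ → A) (i : ∀ k, c k ⟶ I k) (p : ∀ k, I k ⟶ c (k + 1)) (h : ∀ k, i k ≫ p k = 0)
    (hS : ∀ k, (ShortComplex.mk _ _ (h k)).ShortExact) (hI : ∀ k, Injective (I k))
    (hS' : ∀ k, ((ShortComplex.mk _ _ (h k)).map R).ShortExact) (hI' : ∀ k, Injective (R.obj (I k))) (n : ℕ) :
    Nonempty (Ext Z (c 0) n ≃+ Ext Z' (R.obj (c 0)) n) := by
  match n with
  | 0 => exact ⟨(Ext.addEquiv₀.trans (Φ _)).trans Ext.addEquiv₀.symm⟩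
  | n + 1 =>
    suffices ∀ k, Nonempty (Ext Z (c k) (n + 1) ≃+ Ext Z' (R.obj (c k)) (n + 1)) from this 0
    induction n with
    | zero =>
      intro k
      have : Injective (ShortComplex.mk _ _ (h k)).X₂ := hI k
      have : Injective ((ShortComplex.mk _ _ (h k)).map R).X₂ := hI' k
      let α : (Z ⟶ c (k + 1)) →+ Ext Z (c k) 1 := delta₀ (hS k) Z
      let β : (Z ⟶ c (k + 1)) →+ Ext Z' (R.obj (c k)) 1 :=
        (delta₀ (hS' k) Z').comp (Φ (c (k + 1))).toAddMonoidHom
      have hα : Function.Surjective α := surjective_delta₀ (hS k) Z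
      have hβ : Function.Surjective β := (surjective_delta₀ (hS' k) Z').comp (Φ _).surjective
      have hker : α.ker = β.ker := by
        ext g
        change delta₀ (hS k) Z g = 0 ↔ delta₀ (hS' k) Z' (Φ (c (k + 1)) g) = 0
        refine (delta₀_eq_zero_iff (hS k) Z g).trans (Iff.trans ?_ (delta₀_eq_zero_iff (hS' k) Z' _).symm)
        refine ⟨fun ⟨a, ha⟩ => ⟨Φ (I k) a, (hΦ (p k) a).symm.trans (congrArg _ ha)⟩, fun ⟨a, ha⟩ => ?_⟩
        refine ⟨(Φ (I k)).symm a, (Φ _).injective ((hΦ (p k) _).trans ?_)⟩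
        exact (congrArg (· ≫ R.map (p k)) ((Φ (I k)).apply_symm_apply a)).trans ha
      exact ⟨(QuotientAddGroup.quotientKerEquivOfSurjective α hα).symm.trans
        ((QuotientAddGroup.quotientAddEquivOfEq hker).trans (QuotientAddGroup.quotientKerEquivOfSurjective β hβ))⟩
    | succ n ih =>
      intro k
      have : Injective (ShortComplex.mk _ _ (h k)).X₂ := hI k
      have : Injective ((ShortComplex.mk _ _ (h k)).map R).X₂ := hI' k
      obtain ⟨e⟩ := ih (k + 1)
      exact ⟨((AddEquiv.ofBijective _ (bijective_delta (hS k) Z n)).symm.trans e).trans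
        (AddEquiv.ofBijective _ (bijective_delta (hS' k) Z' n))⟩

set_option backward.isDefEq.respectTransparency false
set_option backward.isDefEq.respectTransparency.types false

open _root_.AlgSp Groth.Agent.AlgSpQC Groth.Agent.AlgSpEN.Bound

variable {S : Scheme.{u}} {X Y : Space S} {f : X.obj ⟶ Y.obj} (hf : Representable f)

/-- Restriction of families to base changes of charts is bijective. -/
theorem exists_sections_equiv (U : EtOver Y.obj) (hUs : RepWith @Surjective U.obj.hom) (G : AbEt X.obj)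
    (η : ∀ V : EtOver Y.obj, G.obj.obj (op (bcO hf V)))
    (hη : ∀ (V V' : EtOver Y.obj) (m : V' ⟶ V), (G.obj.map (bcM hf m).op).hom (η V) = η V') :
    ∃! s : ∀ E : EtOver X.obj, G.obj.obj (op E),
      (∀ (E E' : EtOver X.obj) (g : E' ⟶ E), (G.obj.map g.op).hom (s E) = s E') ∧ ∀ V, s (bcO hf V) = η V := by
  classical
  have hcov : ∀ (E : EtOver X.obj) (z : E.obj.left.left),
      ∃ (Z : EtOver X.obj) (g : Z ⟶ E), Nonempty (Z ⟶ bcO hf U) ∧ z ∈ Set.range g.hom.left.left := fun E z => by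
    have h1 : RepWith @Surjective (bcO hf U).obj.hom :=
      MorphismProperty.of_isPullback (hf.isPullback U.obj.hom).flip hUs
    exact ⟨EtOver.prodObj E (bcO hf U), EtOver.prodFst _ _, ⟨EtOver.prodSnd _ _⟩, exists_prod_cover _ E z
      (Groth.Agent.AlgSpB.surjective_ofPt h1 _)⟩
  have hsep : ∀ {E : EtOver X.obj} (x y : G.obj.obj (op E)), (∀ (Z : EtOver X.obj) (g : Z ⟶ E),
      Nonempty (Z ⟶ bcO hf U) → (G.obj.map g.op).hom x = (G.obj.map g.op).hom y) → x = y := fun {E} x y h => by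
    refine G.property.isSeparated _ (Presheaf.equalizerSieve x y)
      ((AlgSpD.mem_etTop_iff _).2 fun z => ?_) _ _ fun Z g hg => hg
    obtain ⟨Z, g, hZ, hz⟩ := hcov E z
    exact ⟨Z, g, h Z g hZ, hz⟩
  have huniq : ∀ {Z : EtOver X.obj} (a b : Z ⟶ bcO hf U),
      (G.obj.map a.op).hom (η U) = (G.obj.map b.op).hom (η U) := fun a b => by
    obtain ⟨g, hg1, hg2⟩ := PushInj.exists_prod_lift hf a b
    rw [← hg1, ← hg2, op_comp, op_comp, Functor.map_comp, Functor.map_comp, ConcreteCategory.comp_apply,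
      ConcreteCategory.comp_apply, hη, hη]
  let R : ∀ E : EtOver X.obj, Sieve E := fun E =>
    { arrows := fun Z _ => Nonempty (Z ⟶ bcO hf U)
      downward_closed := fun {_ _} _ ⟨q⟩ g => ⟨g ≫ q⟩ }
  have hP : Presieve.IsSheaf (etTop X.obj) (G.obj ⋙ CategoryTheory.forget AddCommGrpCat) :=
    (isSheaf_iff_isSheaf_of_type _ _).1
      (Presheaf.isSheaf_comp_of_isSheaf (etTop X.obj) G.obj (CategoryTheory.forget AddCommGrpCat) G.property)
  let x : ∀ E : EtOver X.obj, Presieve.FamilyOfElements (G.obj ⋙ CategoryTheory.forget AddCommGrpCat)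
      (R E).arrows := fun E Z g h => (G.obj.map (Classical.choice h).op).hom (η U)
  have hx : ∀ E, (x E).Compatible := fun E Y₁ Y₂ Z g₁ g₂ f₁ f₂ h₁ h₂ _ => by
    change (G.obj.map g₁.op).hom ((G.obj.map _).hom (η U)) = (G.obj.map g₂.op).hom ((G.obj.map _).hom (η U))
    rw [← ConcreteCategory.comp_apply, ← Functor.map_comp, ← op_comp, ← ConcreteCategory.comp_apply,
      ← Functor.map_comp, ← op_comp]
    exact huniq _ _
  have hR : ∀ E, R E ∈ etTop X.obj E := fun E => (AlgSpD.mem_etTop_iff _).2 fun z => by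
    obtain ⟨Z, g, hZ, hz⟩ := hcov E z
    exact ⟨Z, g, hZ, hz⟩
  choose s hs _ using fun E => hP (R E) (hR E) (x E) (hx E)
  have hs' : ∀ {E Z : EtOver X.obj} (g : Z ⟶ E) (q : Z ⟶ bcO hf U),
      (G.obj.map g.op).hom (s E) = (G.obj.map q.op).hom (η U) := fun {E Z} g q =>
    (hs E g ⟨q⟩).trans (huniq _ _)
  have hfam : ∀ (E E' : EtOver X.obj) (g : E' ⟶ E), (G.obj.map g.op).hom (s E) = s E' := fun E E' g => by
    refine hsep _ _ fun Z m ⟨q⟩ => ?_
    rw [← ConcreteCategory.comp_apply, ← Functor.map_comp, ← op_comp, hs' _ q, hs' m q]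
  refine ⟨s, ⟨hfam, fun V => hsep _ _ fun Z g ⟨q⟩ => ?_⟩, fun t ⟨ht, ht'⟩ => funext fun E => hsep _ _ fun Z g ⟨q⟩ => ?_⟩
  · rw [hs' g q]
    obtain ⟨l, hl1, hl2⟩ := PushInj.exists_prod_lift hf g q
    rw [← hl1, ← hl2, op_comp, op_comp, Functor.map_comp, Functor.map_comp, ConcreteCategory.comp_apply,
      ConcreteCategory.comp_apply, hη, hη]
  · rw [hs' g q, ht _ _ g, ← ht _ _ q, ht']

/-- Global sections of a direct image. -/
def gEquivHom (G : AbEt X.obj) :
    ((Functor.const (EtOver X.obj)ᵒᵖ).obj (AddCommGrpCat.of (ULift.{u + 1} ℤ)) ⟶ G.obj) →+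
      ((Functor.const (EtOver Y.obj)ᵒᵖ).obj (AddCommGrpCat.of (ULift.{u + 1} ℤ)) ⟶
        ((pushEt hf AddCommGrpCat.{u + 1}).obj G).obj) where
  toFun α :=
    { app := fun V => α.app (op (bcO hf V.unop))
      naturality := fun V V' m => α.naturality (bcM hf m.unop).op }
  map_zero' := rfl
  map_add' _ _ := rfl

theorem hom_ext_one {C : Type u'} [Category.{v'} C] {F : Cᵒᵖ ⥤ AddCommGrpCat.{w}}
    {α β : (Functor.const Cᵒᵖ).obj (AddCommGrpCat.of (ULift.{w} ℤ)) ⟶ F}
    (h : ∀ V : C, (α.app (op V)).hom ⟨1⟩ = (β.app (op V)).hom ⟨1⟩) : α = β := by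
  ext V z
  have e : z = z.down • (⟨1⟩ : ULift.{w} ℤ) := ULift.ext _ _ (by change z.down = z.down • (1 : ℤ); simp)
  rw [e]
  change (α.app V).hom _ = (β.app V).hom _
  rw [map_zsmul, map_zsmul]
  exact congrArg (z.down • ·) (h V.unop)

theorem gEquivHom_bijective (U : EtOver Y.obj) (hUs : RepWith @Surjective U.obj.hom) (G : AbEt X.obj) :
    Function.Bijective (gEquivHom hf G) := by
  refine ⟨fun α β h => hom_ext_one fun E => ?_, fun θ => ?_⟩
  · obtain ⟨s, -, hu⟩ := exists_sections_equiv hf U hUs G (fun V => (α.app (op (bcO hf V))).hom ⟨1⟩)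
      fun V V' m => (NatTrans.naturality_apply α (bcM hf m).op (ULift.up 1)).symm
    have h1 := hu (fun E => (α.app (op E)).hom ⟨1⟩)
      ⟨fun E E' g => (NatTrans.naturality_apply α g.op (ULift.up 1)).symm, fun V => rfl⟩
    have h2 := hu (fun E => (β.app (op E)).hom ⟨1⟩)
      ⟨fun E E' g => (NatTrans.naturality_apply β g.op (ULift.up 1)).symm, fun V =>
        congrArg (fun γ : (Functor.const (EtOver Y.obj)ᵒᵖ).obj (AddCommGrpCat.of (ULift.{u + 1} ℤ)) ⟶
          ((pushEt hf AddCommGrpCat.{u + 1}).obj G).obj => (γ.app (op V)).hom ⟨1⟩) h.symm⟩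
    exact congrFun (h1.trans h2.symm) E
  · obtain ⟨s, ⟨hs, hs'⟩, -⟩ := exists_sections_equiv hf U hUs G (fun V => (θ.app (op V)).hom ⟨1⟩)
      fun V V' m => (NatTrans.naturality_apply θ m.op (ULift.up 1)).symm
    refine ⟨{ app := fun E => AddCommGrpCat.ofHom
                ((zmultiplesHom _ (s E.unop)).comp AddEquiv.ulift.toAddMonoidHom)
              naturality := fun E E' g => AddCommGrpCat.hom_ext (DFunLike.ext _ _ fun z => by
                change z.down • s E'.unop = (G.obj.map g).hom (z.down • s E.unop)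
                rw [map_zsmul]
                exact congrArg _ (hs _ _ g.unop).symm) }, hom_ext_one fun V => ?_⟩
    change (1 : ℤ) • s (bcO hf V) = _
    rw [one_zsmul]
    exact hs' V

/-- Cohomology of a sheaf with exact Amitsur complexes is that of its direct image along an affine morphism. -/
theorem exists_HEt_addEquiv (haff : IsAffineMor f) (F : AbEt X.obj) (hF : Amitsur.Cech F) (n : ℕ) :
    Nonempty (HEt X.obj F n ≃+ HEt Y.obj ((pushEt hf AddCommGrpCat.{u + 1}).obj F) n) := by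
  obtain ⟨U₀, p₀, hp₀, hp₀s⟩ := Y.property.atlas
  let U : EtOver Y.obj := EtOver.mk p₀ hp₀
  let R := pushEt hf AddCommGrpCat.{u + 1}
  have : PreservesFiniteLimits R :=
    have : PreservesLimitsOfSize.{0, 0} R :=
      (AlgSp.pullPushAdjEt hf AddCommGrpCat.{u + 1}).rightAdjoint_preservesLimits
    PreservesLimitsOfSize.preservesFiniteLimits _
  have hS : ∀ k, ((seq k F).map R).ShortExact := fun k => by
    have hm : Mono (seq k F).f := (seq_shortExact k F).mono_f
    have he : Epi (R.map (seq k F).g) := Amitsur.epi_push_of_affine hf haff _ fun E hE =>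
      Amitsur.sections_surjective (seq k F) (seq_shortExact k F) (PushVanish.cech_cz hF k) E
    exact { exact := (seq_shortExact k F).exact.map_of_mono_of_preservesKernel R hm inferInstance
            mono_f := R.map_mono _
            epi_g := he }
  let adjX := sheafificationAdjunction (etTop X.obj) AddCommGrpCat.{u + 1}
  let adjY := sheafificationAdjunction (etTop Y.obj) AddCommGrpCat.{u + 1}
  let Φ : ∀ G : AbEt X.obj, _ ≃+ _ := fun G =>
    ((adjX.homAddEquiv _ G).trans (AddEquiv.ofBijective _ (gEquivHom_bijective hf U hp₀s G))).trans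
      (adjY.homAddEquiv _ (R.obj G)).symm
  refine exists_ext_addEquiv R Φ (fun {G H} g a => ?_) (fun k => cz k F) (fun k => (seq k F).X₂)
    (fun k => (seq k F).f) (fun k => (seq k F).g) (fun k => (seq k F).zero) (fun k => seq_shortExact k F)
    (fun k => injective_seq k F) hS (fun k => PushInj.injective_push hf (seq k F).X₂) n
  change (adjY.homEquiv _ _).symm (gEquivHom hf H (adjX.homEquiv _ H (a ≫ g))) =
    (adjY.homEquiv _ _).symm (gEquivHom hf G (adjX.homEquiv _ G a)) ≫ R.map g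
  rw [adjX.homEquiv_naturality_right, ← adjY.homEquiv_naturality_right_symm]
  rfl

end Groth.Agent.AlgSpEN.PushExt
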