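import Groth.Agent.AlgSpEN.SectBound
import Groth.Agent.AlgSpQC.Push
import Mathlib.Algebra.Category.Grp.AB
import Mathlib.CategoryTheory.Abelian.GrothendieckAxioms.Colim
import Mathlib.CategoryTheory.Functor.KanExtension.Adjunction

/-!
# Direct images of injective abelian sheaves are injective
-/

set_option autoImplicit false
universe u

open CategoryTheory CategoryTheory.Limits AlgebraicGeometry Opposite

set_option backward.isDefEq.respectTransparency false
set_option backward.isDefEq.respectTransparency.types false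

noncomputable section

namespace Groth.Agent.AlgSpEN.PushInj

open _root_.AlgSp Groth.Agent.AlgSpQC

variable {S : Scheme.{u}} {X Y : Sp S} {f : X ⟶ Y} (hf : Representable f)

/-- The composite with the projection of a map into a base change. -/
def proj {E : EtOver Y} {E' : EtOver X} (g : E' ⟶ bcO hf E) : E'.obj.left ⟶ E.obj.left :=
  g.hom.left ≫ EtOver.bcπ hf E

theorem proj_w {E : EtOver Y} {E' : EtOver X} (g : E' ⟶ bcO hf E) :
    (yon S).map (proj hf g) ≫ E.obj.hom = E'.obj.hom ≫ f := by
  rw [proj, Functor.map_comp, Category.assoc, ← (EtOver.isPullback_bcObj hf E).w, ← Category.assoc]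
  exact congrArg (· ≫ f) (EtOver.w g)

theorem proj_ext {E : EtOver Y} {E' : EtOver X} {g g' : E' ⟶ bcO hf E} (h : proj hf g = proj hf g') : g = g' :=
  EtOver.hom_ext _ _ (hf.hom_ext ((EtOver.w g).trans (EtOver.w g').symm) h)

theorem exists_proj {E : EtOver Y} {E' : EtOver X} (l : E'.obj.left ⟶ E.obj.left)
    (h : (yon S).map l ≫ E.obj.hom = E'.obj.hom ≫ f) : ∃ g : E' ⟶ bcO hf E, proj hf g = l :=
  ⟨EtOver.homMk (hf.lift E'.obj.hom l h.symm) (hf.lift_fst _ _ _), hf.lift_snd _ _ _⟩

theorem proj_bcM {E F : EtOver Y} {E' : EtOver X} (g : E' ⟶ bcO hf E) (a : E ⟶ F) :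
    proj hf (g ≫ bcM hf a) = proj hf g ≫ a.hom.left := by
  change (g.hom.left ≫ (bcM hf a).hom.left) ≫ EtOver.bcπ hf F = (g.hom.left ≫ EtOver.bcπ hf E) ≫ a.hom.left
  rw [Category.assoc, Category.assoc]
  exact congrArg (g.hom.left ≫ ·) (EtOver.bcMap_snd hf a)

theorem exists_prod_lift {V₁ V₂ : EtOver Y} {E' : EtOver X} (g₁ : E' ⟶ bcO hf V₁) (g₂ : E' ⟶ bcO hf V₂) :
    ∃ g : E' ⟶ bcO hf (EtOver.prodObj V₁ V₂),
      g ≫ bcM hf (EtOver.prodFst V₁ V₂) = g₁ ∧ g ≫ bcM hf (EtOver.prodSnd V₁ V₂) = g₂ := by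
  let l : E'.obj.left ⟶ (EtOver.prodObj V₁ V₂).obj.left :=
    V₂.property.1.lift' (proj hf g₂) (proj hf g₁) ((proj_w hf g₂).trans (proj_w hf g₁).symm)
  have h1 : l ≫ (EtOver.prodFst V₁ V₂).hom.left = proj hf g₁ := Functor.relativelyRepresentable.lift'_snd _ _ _ _
  have h2 : l ≫ (EtOver.prodSnd V₁ V₂).hom.left = proj hf g₂ := Functor.relativelyRepresentable.lift'_fst _ _ _ _
  obtain ⟨g, hg⟩ := exists_proj hf l (by
    rw [← EtOver.w (EtOver.prodFst V₁ V₂), ← Category.assoc, ← Functor.map_comp, h1]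
    exact proj_w hf g₁)
  exact ⟨g, proj_ext hf (by rw [proj_bcM, hg, h1]), proj_ext hf (by rw [proj_bcM, hg, h2])⟩

theorem prod_ext {V₁ V₂ : EtOver Y} {E' : EtOver X} {g g' : E' ⟶ bcO hf (EtOver.prodObj V₁ V₂)}
    (h1 : g ≫ bcM hf (EtOver.prodFst V₁ V₂) = g' ≫ bcM hf (EtOver.prodFst V₁ V₂))
    (h2 : g ≫ bcM hf (EtOver.prodSnd V₁ V₂) = g' ≫ bcM hf (EtOver.prodSnd V₁ V₂)) : g = g' := by
  apply proj_ext hf
  apply Functor.relativelyRepresentable.hom_ext'
  · have := congrArg (proj hf) h2
    rwa [proj_bcM, proj_bcM] at this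
  · have := congrArg (proj hf) h1
    rwa [proj_bcM, proj_bcM] at this

/-- Two maps equalized by a map into the base change are equalized by a map of the site. -/
theorem exists_equalizer {V V' : EtOver Y} {E' : EtOver X} (a b : V' ⟶ V) (g : E' ⟶ bcO hf V')
    (h : g ≫ bcM hf a = g ≫ bcM hf b) :
    ∃ (W : EtOver Y) (e : W ⟶ V') (g' : E' ⟶ bcO hf W), e ≫ a = e ≫ b ∧ g' ≫ bcM hf e = g := by
  let c : V' ⟶ EtOver.prodObj V V := (EtOver.prodIsLimit V V).lift (BinaryFan.mk a b)
  let d : V ⟶ EtOver.prodObj V V := (EtOver.prodIsLimit V V).lift (BinaryFan.mk (𝟙 V) (𝟙 V))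
  have c1 : c ≫ EtOver.prodFst V V = a := (EtOver.prodIsLimit V V).fac (BinaryFan.mk a b) ⟨WalkingPair.left⟩
  have c2 : c ≫ EtOver.prodSnd V V = b := (EtOver.prodIsLimit V V).fac (BinaryFan.mk a b) ⟨WalkingPair.right⟩
  have d1 : d ≫ EtOver.prodFst V V = 𝟙 V :=
    (EtOver.prodIsLimit V V).fac (BinaryFan.mk (𝟙 V) (𝟙 V)) ⟨WalkingPair.left⟩
  have d2 : d ≫ EtOver.prodSnd V V = 𝟙 V :=
    (EtOver.prodIsLimit V V).fac (BinaryFan.mk (𝟙 V) (𝟙 V)) ⟨WalkingPair.right⟩
  have hc : g ≫ bcM hf c = (g ≫ bcM hf a) ≫ bcM hf d := by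
    refine prod_ext hf ?_ ?_
    · rw [Category.assoc, Category.assoc, Category.assoc, ← Functor.map_comp, ← Functor.map_comp, c1, d1]
      simp
    · rw [Category.assoc, Category.assoc, Category.assoc, ← Functor.map_comp, ← Functor.map_comp, c2, d2]
      simp [h]
  have sq := (IsPullback.of_hasPullback c d).map (EtOver.bc hf)
  refine ⟨pullback c d, pullback.fst c d, sq.lift g (g ≫ bcM hf a) hc, ?_, sq.lift_fst _ _ _⟩
  have e1 := congrArg (· ≫ EtOver.prodFst V V) (pullback.condition (f := c) (g := d))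
  have e2 := congrArg (· ≫ EtOver.prodSnd V V) (pullback.condition (f := c) (g := d))
  simp only [Category.assoc, c1, c2, d1, d2, Category.comp_id] at e1 e2
  exact e1.trans e2.symm

/-- The charts of `Y` under an object of `X` form a directed system. -/
theorem isFilteredOrEmpty (E' : EtOver X) :
    IsFilteredOrEmpty (CostructuredArrow (EtOver.bc hf).op (op E')) where
  cocone_objs A B := by
    obtain ⟨g, h1, h2⟩ := exists_prod_lift hf A.hom.unop B.hom.unop
    exact ⟨CostructuredArrow.mk (S := (EtOver.bc hf).op) (Y := op (EtOver.prodObj A.left.unop B.left.unop)) g.op,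
      CostructuredArrow.homMk (EtOver.prodFst _ _).op (Quiver.Hom.unop_inj h1),
      CostructuredArrow.homMk (EtOver.prodSnd _ _).op (Quiver.Hom.unop_inj h2), trivial⟩
  cocone_maps A B a b := by
    have ha := congrArg Quiver.Hom.unop (CostructuredArrow.w a)
    have hb := congrArg Quiver.Hom.unop (CostructuredArrow.w b)
    obtain ⟨W, e, g', he, hg'⟩ := exists_equalizer hf a.left.unop b.left.unop B.hom.unop (ha.trans hb.symm)
    exact ⟨CostructuredArrow.mk (S := (EtOver.bc hf).op) (Y := op W) g'.op,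
      CostructuredArrow.homMk e.op (Quiver.Hom.unop_inj hg'),
      CostructuredArrow.hom_ext _ _ (Quiver.Hom.unop_inj he)⟩

/-- The direct image of an injective abelian sheaf is injective. -/
theorem injective_push (I : AbEt X) [Injective I] :
    Injective ((pushEt hf AddCommGrpCat.{u + 1}).obj I) := by
  constructor
  intro A B β α _
  have : Injective I.obj :=
    (sheafificationAdjunction (etTop X) AddCommGrpCat.{u + 1}).map_injective I inferInstance
  let L := (EtOver.bc hf).op
  let adj := L.lanAdjunction AddCommGrpCat.{u + 1}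
  have hα : Mono α.hom := (sheafToPresheaf (etTop Y) AddCommGrpCat.{u + 1}).map_mono α
  have : Mono (L.lan.map α.hom) := by
    have := AB5OfSize_of_univLE.{u, u + 1, u + 1, u + 1} AddCommGrpCat.{u + 1}
    have : ∀ Z, Mono ((L.lan.map α.hom).app Z) := by
      rintro ⟨E'⟩
      have := isFilteredOrEmpty hf E'
      have hmono : Mono (colim.map (Functor.whiskerLeft (CostructuredArrow.proj L (op E')) α.hom)) := by
        by_cases hne : Nonempty (CostructuredArrow L (op E'))
        · have : IsFiltered (CostructuredArrow L (op E')) := { nonempty := hne }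
          have : ∀ j, Mono ((Functor.whiskerLeft (CostructuredArrow.proj L (op E')) α.hom).app j) := fun j =>
            (NatTrans.mono_iff_mono_app α.hom).1 hα _
          have : Mono (Functor.whiskerLeft (CostructuredArrow.proj L (op E')) α.hom) := NatTrans.mono_of_mono_app _
          have : (colim : (CostructuredArrow L (op E') ⥤ AddCommGrpCat.{u + 1}) ⥤ _).PreservesMonomorphisms :=
            preservesMonomorphisms_of_preservesLimitsOfShape _
          infer_instance
        · have : IsEmpty (CostructuredArrow L (op E')) := not_nonempty_iff.1 hne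
          refine ⟨fun a b _ => ?_⟩
          have hz : IsZero (colimit (CostructuredArrow.proj L (op E') ⋙ A.obj)) :=
            (IsZero.iff_id_eq_zero _).2 (colimit.hom_ext fun j => isEmptyElim j)
          exact hz.eq_of_tgt a b
      refine (((MorphismProperty.monomorphisms _).arrow_mk_iso_iff (Arrow.isoMk
        (L.leftKanExtensionObjIsoColimit A.obj (op E')) (L.leftKanExtensionObjIsoColimit B.obj (op E')) ?_)).2 hmono)
      refine (cancel_epi (L.leftKanExtensionObjIsoColimit A.obj (op E')).inv).1 ?_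
      refine colimit.hom_ext fun j => ?_
      simp [Functor.lan]
      rfl
    exact NatTrans.mono_of_mono_app _
  refine ⟨⟨(adj.homEquiv B.obj I.obj) (Injective.factorThru ((adj.homEquiv A.obj I.obj).symm β.hom) (L.lan.map α.hom))⟩, ?_⟩
  apply InducedCategory.hom_ext
  change α.hom ≫ adj.homEquiv B.obj I.obj _ = β.hom
  rw [← adj.homEquiv_naturality_left, Injective.comp_factorThru, Equiv.apply_symm_apply]

end Groth.Agent.AlgSpEN.PushInj
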