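import Groth.Agent.SitePull.RFCohIn
import Groth.Agent.AlgSpEN.RlimEpi
import Groth.Agent.KFlat.QCohAcy
import Mathlib.Algebra.Category.Grp.EnoughInjectives
import Mathlib.Algebra.Category.Grp.AB

/-!
# Bounds for total right derived functors of finite cohomological dimension on a class of objects
-/

set_option autoImplicit false
universe w u v t

open CategoryTheory CategoryTheory.Limits DerivedCategory Pretriangulated
open Groth.Agent.CohDerLib.RFLim Groth.Agent.KFlat

set_option backward.isDefEq.respectTransparency false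

namespace Groth.Agent.AlgSpEN.RFBounds

attribute [local instance] HasDerivedCategory.standard

/-- The free abelian group of rank one. -/
abbrev Z₁ : AddCommGrpCat.{t} := AddCommGrpCat.of (ULift.{t} ℤ)

/-- The map sending the generator to an element. -/
noncomputable def elemHom {M : AddCommGrpCat.{t}} (x : M) : Z₁.{t} ⟶ M :=
  AddCommGrpCat.ofHom ((zmultiplesHom M x).comp AddEquiv.ulift.toAddMonoidHom)

theorem elemHom_apply {M : AddCommGrpCat.{t}} (x : M) : elemHom x (ULift.up (1 : ℤ)) = x :=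
  one_zsmul x

theorem hom_ext_elem {M : AddCommGrpCat.{t}} {f g : Z₁.{t} ⟶ M} (h : f (ULift.up 1) = g (ULift.up 1)) : f = g := by
  refine AddCommGrpCat.hom_ext (AddMonoidHom.ext fun ⟨n⟩ => ?_)
  have e : (ULift.up n : ULift.{t} ℤ) = n • ULift.up (1 : ℤ) := by ext; simp
  rw [e, map_zsmul, map_zsmul]
  exact congrArg (n • ·) h

theorem exists_elemHom_lift {M N : AddCommGrpCat.{t}} (q : M ⟶ N) [Epi q] (x : Z₁ ⟶ N) :
    ∃ y : Z₁ ⟶ M, y ≫ q = x := by
  obtain ⟨y, hy⟩ := (AddCommGrpCat.epi_iff_surjective q).1 inferInstance (x (ULift.up 1))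
  exact ⟨elemHom y, hom_ext_elem (by rw [ConcreteCategory.comp_apply, elemHom_apply, hy])⟩

theorem acy_Z (M : AddCommGrpCat.{t}) : TruncHom.Acy Z₁ M := by
  refine QCohAcy.acy_of_class Z₁ (fun _ => True) (fun N _ => ?_) trivial
  let S : ShortComplex AddCommGrpCat.{t} :=
    ShortComplex.mk (Injective.ι N) (cokernel.π _) (cokernel.condition _)
  have : Epi S.g := coequalizer.π_epi
  exact ⟨S, { exact := ShortComplex.exact_cokernel _ }, inferInstanceAs (Injective (Injective.under N)), rfl,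
    trivial, fun γ => exists_elemHom_lift S.g γ⟩

theorem isZero_of_Z {M : AddCommGrpCat.{t}} (h : ∀ x : Z₁ ⟶ M, x = 0) : IsZero M :=
  have : Subsingleton M := ⟨fun a b => by
    rw [← elemHom_apply a, ← elemHom_apply b, h (elemHom a), h (elemHom b)]⟩
  AddCommGrpCat.isZero_of_subsingleton M

variable {A : Type u} [Category.{v} A] [Abelian A] [IsGrothendieckAbelian.{v} A]
  (F : A ⥤ AddCommGrpCat.{t}) [F.Additive]
  [(F.mapHomotopyCategory (ComplexShape.up ℤ) ⋙ Qh).HasRightDerivedFunctor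
    (HomotopyCategory.quasiIso A (ComplexShape.up ℤ))]
  (N : ℤ)

/-- Vanishing on bounded below objects. -/
theorem isZero_of_isGE : ∀ (d : ℕ) (a i : ℤ) (X : DerivedCategory A), i < a + d → X.IsGE a →
    (∀ q, IsZero ((homologyFunctor _ i).obj ((RF F).obj ((singleFunctor A q).obj ((homologyFunctor A q).obj X))))) →
    IsZero ((homologyFunctor _ i).obj ((RF F).obj X)) := by
  intro d
  induction d with
  | zero =>
    intro a i X hi hX _
    have := SitePull.isGE_RF F X a
    exact DerivedCategory.isZero_of_isGE _ a i (by omega)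
  | succ d ih =>
    intro a i X hi hX hH
    let T := (TStructure.t.triangleLTGE (a + 1)).obj X
    have hT := TStructure.t.triangleLTGE_distinguished (a + 1) X
    obtain ⟨Y, ⟨eY⟩, ⟨e⟩⟩ := TruncHom.truncLT_succ_iso_single X a hX
    obtain ⟨δ, hδ⟩ := distinguished_RF F T hT
    have h₁ : IsZero ((homologyFunctor _ i).obj ((RF F).obj T.obj₁)) :=
      (hH a).of_iso ((homologyFunctor _ i).mapIso ((RF F).mapIso (e ≪≫ (singleFunctor A a).mapIso eY)))
    have hGE : T.obj₃.IsGE (a + 1) :=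
      inferInstanceAs (TStructure.t.IsGE ((TStructure.t.truncGE (a + 1)).obj X) (a + 1))
    have h₃ : IsZero ((homologyFunctor _ i).obj ((RF F).obj T.obj₃)) := by
      refine ih (a + 1) i T.obj₃ (by omega) hGE fun q => ?_
      by_cases hq : a + 1 ≤ q
      · have := TruncHom.isIso_H_truncGEπ X (a + 1) q hq
        exact (hH q).of_iso ((homologyFunctor _ i).mapIso ((RF F).mapIso ((singleFunctor A q).mapIso
          (asIso ((homologyFunctor A q).map ((TStructure.t.truncGEπ (a + 1)).app X))).symm)))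
      · exact (homologyFunctor _ i).map_isZero ((RF F).map_isZero ((singleFunctor A q).map_isZero
          (DerivedCategory.isZero_of_isGE T.obj₃ (a + 1) q (by omega))))
    exact ((homologyFunctor _ 0).homologySequence_exact₂ _ hδ i).isZero_of_both_zeros
      (h₁.eq_of_src _ _) (h₃.eq_of_tgt _ _)

variable [HasProductsOfShape ℕ AddCommGrpCat.{t}]
  [(lim : (Discrete ℕ ⥤ AddCommGrpCat.{t}) ⥤ AddCommGrpCat.{t}).PreservesEpimorphisms]
  [PreservesLimitsOfShape (Discrete ℕ) F]

/-- Vanishing above a bound for objects which are derived limits of their truncations. -/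
theorem isZero_of_isLE (E : DerivedCategory A) [HasProduct (DerivedLimit.tw E)]
    (hE : DCoh.IsRlim (DerivedLimit.tw E) (DerivedLimit.twt E) E)
    (hS : ∀ q i : ℤ, N ≤ i - q →
      IsZero ((homologyFunctor _ i).obj ((RF F).obj ((singleFunctor A q).obj ((homologyFunctor A q).obj E)))))
    (b i : ℤ) (hb : ∀ q, b < q → IsZero ((homologyFunctor A q).obj E)) (hi : b + N ≤ i) :
    IsZero ((homologyFunctor _ i).obj ((RF F).obj E)) := by
  have hS' : ∀ q j, i ≤ j →
      IsZero ((homologyFunctor _ j).obj ((RF F).obj ((singleFunctor A q).obj ((homologyFunctor A q).obj E)))) := by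
    intro q j hj
    by_cases hq : b < q
    · exact (homologyFunctor _ j).map_isZero ((RF F).map_isZero ((singleFunctor A q).map_isZero (hb q hq)))
    · exact hS q j (by omega)
  have hK : ∀ n, IsZero ((homologyFunctor _ i).obj ((RF F).obj (DerivedLimit.tw E n))) := fun n => by
    refine isZero_of_isGE F (i + (n : ℤ) + 1).toNat (-(n : ℤ)) i _ (by omega)
      (inferInstanceAs (TStructure.t.IsGE ((TStructure.t.truncGE (-(n : ℤ))).obj E) (-(n : ℤ)))) fun q => ?_
    by_cases hq : -(n : ℤ) ≤ q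
    · have := DerivedLimit.isIso_H_twπ E n q hq
      exact (hS' q i le_rfl).of_iso ((homologyFunctor _ i).mapIso ((RF F).mapIso ((singleFunctor A q).mapIso
        (asIso ((homologyFunctor A q).map (DerivedLimit.twπ E n))).symm)))
    · have : (DerivedLimit.tw E n).IsGE (-(n : ℤ)) :=
        inferInstanceAs (TStructure.t.IsGE ((TStructure.t.truncGE (-(n : ℤ))).obj E) (-(n : ℤ)))
      exact (homologyFunctor _ i).map_isZero ((RF F).map_isZero ((singleFunctor A q).map_isZero
        (DerivedCategory.isZero_of_isGE (DerivedLimit.tw E n) (-(n : ℤ)) q (by omega))))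
  let K := fun n => (RF F).obj (DerivedLimit.tw E n)
  let t' : ∀ n, K (n + 1) ⟶ K n := fun n => (RF F).map (DerivedLimit.twt E n)
  have : HasProduct K := by
    have := preservesProduct F (DerivedLimit.tw E)
    have : HasLimit (Discrete.functor (DerivedLimit.tw E) ⋙ RF F) :=
      HasLimit.mk ⟨_, isLimitOfPreserves (RF F) (limit.isLimit _)⟩
    exact hasLimit_of_iso (Discrete.natIso (fun _ => Iso.refl _) :
      Discrete.functor (DerivedLimit.tw E) ⋙ RF F ≅ Discrete.functor K)
  obtain ⟨a, c, hT⟩ := isRlim_RF F (DerivedLimit.tw E) (DerivedLimit.twt E) E hE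
  have hbij : ∀ (m : ℤ) (n : ℕ), Function.Bijective (TruncHom.Φ Z₁ m (K n)) := fun m n => by
    have : (DerivedLimit.tw E n).IsGE (-(n : ℤ)) :=
      inferInstanceAs (TStructure.t.IsGE ((TStructure.t.truncGE (-(n : ℤ))).obj E) (-(n : ℤ)))
    exact TruncHom.Φ_bijective_of_isGE Z₁ m (-(n : ℤ)) (K n) (SitePull.isGE_RF F _ _) fun j _ => acy_Z _
  obtain ⟨n₀, hn₀⟩ : ∃ n₀ : ℕ, N - i ≤ (n₀ : ℤ) := ⟨(N - i).toNat, by omega⟩
  have hsurj : ∀ n, n₀ ≤ n →
      Function.Surjective fun g : (singleFunctor _ (i - 1)).obj Z₁ ⟶ K (n + 1) => g ≫ t' n := by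
    intro n hn
    obtain ⟨W, f, c', hW, ⟨e⟩⟩ := CohDerLib.HComp.fibre_truncGE E (-((n + 1 : ℕ) : ℤ)) (-(n : ℤ)) (by omega)
    obtain ⟨δ, hδ⟩ := distinguished_RF F _ hW
    have he : Epi ((homologyFunctor _ (i - 1)).map (t' n)) :=
      (HomologySequence.epi_homologyMap_mor₂_iff _ hδ (i - 1) i (by omega)).2
        (IsZero.eq_of_tgt ((hS' (-((n + 1 : ℕ) : ℤ)) i le_rfl).of_iso
          ((homologyFunctor _ i).mapIso ((RF F).mapIso ((singleFunctor A _).mapIso e)))) _ _)
    intro g
    obtain ⟨y, hy⟩ := exists_elemHom_lift ((homologyFunctor _ (i - 1)).map (t' n))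
      (TruncHom.Φ Z₁ (i - 1) (K n) g)
    obtain ⟨g', rfl⟩ := (hbij (i - 1) (n + 1)).2 y
    exact ⟨g', (hbij (i - 1) n).1 ((TruncHom.Φ_comp Z₁ (i - 1) g' (t' n)).trans hy)⟩
  refine isZero_of_Z fun x => ?_
  obtain ⟨Z, q, hq, hlift⟩ := DerivedLimit.exists_epi_lifts ((RF F).obj E) i
  obtain ⟨u, rfl⟩ := exists_elemHom_lift q x
  obtain ⟨G, hG⟩ := hlift Z₁ u
  suffices G = 0 by rw [← hG, this, map_zero]
  have hga : G ≫ a = 0 := Pi.hom_ext _ _ fun n => by
    rw [Category.assoc, zero_comp]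
    refine (hbij i n).1 ?_
    rw [map_zero]
    exact (hK n).eq_of_tgt _ _
  obtain ⟨k, hk⟩ : ∃ k : _ ⟶ ∏ᶜ K, G⟦(1 : ℤ)⟧' = k ≫ c :=
    Triangle.coyoneda_exact₁ _ hT (G⟦(1 : ℤ)⟧')
      (((shiftFunctor (DerivedCategory AddCommGrpCat.{t}) (1 : ℤ)).map_comp G a).symm.trans
        ((congrArg _ hga).trans (Functor.map_zero _ _ _)))
  let e := ((DerivedCategory.singleFunctors AddCommGrpCat.{t}).shiftIso 1 (i - 1) i (by omega)).app Z₁.{t}
  obtain ⟨y, -, hy⟩ := DerivedLimit.exists_solution K t' n₀ hsurj (fun n => e.inv ≫ k ≫ Pi.π K n) 0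
  have hd : Pi.lift y ≫ (Pi.lift fun k => Pi.π K k - Pi.π K (k + 1) ≫ t' k) = e.inv ≫ k :=
    Pi.hom_ext _ _ fun n => by
      rw [Category.assoc, Pi.lift_π, Preadditive.comp_sub, Pi.lift_π, Pi.lift_π_assoc, hy n,
        add_sub_cancel_right, Category.assoc]
  apply (shiftFunctor (DerivedCategory AddCommGrpCat.{t}) (1 : ℤ)).map_injective
  rw [Functor.map_zero, ← cancel_epi e.inv, comp_zero]
  refine (congrArg (e.inv ≫ ·) hk).trans ((Category.assoc _ _ _).symm.trans
    ((congrArg (· ≫ c) hd.symm).trans ((Category.assoc _ _ _).trans ?_)))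
  exact (congrArg (Pi.lift y ≫ ·) (comp_distTriang_mor_zero₂₃ _ hT)).trans comp_zero

end Groth.Agent.AlgSpEN.RFBounds
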