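import Groth.Agent.KReg44.Ideal
import Groth.Agent.KReg44.Syzygy
import Groth.Agent.CAlg48.QRBase
import Groth.Agent.KoszulWiebe.Regular
import Groth.Agent.S5803
import Groth.Prelude.Def_AlgSpMor6

/-!
# The kinds of regular immersions compared
-/

universe u

open CategoryTheory CategoryTheory.Limits AlgebraicGeometry

set_option autoImplicit false

namespace Groth.Agent.AlgSpEN

variable {R : Type u} [CommRing R]

theorem seq_h1_of_koszul {rs : List R} (h : RegImm.Kind.koszul.Seq R rs) : RegImm.Kind.h1.Seq R rs :=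
  KReg44.isH1Regular rs.get (by rw [List.ofFn_get]; exact h)

theorem seq_quasi_of_h1 {rs : List R} (h : RegImm.Kind.h1.Seq R rs) : RegImm.Kind.quasi.Seq R rs :=
  RegLoc.H1Seq.isQuasiRegular rs.get h

/-- Over a Noetherian ring a quasi-regular sequence is Koszul-regular. -/
theorem seq_koszul_of_quasi [IsNoetherianRing R] {rs : List R} (h : RegImm.Kind.quasi.Seq R rs) :
    RegImm.Kind.koszul.Seq R rs := by
  refine KReg44.isKoszulRegularSeq_of_forall_prime fun P hP => ?_
  let A := Localization.AtPrime P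
  let φ := algebraMap R A
  by_cases hle : Ideal.ofList rs ≤ P
  · have : IsNoetherianRing A := IsLocalization.isNoetherianRing P.primeCompl A inferInstance
    have hq : CAlgX.IsQuasiRegular fun i => φ (rs.get i) := CAlg48.QRBase.isQuasiRegular_of_flat (f := rs.get) h
    have hjac : ∀ i, φ (rs.get i) ∈ Ring.jacobson A := fun i => by
      rw [IsLocalRing.ringJacobson_eq_maximalIdeal, IsLocalization.AtPrime.to_map_mem_maximal_iff A P]
      exact hle (Ideal.subset_span (List.get_mem rs i))
    have hw := S5803.result A rs.length _ hjac hq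
    have e : List.ofFn (fun i => φ (rs.get i)) = rs.map φ := by
      conv_rhs => rw [← List.ofFn_get rs, List.map_ofFn]
      rfl
    rw [e, ← List.reverse_reverse (rs.map φ)] at hw
    exact KReg44.isKoszulRegularSeq_perm (List.reverse_perm _)
      (fun i hi => KoszulWiebe.acyclic_of_isWeaklyRegular_reverse _ hw i hi)
  · obtain ⟨a, ha, haP⟩ := SetLike.not_le_iff_exists.1 hle
    intro i _
    have hu : IsUnit (φ a) := IsLocalization.map_units A (⟨a, haP⟩ : P.primeCompl)
    have hmem : φ a ∈ Ideal.ofList (rs.map φ) := by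
      rw [← Ideal.map_ofList]; exact Ideal.mem_map_of_mem φ ha
    refine @ModuleCat.isZero_of_subsingleton _ _ _ ⟨fun x y => ?_⟩
    obtain ⟨v, hv⟩ := hu.exists_left_inv
    have key : ∀ x : (Koszul.koszul A (rs.map φ)).homology i, x = 0 := fun x => by
      rw [← one_smul A x, ← hv, mul_smul, KReg44.smul_homology_eq_zero hmem i x, smul_zero]
    rw [key x, key y]

/-- A change of kind of sequences gives a change of kind of immersions of sheaves. -/
theorem isRegImmMor_of_seq {S : Scheme.{u}} {k k' : RegImm.Kind} {F G : AlgSp.Sp S} {i : F ⟶ G}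
    (h : AlgSp.IsRegImmMor k i)
    (hseq : ∀ ⦃V : Over S⦄ (b : (AlgSp.yon S).obj V ⟶ G), AlgSp.RepWith @Etale b → ∀ (U : V.left.affineOpens)
      (rs : List Γ(V.left, U.1)), k.Seq Γ(V.left, U.1) rs → k'.Seq Γ(V.left, U.1) rs) :
    AlgSp.IsRegImmMor k' i := by
  refine ⟨h.1, fun V W b fst snd hb sq => ?_⟩
  obtain ⟨h1, h2⟩ := h.2 b fst snd hb sq
  refine ⟨h1, fun z => ?_⟩
  obtain ⟨U, hz, hc, rs, hrs, hker⟩ := h2 z
  exact ⟨U, hz, hc, rs, hseq b hb U rs hrs, hker⟩

end Groth.Agent.AlgSpEN
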