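import Groth.Agent.AlgSpEN.SigmaSep
import Groth.Agent.AlgSp.NormGlue
import Groth.Agent.AlgSp.NormQf
import Groth.Agent.AlgSp.Quot
import Groth.Agent.AlgSp.PointsMor
import Groth.Agent.AlgSpD.ProperMor
import Groth.Agent.AlgSpCov.FpqcDiag
import Groth.Agent.AlgSpCov.HomeoEt.Basic
import Groth.Agent.AlgSpB.Points

/-!
# Colimits among separated spaces and among all spaces
-/

set_option autoImplicit false
set_option backward.isDefEq.respectTransparency false
set_option backward.isDefEq.respectTransparency.types false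

universe w v u

open CategoryTheory CategoryTheory.Limits AlgebraicGeometry

namespace Groth.Agent.AlgSpEN

open _root_.AlgSp

variable {S : Scheme.{u}}

/-- Separatedness cancels. -/
theorem isSeparatedMor_of_comp {F G H : Sp S} (f : F ⟶ G) (g : G ⟶ H) (h : IsSeparatedMor (f ≫ g)) :
    IsSeparatedMor f := by
  let m : pullback f f ⟶ pullback (f ≫ g) (f ≫ g) :=
    pullback.lift (pullback.fst f f) (pullback.snd f f) (by rw [pullback.condition_assoc])
  have hm : Mono m := ⟨fun a b e => pullback.hom_ext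
    (by simpa [m] using e =≫ pullback.fst (f ≫ g) (f ≫ g))
    (by simpa [m] using e =≫ pullback.snd (f ≫ g) (f ≫ g))⟩
  have sq : IsPullback (𝟙 F) (pullback.diagonal f) (pullback.diagonal (f ≫ g)) m := by
    refine ⟨⟨?_⟩, ⟨PullbackCone.IsLimit.mk _ (fun c => c.fst) (fun c => Category.comp_id _)
      (fun c => ?_) (fun c l h1 _ => (Category.comp_id l).symm.trans h1)⟩⟩
    · apply pullback.hom_ext <;> simp [m]
    · rw [← cancel_mono m, ← c.condition, Category.assoc]
      congr 1
      apply pullback.hom_ext <;> simp [m]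
  exact MorphismProperty.of_isPullback (P := RepWith @IsClosedImmersion) sq h

/-- An etale surjective morphism is locally surjective. -/
theorem isLocallySurjective_of_isEtaleMor {F G : Sp S} (hF : IsAlgSpace F) (f : F ⟶ G)
    (he : IsEtaleMor f) (hs : IsSurjectiveMor f) : Sheaf.IsLocallySurjective f := by
  obtain ⟨U, a, ha, has⟩ := hF.atlas
  have hae : RepWith @Etale (a ≫ f) := he a ha
  have hsurj : RepWith @Surjective (a ≫ f) := (AlgSp.repWith_surjective_iff _ hae.1).2 fun y => by
    obtain ⟨x, rfl⟩ := hs y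
    obtain ⟨z, rfl⟩ := (AlgSp.repWith_surjective_iff a has.1).1 has x
    exact ⟨z, Points.map_comp _ _ _⟩
  have := AlgSp.isLocallySurjective_of_etale_surjective _ hae hsurj
  change Presheaf.IsLocallySurjective _ f.hom
  have : Presheaf.IsLocallySurjective (AlgSp.J S) (a.hom ≫ f.hom) := this
  exact Presheaf.isLocallySurjective_of_isLocallySurjective (AlgSp.J S) a.hom f.hom

/-- An atlas all of whose morphisms are separated. -/
theorem exists_separated_atlas (T : Space S) : ∃ (U : Space S) (π : U ⟶ T), IsEtaleMor π.hom ∧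
    IsSurjectiveMor π.hom ∧ ∀ (F : Sp S) (b : U.obj ⟶ F), IsSeparatedMor b := by
  obtain ⟨ι, K, h, b, hb, hbs⟩ := AlgSp.exists_sigma_atlas T.property
  refine ⟨⟨_, IsAlgSpace.yon_obj (Over.mk (Sigma.desc h))⟩, ObjectProperty.homMk b,
    AlgSpCov.isEtaleMor_of_repWith hb, (AlgSp.repWith_surjective_iff b hb.1).1 hbs, fun F c => ?_⟩
  let t : Over.mk (Sigma.desc h) ⟶ Over.mk (𝟙 S) := Over.homMk (Sigma.desc h) (Category.comp_id _)
  have hsig : (∐ fun i => Spec (K i)).IsSeparated := isSeparated_sigma _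
  have ht : IsSeparatedMor ((yon S).map t) := by
    rw [isSeparatedMor_yon_map_iff]
    have : IsSeparated (Sigma.desc h ≫ terminal.from S) := by
      rw [terminal.comp_from]
      exact hsig.isSeparated_terminal_from
    exact IsSeparated.of_comp (Sigma.desc h) (terminal.from S)
  let hT : IsTerminal ((yon S).obj (Over.mk (𝟙 S))) := Over.mkIdTerminal.isTerminalObj (yon S) _
  refine isSeparatedMor_of_comp c (hT.from F) ?_
  rwa [hT.hom_ext (c ≫ hT.from F) ((yon S).map t)]

variable {B : Space S} {P : ObjectProperty (Over B)}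
  (hP : ∀ T : Over B, P T ↔ IsSeparatedMor T.hom.hom) {I : Type v} [Category.{w} I]
  {D : I ⥤ P.FullSubcategory}

include hP

/-- The base change of a cocone along an etale separated morphism. -/
theorem exists_baseChange {X Q : Over B} (g : ∀ i, (D.obj i).obj ⟶ X)
    (hg : ∀ ⦃i j : I⦄ (e : i ⟶ j), (D.map e).hom ≫ g j = g i) (q : Q ⟶ X) (hqe : IsEtaleMor q.left.hom)
    (hqs : IsSeparatedMor q.left.hom) :
    ∃ (D' : I ⥤ P.FullSubcategory) (α : D' ⟶ D) (pr : ∀ i, (D'.obj i).obj ⟶ Q),
      (∀ ⦃i j : I⦄ (e : i ⟶ j), (D'.map e).hom ≫ pr j = pr i) ∧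
      (∀ i, IsPullback (pr i).left.hom (α.app i).hom.left.hom q.left.hom (g i).left.hom) ∧
      (∀ ⦃i j : I⦄ (e : i ⟶ j), IsPullback (D'.map e).hom.left.hom (α.app i).hom.left.hom
        (α.app j).hom.left.hom (D.map e).hom.left.hom) ∧
      (∀ i, IsEtaleMor (α.app i).hom.left.hom) ∧ ∀ i, IsSeparatedMor (α.app i).hom.left.hom := by
  let o : I → Space S := fun i => ⟨pullback q.left.hom (g i).left.hom,
    AlgSp.isAlgSpace_pullback X.left.property Q.left.property (D.obj i).obj.left.property _ _⟩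
  let p₁ : ∀ i, o i ⟶ Q.left := fun i => ObjectProperty.homMk (pullback.fst _ _)
  let p₂ : ∀ i, o i ⟶ (D.obj i).obj.left := fun i => ObjectProperty.homMk (pullback.snd _ _)
  have hsq : ∀ i, IsPullback (p₁ i).hom (p₂ i).hom q.left.hom (g i).left.hom := fun i =>
    IsPullback.of_hasPullback _ _
  have hp₂ : ∀ i, IsSeparatedMor (p₂ i).hom := fun i => AlgSp.isSeparatedMor_baseChange' (hsq i) hqs
  have hoP : ∀ i, P (Over.mk (p₂ i ≫ (D.obj i).obj.hom)) := fun i =>
    (hP _).2 (AlgSpD.isSeparatedMor_comp (hp₂ i) ((hP _).1 (D.obj i).property))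
  have hgl : ∀ ⦃i j : I⦄ (e : i ⟶ j), (D.map e).hom.left.hom ≫ (g j).left.hom = (g i).left.hom := fun i j e =>
    congrArg (fun m : (D.obj i).obj ⟶ X => m.left.hom) (hg e)
  let mp : ∀ ⦃i j : I⦄ (_ : i ⟶ j), o i ⟶ o j := fun i j e => ObjectProperty.homMk
    (pullback.map q.left.hom (g i).left.hom q.left.hom (g j).left.hom (𝟙 _) (D.map e).hom.left.hom (𝟙 _)
      (by simp) (by rw [Category.comp_id, hgl e]))
  have hmp₁ : ∀ ⦃i j : I⦄ (e : i ⟶ j), mp e ≫ p₁ j = p₁ i := fun i j e =>
    ObjectProperty.hom_ext _ ((pullback.lift_fst _ _ _).trans (Category.comp_id _))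
  have hmp₂ : ∀ ⦃i j : I⦄ (e : i ⟶ j), mp e ≫ p₂ j = p₂ i ≫ (D.map e).hom.left := fun i j e =>
    ObjectProperty.hom_ext _ (pullback.lift_snd _ _ _)
  let D' : I ⥤ P.FullSubcategory :=
    { obj := fun i => ⟨Over.mk (p₂ i ≫ (D.obj i).obj.hom), hoP i⟩
      map := fun {i j} e => ObjectProperty.homMk (Over.homMk (mp e) (by
        change mp e ≫ p₂ j ≫ (D.obj j).obj.hom = p₂ i ≫ (D.obj i).obj.hom
        rw [← Category.assoc, hmp₂ e, Category.assoc, Over.w]))
      map_id := fun i => by
        apply ObjectProperty.hom_ext; apply Over.OverMorphism.ext; apply ObjectProperty.hom_ext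
        change (mp (𝟙 i)).hom = 𝟙 (o i).obj
        apply pullback.hom_ext <;> simp [mp, pullback.map] <;> rfl
      map_comp := fun {i j k} e e' => by
        apply ObjectProperty.hom_ext; apply Over.OverMorphism.ext; apply ObjectProperty.hom_ext
        apply pullback.hom_ext <;> simp [mp] }
  let α : D' ⟶ D :=
    { app := fun i => ObjectProperty.homMk (Over.homMk (p₂ i) rfl)
      naturality := fun i j e => by
        apply ObjectProperty.hom_ext; apply Over.OverMorphism.ext
        exact hmp₂ e }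
  refine ⟨D', α, fun i => Over.homMk (p₁ i) ?_, fun i j e => ?_, hsq, fun i j e => ?_, fun i => ?_, hp₂⟩
  · apply ObjectProperty.hom_ext
    change (p₁ i).hom ≫ Q.hom.hom = (p₂ i).hom ≫ (D.obj i).obj.hom.hom
    rw [← congrArg InducedCategory.Hom.hom (Over.w q), ← congrArg InducedCategory.Hom.hom (Over.w (g i))]
    exact (hsq i).w_assoc _
  · apply Over.OverMorphism.ext
    exact hmp₁ e
  · refine IsPullback.of_right (h₁₂ := (p₁ j).hom) (h₂₂ := (g j).left.hom) (v₁₃ := q.left.hom) ?_
      (congrArg InducedCategory.Hom.hom (hmp₂ e)) (hsq j)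
    rw [show (D'.map e).hom.left.hom ≫ (p₁ j).hom = (p₁ i).hom from congrArg InducedCategory.Hom.hom (hmp₁ e),
      hgl e]
    exact hsq i
  · exact AlgSpCov.HomeoEt.isEtaleMor_of_baseChange Q.left.property X.left.property (o i).property
      (D.obj i).obj.left.property (hsq i) hqe

/-- Maps out of a colimit among separated spaces agree after composition with a separated map if they do so
on every piece. -/
theorem eq_of_agree_colimit {T : Over B} (U : P.FullSubcategory) (π : U.obj ⟶ T) (hπ : IsSeparatedMor π.left.hom)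
    {D' : I ⥤ P.FullSubcategory} {c' : Cocone D'} (hc' : IsColimit c') (u v : c'.pt ⟶ U)
    (h : ∀ i, (c'.ι.app i).hom.left.hom ≫ u.hom.left.hom ≫ π.left.hom =
      (c'.ι.app i).hom.left.hom ≫ v.hom.left.hom ≫ π.left.hom) :
    u.hom.left.hom ≫ π.left.hom = v.hom.left.hom ≫ π.left.hom := by
  let R : Space S := ⟨pullback π.left.hom π.left.hom,
    AlgSp.isAlgSpace_pullback T.left.property U.obj.left.property U.obj.left.property _ _⟩
  let r₁ : R ⟶ U.obj.left := ObjectProperty.homMk (pullback.fst _ _)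
  let r₂ : R ⟶ U.obj.left := ObjectProperty.homMk (pullback.snd _ _)
  have hr : r₁ ≫ π.left = r₂ ≫ π.left := ObjectProperty.hom_ext _ pullback.condition
  let Ro : P.FullSubcategory := ⟨Over.mk (r₁ ≫ U.obj.hom), (hP _).2 (AlgSpD.isSeparatedMor_comp
    (AlgSp.isSeparatedMor_baseChange' (IsPullback.of_hasPullback π.left.hom π.left.hom).flip hπ)
    ((hP _).1 U.property))⟩
  let o₁ : Ro ⟶ U := ObjectProperty.homMk (Over.homMk r₁ rfl)
  let o₂ : Ro ⟶ U := ObjectProperty.homMk (Over.homMk r₂ (by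
    change r₂ ≫ U.obj.hom = r₁ ≫ U.obj.hom
    rw [← Over.w π, reassoc_of% hr]))
  have ext : ∀ {Z : P.FullSubcategory} (a b : Z ⟶ Ro), a ≫ o₁ = b ≫ o₁ → a ≫ o₂ = b ≫ o₂ → a = b := by
    intro Z a b h1 h2
    apply ObjectProperty.hom_ext; apply Over.OverMorphism.ext; apply ObjectProperty.hom_ext
    exact pullback.hom_ext (congrArg (fun m : Z ⟶ U => m.hom.left.hom) h1)
      (congrArg (fun m : Z ⟶ U => m.hom.left.hom) h2)
  let l : ∀ i, D'.obj i ⟶ Ro := fun i => ObjectProperty.homMk (Over.homMk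
    (ObjectProperty.homMk (pullback.lift ((c'.ι.app i).hom.left.hom ≫ u.hom.left.hom)
      ((c'.ι.app i).hom.left.hom ≫ v.hom.left.hom) (by simpa only [Category.assoc] using h i))) (by
    apply ObjectProperty.hom_ext
    change pullback.lift _ _ _ ≫ pullback.fst _ _ ≫ U.obj.hom.hom = (D'.obj i).obj.hom.hom
    rw [pullback.lift_fst_assoc]
    exact congrArg InducedCategory.Hom.hom (Over.w ((c'.ι.app i).hom ≫ u.hom))))
  have hl₁ : ∀ i, l i ≫ o₁ = c'.ι.app i ≫ u := fun i => by
    apply ObjectProperty.hom_ext; apply Over.OverMorphism.ext; apply ObjectProperty.hom_ext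
    exact pullback.lift_fst _ _ _
  have hl₂ : ∀ i, l i ≫ o₂ = c'.ι.app i ≫ v := fun i => by
    apply ObjectProperty.hom_ext; apply Over.OverMorphism.ext; apply ObjectProperty.hom_ext
    exact pullback.lift_snd _ _ _
  let s : Cocone D' :=
    { pt := Ro
      ι :=
        { app := l
          naturality := fun i j e => by
            refine (ext _ _ ?_ ?_).trans (Category.comp_id _).symm
            · rw [Category.assoc, hl₁, hl₁, c'.w_assoc]
            · rw [Category.assoc, hl₂, hl₂, c'.w_assoc] } }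
  have e₁ : hc'.desc s ≫ o₁ = u := hc'.hom_ext fun i => by rw [hc'.fac_assoc]; exact hl₁ i
  have e₂ : hc'.desc s ≫ o₂ = v := hc'.hom_ext fun i => by rw [hc'.fac_assoc]; exact hl₂ i
  rw [← e₁, ← e₂]
  change ((hc'.desc s).hom.left.hom ≫ r₁.hom) ≫ π.left.hom = ((hc'.desc s).hom.left.hom ≫ r₂.hom) ≫ π.left.hom
  rw [Category.assoc, Category.assoc]
  exact congrArg (_ ≫ ·) pullback.condition

set_option maxHeartbeats 4000000 in
/-- A colimit among separated spaces with effective etale descent is a colimit among all spaces. -/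
theorem nonempty_isColimit_mapCocone (c : Cocone D) (h₂ : IsColimit c)
    (h₃ : ∀ x : Points c.pt.obj.left.obj, ∃ (i : I) (y : Points (D.obj i).obj.left.obj),
      Points.map (c.ι.app i).hom.left.hom y = x)
    (h₄ : ∀ (D' : I ⥤ P.FullSubcategory) (α : D' ⟶ D) (c' : Cocone D') (a : c'.pt ⟶ c.pt),
      IsEtaleMor a.hom.left.hom → IsSeparatedMor a.hom.left.hom →
      (∀ i, IsPullback (c'.ι.app i).hom.left.hom (α.app i).hom.left.hom a.hom.left.hom (c.ι.app i).hom.left.hom) →
        Nonempty (IsColimit c'))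
    (h₅ : ∀ (D' : I ⥤ P.FullSubcategory) (α : D' ⟶ D),
      (∀ ⦃i j : I⦄ (g : i ⟶ j), IsPullback (D'.map g).hom.left.hom (α.app i).hom.left.hom (α.app j).hom.left.hom
        (D.map g).hom.left.hom) →
      (∀ i, IsEtaleMor (α.app i).hom.left.hom) → (∀ i, IsSeparatedMor (α.app i).hom.left.hom) →
        ∃ (c' : Cocone D') (a : c'.pt ⟶ c.pt), IsEtaleMor a.hom.left.hom ∧ IsSeparatedMor a.hom.left.hom ∧
          ∀ i, IsPullback (c'.ι.app i).hom.left.hom (α.app i).hom.left.hom a.hom.left.hom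
            (c.ι.app i).hom.left.hom) :
    Nonempty (IsColimit (P.ι.mapCocone c)) := by
  -- cartesian cocones over an etale separated space over the colimit
  have hcoc : ∀ (W : Over B) (w : W ⟶ c.pt.obj), IsEtaleMor w.left.hom → IsSeparatedMor w.left.hom →
      ∃ (hW : P W) (D' : I ⥤ P.FullSubcategory) (α : D' ⟶ D) (ι' : D' ⟶ (Functor.const I).obj ⟨W, hW⟩),
        (∀ i, IsPullback (ι'.app i).hom.left.hom (α.app i).hom.left.hom w.left.hom
          (c.ι.app i).hom.left.hom) ∧ Nonempty (IsColimit (Cocone.mk (⟨W, hW⟩ : P.FullSubcategory) ι')) := by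
    intro W w we ws
    have hW : P W := (hP _).2 (by
      rw [← congrArg InducedCategory.Hom.hom (Over.w w)]
      exact AlgSpD.isSeparatedMor_comp ws ((hP _).1 c.pt.property))
    let gc : ∀ i, (D.obj i).obj ⟶ c.pt.obj := fun i => (c.ι.app i).hom
    have hgc : ∀ ⦃i j : I⦄ (e : i ⟶ j), (D.map e).hom ≫ gc j = gc i := fun i j e =>
      congrArg InducedCategory.Hom.hom (c.w e)
    obtain ⟨D', α, pr, hn, hsq, -⟩ := exists_baseChange hP gc hgc w we ws
    let ι' : D' ⟶ (Functor.const I).obj (⟨W, hW⟩ : P.FullSubcategory) :=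
      { app := fun i => ObjectProperty.homMk (pr i)
        naturality := fun i j e => by
          refine ObjectProperty.hom_ext _ ?_
          exact (hn e).trans (Category.comp_id _).symm }
    exact ⟨hW, D', α, ι', hsq, h₄ D' α (Cocone.mk ⟨W, hW⟩ ι') (ObjectProperty.homMk w) we ws hsq⟩
  refine ⟨IsColimit.ofExistsUnique fun s => ?_⟩
  let t : ∀ i, (D.obj i).obj ⟶ s.pt := fun i => s.ι.app i
  obtain ⟨U₀, π₀, hπe, hπs, hUsep⟩ := exists_separated_atlas s.pt.left
  let U : P.FullSubcategory := ⟨Over.mk (π₀ ≫ s.pt.hom), (hP _).2 (hUsep _ _)⟩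
  let π : U.obj ⟶ s.pt := Over.homMk π₀ rfl
  have hπsep : IsSeparatedMor π.left.hom := hUsep _ _
  obtain ⟨D', α, pr, hn, hsq, htr, hαe, hαs⟩ :=
    exists_baseChange hP t (fun i j e => s.w e) π hπe hπsep
  obtain ⟨c', a, hae, has, hc'⟩ := h₅ D' α htr hαe hαs
  obtain ⟨hcol⟩ := h₄ D' α c' a hae has hc'
  let su : Cocone D' :=
    { pt := U
      ι :=
        { app := fun i => ObjectProperty.homMk (pr i)
          naturality := fun i j e => by
            refine ObjectProperty.hom_ext _ ?_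
            exact (hn e).trans (Category.comp_id _).symm } }
  let u : c'.pt ⟶ U := hcol.desc su
  have hu : ∀ i, (c'.ι.app i).hom.left.hom ≫ u.hom.left.hom = (pr i).left.hom := fun i =>
    congrArg (fun m : D'.obj i ⟶ U => m.hom.left.hom) (hcol.fac su i)
  have hasurj : IsSurjectiveMor a.hom.left.hom := by
    intro x
    obtain ⟨i, y, rfl⟩ := h₃ x
    obtain ⟨p, hp⟩ := hπs (Points.map (t i).left.hom y)
    obtain ⟨q, -, hq⟩ := AlgSpB.exists_of_isPullback (hsq i) p y hp
    exact ⟨Points.map (c'.ι.app i).hom.left.hom q,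
      by rw [← Points.map_comp, (hc' i).w, Points.map_comp, hq]⟩
  have := isLocallySurjective_of_isEtaleMor c'.pt.obj.left.property a.hom.left.hom hae hasurj
  have : Epi a.hom.left.hom := Sheaf.epi_of_isLocallySurjective _
  -- the two projections of the kernel pair agree in the target
  have hker : pullback.fst a.hom.left.hom a.hom.left.hom ≫ u.hom.left.hom ≫ π.left.hom =
      pullback.snd a.hom.left.hom a.hom.left.hom ≫ u.hom.left.hom ≫ π.left.hom := by
    let K : Space S := ⟨pullback a.hom.left.hom a.hom.left.hom,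
      AlgSp.isAlgSpace_pullback c.pt.obj.left.property c'.pt.obj.left.property c'.pt.obj.left.property _ _⟩
    let k₁ : K ⟶ c'.pt.obj.left := ObjectProperty.homMk (pullback.fst _ _)
    let k₂ : K ⟶ c'.pt.obj.left := ObjectProperty.homMk (pullback.snd _ _)
    have hk : k₁ ≫ a.hom.left = k₂ ≫ a.hom.left := ObjectProperty.hom_ext _ pullback.condition
    let Ko : Over B := Over.mk (k₁ ≫ c'.pt.obj.hom)
    let w : Ko ⟶ c.pt.obj := Over.homMk (k₁ ≫ a.hom.left) (by
      change (k₁ ≫ a.hom.left) ≫ c.pt.obj.hom = k₁ ≫ c'.pt.obj.hom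
      rw [Category.assoc, Over.w])
    obtain ⟨hW, D₂, α₂, ι₂, hsq₂, ⟨hc₂⟩⟩ := hcoc Ko w
      (AlgSpCov.openClass_etale.comp K.property c'.pt.obj.left.property c.pt.obj.left.property _ _
        (AlgSpCov.HomeoEt.isEtaleMor_of_baseChange c'.pt.obj.left.property c.pt.obj.left.property K.property
          c'.pt.obj.left.property (IsPullback.of_hasPullback a.hom.left.hom a.hom.left.hom).flip hae) hae)
      (AlgSpD.isSeparatedMor_comp
        (AlgSp.isSeparatedMor_baseChange' (IsPullback.of_hasPullback a.hom.left.hom a.hom.left.hom).flip has) has)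
    let g₁ : (⟨Ko, hW⟩ : P.FullSubcategory) ⟶ c'.pt := ObjectProperty.homMk (Over.homMk k₁ rfl)
    let g₂ : (⟨Ko, hW⟩ : P.FullSubcategory) ⟶ c'.pt := ObjectProperty.homMk (Over.homMk k₂ (by
      change k₂ ≫ c'.pt.obj.hom = k₁ ≫ c'.pt.obj.hom
      rw [← Over.w a.hom, reassoc_of% hk]))
    have key : ∀ i (g : K.obj ⟶ c'.pt.obj.left.obj), g ≫ a.hom.left.hom = k₁.hom ≫ a.hom.left.hom →
        (ι₂.app i).hom.left.hom ≫ g ≫ u.hom.left.hom ≫ π.left.hom =
          (α₂.app i).hom.left.hom ≫ (t i).left.hom := by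
      intro i g hg
      obtain ⟨l, hl₁, hl₂⟩ := (hc' i).exists_lift ((ι₂.app i).hom.left.hom ≫ g) (α₂.app i).hom.left.hom (by
        rw [Category.assoc, hg]; exact (hsq₂ i).w)
      rw [← Category.assoc, ← hl₁, ← hl₂, Category.assoc, Category.assoc, reassoc_of% (hu i), (hsq i).w]
    have := eq_of_agree_colimit hP U π hπsep hc₂ (g₁ ≫ u) (g₂ ≫ u) fun i => by
      change (ι₂.app i).hom.left.hom ≫ (k₁.hom ≫ u.hom.left.hom) ≫ π.left.hom =
        (ι₂.app i).hom.left.hom ≫ (k₂.hom ≫ u.hom.left.hom) ≫ π.left.hom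
      rw [Category.assoc, Category.assoc, key i k₁.hom rfl,
        key i k₂.hom (congrArg InducedCategory.Hom.hom hk).symm]
    exact (Category.assoc _ _ _).symm.trans (this.trans (Category.assoc _ _ _))
  obtain ⟨hcofork⟩ := AlgSp.isColimit_of_isPullback a.hom.left.hom (IsPullback.of_hasPullback _ _)
  obtain ⟨m, hm⟩ := Cofork.IsColimit.desc' hcofork (u.hom.left.hom ≫ π.left.hom) hker
  change a.hom.left.hom ≫ m = u.hom.left.hom ≫ π.left.hom at hm
  have hmB : m ≫ s.pt.hom.hom = c.pt.obj.hom.hom := by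
    rw [← cancel_epi a.hom.left.hom, reassoc_of% hm]
    have h1 : π.left.hom ≫ s.pt.hom.hom = U.obj.hom.hom := congrArg InducedCategory.Hom.hom (Over.w π)
    rw [h1]
    exact (congrArg InducedCategory.Hom.hom (Over.w u.hom)).trans
      (congrArg InducedCategory.Hom.hom (Over.w a.hom)).symm
  let M : c.pt.obj ⟶ s.pt := Over.homMk (ObjectProperty.homMk m) (ObjectProperty.hom_ext _ hmB)
  have hM : ∀ i, (c.ι.app i).hom.left.hom ≫ m = (t i).left.hom := fun i => by
    have := isLocallySurjective_of_isEtaleMor (D'.obj i).obj.left.property (α.app i).hom.left.hom (hαe i)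
      (AlgSp.surjective_map_of_isPullback (hsq i) hπs)
    have : Epi (α.app i).hom.left.hom := Sheaf.epi_of_isLocallySurjective _
    rw [← cancel_epi (α.app i).hom.left.hom, ← (hc' i).w_assoc, hm, reassoc_of% (hu i), (hsq i).w]
  refine ⟨M, fun i => ?_, fun M' hM' => ?_⟩
  · apply Over.OverMorphism.ext; apply ObjectProperty.hom_ext
    exact hM i
  -- uniqueness
  let m' : c.pt.obj.left.obj ⟶ s.pt.left.obj := (M' : c.pt.obj ⟶ s.pt).left.hom
  have hm' : ∀ i, (c.ι.app i).hom.left.hom ≫ m' = (t i).left.hom := fun i =>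
    congrArg (fun e : (D.obj i).obj ⟶ s.pt => e.left.hom) (hM' i)
  apply Over.OverMorphism.ext; apply ObjectProperty.hom_ext
  change m' = m
  have sqa := IsPullback.of_hasPullback π.left.hom m'
  have sqb := IsPullback.of_hasPullback π.left.hom m
  have sqw := IsPullback.of_hasPullback (pullback.snd π.left.hom m') (pullback.snd π.left.hom m)
  have hVa := AlgSp.isAlgSpace_pullback s.pt.left.property U.obj.left.property c.pt.obj.left.property π.left.hom m'
  have hVb := AlgSp.isAlgSpace_pullback s.pt.left.property U.obj.left.property c.pt.obj.left.property π.left.hom m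
  let W : Space S := ⟨pullback (pullback.snd π.left.hom m') (pullback.snd π.left.hom m),
    AlgSp.isAlgSpace_pullback c.pt.obj.left.property hVa hVb _ _⟩
  let w₀ : W ⟶ c.pt.obj.left := ObjectProperty.homMk (pullback.fst _ _ ≫ pullback.snd π.left.hom m')
  let Wo : Over B := Over.mk (w₀ ≫ c.pt.obj.hom)
  have hea := AlgSpCov.HomeoEt.isEtaleMor_of_baseChange U.obj.left.property s.pt.left.property hVa
    c.pt.obj.left.property sqa hπe
  have heb := AlgSpCov.HomeoEt.isEtaleMor_of_baseChange U.obj.left.property s.pt.left.property hVb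
    c.pt.obj.left.property sqb hπe
  obtain ⟨hW, D₂, α₂, ι₂, hsq₂, ⟨hc₂⟩⟩ := hcoc Wo (Over.homMk w₀ rfl)
    (AlgSpCov.openClass_etale.comp W.property hVa c.pt.obj.left.property _ _
      (AlgSpCov.HomeoEt.isEtaleMor_of_baseChange hVb c.pt.obj.left.property W.property hVa sqw.flip heb) hea)
    (AlgSpD.isSeparatedMor_comp
      (AlgSp.isSeparatedMor_baseChange' sqw.flip (AlgSp.isSeparatedMor_baseChange' sqb hπsep))
      (AlgSp.isSeparatedMor_baseChange' sqa hπsep))
  have hwa : (pullback.fst _ _ ≫ pullback.fst π.left.hom m') ≫ π.left.hom = w₀.hom ≫ m' := by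
    rw [Category.assoc, sqa.w]
    exact (Category.assoc _ _ _).symm
  have hwb : (pullback.snd _ _ ≫ pullback.fst π.left.hom m) ≫ π.left.hom = w₀.hom ≫ m := by
    rw [Category.assoc, sqb.w, ← Category.assoc, ← sqw.w]
    rfl
  have hm'B : m' ≫ s.pt.hom.hom = c.pt.obj.hom.hom :=
    congrArg InducedCategory.Hom.hom (Over.w (M' : c.pt.obj ⟶ s.pt))
  let qa : (⟨Wo, hW⟩ : P.FullSubcategory) ⟶ U := ObjectProperty.homMk (Over.homMk
    (ObjectProperty.homMk (pullback.fst _ _ ≫ pullback.fst π.left.hom m')) (by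
      apply ObjectProperty.hom_ext
      change (pullback.fst _ _ ≫ pullback.fst π.left.hom m') ≫ π₀.hom ≫ s.pt.hom.hom = w₀.hom ≫ c.pt.obj.hom.hom
      rw [← hm'B, ← Category.assoc w₀.hom, ← hwa]
      exact (Category.assoc _ _ _).symm))
  let qb : (⟨Wo, hW⟩ : P.FullSubcategory) ⟶ U := ObjectProperty.homMk (Over.homMk
    (ObjectProperty.homMk (pullback.snd _ _ ≫ pullback.fst π.left.hom m)) (by
      apply ObjectProperty.hom_ext
      change (pullback.snd _ _ ≫ pullback.fst π.left.hom m) ≫ π₀.hom ≫ s.pt.hom.hom = w₀.hom ≫ c.pt.obj.hom.hom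
      rw [← hmB, ← Category.assoc w₀.hom, ← hwb]
      exact (Category.assoc _ _ _).symm))
  have he := eq_of_agree_colimit hP U π hπsep hc₂ qa qb fun i => by
    change (ι₂.app i).hom.left.hom ≫ (pullback.fst _ _ ≫ pullback.fst π.left.hom m') ≫ π.left.hom =
      (ι₂.app i).hom.left.hom ≫ (pullback.snd _ _ ≫ pullback.fst π.left.hom m) ≫ π.left.hom
    have h0 : (ι₂.app i).hom.left.hom ≫ w₀.hom = (α₂.app i).hom.left.hom ≫ (c.ι.app i).hom.left.hom :=
      (hsq₂ i).w
    rw [hwa, hwb, reassoc_of% h0, reassoc_of% h0, hM i, hm' i]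
  have hws : IsSurjectiveMor w₀.hom := by
    intro x
    obtain ⟨p, hp⟩ := hπs (Points.map m' x)
    obtain ⟨q, -, hq⟩ := AlgSpB.exists_of_isPullback sqa p x hp
    obtain ⟨p', hp'⟩ := hπs (Points.map m x)
    obtain ⟨q', -, hq'⟩ := AlgSpB.exists_of_isPullback sqb p' x hp'
    obtain ⟨r, hr, -⟩ := AlgSpB.exists_of_isPullback sqw q q' (hq.trans hq'.symm)
    exact ⟨r, by rw [show w₀.hom = pullback.fst _ _ ≫ pullback.snd π.left.hom m' from rfl,
      Points.map_comp, hr, hq]⟩
  have := isLocallySurjective_of_isEtaleMor W.property w₀.hom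
    (AlgSpCov.openClass_etale.comp W.property hVa c.pt.obj.left.property _ _
      (AlgSpCov.HomeoEt.isEtaleMor_of_baseChange hVb c.pt.obj.left.property W.property hVa sqw.flip heb) hea) hws
  have : Epi w₀.hom := Sheaf.epi_of_isLocallySurjective _
  rw [← cancel_epi w₀.hom, ← hwa, ← hwb]
  exact he

end Groth.Agent.AlgSpEN
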