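import Groth.Agent.AlgSpEN.SerreTensor
import Groth.Agent.AlgSp.DescentLqf
import Groth.Agent.AlgSp.InfSpace
import Groth.Agent.AlgSpEN.Strata

/-!
# A space with generating invariant sections is affine
-/

set_option autoImplicit false
universe u

open CategoryTheory CategoryTheory.Limits AlgebraicGeometry Opposite TensorProduct

set_option backward.isDefEq.respectTransparency false
set_option backward.isDefEq.respectTransparency.types false

noncomputable section

namespace Groth.Agent.AlgSpEN.SerreC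

open _root_.AlgSp Groth.Agent.AlgSpQC

variable {S : Scheme.{u}} {X : AlgSp.Space S}

theorem isPullback_congr {C : Type*} [Category C] {P A B D : C} {a : P ⟶ A} {b : P ⟶ B} {f : A ⟶ D} {g g' : B ⟶ D}
    (h : IsPullback a b f g) (e : g = g') : IsPullback a b f g' := e ▸ h

theorem isPullback_fib_id (U : EtOver X.obj) :
    IsPullback ((yon S).map (EtOver.bcπ (representable_compAt (𝟙 U.obj.left)) U))
      ((yon S).map (fibπ (𝟙 U.obj.left) U)) U.obj.hom U.obj.hom := by
  rw [map_fibπ]
  have h := (EtOver.isPullback_bcObj (representable_compAt (𝟙 U.obj.left)) U).flip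
  exact isPullback_congr h (by rw [compAt, CategoryTheory.Functor.map_id, Category.id_comp])

/-- The map to the spectrum of the invariant functions. -/
def toA (U : EtOver X.obj) : U.obj.left.left ⟶ Spec (CommRingCat.of (invRing U)) :=
  U.obj.left.left.toSpecΓ ≫ Spec.map (CommRingCat.ofHom (algebraMap (invRing U) (gr U)))

theorem toA_comp_eq (U : EtOver X.obj) {W : Over S} (f g : W ⟶ U.obj.left)
    (h : (yon S).map f ≫ U.obj.hom = (yon S).map g ≫ U.obj.hom) : f.left ≫ toA U = g.left ≫ toA U := by
  have e : CommRingCat.ofHom (algebraMap (invRing U) (gr U)) ≫ f.left.appTop =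
      CommRingCat.ofHom (algebraMap (invRing U) (gr U)) ≫ g.left.appTop :=
    CommRingCat.hom_ext (RingHom.ext fun a => inv_pull a.2 f g h)
  rw [toA, ← Category.assoc, ← Category.assoc, Scheme.toSpecΓ_naturality, Scheme.toSpecΓ_naturality,
    Category.assoc, Category.assoc, ← Spec.map_comp, ← Spec.map_comp, e]

theorem appTop_isoSpec_inv {V : Scheme.{u}} [IsAffine V] {K : CommRingCat.{u}} (f : Γ(V, ⊤) ⟶ K) :
    (Spec.map f ≫ V.isoSpec.inv).appTop ≫ (Scheme.ΓSpecIso K).hom = f := by
  apply Spec.map_injective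
  rw [Spec.map_comp]
  have h := Scheme.toSpecΓ_naturality (Spec.map f ≫ V.isoSpec.inv)
  rw [Category.assoc, ← Scheme.isoSpec_hom (X := V), Iso.inv_hom_id, Category.comp_id] at h
  rw [SpecMap_ΓSpecIso_hom]
  exact h.symm

/-- A ring map out of a tensor product. -/
theorem exists_tensor_hom {A B C K : Type*} [CommRing A] [CommRing B] [CommRing C] [CommRing K] [Algebra A B]
    [Algebra A C] (f : B →+* K) (g : C →+* K) (h : ∀ a, f (algebraMap A B a) = g (algebraMap A C a)) :
    ∃ e : B ⊗[A] C →+* K, ∀ b c, e (b ⊗ₜ c) = f b * g c := by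
  let _ : Algebra A K := (f.comp (algebraMap A B)).toAlgebra
  let f' : B →ₐ[A] K := { f with commutes' := fun _ => rfl }
  let g' : C →ₐ[A] K := { g with commutes' := fun a => (h a).symm }
  exact ⟨(Algebra.TensorProduct.lift f' g' (fun _ _ => Commute.all _ _)).toRingHom,
    fun b c => Algebra.TensorProduct.lift_tmul _ _ _ b c⟩

theorem algebraMap_tmul_one {A B C : Type*} [CommRing A] [CommRing B] [CommRing C] [Algebra A B] [Algebra A C]
    (a : A) : (algebraMap A B a ⊗ₜ[A] (1 : C)) = (1 : B) ⊗ₜ algebraMap A C a := by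
  rw [Algebra.algebraMap_eq_smul_one, Algebra.algebraMap_eq_smul_one, TensorProduct.smul_tmul]

theorem comp_eq_of_tmul {A B C K : Type*} [CommRing A] [CommRing B] [CommRing C] [CommRing K] [Algebra A B]
    [Algebra A C] (ρ : B ⊗[A] B →+* K) (k : B → C) (γ : C →+* K) (ev : B ⊗[A] C →+* K) (χ : B ⊗[A] B →+* B ⊗[A] C)
    (hχ : ∀ b b', χ (b ⊗ₜ b') = b ⊗ₜ k b') (hev : ∀ b c, ev (b ⊗ₜ c) = ρ (b ⊗ₜ 1) * γ c)
    (hγ : ∀ b, γ (k b) = ρ (1 ⊗ₜ b)) : ev.comp χ = ρ := by
  refine RingHom.ext fun x => ?_
  induction x using TensorProduct.induction_on with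
  | zero => simp only [map_zero]
  | add a b ha hb => simp only [map_add, ha, hb]
  | tmul c l =>
    rw [RingHom.comp_apply, hχ, hev, hγ, ← map_mul, Algebra.TensorProduct.tmul_mul_tmul, mul_one, one_mul]

set_option maxHeartbeats 4000000 in
/-- The functions of the atlas over a point of the square of the spectrum. -/
theorem exists_preimage_pt [QuasiSeparatedSpace ↥S] (hqs : IsQuasiSeparatedSp X.obj) (U : EtOver X.obj)
    [IsAffine U.obj.left.left] (hU : Covers U) (hs : RepWith @Surjective U.obj.hom) (hF : Faithful U) (hL : Lifts U)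
    (ψ0 : gr U ⊗[invRing U] gr U →+* Γ((fib (𝟙 U.obj.left) U).obj.left.left, ⊤))
    (hψ0 : ∀ c l, ψ0 (c ⊗ₜ l) =
      gπ (representable_compAt (𝟙 U.obj.left)) U c * (fibπ (𝟙 U.obj.left) U).left.appTop l)
    (q : Spec (CommRingCat.of (gr U ⊗[invRing U] gr U))) :
    q ∈ Set.range ((fib (𝟙 U.obj.left) U).obj.left.left.toSpecΓ ≫ Spec.map (CommRingCat.ofHom ψ0)) := by
  let T := gr U ⊗[invRing U] gr U
  let q' : PrimeSpectrum T := q
  let K : CommRingCat.{u} := CommRingCat.of q'.asIdeal.ResidueField
  let ρ : T →+* K := algebraMap T q'.asIdeal.ResidueField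
  let φ : CommRingCat.of (gr U) ⟶ K :=
    CommRingCat.ofHom (ρ.comp (Algebra.TensorProduct.includeRight (R := invRing U) (A := gr U)).toRingHom)
  let P : Over S := Over.mk ((Spec.map φ ≫ U.obj.left.left.isoSpec.inv) ≫ U.obj.left.hom)
  let κ : P ⟶ U.obj.left := Over.homMk (Spec.map φ ≫ U.obj.left.left.isoSpec.inv) rfl
  have hK : IsAffine P.left := inferInstanceAs (IsAffine (Spec K))
  let γ : Γ(P.left, ⊤) →+* K := (Scheme.ΓSpecIso K).hom.hom
  have hγ : ∀ c, γ (κ.left.appTop c) = φ c := fun c =>
    congrArg (fun k : CommRingCat.of (gr U) ⟶ K => k c) (appTop_isoSpec_inv φ)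
  let _ : Algebra (invRing U) Γ(P.left, ⊤) := (κ.left.appTop.hom.comp (invRing U).subtype).toAlgebra
  -- the fibre is finite over the point
  let W := (fib κ U).obj.left.left
  let π : W ⟶ P.left := (fibπ κ U).left
  have sqW : IsPullback ((yon S).map (EtOver.bcπ (representable_compAt κ) U)) ((yon S).map (fibπ κ U))
      U.obj.hom (compAt κ) := by
    rw [map_fibπ]
    exact (EtOver.isPullback_bcObj (representable_compAt κ) U).flip
  have hπe : Etale π := U.property.2 _ _ _ sqW
  have hπs : Surjective π := hs.2 _ _ _ sqW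
  have hπq : QuasiCompact π := (repWith_quasiCompact_chart X hqs U.obj.hom).2 _ _ _ sqW
  have : IsFinite π := by
    have : IsLocallyArtinian P.left := inferInstanceAs (IsLocallyArtinian (Spec (CommRingCat.of _)))
    have := AlgSpB.locallyQuasiFinite_of_etale π
    exact IsFinite.of_locallyQuasiFinite π
  have : IsAffine W := isAffine_of_isAffineHom π
  have : Nonempty W := by
    obtain ⟨x⟩ : Nonempty P.left := inferInstanceAs (Nonempty (PrimeSpectrum _))
    obtain ⟨w, -⟩ := π.surjective x
    exact ⟨w⟩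
  have hinj : Function.Injective π.appTop := by
    have : Nontrivial Γ(W, ⊤) := by
      have : Nonempty (PrimeSpectrum Γ(W, ⊤)) := ⟨W.isoSpec.hom (Classical.arbitrary W)⟩
      exact (PrimeSpectrum.nonempty_iff_nontrivial).1 this
    intro a b hab
    have h : ((Scheme.ΓSpecIso K).inv ≫ π.appTop).hom (γ a) = ((Scheme.ΓSpecIso K).inv ≫ π.appTop).hom (γ b) := by
      change π.appTop ((Scheme.ΓSpecIso K).inv ((Scheme.ΓSpecIso K).hom a)) =
        π.appTop ((Scheme.ΓSpecIso K).inv ((Scheme.ΓSpecIso K).hom b))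
      rw [Iso.hom_inv_id_apply, Iso.hom_inv_id_apply]
      exact hab
    exact (ConcreteCategory.bijective_of_isIso (Scheme.ΓSpecIso K).hom).1
      (((Scheme.ΓSpecIso K).inv ≫ π.appTop).hom.injective h)
  obtain ⟨ψ, hψi, hψ⟩ := exists_psi κ hqs hU hF hL hinj (fun a => rfl)
  -- the morphism from the fibre to the square
  let R := fib (𝟙 U.obj.left) U
  let z : (fib κ U).obj.left ⟶ R.obj.left := (isPullback_fib_id U).lift _ _ (fib_w κ U) |> (yon S).preimage
  have hz : (yon S).map z = (isPullback_fib_id U).lift _ _ (fib_w κ U) := (yon S).map_preimage _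
  have hz1 : z ≫ EtOver.bcπ (representable_compAt (𝟙 U.obj.left)) U = EtOver.bcπ (representable_compAt κ) U :=
    (yon S).map_injective (by rw [Functor.map_comp, hz]; exact (isPullback_fib_id U).lift_fst _ _ _)
  have hz2 : z ≫ fibπ (𝟙 U.obj.left) U = fibπ κ U ≫ κ :=
    (yon S).map_injective (by rw [Functor.map_comp, hz]; exact (isPullback_fib_id U).lift_snd _ _ _)
  let χ : T →ₐ[invRing U] gr U ⊗[invRing U] Γ(P.left, ⊤) :=
    Algebra.TensorProduct.map (AlgHom.id _ _) { κ.left.appTop.hom with commutes' := fun a => rfl }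
  have hχ : (z.left.appTop.hom).comp ψ0 = ψ.comp χ.toRingHom := by
    refine RingHom.ext fun x => ?_
    induction x using TensorProduct.induction_on with
    | zero => simp only [map_zero]
    | add a b ha hb => simp only [map_add, ha, hb]
    | tmul c l =>
      change z.left.appTop (ψ0 (c ⊗ₜ l)) = ψ (c ⊗ₜ κ.left.appTop l)
      rw [hψ0, hψ, map_mul]
      congr 1
      · exact congrArg (fun k : (fib κ U).obj.left ⟶ U.obj.left => k.left.appTop c) hz1
      · exact congrArg (fun k : (fib κ U).obj.left ⟶ U.obj.left => k.left.appTop l) hz2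
  obtain ⟨ev, hev'⟩ := exists_tensor_hom
    (ρ.comp (Algebra.TensorProduct.includeLeftRingHom (R := invRing U) (A := gr U) (B := gr U))) γ
    (fun a => (congrArg ρ (algebraMap_tmul_one (A := invRing U) (B := gr U) (C := gr U) a)).trans (hγ _).symm)
  have hev : ev.comp χ.toRingHom = ρ :=
    comp_eq_of_tmul ρ (fun b => κ.left.appTop b) γ ev χ.toRingHom (fun _ _ => rfl) hev' hγ
  obtain ⟨p, hp⟩ : ∃ p, PrimeSpectrum.comap ψ p =
      (⟨RingHom.ker ev, RingHom.ker_isPrime _⟩ : PrimeSpectrum _) := by
    refine RingHom.IsIntegral.comap_surjective (RingHom.Finite.to_isIntegral ?_) hψi _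
    have hfin : ((Scheme.ΓSpecIso K).inv ≫ π.appTop).hom.Finite :=
      ((Scheme.Hom.finite_appTop π).comp (RingHom.Finite.of_surjective _
        (ConcreteCategory.bijective_of_isIso (Scheme.ΓSpecIso K).inv).2) :)
    have e : ((Scheme.ΓSpecIso K).inv ≫ π.appTop).hom =
        ψ.comp ((Algebra.TensorProduct.includeRight (R := invRing U) (A := gr U)).toRingHom.comp
          (Scheme.ΓSpecIso K).inv.hom) := RingHom.ext fun a => by
      change π.appTop ((Scheme.ΓSpecIso K).inv a) = ψ ((1 : gr U) ⊗ₜ (Scheme.ΓSpecIso K).inv a)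
      rw [hψ, map_one, one_mul]
    rw [e] at hfin
    exact RingHom.Finite.of_comp_finite hfin
  obtain ⟨w, hw⟩ : ∃ w, W.toSpecΓ w = p := W.isoSpec.hom.surjective p
  refine ⟨z.left w, ?_⟩
  rw [← Scheme.Hom.comp_apply, ← Category.assoc, Scheme.toSpecΓ_naturality, Category.assoc, ← Spec.map_comp,
    Scheme.Hom.comp_apply]
  change PrimeSpectrum.comap (z.left.appTop.hom.comp ψ0) (W.toSpecΓ w) = q'
  rw [hw, hχ, PrimeSpectrum.comap_comp_apply, hp]
  refine PrimeSpectrum.ext ?_
  change RingHom.ker (ev.comp χ.toRingHom) = q'.asIdeal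
  rw [hev]
  exact Ideal.ker_algebraMap_residueField _

set_option maxHeartbeats 1000000 in
/-- A space with generating invariant sections is an affine scheme. -/
theorem exists_iso_affine [QuasiSeparatedSpace ↥S] (hqs : IsQuasiSeparatedSp X.obj) (U : EtOver X.obj)
    [IsAffine U.obj.left.left] (hU : Covers U) (hs : RepWith @Surjective U.obj.hom) (hF : Faithful U) (hL : Lifts U) :
    ∃ T : Over S, IsAffine T.left ∧ Nonempty ((yon S).obj T ≅ X.obj) := by
  have hff := faithfullyFlat_invRing hqs hU hF hL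
  obtain ⟨ψ, hψi, hψ⟩ := exists_psi (𝟙 U.obj.left) hqs hU hF hL (injective_fibπ_id U) (fun a => rfl)
  let R := fib (𝟙 U.obj.left) U
  let w1 : R.obj.left ⟶ U.obj.left := EtOver.bcπ (representable_compAt (𝟙 U.obj.left)) U
  let w2 : R.obj.left ⟶ U.obj.left := fibπ (𝟙 U.obj.left) U
  have sqR : IsPullback ((yon S).map w1) ((yon S).map w2) U.obj.hom U.obj.hom := isPullback_fib_id U
  have hψs : Function.Surjective ψ := fun y => by
    obtain ⟨n, c, l, rfl⟩ := exists_sum_mul hqs hU hF hL y
    exact ⟨∑ i, c i ⊗ₜ l i, (map_sum ψ _ _).trans (Finset.sum_congr rfl fun i _ => hψ _ _)⟩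
  -- the square is the fibre product over the spectrum
  have he1 : Etale w1.left := U.property.2 _ _ _ sqR.flip
  have he2 : Etale w2.left := U.property.2 _ _ _ sqR
  have : IsSeparated w2.left := AlgSpB.Art.isSeparated_snd sqR
  have : QuasiCompact w2.left := (repWith_quasiCompact_chart X hqs U.obj.hom).2 _ _ _ sqR
  have : CompactSpace R.obj.left.left := QuasiCompact.compactSpace_of_compactSpace w2.left
  have : LocallyQuasiFinite w2.left := AlgSpB.locallyQuasiFinite_of_etale w2.left
  have : R.obj.left.left.IsQuasiAffine := Groth.Agent.AlgSp.isQuasiAffine_of_lqf w2.left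
  let ψ' := CommRingCat.ofHom ψ
  have : IsIso ψ' := (ConcreteCategory.isIso_iff_bijective ψ').2 ⟨hψi, hψs⟩
  let θ := R.obj.left.left.toSpecΓ ≫ Spec.map ψ'
  have : IsOpenImmersion θ := inferInstance
  have : Surjective θ := ⟨fun q => exists_preimage_pt hqs U hU hs hF hL ψ hψ q⟩
  have : IsIso θ := IsOpenImmersion.isIso θ
  let π := toA U
  have hu1 : θ ≫ Spec.map (CommRingCat.ofHom (Algebra.TensorProduct.includeLeftRingHom (R := invRing U) (A := gr U) (B := gr U))) =
      w1.left ≫ U.obj.left.left.toSpecΓ := by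
    rw [Category.assoc, ← Spec.map_comp, Scheme.toSpecΓ_naturality]
    congr 2
    refine CommRingCat.hom_ext (RingHom.ext fun c => ?_)
    change ψ (c ⊗ₜ 1) = _
    rw [hψ, map_one, mul_one]
  have hu2 : θ ≫ Spec.map (CommRingCat.ofHom (Algebra.TensorProduct.includeRight (R := invRing U) (A := gr U)).toRingHom) =
      w2.left ≫ U.obj.left.left.toSpecΓ := by
    rw [Category.assoc, ← Spec.map_comp, Scheme.toSpecΓ_naturality]
    congr 2
    refine CommRingCat.hom_ext (RingHom.ext fun c => ?_)
    change ψ (1 ⊗ₜ c) = _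
    rw [hψ, map_one, one_mul]
  have sq0 := isPullback_SpecMap_of_isPushout _ _ _ _
    (CommRingCat.isPushout_tensorProduct (invRing U) (gr U) (gr U))
  have sqS : IsPullback w1.left w2.left π π := by
    refine sq0.of_iso (asIso θ).symm U.obj.left.left.isoSpec.symm U.obj.left.left.isoSpec.symm (Iso.refl _) ?_ ?_ ?_ ?_
    · simp only [Iso.symm_hom, asIso_inv]
      rw [← cancel_epi θ, IsIso.hom_inv_id_assoc, ← Category.assoc, hu1, Category.assoc]
      simp [Scheme.isoSpec]
    · simp only [Iso.symm_hom, asIso_inv]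
      rw [← cancel_epi θ, IsIso.hom_inv_id_assoc, ← Category.assoc, hu2, Category.assoc]
      simp [Scheme.isoSpec]
    · simp [π, toA, Scheme.isoSpec]
    · simp [π, toA, Scheme.isoSpec]
  -- descent of the structure map
  have hflat : Flat (Spec.map (CommRingCat.ofHom (algebraMap (invRing U) (gr U)))) := by
    rw [HasRingHomProperty.Spec_iff (P := @Flat)]
    exact RingHom.flat_algebraMap_iff.2 inferInstance
  have hsur : Surjective (Spec.map (CommRingCat.ofHom (algebraMap (invRing U) (gr U)))) :=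
    ⟨PrimeSpectrum.comap_surjective_of_faithfullyFlat⟩
  have hπsur : Surjective π := inferInstanceAs (Surjective (_ ≫ _))
  have hπflat : Flat π := inferInstanceAs (Flat (_ ≫ _))
  have hπqc : QuasiCompact π := inferInstanceAs (QuasiCompact (_ ≫ _))
  have hdesc : ∀ {Z : Scheme.{u}} (g1 g2 : Z ⟶ U.obj.left.left), g1 ≫ π = g2 ≫ π →
      g1 ≫ U.obj.left.hom = g2 ≫ U.obj.left.hom := fun g1 g2 h => by
    rw [← sqS.lift_fst g1 g2 h, Category.assoc, Over.w w1, ← Over.w w2, ← Category.assoc, sqS.lift_snd]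
  have : EffectiveEpi π := by
    set_option synthInstance.maxHeartbeats 200000 in infer_instance
  let str : Spec (CommRingCat.of (invRing U)) ⟶ S := EffectiveEpi.desc π U.obj.left.hom fun g1 g2 h => hdesc g1 g2 h
  let T : Over S := Over.mk str
  let q : U.obj.left ⟶ T := Over.homMk π (EffectiveEpi.fac π _ fun g1 g2 h => hdesc g1 g2 h)
  -- the quotient map is etale
  have hE : Algebra.Etale (invRing U) (gr U) := by
    have : Etale (Spec.map (CommRingCat.ofHom (Algebra.TensorProduct.includeLeftRingHom (R := invRing U) (A := gr U) (B := gr U)))) := by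
      rw [← MorphismProperty.cancel_left_of_respectsIso @Etale θ, hu1]
      infer_instance
    rw [HasRingHomProperty.Spec_iff (P := @Etale)] at this
    have : Algebra.Etale (gr U) (gr U ⊗[invRing U] gr U) := by
      rw [← RingHom.etale_algebraMap]
      exact this
    exact Algebra.Etale.of_etale_tensorProduct_of_faithfullyFlat (gr U)
  have hqe : Etale q.left := by
    have : Etale (Spec.map (CommRingCat.ofHom (algebraMap (invRing U) (gr U)))) := by
      rw [HasRingHomProperty.Spec_iff (P := @Etale)]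
      exact RingHom.etale_algebraMap.2 hE
    exact inferInstanceAs (Etale (_ ≫ _))
  have hqe' : RepWith @Etale ((yon S).map q) := (repWith_yon_map_iff _ _).2 hqe
  have hqs' : RepWith @Surjective ((yon S).map q) := (repWith_yon_map_iff _ _).2 hπsur
  obtain ⟨l1, hl1⟩ := Groth.Agent.AlgSp.InfSpace.exists_desc U.property hs ((yon S).map q) fun Z a b h => by
    obtain ⟨a, rfl⟩ := (yon S).map_surjective a
    obtain ⟨b, rfl⟩ := (yon S).map_surjective b
    rw [← Functor.map_comp, ← Functor.map_comp]
    exact congrArg _ (Over.OverMorphism.ext (toA_comp_eq U a b h))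
  obtain ⟨l2, hl2⟩ := Groth.Agent.AlgSp.InfSpace.exists_desc hqe' hqs' U.obj.hom fun Z a b h => by
    obtain ⟨a, rfl⟩ := (yon S).map_surjective a
    obtain ⟨b, rfl⟩ := (yon S).map_surjective b
    rw [← Functor.map_comp, ← Functor.map_comp] at h
    have h' : a.left ≫ π = b.left ≫ π := congrArg (fun k : Z ⟶ T => k.left) ((yon S).map_injective h)
    let l : Z ⟶ R.obj.left := Over.homMk (sqS.lift a.left b.left h') (by
      rw [← Over.w w1, sqS.lift_fst_assoc, Over.w a])
    have e1 : l ≫ w1 = a := Over.OverMorphism.ext (sqS.lift_fst _ _ _)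
    have e2 : l ≫ w2 = b := Over.OverMorphism.ext (sqS.lift_snd _ _ _)
    rw [← e1, ← e2, Functor.map_comp, Functor.map_comp, Category.assoc, Category.assoc, sqR.w]
  have := Groth.Agent.AlgSp.isLocallySurjective_of_etale_surjective _ U.property hs
  have := Groth.Agent.AlgSp.isLocallySurjective_of_etale_surjective _ hqe' hqs'
  have : Epi U.obj.hom := (Sheaf.isLocallySurjective_iff_epi _).1 inferInstance
  have : Epi ((yon S).map q) := (Sheaf.isLocallySurjective_iff_epi _).1 inferInstance
  exact ⟨T, inferInstanceAs (IsAffine (Spec _)), ⟨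
    { hom := l2
      inv := l1
      hom_inv_id := by rw [← cancel_epi ((yon S).map q), reassoc_of% hl2, hl1, Category.comp_id]
      inv_hom_id := by rw [← cancel_epi U.obj.hom, reassoc_of% hl1, hl2, Category.comp_id] }⟩⟩

end Groth.Agent.AlgSpEN.SerreC
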