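import Groth.Agent.AlgSpEN.SerreBase

/-!
# Generation by invariant sections and relations between them
-/

set_option autoImplicit false
universe u

open CategoryTheory CategoryTheory.Limits AlgebraicGeometry Opposite

set_option backward.isDefEq.respectTransparency false
set_option backward.isDefEq.respectTransparency.types false

noncomputable section

namespace Groth.Agent.AlgSpEN.SerreC

open _root_.AlgSp Groth.Agent.AlgSpQC

variable {S : Scheme.{u}} {X : AlgSp.Space S} {U : EtOver X.obj}

/-- Quasi-coherent modules without invariant sections vanish on the atlas. -/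
def Faithful (U : EtOver X.obj) : Prop :=
  ∀ ⦃Q : ModEt X.obj⦄ (_ : Q.IsQuasicoherent), (∀ q : sectModEt Q U, Inv Q q → q = 0) → ∀ q : sectModEt Q U, q = 0

variable {M N : ModEt X.obj}

/-- The submodule spanned by the invariant sections. -/
def invSpan (M : ModEt X.obj) (U : EtOver X.obj) : Submodule (gr U) (sectModEt M U) :=
  Submodule.span (gr U) {m | Inv M m}

theorem rs_invSpan {N' : EtOver X.obj} {a b : N' ⟶ U} {n : sectModEt M U} (hn : n ∈ invSpan M U) :
    rs M a n ∈ Submodule.span (gr N') (rs M b '' (invSpan M U : Set (sectModEt M U))) := by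
  induction hn using Submodule.span_induction with
  | mem x hx => exact Submodule.subset_span ⟨x, Submodule.subset_span hx, hx N' b a⟩
  | zero => rw [map_zero]; exact Submodule.zero_mem _
  | add x y _ _ hx hy => rw [map_add]; exact Submodule.add_mem _ hx hy
  | smul r x _ hx => rw [rs_smul]; exact Submodule.smul_mem _ _ hx

/-- Quasi-coherent modules are generated by their invariant sections. -/
theorem invSpan_eq_top [QuasiSeparatedSpace ↥S] (hqs : IsQuasiSeparatedSp X.obj) [IsAffine U.obj.left.left]
    (hU : Covers U) (hF : Faithful U) (hL : Lifts U) (hM : M.IsQuasicoherent) : invSpan M U = ⊤ := by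
  have := hM
  obtain ⟨K, ι, hι, hK⟩ := exists_subSheaf (M := M) (fun E => unionSub M (invSpan M U) E)
    (fun g => rs_mem_unionSub (invSpan M U) g) (mem_unionSub_of_local (invSpan M U))
  have := hι
  have : K.IsQuasicoherent := isQuasicoherent_sub ι fun E W g hE hW m => by
    refine ⟨⊤, (etTop X.obj).top_mem W, fun V f _ => ?_⟩
    have hmW : hs ι W m ∈ unionSub M (invSpan M U) W := (hK W _).1 ⟨m, rfl⟩
    have h := mem_span_unionSub hqs (invSpan M U) g _ hmW
    have key : m ∈ Submodule.span (gr W) (Set.range (rs K g)) := by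
      rw [← Submodule.apply_mem_span_image_iff_mem_span (hs_injective ι W)]
      refine Submodule.span_mono ?_ h
      rintro _ ⟨e, he, rfl⟩
      obtain ⟨e', rfl⟩ := (hK E e).2 he
      exact ⟨rs K g e', ⟨e', rfl⟩, hs_rs ι g e'⟩
    clear hmW h
    induction key using Submodule.span_induction with
    | mem x hx =>
      obtain ⟨e, rfl⟩ := hx
      exact Submodule.subset_span ⟨e, rs_comp g f e⟩
    | zero => rw [map_zero]; exact Submodule.zero_mem _
    | add x y _ _ hx hy => rw [map_add]; exact Submodule.add_mem _ hx hy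
    | smul r x _ hx => rw [rs_smul]; exact Submodule.smul_mem _ _ hx
  have hQ : (cokernel ι).IsQuasicoherent := isQuasicoherent_cokernel ι
  have hz : ∀ q : sectModEt (cokernel ι) U, Inv _ q → q = 0 := fun q hq => by
    obtain ⟨m, hm, rfl⟩ := hL hM hQ (cokernel.π ι) q hq (hs_surjective (cokernel.π ι) U q)
    have hmem : m ∈ unionSub M (invSpan M U) U := fun V a c _ =>
      rs_invSpan (a := a) (b := c) (Submodule.subset_span hm)
    obtain ⟨y, rfl⟩ := (hK U m).2 hmem
    rw [← hs_comp, cokernel.condition]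
    rfl
  refine eq_top_iff.2 fun m _ => ?_
  have hm0 := hF hQ hz (hs (cokernel.π ι) U m)
  have hι' : IsLimit (KernelFork.ofι ι (cokernel.condition ι)) :=
    ((ShortComplex.exact_and_mono_f_iff_f_is_kernel (ShortComplex.mk ι (cokernel.π ι) (cokernel.condition ι))).1
      ⟨ShortComplex.exact_of_g_is_cokernel _ (cokernelIsCokernel ι), hι⟩).some
  obtain ⟨y', hy'⟩ := exists_kernel_lift (cokernel.π ι) (U := U) m hm0
  obtain ⟨y, hy⟩ : ∃ y, hs ι U y = m := ⟨hs (hι'.lift (KernelFork.ofι (kernel.ι (cokernel.π ι)) (kernel.condition _))) U y',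
    (congrArg (fun k : kernel (cokernel.π ι) ⟶ M => hs k U y')
      (Fork.IsLimit.lift_ι' hι' _ _)).trans hy'⟩
  have h := (hK U m).1 ⟨y, hy⟩ U (𝟙 U) (𝟙 U) inferInstance
  rw [rs_id] at h
  refine (Submodule.span_le.2 ?_) h
  rintro _ ⟨e, he, rfl⟩
  rw [rs_id]
  exact he

variable {I : Type (u + 1)}

/-- The map from a free module given by invariant sections. -/
def freeMap (σ : I → M.sections) : SheafOfModules.free (R := OEtRing X.obj) I ⟶ M := M.freeHomEquiv.symm σ

/-- The map from the structure sheaf given by a section. -/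
def unitMap (σ : M.sections) : SheafOfModules.unit (OEtRing X.obj) ⟶ M := M.unitHomEquiv.symm σ

theorem hs_unitMap (σ : M.sections) (E : EtOver X.obj) (a : gr E) :
    hs (unitMap σ) E (upΓ E a : sectModEt (SheafOfModules.unit (OEtRing X.obj)) E) = a • sec σ E := by
  have h1 : hs (unitMap σ) E (unitOne (OEtRing X.obj) E) = sec σ E := by
    refine Eq.trans ?_ (congrArg (fun τ : M.sections => sec τ E) (M.unitHomEquiv.apply_symm_apply σ))
    exact (SheafOfModules.unitHomEquiv_apply_coe M (unitMap σ) (op E)).symm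
  have h2 : (upΓ E a : sectModEt (SheafOfModules.unit (OEtRing X.obj)) E) = a • unitOne (OEtRing X.obj) E :=
    (mul_one (upΓ E a)).symm
  rw [h2, map_smul, h1]

theorem freeMap_eq_sum [Fintype I] (σ : I → M.sections) :
    freeMap σ = ∑ i, coord (R := OEtRing X.obj) i ≫ unitMap (σ i) := by
  classical
  refine Cofan.IsColimit.hom_ext (SheafOfModules.isColimitFreeCofan I) _ _ fun j => ?_
  rw [SheafOfModules.freeCofan_inj, Preadditive.comp_sum]
  rw [Finset.sum_eq_single j]
  · rw [← Category.assoc, ιFree_coord, if_pos rfl, Category.id_comp]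
    exact (SheafOfModules.unitHomEquiv_symm_freeHomEquiv_apply _ j).symm.trans
      (congrArg (fun s => M.unitHomEquiv.symm (s j)) (M.freeHomEquiv.apply_symm_apply σ))
  · intro i _ hi
    rw [← Category.assoc, ιFree_coord, if_neg (fun h => hi h.symm), zero_comp]
  · exact fun h => absurd (Finset.mem_univ j) h

theorem hs_sum {M N : ModEt X.obj} {ι : Type*} (s : Finset ι) (φ : ι → (M ⟶ N)) (E : EtOver X.obj) (m : sectModEt M E) :
    hs (∑ i ∈ s, φ i) E m = ∑ i ∈ s, hs (φ i) E m := by
  classical
  induction s using Finset.induction with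
  | empty => simp only [Finset.sum_empty]; rfl
  | insert a s ha ih => rw [Finset.sum_insert ha, Finset.sum_insert ha, ← ih]; rfl

/-- The coordinates of a section of a free module. -/
def crd (U : EtOver X.obj) (i : I) (x : sectModEt (SheafOfModules.free (R := OEtRing X.obj) I) U) : gr U :=
  (hs (coord (R := OEtRing X.obj) i) U x).down

theorem hs_freeMap [Fintype I] (σ : I → M.sections)
    (x : sectModEt (SheafOfModules.free (R := OEtRing X.obj) I) U) :
    hs (freeMap σ) U x = ∑ i, crd U i x • sec (σ i) U := by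
  rw [freeMap_eq_sum, hs_sum]
  exact Finset.sum_congr rfl fun i _ => hs_unitMap (σ i) U _

theorem crd_mem_invRing {i : I} {x : sectModEt (SheafOfModules.free (R := OEtRing X.obj) I) U} (h : Inv _ x) :
    crd U i x ∈ invRing U := fun Z a b => congrArg ULift.down (inv_hs (coord (R := OEtRing X.obj) i) h Z a b)

/-- The tautological sections of a free module. -/
abbrev bas (U : EtOver X.obj) (i : I) : sectModEt (SheafOfModules.free (R := OEtRing X.obj) I) U :=
  sec (SheafOfModules.freeSection (R := OEtRing X.obj) i) U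

theorem crd_bas [DecidableEq I] (i j : I) : crd U i (bas U j) = if j = i then 1 else 0 := by
  rw [crd]
  refine (congrArg ULift.down (coord_freeSection i j U)).trans ?_
  split_ifs <;> rfl

theorem crd_sum {ι : Type*} (s : Finset ι) (i : I)
    (c : ι → gr U) (x : ι → sectModEt (SheafOfModules.free (R := OEtRing X.obj) I) U) :
    crd U i (∑ k ∈ s, c k • x k) = ∑ k ∈ s, c k * crd U i (x k) := by
  change AddEquiv.ulift (hs (coord (R := OEtRing X.obj) i) U (∑ k ∈ s, c k • x k)) = _
  rw [map_sum, map_sum]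
  refine Finset.sum_congr rfl fun k _ => ?_
  rw [map_smul]
  rfl

theorem crd_hs_comb {K : ModEt X.obj} (ι : K ⟶ SheafOfModules.free (R := OEtRing X.obj) I) (i : I)
    (y : sectModEt K U) {κ : Type*} [Fintype κ] (d : κ → gr U) (z : κ → sectModEt K U)
    (hz : ∑ k, d k • z k = y) {x : sectModEt (SheafOfModules.free (R := OEtRing X.obj) I) U}
    (hx : hs ι U y = x) : crd U i x = ∑ k, d k * crd U i (hs ι U (z k)) := by
  subst hz hx
  rw [map_sum, Finset.sum_congr rfl fun k _ => map_smul (hs ι U) (d k) (z k)]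
  exact crd_sum Finset.univ i d fun k => hs ι U (z k)

theorem hs_kernel_ι (φ : M ⟶ N) (y : sectModEt (kernel φ) U) : hs φ U (hs (kernel.ι φ) U y) = 0 :=
  map_kernel_ι φ y

theorem exists_hs_kernel_ι (φ : M ⟶ N) (x : sectModEt M U) (hx : hs φ U x = 0) :
    ∃ y, hs (kernel.ι φ) U y = x :=
  exists_kernel_lift φ x hx

/-- An invariant element of the span of invariant sections is a combination with invariant coefficients. -/
theorem exists_combination [IsAffine U.obj.left.left] (hU : Covers U) (hL : Lifts U) (hN : N.IsQuasicoherent)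
    {n : ℕ} (c : Fin n → gr U) (σ : Fin n → sectModEt N U) (hσ : ∀ i, Inv N (σ i))
    (hs' : Inv N (∑ i, c i • σ i)) :
    ∃ a : Fin n → gr U, (∀ i, a i ∈ invRing U) ∧ ∑ i, a i • σ i = ∑ i, c i • σ i := by
  classical
  choose s hs'' using fun i : ULift.{u + 1} (Fin n) => exists_sections hU (hσ i.down)
  let x : sectModEt (SheafOfModules.free (R := OEtRing X.obj) (ULift.{u + 1} (Fin n))) U :=
    ∑ i, c i.down • bas U i
  have hx : hs (freeMap s) U x = ∑ i, c i • σ i := by
    rw [hs_freeMap]
    refine Fintype.sum_equiv Equiv.ulift _ _ fun i => ?_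
    rw [hs'' i, crd_sum, Finset.sum_eq_single i (fun j _ hj => by rw [crd_bas, if_neg hj, mul_zero])
      (fun h => absurd (Finset.mem_univ i) h), crd_bas, if_pos rfl, mul_one]
    rfl
  obtain ⟨m, hm, hmx⟩ := hL inferInstance hN (freeMap s) _ hs' ⟨x, hx⟩
  refine ⟨fun i => crd U ⟨i⟩ m, fun i => crd_mem_invRing hm, ?_⟩
  rw [← hmx, hs_freeMap]
  exact (Fintype.sum_equiv Equiv.ulift _ _ fun i => by rw [hs'' i]; rfl).symm

set_option maxHeartbeats 600000 in
/-- Linear relations between invariant sections come from relations with invariant coefficients. -/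
theorem exists_relations [QuasiSeparatedSpace ↥S] (hqs : IsQuasiSeparatedSp X.obj) [IsAffine U.obj.left.left]
    (hU : Covers U) (hF : Faithful U) (hL : Lifts U) (hN : N.IsQuasicoherent) {n : ℕ} (c : Fin n → gr U)
    (σ : Fin n → sectModEt N U) (hσ : ∀ i, Inv N (σ i)) (h0 : ∑ i, c i • σ i = 0) :
    ∃ (m : ℕ) (d : Fin m → gr U) (κ : Fin m → Fin n → gr U), (∀ k i, κ k i ∈ invRing U) ∧
      (∀ k, ∑ i, κ k i • σ i = 0) ∧ ∀ i, c i = ∑ k, d k * κ k i := by
  classical
  choose s hs'' using fun i : ULift.{u + 1} (Fin n) => exists_sections hU (hσ i.down)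
  obtain ⟨x, hx0⟩ : ∃ x : sectModEt (SheafOfModules.free (R := OEtRing X.obj) (ULift.{u + 1} (Fin n))) U,
      x = ∑ i, c i.down • bas U i := ⟨_, rfl⟩
  have hc : ∀ i, crd U i x = c i.down := fun i => by
    rw [hx0]
    rw [crd_sum, Finset.sum_eq_single i (fun j _ hj => by rw [crd_bas, if_neg hj, mul_zero])
      (fun h => absurd (Finset.mem_univ i) h), crd_bas, if_pos rfl, mul_one]
  have hx : hs (freeMap s) U x = 0 := by
    rw [hs_freeMap, ← h0]
    exact Fintype.sum_equiv Equiv.ulift _ _ fun i => by rw [hs'' i, hc]; rfl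
  obtain ⟨y, hy⟩ := exists_hs_kernel_ι (freeMap s) x hx
  have := hN
  have hK : (kernel (freeMap s)).IsQuasicoherent := isQuasicoherent_kernel _
  have hy' : y ∈ invSpan (kernel (freeMap s)) U :=
    (invSpan_eq_top hqs hU hF hL hK).ge Submodule.mem_top
  obtain ⟨m, d, z, hz⟩ := Submodule.mem_span_set'.1 hy'
  refine ⟨m, d, fun k i => crd U ⟨i⟩ (hs (kernel.ι (freeMap s)) U (z k).1),
    fun k i => crd_mem_invRing (inv_hs _ (z k).2), fun k => ?_, fun i => ?_⟩
  · have e := hs_kernel_ι (U := U) (freeMap s) (z k).1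
    rw [hs_freeMap] at e
    refine Eq.trans ?_ e
    exact (Fintype.sum_equiv Equiv.ulift _ _ fun j =>
      congrArg (crd U j (hs (kernel.ι (freeMap s)) U (z k).1) • ·) (hs'' j)).symm
  · have e := crd_hs_comb (kernel.ι (freeMap s)) ⟨i⟩ y d (fun k => (z k).1) hz hy
    exact (hc ⟨i⟩).symm.trans e

end Groth.Agent.AlgSpEN.SerreC
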