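import Groth.Agent.AlgSpEN.SerreGen
import Groth.Agent.AlgSpB.FPCover.Geom
import Groth.Agent.S10002

/-!
# Functions on fibre products with the atlas
-/

set_option autoImplicit false
universe u

open CategoryTheory CategoryTheory.Limits AlgebraicGeometry Opposite TensorProduct

set_option backward.isDefEq.respectTransparency false
set_option backward.isDefEq.respectTransparency.types false

noncomputable section

namespace Groth.Agent.AlgSpEN.SerreC

open _root_.AlgSp Groth.Agent.AlgSpQC

variable {S : Scheme.{u}} {X : AlgSp.Space S} {U : EtOver X.obj}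

/-- A function as a section of the structure sheaf. -/
def us (E : EtOver X.obj) (a : gr E) : sectModEt (SheafOfModules.unit (OEtRing X.obj)) E := upΓ E a

theorem appTop_comp_eq {A B C : Scheme.{u}} (l : A ⟶ B) (a b : B ⟶ C) (c : Γ(C, ⊤)) (h : a.appTop c = b.appTop c) :
    (l ≫ a).appTop c = (l ≫ b).appTop c := by
  rw [Scheme.Hom.comp_appTop, Scheme.Hom.comp_appTop, CommRingCat.comp_apply, CommRingCat.comp_apply, h]

/-- An invariant function has equal pullbacks along two maps with the same composite to the space. -/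
theorem inv_pull {c : gr U} (hc : c ∈ invRing U) {W : Over S} (f g : W ⟶ U.obj.left)
    (h : (yon S).map f ≫ U.obj.hom = (yon S).map g ≫ U.obj.hom) :
    f.left.appTop c = g.left.appTop c := by
  let R := EtOver.prodObj U U
  let l := U.property.1.lift' f g h
  have h1 : l ≫ (EtOver.prodFst U U).hom.left = g := Functor.relativelyRepresentable.lift'_snd _ f g h
  have h2 : l ≫ (EtOver.prodSnd U U).hom.left = f := Functor.relativelyRepresentable.lift'_fst _ f g h
  have e := appTop_comp_eq l.left (EtOver.prodSnd U U).hom.left.left (EtOver.prodFst U U).hom.left.left c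
    (hc R (EtOver.prodSnd U U) (EtOver.prodFst U U))
  rw [← h1, ← h2]
  exact e

/-- The invariant functions as sections of the structure sheaf. -/
theorem inv_unit {c : gr U} (hc : c ∈ invRing U) :
    Inv (SheafOfModules.unit (OEtRing X.obj)) (us U c) :=
  fun Z a b => congrArg (upΓ Z) (hc Z a b)

theorem smul_upΓ (E : EtOver X.obj) (a b : gr E) :
    a • (us E b) = upΓ E (a * b) :=
  (map_mul (upΓ E) a b).symm

theorem sum_smul_upΓ {E : EtOver X.obj} {ι : Type*} (s : Finset ι) (a b : ι → gr E) :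
    ∑ i ∈ s, a i • (us E (b i)) =
      upΓ E (∑ i ∈ s, a i * b i) :=
  (Finset.sum_congr rfl fun i _ => smul_upΓ E (a i) (b i)).trans (map_sum (upΓ E) _ _).symm

section

variable [QuasiSeparatedSpace ↥S] (hqs : IsQuasiSeparatedSp X.obj) [IsAffine U.obj.left.left]
  (hU : Covers U) (hF : Faithful U) (hL : Lifts U)

include hqs hU hF hL

/-- The atlas is flat over the invariant functions. -/
theorem flat_invRing : Module.Flat (invRing U) (gr U) := by
  refine Module.Flat.of_forall_isTrivialRelation fun {l f x} hfx => ?_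
  have hq : (SheafOfModules.unit (OEtRing X.obj)).IsQuasicoherent :=
    Groth.Agent.AlgSpD.QCExtension.isQuasicoherent_unit X.obj
  have h0 : ∑ i, x i • (us U (f i : gr U)) = 0 := by
    rw [sum_smul_upΓ]
    refine (congrArg (upΓ U) (a₂ := 0) ?_).trans (map_zero _)
    refine Eq.trans (Finset.sum_congr rfl fun i _ => ?_) hfx
    exact mul_comm _ _
  obtain ⟨m, d, κ, hκ, hκ0, hc⟩ := exists_relations hqs hU hF hL hq x _ (fun i => inv_unit (f i).2) h0
  refine ⟨m, fun i k => ⟨κ k i, hκ k i⟩, d, fun i => (hc i).trans (Finset.sum_congr rfl fun k _ => ?_), fun k => ?_⟩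
  · rw [Subring.smul_def, smul_eq_mul, mul_comm]
  · have h := hκ0 k
    rw [sum_smul_upΓ] at h
    refine Subtype.ext ?_
    rw [AddSubmonoidClass.coe_finsetSum]
    refine Eq.trans (Finset.sum_congr rfl fun i _ => ?_) ((map_eq_zero_iff (upΓ U) (ULift.up_injective)).1 h)
    exact mul_comm _ _

/-- The atlas is faithfully flat over the invariant functions. -/
theorem faithfullyFlat_invRing : Module.FaithfullyFlat (invRing U) (gr U) := by
  have := flat_invRing hqs hU hF hL
  refine ⟨fun {m} hm htop => hm.ne_top ((Ideal.eq_top_iff_one _).2 ?_)⟩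
  have h1 : (1 : gr U) ∈ Submodule.span (gr U) ((algebraMap (invRing U) (gr U)) '' (m : Set (invRing U))) := by
    have h : (1 : gr U) ∈ m • (⊤ : Submodule (invRing U) (gr U)) := by rw [htop]; trivial
    refine Submodule.smul_induction_on h (fun r hr n _ => ?_) fun x y hx hy => Submodule.add_mem _ hx hy
    rw [Subring.smul_def, smul_eq_mul, mul_comm]
    exact Submodule.smul_mem _ n (Submodule.subset_span ⟨r, hr, rfl⟩)
  obtain ⟨n, c, z, hz⟩ := Submodule.mem_span_set'.1 h1
  choose r hr hrz using fun i => (z i).2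
  have hq : (SheafOfModules.unit (OEtRing X.obj)).IsQuasicoherent :=
    Groth.Agent.AlgSpD.QCExtension.isQuasicoherent_unit X.obj
  have hsum : ∑ i, c i • (us U (r i : gr U)) = upΓ U 1 := by
    rw [sum_smul_upΓ]
    refine congrArg (upΓ U) (Eq.trans (Finset.sum_congr rfl fun i _ => ?_) hz)
    rw [smul_eq_mul, ← hrz i]
    rfl
  obtain ⟨a, ha, hae⟩ := exists_combination hU hL hq c _ (fun i => inv_unit (r i).2)
    (by rw [hsum]; exact inv_unit (invRing U).one_mem)
  rw [hsum, sum_smul_upΓ] at hae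
  have he : (∑ i, a i * (r i : gr U)) = 1 := ULift.up_injective hae
  rw [show (1 : invRing U) = ∑ i, (⟨a i, ha i⟩ : invRing U) * r i from Subtype.ext (by
    rw [AddSubmonoidClass.coe_finsetSum]
    exact he.symm)]
  exact Ideal.sum_mem _ fun i _ => Ideal.mul_mem_left _ _ (hr i)

end

variable {P : Over S} (κ : P ⟶ U.obj.left)

/-- The composite of a map to the atlas. -/
abbrev compAt : (yon S).obj P ⟶ X.obj := (yon S).map κ ≫ U.obj.hom

theorem representable_compAt : Representable (compAt κ) := X.property.representable_from_yon _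

/-- The fibre product with a chart. -/
abbrev fib (E : EtOver X.obj) : EtOver ((yon S).obj P) := bcO (representable_compAt κ) E

/-- The projection of the fibre product to the scheme. -/
def fibπ (E : EtOver X.obj) : (fib κ E).obj.left ⟶ P := (yon S).preimage (fib κ E).obj.hom

theorem map_fibπ (E : EtOver X.obj) : (yon S).map (fibπ κ E) = (fib κ E).obj.hom := (yon S).map_preimage _

theorem fib_w (E : EtOver X.obj) :
    (yon S).map (EtOver.bcπ (representable_compAt κ) E) ≫ E.obj.hom = (yon S).map (fibπ κ E ≫ κ) ≫ U.obj.hom := by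
  rw [Functor.map_comp, Category.assoc, map_fibπ]
  exact (EtOver.isPullback_bcObj (representable_compAt κ) E).w.symm

theorem bcM_fibπ {E E' : EtOver X.obj} (g : E' ⟶ E) :
    (bcM (representable_compAt κ) g).hom.left ≫ fibπ κ E = fibπ κ E' :=
  (yon S).map_injective (by rw [Functor.map_comp, map_fibπ, map_fibπ]; exact EtOver.w _)

theorem gπ_inv {c : gr U} (hc : c ∈ invRing U) :
    gπ (representable_compAt κ) U c = (fibπ κ U).left.appTop (κ.left.appTop c) :=
  inv_pull hc _ (fibπ κ U ≫ κ) (fib_w κ U)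

/-- The direct image of the structure sheaf. -/
abbrev dirIm : ModEt X.obj :=
  (pushModEt (representable_compAt κ)).obj (SheafOfModules.unit (OEtRing ((yon S).obj P)))

/-- Functions on the scheme as sections of the direct image. -/
def dirSec (l : Γ(P.left, ⊤)) : sectModEt (dirIm κ) U :=
  (pushSect (representable_compAt κ) _ U).symm (upΓ (fib κ U) ((fibπ κ U).left.appTop l))

theorem inv_dirSec (l : Γ(P.left, ⊤)) : Inv (dirIm κ) (dirSec κ l) := fun Z a b => by
  refine (pushSect (representable_compAt κ) _ Z).injective ?_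
  rw [pushSect_rs, pushSect_rs, dirSec, AddEquiv.apply_symm_apply]
  change upΓ (fib κ Z) ((bcM (representable_compAt κ) a).hom.left.left.appTop ((fibπ κ U).left.appTop l)) =
    upΓ (fib κ Z) ((bcM (representable_compAt κ) b).hom.left.left.appTop ((fibπ κ U).left.appTop l))
  refine congrArg (upΓ _) ?_
  change ((bcM (representable_compAt κ) a).hom.left ≫ fibπ κ U).left.appTop l =
    ((bcM (representable_compAt κ) b).hom.left ≫ fibπ κ U).left.appTop l
  rw [bcM_fibπ, bcM_fibπ]

theorem pushSect_smul_dirSec (c : gr U) (l : Γ(P.left, ⊤)) :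
    pushSect (representable_compAt κ) _ U (c • dirSec κ l) =
      upΓ (fib κ U) (gπ (representable_compAt κ) U c * (fibπ κ U).left.appTop l) := by
  rw [pushSect_smul, dirSec, AddEquiv.apply_symm_apply]
  exact (map_mul (upΓ (fib κ U)) _ _).symm

theorem pushSect_sum_dirSec {ι : Type*} (s : Finset ι) (c : ι → gr U) (l : ι → Γ(P.left, ⊤)) :
    pushSect (representable_compAt κ) _ U (∑ i ∈ s, c i • dirSec κ (l i)) =
      upΓ (fib κ U) (∑ i ∈ s, gπ (representable_compAt κ) U (c i) * (fibπ κ U).left.appTop (l i)) :=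
  (map_sum (pushSect (representable_compAt κ) _ U) _ _).trans
    ((Finset.sum_congr rfl fun i _ => pushSect_smul_dirSec κ (c i) (l i)).trans (map_sum (upΓ (fib κ U)) _ _).symm)

theorem isQuasicoherent_dirIm [QuasiSeparatedSpace ↥S] (hqs : IsQuasiSeparatedSp X.obj) [IsAffine P.left] :
    (dirIm κ).IsQuasicoherent := by
  let P' : AlgSp.Space S := ⟨(yon S).obj P, IsAlgSpace.yon_obj P⟩
  let f : P' ⟶ X := ObjectProperty.homMk (compAt κ)
  have := Groth.Agent.AlgSpD.QCExtension.isQuasicoherent_unit ((yon S).obj P)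
  exact S10002.result (X := P') f (representable_compAt κ)
    (Groth.Agent.AlgSp.isQuasiCompactMor_of_quasiCompactSp P'.property X.property f.hom
      (Groth.Agent.AlgSp.isQuasiCompactSp_yon P) hqs)
    (Groth.Agent.AlgSpB.FPCover.isQuasiSeparatedMor_of_affine _) _

set_option maxHeartbeats 800000 in
/-- Functions on the fibre product of an affine scheme with the atlas. -/
theorem exists_psi [QuasiSeparatedSpace ↥S] (hqs : IsQuasiSeparatedSp X.obj) [IsAffine U.obj.left.left]
    [IsAffine P.left] (hU : Covers U) (hF : Faithful U) (hL : Lifts U)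
    (hinj : Function.Injective (fibπ κ U).left.appTop) [Algebra (invRing U) Γ(P.left, ⊤)]
    (halg : ∀ a : invRing U, algebraMap (invRing U) Γ(P.left, ⊤) a = κ.left.appTop (a : gr U)) :
    ∃ ψ : gr U ⊗[invRing U] Γ(P.left, ⊤) →+* Γ((fib κ U).obj.left.left, ⊤), Function.Injective ψ ∧
      ∀ c l, ψ (c ⊗ₜ l) = gπ (representable_compAt κ) U c * (fibπ κ U).left.appTop l := by
  let θ : invRing U →+* Γ((fib κ U).obj.left.left, ⊤) := (gπ (representable_compAt κ) U).comp (invRing U).subtype
  let _ : Algebra (invRing U) Γ((fib κ U).obj.left.left, ⊤) := θ.toAlgebra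
  let f1 : gr U →ₐ[invRing U] Γ((fib κ U).obj.left.left, ⊤) :=
    { gπ (representable_compAt κ) U with commutes' := fun a => rfl }
  let f2 : Γ(P.left, ⊤) →ₐ[invRing U] Γ((fib κ U).obj.left.left, ⊤) :=
    { (fibπ κ U).left.appTop.hom with
      commutes' := fun a => (congrArg (fibπ κ U).left.appTop (halg a)).trans (gπ_inv κ a.2).symm }
  let ψ := (Algebra.TensorProduct.lift f1 f2 fun _ _ => Commute.all _ _).toRingHom
  have hψ : ∀ c l, ψ (c ⊗ₜ l) = gπ (representable_compAt κ) U c * (fibπ κ U).left.appTop l :=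
    fun c l => Algebra.TensorProduct.lift_tmul f1 f2 _ c l
  refine ⟨ψ, (injective_iff_map_eq_zero ψ).2 fun x hx => ?_, hψ⟩
  obtain ⟨n, c, l, rfl⟩ : ∃ (n : ℕ) (c : Fin n → gr U) (l : Fin n → Γ(P.left, ⊤)), x = ∑ i, c i ⊗ₜ l i := by
    have hmem : x ∈ Submodule.span (invRing U) {t | ∃ m n, m ⊗ₜ[invRing U] n = t} := by
      rw [TensorProduct.span_tmul_eq_top]; trivial
    obtain ⟨n, a, z, hz⟩ := Submodule.mem_span_set'.1 hmem
    choose m k hmk using fun i => (z i).2
    refine ⟨n, fun i => a i • m i, k, hz.symm.trans (Finset.sum_congr rfl fun i _ => ?_)⟩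
    rw [← hmk i, TensorProduct.smul_tmul']
  have h0 : ∑ i, c i • dirSec κ (l i) = 0 := (pushSect (representable_compAt κ) _ U).injective (by
    rw [pushSect_sum_dirSec, map_zero]
    refine (congrArg (upΓ _) ?_).trans (map_zero _)
    refine Eq.trans ?_ hx
    rw [map_sum]
    exact Finset.sum_congr rfl fun i _ => (hψ _ _).symm)
  obtain ⟨m, d, κ', hκ', hκ0, hc⟩ := exists_relations hqs hU hF hL (isQuasicoherent_dirIm κ hqs) c _
    (fun i => inv_dirSec κ (l i)) h0
  have hl : ∀ k, ∑ i, (⟨κ' k i, hκ' k i⟩ : invRing U) • l i = 0 := fun k => hinj (by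
    rw [map_sum, map_zero]
    have e := congrArg (pushSect (representable_compAt κ) _ U) (hκ0 k)
    rw [pushSect_sum_dirSec, map_zero] at e
    refine Eq.trans (Finset.sum_congr rfl fun i _ => ?_) ((map_eq_zero_iff (upΓ (fib κ U)) ULift.up_injective).1 e)
    rw [gπ_inv κ (hκ' k i), Algebra.smul_def, halg]
    exact map_mul _ _ _)
  calc ∑ i, c i ⊗ₜ[invRing U] l i = ∑ i, ∑ k, d k ⊗ₜ[invRing U] ((⟨κ' k i, hκ' k i⟩ : invRing U) • l i) := by
        refine Finset.sum_congr rfl fun i _ => ?_
        rw [hc i, TensorProduct.sum_tmul]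
        refine Finset.sum_congr rfl fun k _ => ?_
        refine Eq.trans (congrArg (· ⊗ₜ[invRing U] l i) ?_)
          (TensorProduct.smul_tmul (⟨κ' k i, hκ' k i⟩ : invRing U) (d k) (l i))
        exact mul_comm (d k) (κ' k i)
    _ = ∑ k, d k ⊗ₜ[invRing U] ∑ i, (⟨κ' k i, hκ' k i⟩ : invRing U) • l i := by
        rw [Finset.sum_comm]
        exact Finset.sum_congr rfl fun k _ => (TensorProduct.tmul_sum _ _ _).symm
    _ = 0 := Finset.sum_eq_zero fun k _ => by rw [hl k, TensorProduct.tmul_zero]

/-- The projection of the fibre square of the atlas has injective pullback on functions. -/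
theorem injective_fibπ_id (U : EtOver X.obj) : Function.Injective (fibπ (𝟙 U.obj.left) U).left.appTop := by
  obtain ⟨s, hs⟩ : ∃ s : U.obj.left ⟶ (fib (𝟙 U.obj.left) U).obj.left, s ≫ fibπ (𝟙 U.obj.left) U = 𝟙 _ := by
    have w : (yon S).map (𝟙 U.obj.left) ≫ compAt (𝟙 U.obj.left) = (yon S).map (𝟙 U.obj.left) ≫ U.obj.hom := by
      rw [CategoryTheory.Functor.map_id, Category.id_comp, compAt, CategoryTheory.Functor.map_id]
    refine ⟨(representable_compAt (𝟙 U.obj.left)).lift _ _ w, (yon S).map_injective ?_⟩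
    rw [Functor.map_comp, map_fibπ]
    exact Functor.relativelyRepresentable.lift_fst _ _ _ w
  intro a b hab
  have h := congrArg s.left.appTop hab
  change (s ≫ fibπ (𝟙 U.obj.left) U).left.appTop a = (s ≫ fibπ (𝟙 U.obj.left) U).left.appTop b at h
  rw [hs] at h
  simpa using h

theorem exists_eq_upΓ {Z : Sp S} (E : EtOver Z) (t : sectModEt (SheafOfModules.unit (OEtRing Z)) E) :
    ∃ v : gr E, t = upΓ E v := ⟨t.down, rfl⟩

/-- An invariant function on the square of the atlas comes from the second factor. -/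
theorem exists_eq_fibπ [IsAffine U.obj.left.left] (κ : U.obj.left ⟶ U.obj.left) (hκ : κ = 𝟙 _)
    (v : Γ((fib κ U).obj.left.left, ⊤))
    (hinv : gm (bcM (representable_compAt κ) (EtOver.prodSnd U U)) v =
      gm (bcM (representable_compAt κ) (EtOver.prodFst U U)) v) :
    ∃ d, (fibπ κ U).left.appTop d = v := by
  subst hκ
  -- the diagonal
  have wd : (yon S).map (𝟙 U.obj.left) ≫ compAt (𝟙 U.obj.left) = (yon S).map (𝟙 U.obj.left) ≫ U.obj.hom := by
    simp only [compAt, CategoryTheory.Functor.map_id, Category.id_comp]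
  let diag : U.obj.left ⟶ (fib (𝟙 U.obj.left) U).obj.left := (representable_compAt (𝟙 U.obj.left)).lift _ _ wd
  refine ⟨diag.left.appTop v, ?_⟩
  -- pull back invariance along a map to the triple product
  let R := EtOver.prodObj U U
  let w1 : (fib (𝟙 U.obj.left) U).obj.left ⟶ U.obj.left := EtOver.bcπ (representable_compAt (𝟙 U.obj.left)) U
  have hw : (yon S).map w1 ≫ U.obj.hom = (yon S).map (fibπ (𝟙 U.obj.left) U) ≫ U.obj.hom := by
    rw [fib_w (𝟙 U.obj.left) U, Category.comp_id]
  let l : (fib (𝟙 U.obj.left) U).obj.left ⟶ R.obj.left := U.property.1.lift' (fibπ (𝟙 U.obj.left) U) w1 hw.symm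
  have hl1 : l ≫ (EtOver.prodFst U U).hom.left = w1 :=
    Functor.relativelyRepresentable.lift'_snd _ (fibπ (𝟙 U.obj.left) U) w1 hw.symm
  have hl2 : l ≫ (EtOver.prodSnd U U).hom.left = fibπ (𝟙 U.obj.left) U :=
    Functor.relativelyRepresentable.lift'_fst _ (fibπ (𝟙 U.obj.left) U) w1 hw.symm
  have wR : (yon S).map (fibπ (𝟙 U.obj.left) U) ≫ compAt (𝟙 U.obj.left) = (yon S).map l ≫ R.obj.hom := by
    have h : (yon S).map l ≫ (yon S).map (EtOver.prodFst U U).hom.left ≫ U.obj.hom = (yon S).map w1 ≫ U.obj.hom := by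
      rw [← Functor.map_comp_assoc, hl1]
    refine Eq.trans ?_ ((hw.symm.trans h.symm).trans (congrArg ((yon S).map l ≫ ·) (EtOver.w (EtOver.prodFst U U))))
    rw [compAt, CategoryTheory.Functor.map_id, Category.id_comp]
  let m : (fib (𝟙 U.obj.left) U).obj.left ⟶ (fib (𝟙 U.obj.left) R).obj.left := (representable_compAt (𝟙 U.obj.left)).lift _ _ wR
  have hmπ : m ≫ fibπ (𝟙 U.obj.left) R = fibπ (𝟙 U.obj.left) U := (yon S).map_injective (by
    rw [Functor.map_comp, map_fibπ]
    exact Functor.relativelyRepresentable.lift_fst _ _ _ wR)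
  have hm2 : m ≫ EtOver.bcπ (representable_compAt (𝟙 U.obj.left)) R = l := Functor.relativelyRepresentable.lift_snd _ _ _ wR
  have hdπ : diag ≫ fibπ (𝟙 U.obj.left) U = 𝟙 _ := (yon S).map_injective (by
    rw [Functor.map_comp, map_fibπ]
    exact Functor.relativelyRepresentable.lift_fst _ _ _ wd)
  have hd2 : diag ≫ EtOver.bcπ (representable_compAt (𝟙 U.obj.left)) U = 𝟙 _ := Functor.relativelyRepresentable.lift_snd _ _ _ wd
  have ext2 : ∀ {Z : Over S} (f g : Z ⟶ (fib (𝟙 U.obj.left) U).obj.left), f ≫ fibπ (𝟙 U.obj.left) U = g ≫ fibπ (𝟙 U.obj.left) U →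
      f ≫ EtOver.bcπ (representable_compAt (𝟙 U.obj.left)) U = g ≫ EtOver.bcπ (representable_compAt (𝟙 U.obj.left)) U → f = g :=
    fun f g e1 e2 => Functor.relativelyRepresentable.hom_ext _ (by
      change (yon S).map f ≫ (fib (𝟙 U.obj.left) U).obj.hom = (yon S).map g ≫ (fib (𝟙 U.obj.left) U).obj.hom
      rw [← map_fibπ, ← Functor.map_comp, ← Functor.map_comp, e1]) e2
  have hb : ∀ q : R ⟶ U, (m ≫ (bcM (representable_compAt (𝟙 U.obj.left)) q).hom.left) ≫ EtOver.bcπ (representable_compAt (𝟙 U.obj.left)) U =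
      l ≫ q.hom.left := fun q => by
    rw [Category.assoc, show (bcM (representable_compAt (𝟙 U.obj.left)) q).hom.left ≫ EtOver.bcπ (representable_compAt (𝟙 U.obj.left)) U =
      EtOver.bcπ (representable_compAt (𝟙 U.obj.left)) R ≫ q.hom.left from EtOver.bcMap_snd _ q, ← Category.assoc, hm2]
  have h1 : m ≫ (bcM (representable_compAt (𝟙 U.obj.left)) (EtOver.prodFst U U)).hom.left = 𝟙 _ := by
    refine ext2 _ _ ?_ ?_
    · rw [Category.assoc, bcM_fibπ, hmπ, Category.id_comp]
    · rw [hb, hl1, Category.id_comp]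
  have h2 : m ≫ (bcM (representable_compAt (𝟙 U.obj.left)) (EtOver.prodSnd U U)).hom.left = fibπ (𝟙 U.obj.left) U ≫ diag := by
    refine ext2 _ _ ?_ ?_
    · rw [Category.assoc, bcM_fibπ, hmπ, Category.assoc, hdπ, Category.comp_id]
    · rw [hb, hl2, Category.assoc, hd2, Category.comp_id]
  have e' : (m ≫ (bcM (representable_compAt (𝟙 U.obj.left)) (EtOver.prodSnd U U)).hom.left).left.appTop v =
      (m ≫ (bcM (representable_compAt (𝟙 U.obj.left)) (EtOver.prodFst U U)).hom.left).left.appTop v :=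
    congrArg m.left.appTop hinv
  rw [h1, h2] at e'
  exact e'.trans (by simp)

/-- An invariant section of the direct image from the atlas. -/
theorem exists_of_inv [IsAffine U.obj.left.left] {s : sectModEt (dirIm (𝟙 U.obj.left)) U}
    (hs : Inv (dirIm (𝟙 U.obj.left)) s) :
    ∃ d, pushSect (representable_compAt (𝟙 U.obj.left)) (SheafOfModules.unit (OEtRing ((yon S).obj U.obj.left))) U s =
      upΓ (fib (𝟙 U.obj.left) U) ((fibπ (𝟙 U.obj.left) U).left.appTop d) := by
  obtain ⟨v, hv⟩ := exists_eq_upΓ (fib (𝟙 U.obj.left) U)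
    (pushSect (representable_compAt (𝟙 U.obj.left)) (SheafOfModules.unit (OEtRing ((yon S).obj U.obj.left))) U s)
  obtain ⟨d, hd⟩ := exists_eq_fibπ (𝟙 U.obj.left) rfl v (by
    have e0 := congrArg (pushSect (representable_compAt (𝟙 U.obj.left)) _ (EtOver.prodObj U U))
      (hs (EtOver.prodObj U U) (EtOver.prodSnd U U) (EtOver.prodFst U U))
    rw [pushSect_rs, pushSect_rs, hv] at e0
    exact ULift.up_injective e0)
  exact ⟨d, hv.trans (congrArg (upΓ _) hd.symm)⟩

theorem upΓ_sum_smul {P : Over S} (κ : P ⟶ U.obj.left) (r : gr U) (a : sectModEt (dirIm κ) U) {n : ℕ}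
    (c : Fin n → gr U) (l : Fin n → Γ(P.left, ⊤))
    (hx : upΓ (fib κ U) (∑ i, gπ (representable_compAt κ) U (c i) * (fibπ κ U).left.appTop (l i)) =
      pushSect (representable_compAt κ) _ U a) :
    upΓ (fib κ U) (∑ i, gπ (representable_compAt κ) U (r * c i) * (fibπ κ U).left.appTop (l i)) =
      pushSect (representable_compAt κ) _ U (r • a) := by
  rw [pushSect_smul, ← hx]
  refine Eq.trans (congrArg (upΓ _) ?_) (map_mul (upΓ (fib κ U)) _ _)
  rw [Finset.mul_sum]
  exact Finset.sum_congr rfl fun i _ =>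
    (congrArg (fun t => t * _) (map_mul (gπ (representable_compAt κ) U) r (c i))).trans (mul_assoc _ _ _)

theorem upΓ_sum_one {P : Over S} (κ : P ⟶ U.obj.left) (a : sectModEt (dirIm κ) U) (d : Γ(P.left, ⊤))
    (hd : pushSect (representable_compAt κ) _ U a = upΓ (fib κ U) ((fibπ κ U).left.appTop d)) :
    upΓ (fib κ U) (∑ _i : Fin 1, gπ (representable_compAt κ) U 1 * (fibπ κ U).left.appTop d) =
      pushSect (representable_compAt κ) _ U a := by
  refine Eq.trans (congrArg (upΓ _) ?_) hd.symm
  rw [Fin.sum_univ_one]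
  exact (congrArg (· * _) (map_one (gπ (representable_compAt κ) U))).trans (one_mul _)

set_option maxHeartbeats 600000 in
/-- Functions on the square of the atlas are sums of products of functions on the atlas. -/
theorem exists_sum_mul [QuasiSeparatedSpace ↥S] (hqs : IsQuasiSeparatedSp X.obj) [IsAffine U.obj.left.left]
    (hU : Covers U) (hF : Faithful U) (hL : Lifts U) (y : Γ((fib (𝟙 U.obj.left) U).obj.left.left, ⊤)) :
    ∃ (n : ℕ) (c : Fin n → gr U) (l : Fin n → gr U),
      y = ∑ i, gπ (representable_compAt (𝟙 U.obj.left)) U (c i) * (fibπ (𝟙 U.obj.left) U).left.appTop (l i) := by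
  let s0 : sectModEt (dirIm (𝟙 U.obj.left)) U := (pushSect (representable_compAt (𝟙 U.obj.left)) _ U).symm (upΓ (fib (𝟙 U.obj.left) U) y)
  suffices H : ∀ s ∈ invSpan (dirIm (𝟙 U.obj.left)) U, ∃ (n : ℕ) (c : Fin n → gr U) (l : Fin n → gr U),
      upΓ (fib (𝟙 U.obj.left) U) (∑ i, gπ (representable_compAt (𝟙 U.obj.left)) U (c i) * (fibπ (𝟙 U.obj.left) U).left.appTop (l i)) =
        pushSect (representable_compAt (𝟙 U.obj.left)) _ U s by
    obtain ⟨n, c, l, hx⟩ := H s0 ((invSpan_eq_top hqs hU hF hL (isQuasicoherent_dirIm (𝟙 U.obj.left) hqs)).ge Submodule.mem_top)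
    rw [AddEquiv.apply_symm_apply] at hx
    exact ⟨n, c, l, (ULift.up_injective hx).symm⟩
  intro s hs
  induction hs using Submodule.span_induction with
  | zero => exact ⟨0, Fin.elim0, Fin.elim0, by simp⟩
  | add a b _ _ ha hb =>
    obtain ⟨n, c, l, hx⟩ := ha
    obtain ⟨m, c', l', hx'⟩ := hb
    refine ⟨n + m, Fin.append c c', Fin.append l l', ?_⟩
    rw [Fin.sum_univ_add, map_add, map_add, ← hx, ← hx']
    simp only [Fin.append_left, Fin.append_right]
  | smul r a _ ha =>
    obtain ⟨n, c, l, hx⟩ := ha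
    refine ⟨n, fun i => r * c i, l, ?_⟩
    exact upΓ_sum_smul (𝟙 U.obj.left) r a c l hx
  | mem s hs =>
    obtain ⟨d, hd⟩ := exists_of_inv hs
    refine ⟨1, fun _ => 1, fun _ => d, ?_⟩
    exact upΓ_sum_one (𝟙 U.obj.left) s d hd

end Groth.Agent.AlgSpEN.SerreC
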