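import Mathlib.AlgebraicGeometry.Morphisms.Separated
import Mathlib.AlgebraicGeometry.Limits
import Mathlib.AlgebraicGeometry.Morphisms.Immersion

/-!
# Disjoint unions of affine schemes are separated
-/

set_option autoImplicit false
set_option backward.isDefEq.respectTransparency false
set_option backward.isDefEq.respectTransparency.types false

universe u

open CategoryTheory CategoryTheory.Limits AlgebraicGeometry

namespace Groth.Agent.AlgSpEN

theorem isSeparated_sigma {ι : Type u} (X : ι → Scheme.{u}) [∀ i, (X i).IsSeparated] :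
    (∐ X).IsSeparated := by
  let p := terminal.from (∐ X)
  refine ⟨⟨?_⟩⟩
  refine IsClosedImmersion.of_isPreimmersion _ ?_
  rw [← isOpen_compl_iff, isOpen_iff_forall_mem_open]
  intro z hz
  obtain ⟨i, a, ha⟩ := (sigmaOpenCover X).exists_eq (pullback.fst p p z)
  obtain ⟨j, b, hb⟩ := (sigmaOpenCover X).exists_eq (pullback.snd p p z)
  by_cases hij : i = j
  · subst hij
    let q := terminal.from (X i)
    have hq : Sigma.ι X i ≫ p = q ≫ 𝟙 _ := Subsingleton.elim _ _
    let m : pullback q q ⟶ pullback p p := pullback.map q q p p (Sigma.ι X i) (Sigma.ι X i) (𝟙 _) hq.symm hq.symm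
    have : IsClosedImmersion (pullback.diagonal q) := IsSeparated.isClosedImmersion_diagonal
    have hzm : z ∈ Set.range m := by
      rw [Scheme.Pullback.range_map]
      exact ⟨⟨a, ha⟩, ⟨b, hb⟩⟩
    obtain ⟨w, rfl⟩ := hzm
    refine ⟨m '' (Set.range (pullback.diagonal q))ᶜ, ?_,
      m.isOpenEmbedding.isOpenMap _ (pullback.diagonal q).isClosedEmbedding.isClosed_range.isOpen_compl,
      ⟨w, fun ⟨y, hy⟩ => hz ⟨Sigma.ι X i y, ?_⟩, rfl⟩⟩
    · rintro _ ⟨w', hw', rfl⟩ ⟨t, ht⟩
      have h1 : t ∈ Set.range (Sigma.ι X i) := by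
        refine ⟨pullback.fst q q w', ?_⟩
        have e : m ≫ pullback.fst p p = pullback.fst q q ≫ Sigma.ι X i := pullback.lift_fst _ _ _
        rw [← Scheme.Hom.comp_apply, ← e, Scheme.Hom.comp_apply, ← ht, ← Scheme.Hom.comp_apply,
          pullback.diagonal_fst]
        rfl
      obtain ⟨y, rfl⟩ := h1
      have e : pullback.diagonal q ≫ m = Sigma.ι X i ≫ pullback.diagonal p := by
        apply pullback.hom_ext <;> simp [m]
      refine hw' ⟨y, m.isOpenEmbedding.injective ?_⟩
      rw [← Scheme.Hom.comp_apply, e, Scheme.Hom.comp_apply, ht]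
    · have e : pullback.diagonal q ≫ m = Sigma.ι X i ≫ pullback.diagonal p := by
        apply pullback.hom_ext <;> simp [m]
      rw [← hy, ← Scheme.Hom.comp_apply, ← Scheme.Hom.comp_apply, e]
  · refine ⟨pullback.fst p p ⁻¹' Set.range (Sigma.ι X i) ∩ pullback.snd p p ⁻¹' Set.range (Sigma.ι X j), ?_, ?_, ⟨a, ha⟩, ⟨b, hb⟩⟩
    · rintro _ ⟨h1, h2⟩ ⟨t, rfl⟩
      rw [Set.mem_preimage, ← Scheme.Hom.comp_apply, pullback.diagonal_fst] at h1
      rw [Set.mem_preimage, ← Scheme.Hom.comp_apply, pullback.diagonal_snd] at h2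
      exact (TopologicalSpace.Opens.coe_disjoint.2 (disjoint_opensRange_sigmaι X i j hij)).le_bot ⟨h1, h2⟩
    · exact ((Sigma.ι X i).isOpenEmbedding.isOpen_range.preimage (pullback.fst p p).continuous).inter
        ((Sigma.ι X j).isOpenEmbedding.isOpen_range.preimage (pullback.snd p p).continuous)

end Groth.Agent.AlgSpEN
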