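import Groth.Agent.AlgSpQC.Conv
import Mathlib.RingTheory.Flat.EquationalCriterion
import Mathlib.Algebra.Homology.ShortComplex.Abelian
import Groth.Prelude.Def_AlgSpPerf

/-!
# Homology of complexes of summands of finite free modules over an affine object of the small etale site
-/

universe u

open CategoryTheory CategoryTheory.Limits AlgebraicGeometry Opposite

set_option backward.isDefEq.respectTransparency false
set_option autoImplicit false
set_option maxHeartbeats 1000000

namespace Groth.Agent.AlgSpEN.SliceFree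

open _root_.AlgSp Groth.Agent.AlgSpQC

/-- Kernels of matrices over a ring generate the kernels after a flat extension. -/
theorem mem_span_ker_of_flat {A B : Type*} [CommRing A] [CommRing B] (φ : A →+* B) (hφ : φ.Flat) {I J : Type*}
    (v : I → (J →₀ A)) (c : I →₀ B) (hc : (c.sum fun i b => b • Finsupp.mapRange φ φ.map_zero (v i)) = 0) :
    c ∈ Submodule.span B
      (Finsupp.mapRange φ φ.map_zero '' (LinearMap.ker (Finsupp.linearCombination A v) : Set (I →₀ A))) := by
  classical
  algebraize [φ]
  let s : Finset I := c.support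
  let J' : Finset J := s.biUnion fun i => (v i).support
  let x : (↥s →₀ A) →ₗ[A] B := Finsupp.linearCombination A fun i : ↥s => c i.1
  let f : (↥J' →₀ A) →ₗ[A] (↥s →₀ A) :=
    Finsupp.linearCombination A fun j : ↥J' => Finsupp.equivFunOnFinite.symm fun i : ↥s => v i.1 j.1
  have hxf : x ∘ₗ f = 0 := by
    refine Finsupp.lhom_ext fun j a => ?_
    have h := DFunLike.congr_fun hc j.1
    simp only [Finsupp.sum, Finsupp.finsetSum_apply, Finsupp.smul_apply, Finsupp.mapRange_apply, smul_eq_mul,
      Finsupp.coe_zero, Pi.zero_apply] at h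
    simp only [LinearMap.comp_apply, f, Finsupp.linearCombination_single, map_smul, LinearMap.zero_apply]
    refine (congrArg (fun t : B => a • t) (Eq.trans ?_ h)).trans (smul_zero a)
    simp only [x, Finsupp.linearCombination_apply]
    rw [Finsupp.sum_fintype]
    swap
    · intro i
      exact zero_smul _ _
    refine Eq.trans ?_ (Finset.sum_coe_sort s fun i => c i * φ (v i j.1))
    refine Finset.sum_congr rfl fun i _ => ?_
    rw [Finsupp.coe_equivFunOnFinite_symm]
    rw [Algebra.smul_def, mul_comm]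
    rfl
  obtain ⟨k, a, y, hxy, haf⟩ := Module.Flat.exists_factorization_of_comp_eq_zero_of_free hxf
  let e : I ↪ I := Function.Embedding.refl I
  let w : Fin k → (I →₀ A) := fun m =>
    Finsupp.onFinset s (fun i => if h : i ∈ s then a (Finsupp.single ⟨i, h⟩ 1) m else 0)
      (fun i hi => by by_contra hn; exact hi (dif_neg hn))
  have hw : ∀ m, w m ∈ LinearMap.ker (Finsupp.linearCombination A v) := fun m => by
    rw [LinearMap.mem_ker, Finsupp.linearCombination_apply, Finsupp.sum_of_support_subset _
      (Finsupp.support_onFinset_subset) _ (by simp)]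
    ext j
    rw [Finsupp.finsetSum_apply, Finsupp.coe_zero, Pi.zero_apply]
    by_cases hj : j ∈ J'
    · have h := DFunLike.congr_fun (LinearMap.congr_fun haf (Finsupp.single ⟨j, hj⟩ 1)) m
      simp only [LinearMap.comp_apply, f, Finsupp.linearCombination_single, one_smul, LinearMap.zero_apply,
        Finsupp.coe_zero, Pi.zero_apply] at h
      rw [← Finsupp.univ_sum_single (Finsupp.equivFunOnFinite.symm fun i : ↥s => v i.1 j), map_sum,
        Finsupp.finsetSum_apply] at h
      refine Eq.trans ?_ h
      rw [← Finset.sum_coe_sort]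
      refine Finset.sum_congr rfl fun i _ => ?_
      rw [Finsupp.coe_equivFunOnFinite_symm, ← Finsupp.smul_single_one i (v i.1 j), map_smul, Finsupp.smul_apply,
        Finsupp.smul_apply, Finsupp.onFinset_apply, dif_pos i.2, smul_eq_mul, smul_eq_mul, mul_comm]
    · refine Finset.sum_eq_zero fun i hi => ?_
      rw [Finsupp.smul_apply, Finsupp.notMem_support_iff.1 fun hvi => hj (Finset.mem_biUnion.2 ⟨i, hi, hvi⟩),
        smul_zero]
  have hcw : c = ∑ m : Fin k, y (Finsupp.single m 1) • Finsupp.mapRange φ φ.map_zero (w m) := by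
    ext i
    simp only [Finsupp.finsetSum_apply, Finsupp.smul_apply, Finsupp.mapRange_apply, w, Finsupp.onFinset_apply,
      smul_eq_mul]
    by_cases hi : i ∈ s
    · simp only [dif_pos hi]
      have h1 : x (Finsupp.single ⟨i, hi⟩ 1) = c i := by simp [x]
      rw [← h1, hxy, LinearMap.comp_apply]
      conv_lhs => rw [← Finsupp.univ_sum_single (a (Finsupp.single ⟨i, hi⟩ 1))]
      rw [map_sum]
      refine Finset.sum_congr rfl fun m _ => ?_
      rw [← Finsupp.smul_single_one m (a (Finsupp.single ⟨i, hi⟩ 1) m), map_smul, Algebra.smul_def, mul_comm]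
      rfl
    · simp only [dif_neg hi, map_zero, mul_zero, Finset.sum_const_zero]
      exact Finsupp.notMem_support_iff.1 hi
  rw [hcw]
  exact Submodule.sum_mem _ fun m _ => Submodule.smul_mem _ _ (Submodule.subset_span ⟨w m, hw m, rfl⟩)

/-- Membership in the span of an image of a set as membership in the span of a range. -/
theorem mem_span_range_subtype {B M N : Type*} [Semiring B] [AddCommMonoid N] [Module B N] {K : Set M} (f : M → N)
    {c : N} (h : c ∈ Submodule.span B (f '' K)) : c ∈ Submodule.span B (Set.range fun r : K => f r.1) := by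
  rw [Set.image_eq_range] at h
  exact h

theorem app_smul' {C : Type*} [Category C] {K : GrothendieckTopology C} {R : Sheaf K RingCat.{u}}
    {M N : SheafOfModules.{u} R} (φ : M ⟶ N) (U : C) (a : R.obj.obj (op U)) (x : M.val.obj (op U)) :
    (φ.val.app (op U)).hom (a • x) = a • (φ.val.app (op U)).hom x :=
  map_smul _ a x

/-- Restriction respects spans. -/
theorem map_mem_span_res {C : Type*} [Category C] {K : GrothendieckTopology C} {R : Sheaf K RingCat.{u}}
    (M : SheafOfModules.{u} R) {U V : C} (h : V ⟶ U) (A : Set (M.val.obj (op U))) {x : M.val.obj (op U)}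
    (hx : x ∈ Submodule.span (R.obj.obj (op U)) A) :
    M.val.map h.op x ∈ Submodule.span (R.obj.obj (op V)) ((fun a => (M.val.map h.op a : M.val.obj (op V))) '' A) := by
  induction hx using Submodule.span_induction with
  | mem x hx => exact Submodule.subset_span ⟨x, hx, rfl⟩
  | zero =>
    refine Eq.subst (motive := fun t => t ∈ Submodule.span (R.obj.obj (op V)) _) ?_ (Submodule.zero_mem _)
    exact (map_zero _).symm
  | add x y _ _ hx hy =>
    refine Eq.subst (motive := fun t => t ∈ Submodule.span (R.obj.obj (op V)) _) ?_ (Submodule.add_mem _ hx hy)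
    exact (map_add _ x y).symm
  | smul a x _ hx =>
    refine Eq.subst (motive := fun t => t ∈ Submodule.span (R.obj.obj (op V)) _) ?_
      (Submodule.smul_mem _ (R.obj.map h.op a) hx)
    exact (M.val.map_smul h.op a x).symm

variable {S : Scheme.{u}} {X : Sp S} {E : EtOver X}

theorem lc_eq_sum {I J : Type (u + 1)} {Y : Over E} (v : I → (J →₀ gr E)) (c : I →₀ gr Y.left) :
    Finsupp.linearCombination (gr Y.left) (fun i => cmap (gm Y.hom) (v i)) c =
      c.sum fun i b => b • Finsupp.mapRange (gm Y.hom) (gm Y.hom).map_zero (v i) := by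
  rw [Finsupp.linearCombination_apply]
  rfl

/-- A map of free modules on combinations of the basis is given by its matrix. -/
theorem app_lce {I J : Type (u + 1)} (π : SheafOfModules.free (R := (OEtRing X).over E) I ⟶
      SheafOfModules.free (R := (OEtRing X).over E) J)
    (v : I → (J →₀ gr E))
    (hv : ∀ i, lce J (oTop E) (v i) = (π.val.app (op (oTop E))).hom (sec (SheafOfModules.freeSection i) (oTop E)))
    (Y : Over E) (c : I →₀ gr Y.left) :
    (π.val.app (op Y)).hom (lce I Y c) =
      lce J Y (Finsupp.linearCombination (gr Y.left) (fun i => cmap (gm Y.hom) (v i)) c) := by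
  induction c using Finsupp.induction_linear with
  | zero => simp only [map_zero]
  | add x y hx hy => simp only [map_add, hx, hy]
  | single i a =>
    rw [lce_single, Finsupp.linearCombination_single]
    have e : (π.val.app (op Y)).hom (sec (SheafOfModules.freeSection (R := (OEtRing X).over E) i) Y) =
        lce J Y (cmap (gm Y.hom) (v i)) :=
      (congrArg (π.val.app (op Y)).hom
          (res_sec (SheafOfModules.freeSection (R := (OEtRing X).over E) i) (toTop Y)).symm).trans
        ((map_res π (toTop Y) _).trans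
          ((congrArg (res (SheafOfModules.free (R := (OEtRing X).over E) J) (toTop Y)) (hv i).symm).trans
            (res_lce (toTop Y) (v i))))
    rw [lce_smul, ← e]
    exact app_smul' π Y (up' Y a) _

/-- Relations are preserved by restriction. -/
theorem lc_cmap_eq_zero {I J : Type (u + 1)} (π : SheafOfModules.free (R := (OEtRing X).over E) I ⟶
      SheafOfModules.free (R := (OEtRing X).over E) J)
    (v : I → (J →₀ gr E))
    (hv : ∀ i, lce J (oTop E) (v i) = (π.val.app (op (oTop E))).hom (sec (SheafOfModules.freeSection i) (oTop E)))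
    {Z W : Over E} (b : W ⟶ Z) (c : I →₀ gr Z.left) (h : (π.val.app (op Z)).hom (lce I Z c) = 0) :
    Finsupp.linearCombination (gr W.left) (fun i => cmap (gm W.hom) (v i)) (cmap (gm b.left) c) = 0 := by
  refine lce_injective W ?_
  rw [map_zero, ← app_lce π v hv, ← res_lce b, map_res, h]
  exact map_zero _

/-- From relations to sections of the kernel. -/
theorem mem_span_res_of_mem {I J : Type (u + 1)} (π : SheafOfModules.free (R := (OEtRing X).over E) I ⟶
      SheafOfModules.free (R := (OEtRing X).over E) J) (W : Over E) (K : Submodule (gr E) (I →₀ gr E))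
    (y : K → (kernel π).val.obj (op (oTop E)))
    (hy : ∀ r : K, ((kernel.ι π).val.app (op (oTop E))).hom (y r) = lce I (oTop E) r.1)
    (z : (kernel π).val.obj (op W)) (d : I →₀ gr W.left)
    (hz : ((kernel.ι π).val.app (op W)).hom z = lce I W d)
    (hd : d ∈ Submodule.span (gr W.left) (Finsupp.mapRange (gm W.hom) (gm W.hom).map_zero '' (K : Set (I →₀ gr E)))) :
    z ∈ Submodule.span (((OEtRing X).over E).obj.obj (op W))
      (Set.range fun r : K => res (kernel π) (toTop W) (y r)) := by
  have h' : d ∈ Submodule.span (gr W.left) (Set.range fun r : K => cmap (gm W.hom) r.1) :=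
    mem_span_range_subtype (K := (K : Set (I →₀ gr E))) (Finsupp.mapRange (gm W.hom) (gm W.hom).map_zero) hd
  exact mem_span_of_injective ((kernel.ι π).val.app (op W)).hom (kernel_ι_injective π W)
    (fun r => res (kernel π) (toTop W) (y r)) _
    (fun r => map_eq_lce (kernel.ι π) (toTop W) (y r) r.1 (hy r).symm) hz (lce_mem_span W _ h')

/-- Pushing span membership further down. -/
theorem mem_span_res_comp {κ : Type*} (F : SheafOfModules.{u + 1} ((OEtRing X).over E))
    (y : κ → F.val.obj (op (oTop E))) {Z W : Over E} (W₁ : Over E) (a : W ⟶ W₁) (b : W₁ ⟶ Z) (k : W ⟶ Z)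
    (hk : k = a ≫ b) (x : F.val.obj (op Z))
    (hm : res F b x ∈ Submodule.span (((OEtRing X).over E).obj.obj (op W₁))
      (Set.range fun r => res F (toTop W₁) (y r))) :
    res F k x ∈ Submodule.span (((OEtRing X).over E).obj.obj (op W)) (Set.range fun r => res F (toTop W) (y r)) := by
  subst hk
  rw [res_res]
  refine Submodule.span_mono ?_ (map_mem_span_res F a _ hm)
  intro t ht
  refine ht.elim fun t' ht' => ht'.1.elim fun r hr => ⟨r, ?_⟩
  have e : a ≫ toTop W₁ = toTop W := Over.OverMorphism.ext (Over.w a)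
  change res F (toTop W) (y r) = t
  rw [← e, res_res, ← ht'.2, ← hr]

/-- Over an affine object the kernel of a map of free modules is generated by global sections. -/
theorem exists_kernel_generators [IsAffine E.obj.left.left] {I J : Type (u + 1)}
    (π : SheafOfModules.free (R := (OEtRing X).over E) I ⟶ SheafOfModules.free (R := (OEtRing X).over E) J) :
    ∃ (κ : Type (u + 1)) (g : SheafOfModules.free (R := (OEtRing X).over E) κ ⟶ kernel π), Epi g := by
  have : IsAffine (oTop E).left.obj.left.left := ‹_›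
  have hv₀ : ∀ i : I, ∃ c : J →₀ gr E, lce J (oTop E) c =
      (π.val.app (op (oTop E))).hom (sec (SheafOfModules.freeSection (R := (OEtRing X).over E) i) (oTop E)) :=
    fun i => exists_lce_eq (I := J) (oTop E) _
  choose v hv using hv₀
  let κ := ↥(LinearMap.ker (Finsupp.linearCombination (gr E) v))
  have hκ : ∀ r : κ, ∃ y, ((kernel.ι π).val.app (op (oTop E))).hom y = lce I (oTop E) r.1 := fun r => by
    refine exists_kernel_lift _ _ ?_
    rw [app_lce π v hv]
    refine (congrArg (lce J (oTop E)) ?_).trans (map_zero _)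
    have e : (fun i => cmap (gm (oTop E).hom) (v i) : I → (J →₀ gr E)) = v := funext fun i => Finsupp.ext fun j => rfl
    exact (congrArg (fun t : I → (J →₀ gr E) => Finsupp.linearCombination (gr E) t r.1) e).trans
      (LinearMap.mem_ker.1 r.2)
  choose y hy using hκ
  refine ⟨κ, (kernel π).freeHomEquiv.symm fun r => secTop (y r), epi_of_lce_local (kernel.ι π) y ?_⟩
  intro Z x c hc
  have h0 : (π.val.app (op Z)).hom (lce I Z c) = 0 :=
    (congrArg (π.val.app (op Z)).hom hc).trans (map_kernel_ι π x)
  refine (exists_affine_sieve Z.left).elim fun T hT => ?_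
  refine ⟨(Sieve.overEquiv Z).symm T, overSieve_mem (Y := Z) hT.1, fun W k hk => ?_⟩
  have hk₂ : T k.left := (Sieve.overEquiv_symm_iff T k).1 hk
  have hex := hT.2 W.left k.left hk₂
  refine hex.elim fun W' hW'' => ?_
  refine hW''.elim fun a ha => ?_
  refine ha.elim fun b hb => ?_
  have hW' := hb.1
  have hab := hb.2
  have hw : a ≫ b ≫ Z.hom = W.hom := by
    rw [← Category.assoc, hab]
    exact Over.w k
  let W₁ : Over E := Over.mk (b ≫ Z.hom)
  let b₁ : W₁ ⟶ Z := Over.homMk b rfl
  let a₁ : W ⟶ W₁ := Over.homMk a hw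
  have hk' : k = a₁ ≫ b₁ := Over.OverMorphism.ext hab.symm
  have : IsAffine W₁.left.obj.left.left := hW'
  have hlcW := lc_cmap_eq_zero π v hv b₁ c h0
  rw [lc_eq_sum] at hlcW
  have hmem := mem_span_ker_of_flat (gm W₁.hom) (flat_gm W₁.hom) v _ hlcW
  have hm := mem_span_res_of_mem π W₁ _ y hy (res (kernel π) b₁ x) (cmap (gm b₁.left) c)
    (map_eq_lce (kernel.ι π) b₁ x c hc) hmem
  exact mem_span_res_comp (kernel π) y W₁ a₁ b₁ k hk' x hm

/-- A quotient of a free module by the images of free modules has a presentation, if the kernels are generated. -/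
theorem nonempty_presentation_of_cokernel {K R L : Type (u + 1)} {Z H : SheafOfModules.{u + 1} ((OEtRing X).over E)}
    (π : SheafOfModules.free (R := (OEtRing X).over E) K ⟶ Z) [Epi π]
    (g : SheafOfModules.free (R := (OEtRing X).over E) R ⟶ SheafOfModules.free (R := (OEtRing X).over E) K)
    (hg : g ≫ π = 0) (hge : (ShortComplex.mk g π hg).Exact)
    (l : SheafOfModules.free (R := (OEtRing X).over E) L ⟶ SheafOfModules.free (R := (OEtRing X).over E) K)
    (q : Z ⟶ H) (hq : (l ≫ π) ≫ q = 0) (hH : IsColimit (CokernelCofork.ofπ q hq)) :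
    Nonempty H.Presentation := by
  let F := SheafOfModules.free (R := (OEtRing X).over E) K
  let f : SheafOfModules.free (R := (OEtRing X).over E) (R ⊕ L) ⟶ F :=
    (SheafOfModules.freeSumIso R L).inv ≫ coprod.desc g l
  let jR : SheafOfModules.free (R := (OEtRing X).over E) R ⟶ SheafOfModules.free (R := (OEtRing X).over E) (R ⊕ L) :=
    SheafOfModules.freeMap Sum.inl
  let jL : SheafOfModules.free (R := (OEtRing X).over E) L ⟶ SheafOfModules.free (R := (OEtRing X).over E) (R ⊕ L) :=
    SheafOfModules.freeMap Sum.inr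
  have hf : ∀ {P : SheafOfModules.{u + 1} ((OEtRing X).over E)} (p : F ⟶ P), g ≫ p = 0 → l ≫ p = 0 → f ≫ p = 0 := by
    intro P p h₁ h₂
    have : coprod.desc g l ≫ p = 0 := coprod.hom_ext (by rw [coprod.inl_desc_assoc, h₁, comp_zero])
      (by rw [coprod.inr_desc_assoc, h₂, comp_zero])
    simp only [f, Category.assoc, this, comp_zero]
  have hfR : jR ≫ f = g := by
    simp only [jR, f, ← SheafOfModules.inl_freeSumIso_hom, Category.assoc, Iso.hom_inv_id_assoc, coprod.inl_desc]
  have hfL : jL ≫ f = l := by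
    simp only [jL, f, ← SheafOfModules.inr_freeSumIso_hom, Category.assoc, Iso.hom_inv_id_assoc, coprod.inr_desc]
  have hfq : f ≫ π ≫ q = 0 := hf _ (by rw [reassoc_of% hg, zero_comp]) (by rw [← Category.assoc]; exact hq)
  refine ⟨SheafOfModules.presentationOfIsCokernelFree f (π ≫ q) hfq ?_⟩
  have : Epi q := Cofork.IsColimit.epi hH
  have : Epi (π ≫ q) := epi_comp _ _
  refine CokernelCofork.IsColimit.ofπ' _ _ fun {P} p hp => ?_
  have hgp : g ≫ p = 0 := by rw [← hfR, Category.assoc, hp, comp_zero]
  have hlp : l ≫ p = 0 := by rw [← hfL, Category.assoc, hp, comp_zero]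
  have : Epi (ShortComplex.mk g π hg).g := ‹Epi π›
  let d : Z ⟶ P := hge.desc p hgp
  have hd : π ≫ d = p := hge.g_desc p hgp
  have hld : (l ≫ π) ≫ d = 0 := by rw [Category.assoc, hd, hlp]
  refine ⟨hH.desc (CokernelCofork.ofπ d hld), ?_⟩
  rw [Category.assoc]
  exact (congrArg (π ≫ ·) (hH.fac (CokernelCofork.ofπ d hld) WalkingParallelPair.one)).trans hd

section

variable {C : Type*} [Category C] [Abelian C] (T : ShortComplex C)

/-- Generators of a kernel of a retraction give generators of the cycles. -/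
theorem exists_epi_cycles {F₂ F₃ G : C} (i₂ : T.X₂ ⟶ F₂) (p₂ : F₂ ⟶ T.X₂) (e₂ : i₂ ≫ p₂ = 𝟙 _)
    (i₃ : T.X₃ ⟶ F₃) [Mono i₃] (g : G ⟶ kernel (p₂ ≫ T.g ≫ i₃)) [Epi g] : ∃ a : G ⟶ T.cycles, Epi a := by
  have hr : (kernel.ι (p₂ ≫ T.g ≫ i₃) ≫ p₂) ≫ T.g = 0 := by
    rw [← cancel_mono i₃, Category.assoc, Category.assoc, kernel.condition, zero_comp]
  let s : T.cycles ⟶ kernel (p₂ ≫ T.g ≫ i₃) := kernel.lift _ (T.iCycles ≫ i₂) (by
    rw [Category.assoc, reassoc_of% e₂, T.iCycles_g_assoc, zero_comp])
  have hsr : s ≫ T.liftCycles _ hr = 𝟙 _ := by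
    rw [← cancel_mono T.iCycles, Category.assoc, T.liftCycles_i, kernel.lift_ι_assoc, Category.assoc, e₂,
      Category.comp_id, Category.id_comp]
  have := epi_of_epi_fac hsr
  exact ⟨g ≫ T.liftCycles _ hr, epi_comp _ _⟩

/-- Generators of a kernel give an exact sequence. -/
theorem exists_exact_of_kernel_generators {F P Z R : C} (π : P ⟶ Z) (m : Z ⟶ F) [Mono m] (g : R ⟶ kernel (π ≫ m))
    [Epi g] : ∃ (f : R ⟶ P) (h : f ≫ π = 0), (ShortComplex.mk f π h).Exact := by
  have h₁ : kernel.ι (π ≫ m) ≫ π = 0 := by rw [← cancel_mono m, Category.assoc, kernel.condition, zero_comp]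
  have h : (g ≫ kernel.ι (π ≫ m)) ≫ π = 0 := by rw [Category.assoc, h₁, comp_zero]
  refine ⟨_, h, ?_⟩
  let k : kernel π ⟶ kernel (π ≫ m) := kernel.lift _ (kernel.ι π) (by rw [kernel.condition_assoc, zero_comp])
  have : IsIso k := ⟨kernel.lift _ (kernel.ι _) h₁, equalizer.hom_ext (by simp [k]), equalizer.hom_ext (by simp [k])⟩
  rw [ShortComplex.exact_iff_epi_kernel_lift]
  have e : kernel.lift π (g ≫ kernel.ι (π ≫ m)) h ≫ k = g := equalizer.hom_ext (by simp [k])
  have : Epi (kernel.lift π (g ≫ kernel.ι (π ≫ m)) h ≫ k) := by rw [e]; infer_instance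
  exact (epi_comp_iff_of_isIso _ k).1 ‹_›

/-- Homology as a cokernel on a retraction. -/
theorem exists_isColimit_homology {F₁ : C} (i₁ : T.X₁ ⟶ F₁) (p₁ : F₁ ⟶ T.X₁) (e₁ : i₁ ≫ p₁ = 𝟙 _)
    (l : F₁ ⟶ T.cycles) (hl : l = p₁ ≫ T.toCycles) :
    ∃ hq : l ≫ T.homologyπ = 0, Nonempty (IsColimit (CokernelCofork.ofπ T.homologyπ hq)) := by
  subst hl
  refine ⟨by rw [Category.assoc, T.toCycles_comp_homologyπ, comp_zero],
    ⟨CokernelCofork.IsColimit.ofπ' _ _ fun {P} d hd => ⟨T.homologyIsCokernel.desc (CokernelCofork.ofπ d ?_),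
      T.homologyIsCokernel.fac (CokernelCofork.ofπ d _) WalkingParallelPair.one⟩⟩⟩
  calc T.toCycles ≫ d = i₁ ≫ (p₁ ≫ T.toCycles) ≫ d := by rw [Category.assoc, reassoc_of% e₁]
    _ = 0 := by rw [hd, comp_zero]

end

theorem exists_joint_map {A B : Type (u + 1)} {Z : SheafOfModules.{u + 1} ((OEtRing X).over E)}
    (a : SheafOfModules.free (R := (OEtRing X).over E) A ⟶ Z) (b : SheafOfModules.free (R := (OEtRing X).over E) B ⟶ Z) :
    ∃ π : SheafOfModules.free (R := (OEtRing X).over E) (A ⊕ B) ⟶ Z,
      SheafOfModules.freeMap (Sum.inl : A → A ⊕ B) ≫ π = a ∧ SheafOfModules.freeMap (Sum.inr : B → A ⊕ B) ≫ π = b := by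
  refine ⟨(SheafOfModules.freeSumIso A B).inv ≫ coprod.desc a b, ?_, ?_⟩
  · simp only [← SheafOfModules.inl_freeSumIso_hom, Category.assoc, Iso.hom_inv_id_assoc, coprod.inl_desc]
  · simp only [← SheafOfModules.inr_freeSumIso_hom, Category.assoc, Iso.hom_inv_id_assoc, coprod.inr_desc]

/-- The homology of a short complex of summands of finite free modules over an affine object has a presentation. -/
theorem nonempty_presentation_homology [IsAffine E.obj.left.left]
    (T : ShortComplex (SheafOfModules.{u + 1} ((OEtRing X).over E)))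
    (h₁ : DCoh.IsFinFreeSummandMod ((OEtRing X).over E) T.X₁)
    (h₂ : DCoh.IsFinFreeSummandMod ((OEtRing X).over E) T.X₂)
    (h₃ : DCoh.IsFinFreeSummandMod ((OEtRing X).over E) T.X₃) : Nonempty T.homology.Presentation := by
  obtain ⟨n₁, i₁, p₁, e₁⟩ := h₁
  obtain ⟨n₂, i₂, p₂, e₂⟩ := h₂
  obtain ⟨n₃, i₃, p₃, e₃⟩ := h₃
  have : Mono i₃ := mono_of_mono_fac e₃
  have : Mono i₂ := mono_of_mono_fac e₂
  refine (exists_kernel_generators (p₂ ≫ T.g ≫ i₃)).elim fun κ hκ => hκ.elim fun g hg => ?_
  refine (exists_epi_cycles T i₂ p₂ e₂ i₃ g).elim fun a ha => ?_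
  refine (exists_joint_map a (p₁ ≫ T.toCycles)).elim fun π hπ => ?_
  have : Epi π := epi_of_epi_fac hπ.1
  refine (exists_kernel_generators (π ≫ T.iCycles ≫ i₂)).elim fun R hR => hR.elim fun g' hg' => ?_
  refine (exists_exact_of_kernel_generators π (T.iCycles ≫ i₂) g').elim fun f hf => hf.elim fun hf0 hex => ?_
  refine (exists_isColimit_homology T i₁ p₁ e₁ _ hπ.2).elim fun hq hc => hc.elim fun hc => ?_
  exact nonempty_presentation_of_cokernel π f hf0 hex _ T.homologyπ hq hc

end Groth.Agent.AlgSpEN.SliceFree
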