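import Groth.Agent.AlgSpD.UnrLocus
import Mathlib.RingTheory.Unramified.Locus
import Mathlib.RingTheory.Kaehler.TensorProduct
import Mathlib.RingTheory.LocalRing.Module
import Mathlib.AlgebraicGeometry.PullbackCarrier

/-!
# The unramified locus commutes with base change
-/

universe u

open CategoryTheory CategoryTheory.Limits AlgebraicGeometry TensorProduct

set_option backward.isDefEq.respectTransparency false

namespace Groth.Agent.AlgSpEN

open Groth.Agent.AlgSpD

theorem nontrivial_tensor_field_iff {A k K M : Type u} [CommRing A] [Field k] [Field K] [Algebra A k]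
    [Algebra A K] [Algebra k K] [IsScalarTower A k K] [AddCommGroup M] [Module A M] :
    Nontrivial (K ⊗[A] M) ↔ Nontrivial (k ⊗[A] M) := by
  rw [← (AlgebraTensorModule.cancelBaseChange A k k K M).nontrivial_congr]
  exact Module.FaithfullyFlat.nontrivial_tensorProduct_iff_right _ _

theorem mem_support_baseChange_iff {A B M : Type u} [CommRing A] [CommRing B] [Algebra A B] [AddCommGroup M]
    [Module A M] [Module.Finite A M] (q : PrimeSpectrum B) :
    q ∈ Module.support B (B ⊗[A] M) ↔ PrimeSpectrum.comap (algebraMap A B) q ∈ Module.support A M := by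
  rw [Module.mem_support_iff_nontrivial_residueField_tensorProduct,
    Module.mem_support_iff_nontrivial_residueField_tensorProduct,
    (AlgebraTensorModule.cancelBaseChange A B B q.asIdeal.ResidueField M).nontrivial_congr]
  let F := Ideal.ResidueField.map (PrimeSpectrum.comap (algebraMap A B) q).asIdeal q.asIdeal (algebraMap A B) rfl
  let := F.toAlgebra
  exact @nontrivial_tensor_field_iff A (PrimeSpectrum.comap (algebraMap A B) q).asIdeal.ResidueField
    q.asIdeal.ResidueField M _ _ _ _ _ _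
    (.of_algebraMap_eq fun a => by
      rw [RingHom.algebraMap_toAlgebra]
      exact (IsScalarTower.algebraMap_apply A B _ a).trans (Ideal.ResidueField.map_algebraMap _ _ _ rfl a).symm) _ _

theorem mem_unramifiedLocus_baseChange_iff {R R' A : Type u} [CommRing R] [CommRing R'] [CommRing A]
    [Algebra R R'] [Algebra R A] [Algebra.EssFiniteType R A] (q : PrimeSpectrum (R' ⊗[R] A)) :
    q ∈ Algebra.unramifiedLocus R' (R' ⊗[R] A) ↔
      PrimeSpectrum.comap (Algebra.TensorProduct.includeRight : A →ₐ[R] R' ⊗[R] A).toRingHom q ∈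
        Algebra.unramifiedLocus R A := by
  let _ : Algebra A (R' ⊗[R] A) := Algebra.TensorProduct.rightAlgebra
  rw [Algebra.unramifiedLocus_eq_compl_support, Algebra.unramifiedLocus_eq_compl_support, Set.mem_compl_iff,
    Set.mem_compl_iff, ← (KaehlerDifferential.tensorKaehlerEquiv R R' A (R' ⊗[R] A)).support_eq,
    mem_support_baseChange_iff]
  rfl

/-- The unramified locus of an affine morphism of finite type. -/
theorem unrNear_SpecMap_iff {R A : CommRingCat.{u}} (φ : R ⟶ A) (hφ : φ.hom.FiniteType) (q : ↥(Spec A)) :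
    UnrNear _ _ (Spec.map φ) q ↔ q ∈ (letI := φ.hom.toAlgebra; Algebra.unramifiedLocus R A) := by
  let _ := φ.hom.toAlgebra
  have : Algebra.FiniteType R A := hφ
  have : LocallyOfFiniteType (Spec.map φ) := HasRingHomProperty.Spec_iff.2 hφ
  have key : ∀ f : A, FormallyUnramified (Spec.map (CommRingCat.ofHom (algebraMap A (Localization.Away f))) ≫
      Spec.map φ) ↔ Algebra.FormallyUnramified R (Localization.Away f) := fun f => by
    rw [← Spec.map_comp, HasRingHomProperty.Spec_iff (P := @FormallyUnramified),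
      ← RingHom.formallyUnramified_algebraMap (R := R)]
    rfl
  rw [unrNear_iff]
  constructor
  · rintro ⟨W, hq, hW⟩
    obtain ⟨_, ⟨_, ⟨f, rfl⟩, rfl⟩, hf, hfW⟩ :=
      PrimeSpectrum.isBasis_basic_opens.exists_subset_of_mem_open (show q ∈ (W : Set ↥(Spec A)) from hq) W.isOpen
    refine Algebra.basicOpen_subset_unramifiedLocus_iff.2 ((key f).1 ?_) hf
    let j := Spec.map (CommRingCat.ofHom (algebraMap A (Localization.Away f)))
    have hj : Set.range j ⊆ Set.range W.ι := by
      rw [W.range_ι]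
      exact (PrimeSpectrum.localization_away_comap_range (Localization.Away f) f).trans_subset hfW
    change FormallyUnramified (j ≫ Spec.map φ)
    rw [← IsOpenImmersion.lift_fac W.ι j hj, Category.assoc]
    exact MorphismProperty.comp_mem @FormallyUnramified _ _ inferInstance hW
  · intro hq
    obtain ⟨_, ⟨_, ⟨f, rfl⟩, rfl⟩, hf, hfl⟩ :=
      PrimeSpectrum.isBasis_basic_opens.exists_subset_of_mem_open hq (Algebra.isOpen_unramifiedLocus (R := R))
    have h1 := (key f).2 (Algebra.basicOpen_subset_unramifiedLocus_iff.1 hfl)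
    let j := Spec.map (CommRingCat.ofHom (algebraMap A (Localization.Away f)))
    refine ⟨j.opensRange, ?_, ?_⟩
    · change q ∈ Set.range (PrimeSpectrum.comap (algebraMap A (Localization.Away f)))
      rw [PrimeSpectrum.localization_away_comap_range (Localization.Away f) f]
      exact hf
    · rw [← MorphismProperty.cancel_left_of_respectsIso @FormallyUnramified j.isoOpensRange.hom,
        ← Category.assoc, j.isoOpensRange_hom_ι]
      exact h1

/-- A point is in the unramified locus of a base change iff its image is in the unramified locus. -/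
theorem unrNear_of_isPullback {X Y X' Y' : Scheme.{u}} (h : X ⟶ Y) [LocallyOfFiniteType h] {h' : X' ⟶ Y'}
    {g' : X' ⟶ X} {g : Y' ⟶ Y} (sq : IsPullback g' h' h g) (x' : X') :
    UnrNear X' Y' h' x' ↔ UnrNear X Y h (g' x') := by
  obtain ⟨V, hV, hvV, -⟩ := exists_isAffineOpen_mem_and_subset (x := h (g' x')) (U := ⊤) trivial
  obtain ⟨U, hU, huU, hUV⟩ := exists_isAffineOpen_mem_and_subset (x := g' x') (U := h ⁻¹ᵁ V) hvV
  obtain ⟨V', hV', hvV', hV'V⟩ := exists_isAffineOpen_mem_and_subset (x := h' x') (U := g ⁻¹ᵁ V) (by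
    change g (h' x') ∈ V
    rw [← Scheme.Hom.comp_apply, ← sq.w, Scheme.Hom.comp_apply]; exact hvV)
  let φ := h.appLE V U hUV
  let ψ := g.appLE V V' hV'V
  let _ := φ.hom.toAlgebra
  let _ := ψ.hom.toAlgebra
  have hft : φ.hom.FiniteType := HasRingHomProperty.appLE @LocallyOfFiniteType h inferInstance ⟨V, hV⟩ ⟨U, hU⟩ hUV
  have : Algebra.FiniteType Γ(Y, V) Γ(X, U) := hft
  let T := CommRingCat.of (Γ(Y', V') ⊗[Γ(Y, V)] Γ(X, U))
  let i₁ : Γ(Y', V') ⟶ T := CommRingCat.ofHom Algebra.TensorProduct.includeLeftRingHom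
  let i₂ : Γ(X, U) ⟶ T := CommRingCat.ofHom Algebra.TensorProduct.includeRight.toRingHom
  have sq₀ : IsPullback (Spec.map i₁) (Spec.map i₂) (Spec.map ψ) (Spec.map φ) :=
    IsPullback.of_iso_pullback ⟨by
      rw [← Spec.map_comp, ← Spec.map_comp]
      congr 1
      ext r
      exact Algebra.TensorProduct.tmul_one_eq_one_tmul r⟩ (pullbackSpecIso _ _ _).symm
      (pullbackSpecIso_inv_fst _ _ _) (pullbackSpecIso_inv_snd _ _ _)
  have eU : Spec.map φ ≫ hV.fromSpec = hU.fromSpec ≫ h := hV.SpecMap_appLE_fromSpec h hU hUV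
  have eV : Spec.map ψ ≫ hV.fromSpec = hV'.fromSpec ≫ g := hV.SpecMap_appLE_fromSpec g hV' hV'V
  have sq₁ : IsPullback (Spec.map i₂) (Spec.map i₁) (hU.fromSpec ≫ h) (hV'.fromSpec ≫ g) := by
    rw [← eU, ← eV]
    exact ⟨⟨by rw [reassoc_of% sq₀.w]⟩, ⟨PullbackCone.IsLimit.mk _
      (fun c => sq₀.flip.lift c.fst c.snd ((cancel_mono hV.fromSpec).1 (by simp only [Category.assoc]; exact c.condition)))
      (fun c => sq₀.flip.lift_fst _ _ _) (fun c => sq₀.flip.lift_snd _ _ _)
      (fun c l h1 h2 => sq₀.flip.hom_ext (by rw [h1, sq₀.flip.lift_fst]) (by rw [h2, sq₀.flip.lift_snd]))⟩⟩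
  let m := pullback.map (hU.fromSpec ≫ h) (hV'.fromSpec ≫ g) h g hU.fromSpec hV'.fromSpec (𝟙 _)
      (by simp) (by simp)
  let e : Spec T ⟶ X' := sq₁.isoPullback.hom ≫ m ≫ sq.isoPullback.inv
  have he1 : e ≫ g' = Spec.map i₂ ≫ hU.fromSpec := by simp [e, m]
  have he2 : e ≫ h' = Spec.map i₁ ≫ hV'.fromSpec := by simp [e, m]
  have : IsOpenImmersion m := inferInstance
  have : IsOpenImmersion e := inferInstance
  obtain ⟨z, rfl⟩ : x' ∈ Set.range e := by
    have h1 : sq.isoPullback.hom x' ∈ Set.range m := by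
      rw [Scheme.Pullback.range_map]
      constructor
      · refine Set.mem_preimage.2 ?_
        rw [hU.range_fromSpec, ← Scheme.Hom.comp_apply, sq.isoPullback_hom_fst]
        exact huU
      · refine Set.mem_preimage.2 ?_
        rw [hV'.range_fromSpec, ← Scheme.Hom.comp_apply, sq.isoPullback_hom_snd]
        exact hvV'
    obtain ⟨w, hw⟩ := h1
    refine ⟨sq₁.isoPullback.inv w, ?_⟩
    rw [← Scheme.Hom.comp_apply]
    simp only [e, Iso.inv_hom_id_assoc]
    rw [Scheme.Hom.comp_apply, hw, ← Scheme.Hom.comp_apply, Iso.hom_inv_id]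
    rfl
  rw [← morEtaleInv_unrNear e hV'.fromSpec (Spec.map i₁) h' inferInstance inferInstance he2.symm z,
    ← Scheme.Hom.comp_apply, he1, Scheme.Hom.comp_apply,
    ← morEtaleInv_unrNear hU.fromSpec hV.fromSpec (Spec.map φ) h inferInstance inferInstance eU _,
    unrNear_SpecMap_iff φ hft]
  have hi₁ : i₁.hom.FiniteType := by
    change (algebraMap Γ(Y', V') (Γ(Y', V') ⊗[Γ(Y, V)] Γ(X, U))).FiniteType
    exact RingHom.finiteType_algebraMap.2 inferInstance
  rw [unrNear_SpecMap_iff i₁ hi₁]
  convert! mem_unramifiedLocus_baseChange_iff (R := Γ(Y, V)) (R' := Γ(Y', V')) (A := Γ(X, U)) z using 2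
  have : i₁.hom.toAlgebra = (inferInstance : Algebra Γ(Y', V') (Γ(Y', V') ⊗[Γ(Y, V)] Γ(X, U))) :=
    Algebra.algebra_ext _ _ fun _ => rfl
  rw [this]

end Groth.Agent.AlgSpEN
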