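import Groth.Agent.AlgSpEN.UnrBC
import Groth.Agent.AlgSpD.BaseChangeChart
import Groth.Agent.AlgSpB.Open

/-!
# Unramified morphisms of algebraic spaces, pointwise
-/

universe u

open CategoryTheory CategoryTheory.Limits AlgebraicGeometry

set_option backward.isDefEq.respectTransparency false
set_option backward.isDefEq.respectTransparency.types false
set_option autoImplicit false

namespace Groth.Agent.AlgSpEN

open Groth.Agent Groth.Agent.AlgSpD

variable {S : Scheme.{u}}

/-- The unramified locus commutes with base change. -/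
theorem hasAtMor_unrNear_baseChange {X Y Y' X' : AlgSp.Space S} (f : X ⟶ Y) (g : Y' ⟶ Y) (g' : X' ⟶ X)
    (f' : X' ⟶ Y') (sq : IsPullback g'.hom f'.hom f.hom g.hom) (hf : AlgSp.LocP @LocallyOfFiniteType f.hom)
    (x' : AlgSp.Points X'.obj) :
    AlgSp.HasAtMor UnrNear f'.hom x' ↔ AlgSp.HasAtMor UnrNear f.hom (AlgSp.Points.map g'.hom x') := by
  obtain ⟨U, V, V', W, a, b, c, d, h, h', k, fst, r, ha, hb, hc, hd, w, w', hpb, hr, hr'⟩ :=
    exists_baseChange_diagram f g g' f' sq x'
  have := hf a b h ha hb w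
  rw [← hr', ← hr, hasAtMor_iff_chart morEtaleInv_unrNear f ha hb w,
    hasAtMor_iff_chart morEtaleInv_unrNear f' hd hc w']
  exact unrNear_of_isPullback h.left hpb r

/-- Unramified means unramified near each point. -/
theorem locP_unramified_iff {X Y : AlgSp.Space S} (f : X ⟶ Y) :
    AlgSp.LocP (@LocallyOfFiniteType ⊓ @FormallyUnramified) f.hom ↔ ∀ x, AlgSp.HasAtMor UnrNear f.hom x := by
  constructor
  · intro hf x
    obtain ⟨U, V, a, b, h, u, ha, hb, w, hu⟩ := exists_diagram f x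
    obtain ⟨h1, h2⟩ := hf a b h ha hb w
    exact ⟨U, V, a, b, h, u, ha, hb, w, hu, ⊤, trivial, inferInstance,
      MorphismProperty.comp_mem @FormallyUnramified _ _ inferInstance h2⟩
  · intro H U V a b h ha hb w
    have hW : ∀ u, UnrNear U.left V.left h.left u := fun u =>
      (hasAtMor_iff_chart morEtaleInv_unrNear f ha hb w u).1 (H _)
    choose W hu h1 h2 using hW
    have hsup : iSup W = ⊤ := top_le_iff.1 fun u _ => TopologicalSpace.Opens.mem_iSup.2 ⟨u, hu u⟩
    exact ⟨IsZariskiLocalAtSource.of_iSup_eq_top (P := @LocallyOfFiniteType) W hsup h1,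
      IsZariskiLocalAtSource.of_iSup_eq_top (P := @FormallyUnramified) W hsup h2⟩

end Groth.Agent.AlgSpEN

namespace Groth.Agent.AlgSpEN

open Groth.Agent Groth.Agent.AlgSpD

variable {S : Scheme.{u}}

/-- The diagonal of the unramified locus is open. -/
theorem isOpen_diag_unrNear {X Y XX : AlgSp.Space S} (f : X ⟶ Y) (pr0 pr1 : XX.obj ⟶ X.obj)
    (hXX : IsPullback pr0 pr1 f.hom f.hom) (Δ : X.obj ⟶ XX.obj) (h0 : Δ ≫ pr0 = 𝟙 _) (h1 : Δ ≫ pr1 = 𝟙 _) :
    IsOpen (AlgSp.Points.map Δ '' {x | AlgSp.HasAtMor UnrNear f.hom x}) := by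
  rw [isOpen_iff_forall_mem_open]
  rintro _ ⟨_, ⟨U, V, a, b, h, u, ha, hb, w, rfl, W, hu, hl, hn⟩, rfl⟩
  obtain ⟨d, hd, hd0, hd1⟩ := repWith_etale_lift hXX ha hb ha w w (IsPullback.of_hasPullback h h)
  have hpb : IsPullback (pullback.fst h h).left (pullback.snd h h).left h.left h.left :=
    (IsPullback.of_hasPullback h h).map (Over.forget S)
  let e : (W : Scheme) ⟶ (pullback h h).left := hpb.lift W.ι W.ι rfl
  have : IsOpenImmersion e := by
    have : e = pullback.diagonal (W.ι ≫ h.left) ≫ pullback.map (W.ι ≫ h.left) (W.ι ≫ h.left) h.left h.left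
        W.ι W.ι (𝟙 _) (by simp) (by simp) ≫ hpb.isoPullback.inv := by
      apply hpb.hom_ext <;> simp [e]
    rw [this]
    infer_instance
  have key : ∀ t : (W : Scheme), AlgSp.Points.ofPt d (e t) = AlgSp.Points.map Δ (AlgSp.Points.ofPt a (W.ι t)) := by
    intro t
    let T : Over S := Over.mk (W.ι ≫ U.hom)
    let o : T ⟶ U := Over.homMk W.ι rfl
    have he : (AlgSp.yon S).map (pullback.lift o o rfl : T ⟶ pullback h h) ≫ d =
        (AlgSp.yon S).map o ≫ a ≫ Δ := by
      apply hXX.hom_ext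
      · rw [Category.assoc, hd0, ← Functor.map_comp_assoc, pullback.lift_fst, Category.assoc, Category.assoc, h0,
          Category.comp_id]
      · rw [Category.assoc, hd1, ← Functor.map_comp_assoc, pullback.lift_snd, Category.assoc, Category.assoc, h1,
          Category.comp_id]
    have hel : (pullback.lift o o rfl : T ⟶ pullback h h).left = e :=
      hpb.hom_ext (by rw [← Over.comp_left, pullback.lift_fst, hpb.lift_fst]; rfl)
        (by rw [← Over.comp_left, pullback.lift_snd, hpb.lift_snd]; rfl)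
    have h3 := AlgSpB.ofPt_map_comp (pullback.lift o o rfl : T ⟶ pullback h h) d t
    rw [he, AlgSpB.ofPt_map_comp, hel, ← AlgSp.Points.map_ofPt] at h3
    exact h3.symm
  refine ⟨AlgSp.Points.ofPt d '' Set.range e, ?_, AlgSpB.isOpenMap_ofPt hd _ e.isOpenEmbedding.isOpen_range,
    _, ⟨⟨u, hu⟩, rfl⟩, key _⟩
  rintro _ ⟨_, ⟨t, rfl⟩, rfl⟩
  exact ⟨_, ⟨U, V, a, b, h, _, ha, hb, w, rfl, W, t.2, hl, hn⟩, (key t).symm⟩

end Groth.Agent.AlgSpEN
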